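import Cfsg.Agent.Lib.LargeExtraspecial.Setting

/-!
# Elements of a core with prescribed commutators against two elements; cores of the conjugates of `z`
-/

set_option autoImplicit false

namespace Cfsg.Agent.LargeFischer.Loc

open Cfsg.Agent.LargeExtraspecial

variable {G : Type*} [Group G] {QG : Subgroup G} {z : G}

/-- An element commuting with `a` and moving `b`. -/
theorem exists_commute_not (h : Hub QG z) {a b : G} (ha : a ∈ QG) (hb : b ∈ QG) (ha2 : a * a = 1)
    (h1 : b ≠ 1) (h2 : b ≠ z) (h3 : b ≠ a) (h4 : b ≠ z * a) :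
    ∃ q ∈ QG, Commute q a ∧ q * b * q⁻¹ = b * z := by
  by_contra hno
  push Not at hno
  have hcl := h.centralizer_of_self ha hb fun p hp hpa => by
    rcases h.comm p hp b hb with e | e
    · exact (mul_inv_eq_iff_eq_mul.mp e : p * b = b * p).symm
    · exact absurd e (hno p hp hpa)
  rcases mem_four h.sq ha2 (h.central a ha).symm hcl with e | e | e | e
  exacts [h1 e, h2 e, h3 e, h4 e]

theorem exists_flip (h : Hub QG z) {a : G} (ha : a ∈ QG) (h1 : a ≠ 1) (h2 : a ≠ z) :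
    ∃ q ∈ QG, q * a * q⁻¹ = a * z := by
  obtain ⟨q, hq, hne⟩ := h.exists_not_commute h1 h2
  exact ⟨q, hq, (h.comm q hq a ha).resolve_left fun e => hne (mul_inv_eq_iff_eq_mul.1 e).symm⟩

/-- Both of two elements can be corrected at once. -/
theorem exists_fix_two (h : Hub QG z) {a b a' b' : G} (ha : a ∈ QG) (hb : b ∈ QG) (ha2 : a * a = 1)
    (hb2 : b * b = 1) (a1 : a ≠ 1) (az : a ≠ z) (b1 : b ≠ 1) (bz : b ≠ z) (hne : b ≠ a) (hne' : b ≠ z * a)
    (ea : a' = a ∨ a' = a * z) (eb : b' = b ∨ b' = b * z) :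
    ∃ q ∈ QG, q * a * q⁻¹ = a' ∧ q * b * q⁻¹ = b' := by
  have hna : a ≠ z * b := fun e => hne' (by rw [e, ← mul_assoc, h.sq, one_mul])
  obtain ⟨p, hp, hpb, hpa⟩ := exists_commute_not h hb ha hb2 a1 az (Ne.symm hne) hna
  obtain ⟨r, hr, hra, hrb⟩ := exists_commute_not h ha hb ha2 b1 bz hne hne'
  have fix : ∀ {q t : G}, Commute q t → q * t * q⁻¹ = t := fun hc => by rw [hc.eq, mul_inv_cancel_right]
  rcases ea with rfl | rfl <;> rcases eb with rfl | rfl
  · exact ⟨1, QG.one_mem, by simp, by simp⟩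
  · exact ⟨r, hr, fix hra, hrb⟩
  · exact ⟨p, hp, hpa, fix hpb⟩
  · refine ⟨p * r, mul_mem hp hr, ?_, ?_⟩
    · calc p * r * a * (p * r)⁻¹ = p * (r * a * r⁻¹) * p⁻¹ := by group
        _ = a * z := by rw [fix hra, hpa]
    · calc p * r * b * (p * r)⁻¹ = p * (r * b * r⁻¹) * p⁻¹ := by group
        _ = (p * b * p⁻¹) * (p * z * p⁻¹) := by rw [hrb]; group
        _ = b * z := by rw [fix hpb, fix (h.central p hp)]

open Classical in
/-- The core attached to a conjugate of `z`. -/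
noncomputable def coreV (QG : Subgroup G) (z v : G) : Subgroup G :=
  if hv : ∃ g : G, g * z * g⁻¹ = v then QG.map (MulAut.conj hv.choose).toMonoidHom else ⊥

theorem coreV_eq (h : Hub QG z) {g v : G} (hg : g * z * g⁻¹ = v) :
    coreV QG z v = QG.map (MulAut.conj g).toMonoidHom := by
  have hv : ∃ g : G, g * z * g⁻¹ = v := ⟨g, hg⟩
  rw [coreV, dif_pos hv]
  exact h.conj_eq (hv.choose_spec.trans hg.symm)

theorem coreV_self (h : Hub QG z) : coreV QG z z = QG := by
  rw [coreV_eq h (g := 1) (by simp)]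
  ext x
  rw [mem_conj_iff]
  simp

theorem hub_coreV (h : Hub QG z) {v : G} (hv : IsConj z v) : Hub (coreV QG z v) v := by
  obtain ⟨g, hg⟩ := isConj_iff.1 hv
  rw [coreV_eq h hg, ← hg]
  exact h.conj g

theorem mem_coreV_conj (h : Hub QG z) {v : G} (hv : IsConj z v) (k a : G) :
    k * a * k⁻¹ ∈ coreV QG z (k * v * k⁻¹) ↔ a ∈ coreV QG z v := by
  obtain ⟨g, hg⟩ := isConj_iff.1 hv
  rw [coreV_eq h hg, coreV_eq h (g := k * g) (by rw [← hg]; group), mem_conj_iff, mem_conj_iff,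
    show (k * g)⁻¹ * (k * a * k⁻¹) * (k * g) = g⁻¹ * a * g by group]

end Cfsg.Agent.LargeFischer.Loc
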