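import Cfsg.Agent.Lib.LargeFischer.CentOut

/-!
# The two classes of `N(A)` on `A` in large Fischer type

`aclasses`: elements of `A` other than `1` are conjugate under `N(A)` when both or neither are conjugate to
`z` in `G`: the first kind are the 1771 of `omegaSet`, the others form one class of 276.
-/

set_option autoImplicit false
set_option maxRecDepth 100000

namespace Cfsg.Agent.LargeFischer.CentE

open Subgroup

variable {G : Type*} [Group G] [Finite G] {z : G} {Q : Subgroup (Subgroup.centralizer ({z} : Set G))}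
  [Q.Normal] {K : GoodCoord z Q} (hF : IsOfLargeFischerTypeAt z Q)

include hF

theorem small_count : countB inSmall 12 0 = 18 := count_big.2.1

/-- The class under `N(A)` of a lift of the code `5` has 276 elements. -/
theorem card_small_class {a : G} (ha : a ∈ qG Q) (ea : Loc.cq K a = 5) :
    Nat.card ↥{x : G | ∃ n ∈ Subgroup.normalizer (K.aG : Set G), n * a * n⁻¹ = x} = 276 := by
  classical
  have F := lfacts_of_type hF K
  have hQ := Loc.hub K F
  set N := Subgroup.normalizer (K.aG : Set G)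
  set S : Set G := {x | ∃ n ∈ N, n * a * n⁻¹ = x}
  have haA : a ∈ K.aG := mem_aG_of_code ha (by rw [ea]; exact code_ok.2.2.2.2.2.2.1)
  have ha0 : inO 0 (Loc.cq K a).1 = true := by rw [ea]; exact code_ok.1
  have hS : IsAClass K S := by
    refine ⟨?_, ?_⟩
    · rintro _ ⟨n, hn, rfl⟩
      exact (mem_normalizer_iff.1 hn a).1 haA
    · rintro m hm _ ⟨n, hn, rfl⟩
      exact ⟨m * n, mul_mem hm hn, by group⟩
  have hnc : ∀ x ∈ S, x ≠ 1 ∧ x ∉ omegaSet K := by
    rintro _ ⟨n, -, rfl⟩
    refine ⟨fun e => ?_, fun e => ?_⟩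
    · rw [conj_eq_one_iff.1 e, Loc.cq_one K] at ea
      exact absurd ea (by decide)
    · exact not_conj_small F ha ha0 ((omega_mem hF e).2.2.trans (isConj_iff.2 ⟨n⁻¹, by group⟩))
  -- inside `Q`
  have hsmall : ∀ x, x ∈ S ∧ x ∈ qG Q ↔ x ∈ qG Q ∧ inSmall (Loc.cq K x).1 = true := by
    intro x
    constructor
    · rintro ⟨hx, hxQ⟩
      refine ⟨hxQ, ?_⟩
      have hA := hS.1 hx
      obtain ⟨h1, hom⟩ := hnc x hx
      have hv : syWm.testBit (Loc.cq K x).1 = true := code_of_aG hxQ hA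
      by_cases h0 : Loc.cq K x = 0
      · rcases (Loc.cq_zero_iff K hxQ).1 h0 with e | e
        · exact absurd e h1
        · exact absurd ⟨1, one_mem _, by rw [e]; group⟩ hom
      · rcases big_zero_or _ hv h0 with hb | hO
        · exact absurd (omega_of_conj hF hA (conj_big F hxQ hb)) hom
        · simp [inSmall, hv, hO]
    · rintro ⟨hxQ, hv⟩
      refine ⟨?_, hxQ⟩
      have hv' : Loc.cq K x ∈ orb (stV K.I) 5 := by rw [orb_stV_small K.good]; exact hv
      obtain ⟨p, hp, hpe⟩ := hv'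
      obtain ⟨c, hc, hcp⟩ := Loc.exists_av K (mem_stV.1 hp).1
      have hcN : c ∈ N := exists_norm hF hp c hc hcp
      have m1 := Loc.qG_normal hc ha
      have e1 : Loc.cq K (c * a * c⁻¹) = Loc.cq K x := by rw [Loc.cq_conj K hc ha, ea, hcp, hpe]
      rcases Loc.rel_of_cq K F hxQ m1 e1.symm with h | h
      · exact ⟨c, hcN, h.symm⟩
      · have n0 : Loc.cq K x ≠ 0 := (q_inO _ (by simp only [inSmall, Bool.and_eq_true] at hv; exact hv.2)).2
        obtain ⟨q, hq, hqe⟩ := Loc.exists_flip hQ m1 (fun e => n0 (by rw [← e1, e, Loc.cq_one K]))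
          (fun e => n0 (by rw [← e1, e, Loc.cq_z K F]))
        exact ⟨q * c, mul_mem (qG_normalizes hF hq) hcN, by rw [h, ← hqe]; group⟩
  have hin : Nat.card {x : G // x ∈ S ∧ x ∈ qG Q} = 36 := by
    rw [Nat.card_congr (Equiv.subtypeEquivRight hsmall), ncard_code F inSmall, small_count hF]
  have hsplit : Nat.card S = 36 + Nat.card {x : G // x ∈ S ∧ x ∉ qG Q} := by
    rw [← hin, ← Nat.card_congr (Equiv.sumCompl fun x : S => x.1 ∈ qG Q), Nat.card_sum]
    exact congrArg₂ (· + ·) (Nat.card_congr (Equiv.subtypeSubtypeEquivSubtypeInter _ _))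
      (Nat.card_congr (Equiv.subtypeSubtypeEquivSubtypeInter _ fun x => x ∉ qG Q))
  obtain ⟨j, hj⟩ : 240 ∣ Nat.card {x : G // x ∈ S ∧ x ∉ qG Q} :=
    Nat.Coprime.mul_dvd_of_dvd_of_dvd (by norm_num : Nat.Coprime 16 15) (sixteen_dvd hF hS) (fifteen_dvd hF hS)
  have hle : Nat.card S ≤ 276 := by
    let f : Option ↥(omegaSet K) ⊕ ↥S → ↥K.aG :=
      Sum.elim (fun o => o.elim 1 fun x => ⟨x.1, (omega_mem hF x.2).1⟩) fun x => ⟨x.1, hS.1 x.2⟩
    have hf : Function.Injective f := by
      rintro ((_ | x) | x) ((_ | y) | y) e <;> replace e := congrArg Subtype.val e <;>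
        simp only [f, Sum.elim_inl, Sum.elim_inr, Option.elim_none, Option.elim_some, OneMemClass.coe_one] at e
      · rfl
      · exact absurd e.symm (omega_mem hF y.2).2.1
      · exact absurd e.symm (hnc _ y.2).1
      · exact absurd e (omega_mem hF x.2).2.1
      · rw [Subtype.ext e]
      · exact absurd (e ▸ x.2) (hnc _ y.2).2
      · exact absurd e (hnc _ x.2).1
      · exact absurd (e ▸ y.2) (hnc _ x.2).2
      · rw [Subtype.ext e]
    have := Nat.card_le_card_of_injective f hf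
    rw [Nat.card_sum, Finite.card_option, card_omega hF, (K.core_facts hF).2.2.1] at this
    omega
  suffices hj0 : j ≠ 0 by omega
  intro hj0
  subst hj0
  have hempty : ∀ x ∈ S, x ∈ qG Q := by
    intro x hx
    by_contra hxQ
    have : 0 < Nat.card {x : G // x ∈ S ∧ x ∉ qG Q} := Finite.card_pos_iff.2 ⟨⟨x, hx, hxQ⟩⟩
    omega
  obtain ⟨s, hs, hse⟩ := Loc.exists_code K (85 : Cd)
  obtain ⟨n, hn, hne⟩ := omega_of_conj hF (mem_aG_of_code hs (by rw [hse]; exact (by decide +kernel : syWm.testBit 85 = true)))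
    (conj_big F hs (by rw [hse]; decide +kernel))
  obtain ⟨q, hq⟩ := Loc.mem_qG hs
  have hq85 : K.co q = 85 := by rw [← Loc.cq_coe K, hq, hse]
  obtain ⟨b, hb, eb⟩ := Loc.exists_code K (10 : Cd)
  have hbS : b ∈ S := ((hsmall b).2 ⟨hb, by rw [eb]; decide +kernel⟩).1
  have hb' : n⁻¹ * b * n ∈ qG Q := hempty _ (by simpa using hS.2 _ (inv_mem hn) _ hbS)
  obtain ⟨r, hr⟩ := Loc.mem_qG hb
  have h10 := (F.inter n q (hq.trans hne.symm) hq85 (Loc.cq K b)).2
    ⟨r, ⟨n⁻¹ * b * n, hb', by rw [hr]; show n * (n⁻¹ * b * n) * n⁻¹ = b; group⟩, by rw [← Loc.cq_coe K, hr]⟩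
  rw [eb] at h10
  exact absurd h10 (by decide +kernel)

/-- The two classes. -/
theorem aclasses {x y : G} (hx : x ∈ K.aG) (hy : y ∈ K.aG) (hx1 : x ≠ 1) (hy1 : y ≠ 1)
    (h : IsConj z x ↔ IsConj z y) : ∃ m ∈ Subgroup.normalizer (K.aG : Set G), m * x * m⁻¹ = y := by
  classical
  set N := Subgroup.normalizer (K.aG : Set G)
  by_cases hc : IsConj z x
  · obtain ⟨m, hm, rfl⟩ := omega_of_conj hF hx hc
    obtain ⟨n, hn, rfl⟩ := omega_of_conj hF hy (h.1 hc)
    exact ⟨n * m⁻¹, mul_mem hn (inv_mem hm), by group⟩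
  · obtain ⟨a, ha, ea⟩ := Loc.exists_code K (5 : Cd)
    set S : Set G := {x | ∃ n ∈ N, n * a * n⁻¹ = x}
    have haA : a ∈ K.aG := mem_aG_of_code ha (by rw [ea]; exact code_ok.2.2.2.2.2.2.1)
    have F := lfacts_of_type hF K
    have hSA : ∀ w ∈ S, w ∈ K.aG ∧ w ≠ 1 ∧ w ∉ omegaSet K := by
      rintro _ ⟨n, hn, rfl⟩
      refine ⟨(mem_normalizer_iff.1 hn a).1 haA, fun e => ?_, fun e => ?_⟩
      · rw [conj_eq_one_iff.1 e, Loc.cq_one K] at ea
        exact absurd ea (by decide)
      · exact not_conj_small F ha (by rw [ea]; exact code_ok.1)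
          ((omega_mem hF e).2.2.trans (isConj_iff.2 ⟨n⁻¹, by group⟩))
    have hall : ∀ w ∈ K.aG, w ≠ 1 → ¬ IsConj z w → w ∈ S := by
      intro w hw hw1 hwc
      by_contra hwS
      let f : Option (↥(omegaSet K) ⊕ Option ↥S) → ↥K.aG := fun o => o.elim 1
        (Sum.elim (fun x => ⟨x.1, (omega_mem hF x.2).1⟩) fun o => o.elim ⟨w, hw⟩ fun x => ⟨x.1, (hSA _ x.2).1⟩)
      have hwΩ : w ∉ omegaSet K := fun e => hwc (omega_mem hF e).2.2
      have hf : Function.Injective f := by
        rintro (_ | x | _ | x) (_ | y | _ | y) e <;> replace e := congrArg Subtype.val e <;>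
          simp only [f, Option.elim_none, Option.elim_some, Sum.elim_inl, Sum.elim_inr, OneMemClass.coe_one] at e
        · rfl
        · exact absurd e.symm (omega_mem hF y.2).2.1
        · exact absurd e.symm hw1
        · exact absurd e.symm (hSA _ y.2).2.1
        · exact absurd e (omega_mem hF x.2).2.1
        · rw [Subtype.ext e]
        · exact absurd (e ▸ x.2) hwΩ
        · exact absurd (e ▸ x.2) (hSA _ y.2).2.2
        · exact absurd e hw1
        · exact absurd (e ▸ y.2) hwΩ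
        · rfl
        · exact absurd (e ▸ y.2) hwS
        · exact absurd e (hSA _ x.2).2.1
        · exact absurd (e ▸ y.2) (hSA _ x.2).2.2
        · exact absurd (e ▸ x.2) hwS
        · rw [Subtype.ext e]
      have := Nat.card_le_card_of_injective f hf
      rw [Finite.card_option, Nat.card_sum, Finite.card_option, card_omega hF, card_small_class hF ha ea,
        (K.core_facts hF).2.2.1] at this
      omega
    obtain ⟨m, hm, rfl⟩ := hall x hx hx1 hc
    obtain ⟨n, hn, rfl⟩ := hall y hy hy1 fun e => hc (h.2 e)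
    exact ⟨n * m⁻¹, mul_mem hn (inv_mem hm), by group⟩

end Cfsg.Agent.LargeFischer.CentE
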