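import Cfsg.Agent.Lib.LargeFischer.LocalU43Model
import Cfsg.Agent.Lib.ClassicalSimple.UnitaryMatrix
import Cfsg.Agent.Lib.Transpos.SUThreeTwo
import Cfsg.Prelude.Def_Transfer
import Mathlib.FieldTheory.Finite.GaloisField

/-!
The local facts about `PSU₄(3)` used for the large Fischer groups: it has no faithful action on an
elementary abelian 2-group of order at most `2 ^ 12`, and in a triple cover the preimage of the
subgroup of order 81 is elementary abelian with large normaliser.
-/

set_option autoImplicit false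

namespace Cfsg.Agent.LargeFischer.LocalU43

open scoped commutatorElement

/-- A normalised subgroup of order 81 with the certified action. -/
structure Data (G : Type*) [Group G] where
  /-- the elements -/
  e : V4 → G
  add : ∀ v w, e (v + w) = e v * e w
  inj : Function.Injective e
  /-- the normalising elements -/
  n : Fin 3 → G
  conj : ∀ j v, n j * e v = e (act j v) * n j

namespace Data

variable {G : Type*} [Group G] (D : Data G)

theorem zero : D.e 0 = 1 := by
  have h := D.add 0 0
  rw [add_zero] at h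
  exact left_eq_mul.1 h

/-- The element of a word. -/
def word (w : List (Fin 3)) : G := w.foldr (fun j g => D.n j * g) 1

theorem word_conj (w : List (Fin 3)) (v : V4) : D.word w * D.e v = D.e (evalW w v) * D.word w := by
  induction w with
  | nil => simp [word, evalW]
  | cons j w ih =>
    show D.n j * D.word w * D.e v = D.e (act j (evalW w v)) * (D.n j * D.word w)
    rw [mul_assoc, ih, ← mul_assoc, D.conj, mul_assoc]

/-- The subgroup of order 81. -/
def range : Subgroup G where
  carrier := Set.range D.e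
  one_mem' := ⟨0, D.zero⟩
  mul_mem' := by rintro _ _ ⟨v, rfl⟩ ⟨w, rfl⟩; exact ⟨v + w, D.add v w⟩
  inv_mem' := by
    rintro _ ⟨v, rfl⟩
    exact ⟨-v, eq_inv_of_mul_eq_one_left (by rw [← D.add, neg_add_cancel, D.zero])⟩

theorem card_range : Nat.card D.range = 81 := by
  show Nat.card (Set.range D.e) = 81
  rw [Nat.card_range_of_injective D.inj]
  simp [Nat.card_eq_fintype_card]

/-- Transport along an injective homomorphism. -/
def map {H : Type*} [Group H] (f : G →* H) (hf : Function.Injective f) : Data H where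
  e v := f (D.e v)
  add v w := by rw [D.add, map_mul]
  inj := hf.comp D.inj
  n j := f (D.n j)
  conj j v := by rw [← map_mul, ← map_mul, D.conj]

end Data

/-- The subgroup in the explicit group. -/
noncomputable def model : Data (Cfsg.PSU 4 U43Mult.K 3) where
  e v := QuotientGroup.mk' (Subgroup.center _) (eS v)
  add v w := by rw [eS_add, map_mul]
  inj := by
    intro v w h
    have hc : ∀ u : V4, eS u ∈ Subgroup.center (Cfsg.SU 4 U43Mult.K 3) → u = 0 := by
      intro u hu
      refine act_fixed u fun j => ?_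
      have e : eS (act j u) = eS u := by
        have h1 := eS_conj j u
        rw [Subgroup.mem_center_iff.1 hu (mS j)] at h1
        exact (mul_right_cancel h1).symm
      have e' : eS (act j u - u) = 1 := by
        apply mul_right_cancel (b := eS u)
        rw [← eS_add, sub_add_cancel, e, one_mul]
      have hz := eF_inj (act j u - u)
      have hm : U43Mult.mat (eF (act j u - u)) = 1 :=
        congrArg (fun g : Cfsg.SU 4 U43Mult.K 3 => g.1.1) e'
      refine sub_eq_zero.1 (hz ?_)
      simp only [U43Mult.eqF, List.all_eq_true, List.mem_range, beq_iff_eq]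
      intro i hi k hk
      rw [← U43Mult.mat_oneF] at hm
      have := congrFun (congrFun hm ⟨i, hi⟩) ⟨k, hk⟩
      refine U43Mult.eq_of_dec (eF_lt _ i k) (oneF_lt i k) this
    have h' : eS (v - w) ∈ Subgroup.center (Cfsg.SU 4 U43Mult.K 3) := by
      rw [← QuotientGroup.eq_one_iff]
      have e : eS v = eS (v - w) * eS w := by rw [← eS_add, sub_add_cancel]
      replace h : QuotientGroup.mk' (Subgroup.center _) (eS v) =
          QuotientGroup.mk' (Subgroup.center _) (eS w) := h
      rw [e, map_mul] at h
      exact mul_right_cancel (h.trans (one_mul _).symm)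
    exact sub_eq_zero.1 (hc _ h')
  n j := QuotientGroup.mk' (Subgroup.center _) (mS j)
  conj j v := by rw [← map_mul, ← map_mul, eS_conj]

/-- The subgroup in `PSU₄(3)` over any field with nine elements. -/
theorem exists_data {F : Type*} [Field F] [Fintype F] (hF : Fintype.card F = 9) :
    Nonempty (Data (Cfsg.PSU 4 F 3)) := by
  obtain ⟨f⟩ : Nonempty (U43Mult.K ≃+* F) :=
    ⟨FiniteField.ringEquivOfCardEq (K := U43Mult.K) (K' := F) (S3438.card_K9.trans hF.symm)⟩
  let φ := Transpos.SU32.suMap f 4 3
  have hmap : (Subgroup.center (Cfsg.SU 4 U43Mult.K 3)).map φ.toMonoidHom =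
      Subgroup.center (Cfsg.SU 4 F 3) := by
    refine le_antisymm (Subgroup.map_le_iff_le_comap.2 fun z hz =>
      Subgroup.mem_center_iff.2 fun w => ?_) fun z hz => ?_
    · obtain ⟨w, rfl⟩ := φ.surjective w
      show φ w * φ z = φ z * φ w
      rw [← map_mul, ← map_mul, Subgroup.mem_center_iff.1 hz w]
    · refine ⟨φ.symm z, Subgroup.mem_center_iff.2 fun w => ?_, φ.apply_symm_apply z⟩
      apply φ.injective
      rw [map_mul, map_mul, φ.apply_symm_apply, Subgroup.mem_center_iff.1 hz]
  let e : Cfsg.PSU 4 U43Mult.K 3 ≃* Cfsg.PSU 4 F 3 := QuotientGroup.congr _ _ φ hmap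
  exact ⟨model.map e.toMonoidHom e.injective⟩

/-! ### No small module in characteristic two -/

section Module

variable {G W : Type*} [Group G] [AddCommGroup W] [DistribMulAction G W] (D : Data G)

/-- The action of the subgroup. -/
def act2 (v : V4) (x : W) : W := D.e v • x

/-- The sum over the subgroup. -/
def sumAll (x : W) : W := ∑ v : V4, act2 D v x

/-- The sum over a hyperplane. -/
def sumHyp (a : V4) (x : W) : W := ∑ v : V4, if dot a v = 0 then act2 D v x else 0

/-- The projection to the piece of a hyperplane. -/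
def proj (a : V4) (x : W) : W := sumHyp D a x + sumAll D x

theorem act2_zero (x : W) : act2 D 0 x = x := by simp [act2, D.zero]

theorem act2_add (v w : V4) (x : W) : act2 D v (act2 D w x) = act2 D (v + w) x := by
  simp [act2, D.add, mul_smul]

theorem act2_map_add (v : V4) (x y : W) : act2 D v (x + y) = act2 D v x + act2 D v y :=
  smul_add _ _ _

theorem sumAll_add (x y : W) : sumAll D (x + y) = sumAll D x + sumAll D y := by
  simp [sumAll, act2_map_add, Finset.sum_add_distrib]

theorem sumHyp_add (a : V4) (x y : W) :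
    sumHyp D a (x + y) = sumHyp D a x + sumHyp D a y := by
  simp only [sumHyp, act2_map_add, ← Finset.sum_add_distrib]
  exact Finset.sum_congr rfl fun v _ => by split_ifs <;> simp

theorem proj_add (a : V4) (x y : W) : proj D a (x + y) = proj D a x + proj D a y := by
  rw [proj, proj, proj, sumHyp_add, sumAll_add]; abel

theorem proj_sum {ι : Type*} (s : Finset ι) (g : ι → W) (a : V4) :
    proj D a (∑ i ∈ s, g i) = ∑ i ∈ s, proj D a (g i) :=
  map_sum (AddMonoidHom.mk' (proj D a) (proj_add D a)) g s

theorem act2_sumAll (w : V4) (x : W) : act2 D w (sumAll D x) = sumAll D x := by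
  show D.e w • (∑ v : V4, act2 D v x) = _
  rw [Finset.smul_sum]
  exact Fintype.sum_equiv (Equiv.addLeft w) _ _ fun v => act2_add D w v x

theorem sumAll_act2 (w : V4) (x : W) : sumAll D (act2 D w x) = sumAll D x := by
  unfold sumAll
  exact Fintype.sum_equiv (Equiv.addRight w) _ _ fun v => act2_add D v w x

theorem act2_sumHyp {a : V4} (w : V4) (hw : dot a w = 0) (x : W) :
    act2 D w (sumHyp D a x) = sumHyp D a x := by
  show D.e w • (∑ v : V4, _) = _
  rw [Finset.smul_sum]
  refine Fintype.sum_equiv (Equiv.addLeft w) _ _ fun v => ?_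
  show D.e w • _ = if dot a (w + v) = 0 then act2 D (w + v) x else 0
  rw [dot_add, hw, zero_add]
  split_ifs
  · exact act2_add D w v x
  · exact smul_zero _

theorem act2_sumHyp_comm (b w : V4) (x : W) :
    act2 D w (sumHyp D b x) = sumHyp D b (act2 D w x) := by
  show D.e w • (∑ v : V4, _) = _
  rw [Finset.smul_sum]
  refine Finset.sum_congr rfl fun v _ => ?_
  split_ifs
  · show act2 D w (act2 D v x) = _
    rw [act2_add, act2_add, add_comm]
  · exact smul_zero _

variable (h2 : ∀ x : W, x + x = 0)

include h2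

theorem nsmul_parity (k : ℕ) (x : W) : k • x = (k % 2) • x := by
  conv_lhs => rw [← Nat.mod_add_div k 2, add_nsmul, mul_nsmul, two_nsmul, h2, nsmul_zero, add_zero]

theorem sumAll_fixed {y : W} (hy : ∀ v, act2 D v y = y) : sumAll D y = y := by
  simp only [sumAll, hy, Finset.sum_const, Finset.card_univ]
  rw [nsmul_parity h2, show Fintype.card V4 % 2 = 1 by simp, one_nsmul]

theorem sumHyp_fixed {a : V4} (ha : a ∈ lines) {y : W}
    (hy : ∀ v, dot a v = 0 → act2 D v y = y) : sumHyp D a y = y := by
  rw [sumHyp, ← Finset.sum_filter,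
    Finset.sum_congr rfl fun v hv => hy v (Finset.mem_filter.1 hv).2, Finset.sum_const,
    nsmul_parity h2, hyperplane_odd a ha, one_nsmul]

theorem sumAll_sumHyp {a : V4} (ha : a ∈ lines) (x : W) :
    sumAll D (sumHyp D a x) = sumAll D x := by
  rw [sumHyp, ← Finset.sum_filter,
    show sumAll D (∑ v ∈ Finset.univ.filter (fun v => dot a v = 0), act2 D v x) =
      ∑ v ∈ Finset.univ.filter (fun v => dot a v = 0), sumAll D (act2 D v x) from
      map_sum (AddMonoidHom.mk' (sumAll D) (sumAll_add D)) _ _]
  simp only [sumAll_act2, Finset.sum_const]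
  rw [nsmul_parity h2, hyperplane_odd a ha, one_nsmul]

theorem sumAll_proj {a : V4} (ha : a ∈ lines) (x : W) : sumAll D (proj D a x) = 0 := by
  rw [proj, sumAll_add, sumAll_sumHyp D h2 ha, sumAll_fixed D h2 fun v => act2_sumAll D v x,
    h2]

omit h2 in
theorem act2_proj {a : V4} (v : V4) (hv : dot a v = 0) (x : W) :
    act2 D v (proj D a x) = proj D a x := by
  rw [proj, act2_map_add, act2_sumHyp D v hv, act2_sumAll]

omit h2 in
/-- The piece of a hyperplane. -/
def InPiece (a : V4) (y : W) : Prop :=
  (∀ v, dot a v = 0 → act2 D v y = y) ∧ sumAll D y = 0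

theorem proj_inPiece {a : V4} (ha : a ∈ lines) (x : W) : InPiece D a (proj D a x) :=
  ⟨fun v hv => act2_proj D v hv x, sumAll_proj D h2 ha x⟩

theorem proj_self {a : V4} (ha : a ∈ lines) {y : W} (hy : InPiece D a y) :
    proj D a y = y := by
  rw [proj, sumHyp_fixed D h2 ha hy.1, hy.2, add_zero]

theorem proj_other {a b : V4} (ha : a ∈ lines) (hb : b ∈ lines) (hab : a ≠ b) {y : W}
    (hy : InPiece D a y) : proj D b y = 0 := by
  obtain ⟨w, hbw, haw⟩ := lines_pair a ha b hb hab
  rw [proj, hy.2, add_zero]
  have hfix : ∀ v, act2 D v (sumHyp D b y) = sumHyp D b y := by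
    intro v
    have e : v = (v - dot a v • w) + dot a v • w := (sub_add_cancel _ _).symm
    rw [e, ← act2_add, act2_sumHyp D _ (by rw [dot_smul, hbw, mul_zero]),
      act2_sumHyp_comm, hy.1]
    have := dot_add a (v - dot a v • w) (dot a v • w)
    rw [sub_add_cancel, dot_smul, haw, mul_one] at this
    exact right_eq_add.1 this
  rw [← sumAll_fixed D h2 hfix, sumAll_sumHyp D h2 hb, hy.2]

theorem sum_proj (x : W) : ∑ a ∈ lines, proj D a x = sumAll D x + x := by
  have hA : ∑ a ∈ lines, sumAll D x = 0 := by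
    rw [Finset.sum_const, nsmul_parity h2, lines_count, zero_nsmul]
  simp only [proj, Finset.sum_add_distrib, hA, add_zero, sumHyp]
  rw [Finset.sum_comm]
  have hv : ∀ v : V4, (∑ a ∈ lines, if dot a v = 0 then act2 D v x else 0) =
      act2 D v x + if v = 0 then x else 0 := by
    intro v
    rw [← Finset.sum_filter, Finset.sum_const, nsmul_parity h2, lines_through]
    split_ifs with h
    · subst h
      rw [zero_nsmul, act2_zero, h2]
    · rw [one_nsmul, add_zero]
  rw [Finset.sum_congr rfl fun v _ => hv v, Finset.sum_add_distrib, Finset.sum_ite_eq']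
  simp [sumAll]

theorem act2_eq [Finite W] (hW : Nat.card W ≤ 2 ^ 12) (v : V4) (x : W) : act2 D v x = x := by
  classical
  by_contra hne
  obtain ⟨a, ha, y, hy, hy0⟩ : ∃ a ∈ lines, ∃ y : W, InPiece D a y ∧ y ≠ 0 := by
    by_contra hall
    push Not at hall
    have h0 := sum_proj D h2 x
    rw [Finset.sum_eq_zero fun a ha => hall a ha _ (proj_inPiece D h2 ha x)] at h0
    have e : sumAll D x = x := by
      rw [← add_right_cancel_iff (a := x), ← h0, h2]
    exact hne (by rw [← e, act2_sumAll])
  obtain ⟨S, hS, hS7⟩ := Finset.exists_subset_card_eq (lines_orbit ha)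
  let M : V4 → Type _ := fun b => {z : W // InPiece D b z}
  have hSl : ∀ b ∈ S, b ∈ lines := fun b hb => (Finset.mem_filter.1 (hS hb)).1
  have hMcard : ∀ b ∈ S, 4 ≤ Nat.card (M b) := by
    intro b hb
    obtain ⟨hbl, w, -, hw⟩ := Finset.mem_filter.1 (hS hb)
    let N : W → W := fun z => D.word w • z
    have hN : ∀ u z, act2 D (evalW w u) (N z) = N (act2 D u z) := by
      intro u z
      show D.e (evalW w u) • D.word w • z = D.word w • D.e u • z
      rw [← mul_smul, ← mul_smul, D.word_conj]
    have hsurj : Function.Surjective (evalW w) := by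
      refine (Finite.injective_iff_surjective).1 ?_
      intro p q hpq
      have := D.word_conj w p
      rw [hpq, ← D.word_conj w q] at this
      exact D.inj (mul_left_cancel this)
    have hz : InPiece D b (N y) := by
      refine ⟨fun u hu => ?_, ?_⟩
      · obtain ⟨u, rfl⟩ := hsurj u
        rw [hN, hy.1 u (hw u hu)]
      · have hbij : Function.Bijective (evalW w) :=
          ⟨Finite.injective_iff_surjective.2 hsurj, hsurj⟩
        have : sumAll D (N y) = N (sumAll D y) := by
          unfold sumAll
          show _ = D.word w • _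
          rw [Finset.smul_sum]
          exact (Fintype.sum_bijective _ hbij _ _ fun u => (hN u y).symm).symm
        rw [this, hy.2]
        exact smul_zero _
    obtain ⟨c, hc⟩ := line_one b hbl
    set z := N y with hzdef
    set z' := act2 D c z with hz'def
    have hz0 : z ≠ 0 := fun h => hy0 (smul_left_cancel (D.word w) (h.trans (smul_zero _).symm))
    have hne' : z' ≠ z := by
      intro h
      refine hz0 ?_
      rw [← hz.2]
      refine (sumAll_fixed D h2 fun u => ?_).symm
      have hu : dot b (u - dot b u • c) = 0 := by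
        have := dot_add b (u - dot b u • c) (dot b u • c)
        rw [sub_add_cancel, dot_smul, hc, mul_one] at this
        exact right_eq_add.1 this
      have hmul : ∀ t : ZMod 3, act2 D (t • c) z = z := by
        intro t
        have hk : ∀ k : ℕ, act2 D (k • c) z = z := by
          intro k
          induction k with
          | zero => rw [zero_nsmul, act2_zero]
          | succ k ih => rw [succ_nsmul, ← act2_add, ← hz'def, h, ih]
        rw [← ZMod.natCast_zmod_val t, Nat.cast_smul_eq_nsmul]
        exact hk _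
      rw [← sub_add_cancel u (dot b u • c), ← act2_add, hmul, hz.1 _ hu]
    have hp0 : InPiece D b (0 : W) :=
      ⟨fun _ _ => smul_zero _, by simp [sumAll, act2]⟩
    have hp' : InPiece D b z' := by
      refine ⟨fun u hu => ?_, ?_⟩
      · rw [hz'def, act2_add, add_comm, ← act2_add, hz.1 u hu]
      · rw [hz'def, sumAll_act2, hz.2]
    have hp2 : InPiece D b (z + z') :=
      ⟨fun u hu => by rw [act2_map_add, hz.1 u hu, hp'.1 u hu],
        by rw [sumAll_add, hz.2, hp'.2, add_zero]⟩
    have hz'0 : z' ≠ 0 := fun h => hz0 (smul_left_cancel (D.e c) (h.trans (smul_zero _).symm))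
    let g : Fin 4 → M b := fun p => ⟨![0, z, z', z + z'] p, by
      fin_cases p
      exacts [hp0, hz, hp', hp2]⟩
    have hg : Function.Injective g := by
      have hs : z + z' ≠ 0 := fun h => hne' (by
        rw [← add_left_cancel_iff (a := z), h, h2])
      have hsz : z + z' ≠ z := fun h => hz'0 (add_left_cancel (h.trans (add_zero z).symm))
      have hsz' : z + z' ≠ z' := fun h => hz0 (add_right_cancel (h.trans (zero_add z').symm))
      intro p q hpq
      have e : (![0, z, z', z + z'] : Fin 4 → W) p = ![0, z, z', z + z'] q := congrArg Subtype.val hpq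
      fin_cases p <;> fin_cases q <;>
        first
          | rfl
          | exact absurd e hz0 | exact absurd e hz0.symm
          | exact absurd e hz'0 | exact absurd e hz'0.symm
          | exact absurd e hne' | exact absurd e hne'.symm
          | exact absurd e hs | exact absurd e hs.symm
          | exact absurd e hsz | exact absurd e hsz.symm
          | exact absurd e hsz' | exact absurd e hsz'.symm
    simpa using Nat.card_le_card_of_injective g hg
  let Φ : ((b : {b // b ∈ S}) → M b.1) → W := fun p => ∑ b, (p b).1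
  have hΦ : Function.Injective Φ := by
    intro p q hpq
    funext c
    have key : ∀ r : (b : {b // b ∈ S}) → M b.1, proj D c.1 (Φ r) = (r c).1 := by
      intro r
      rw [proj_sum, Finset.sum_eq_single c]
      · exact proj_self D h2 (hSl _ c.2) (r c).2
      · exact fun b _ hb => proj_other D h2 (hSl _ b.2) (hSl _ c.2)
          (fun h => hb (Subtype.ext h)) (r b).2
      · exact fun h => absurd (Finset.mem_univ c) h
    exact Subtype.ext (by rw [← key p, ← key q, hpq])
  have h14 : 4 ^ 7 ≤ Nat.card W := by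
    refine le_trans ?_ (Nat.card_le_card_of_injective Φ hΦ)
    rw [Nat.card_pi]
    calc 4 ^ 7 = ∏ _b : {b // b ∈ S}, 4 := by simp [hS7]
      _ ≤ _ := Finset.prod_le_prod' fun b _ => hMcard b.1 b.2
  omega

end Module

theorem hom_trivial_of_data {G W : Type*} [Group G] [IsSimpleGroup G] [AddCommGroup W] [Finite W]
    [DistribMulAction G W] (D : Data G) (h2 : ∀ w : W, w + w = 0) (hW : Nat.card W ≤ 2 ^ 12) :
    ∀ (g : G) (w : W), g • w = w := by
  let K := (MulAction.toPermHom G W).ker
  rcases (inferInstance : K.Normal).eq_bot_or_eq_top with h | h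
  · exfalso
    have hmem : D.e (1, 0, 0, 0) ∈ K :=
      Equiv.ext fun x => act2_eq D h2 hW _ x
    rw [h, Subgroup.mem_bot, ← D.zero] at hmem
    exact absurd (D.inj hmem) (by decide)
  · intro g w
    have hg : g ∈ K := h ▸ Subgroup.mem_top g
    exact Equiv.congr_fun (MonoidHom.mem_ker.1 hg) w

/-! ### The preimage in a triple cover -/

theorem three_nsmul_eq : ∀ v : V4, v + (v + v) = 0 := by decide +kernel

/-- A finite closed set containing one divides the order of any subgroup containing it. -/
theorem card_dvd_of_closed {P : Type*} [Group P] [Finite P] (H : Subgroup P) (S : Finset P)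
    (hS : ∀ s ∈ S, s ∈ H) (h1 : 1 ∈ S) (hm : ∀ s ∈ S, ∀ t ∈ S, s * t ∈ S) :
    S.card ∣ Nat.card H := by
  let M : Submonoid P :=
    { carrier := S, one_mem' := h1, mul_mem' := fun hs ht => hm _ hs _ ht }
  let T : Subgroup P :=
    { M with
      inv_mem' := fun {x} hx => by
        have hpow : x ^ (orderOf x - 1) ∈ M := M.pow_mem hx _
        have e : x⁻¹ = x ^ (orderOf x - 1) := by
          refine inv_eq_of_mul_eq_one_right ?_
          rw [← pow_succ', Nat.sub_add_cancel (orderOf_pos x), pow_orderOf_eq_one]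
        rw [e]
        exact hpow }
  have h := Subgroup.card_dvd_of_le (show T ≤ H from fun x hx => hS x hx)
  have e : Nat.card T = S.card := Nat.card_eq_finsetCard S
  rwa [e] at h

theorem exists_local_of_data {G Γ : Type*} [Group G] [Group Γ] [Finite Γ] (D : Data G)
    (f : Γ →* G) (hf : Function.Surjective f) (hc : f.ker ≤ Subgroup.center Γ)
    (hk : Nat.card f.ker = 3) : ∃ A : Subgroup Γ, Cfsg.IsElementaryAbelian 3 A ∧
      Nat.card A = 243 ∧ f.ker ≤ A ∧
      360 ∣ (Subgroup.centralizer (A : Set Γ)).relIndex (Subgroup.normalizer (A : Set Γ)) := by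
  classical
  set A : Subgroup Γ := D.range.comap f with hA
  choose s hs using fun v : V4 => hf (D.e v)
  choose x hx using fun j : Fin 3 => hf (D.n j)
  have hsA : ∀ v, s v ∈ A := fun v => show f (s v) ∈ D.range from ⟨v, (hs v).symm⟩
  have hmemA : ∀ a, a ∈ A → ∃ v, f a = D.e v := fun a ha => by
    obtain ⟨v, hv⟩ := (show f a ∈ D.range from ha)
    exact ⟨v, hv.symm⟩
  have hcz : ∀ z ∈ f.ker, ∀ g, g * z = z * g := fun z hz g => Subgroup.mem_center_iff.1 (hc hz) g
  have hker : f.ker ≤ A := fun a ha => show f a ∈ D.range by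
    rw [MonoidHom.mem_ker.1 ha]; exact one_mem _
  have hcard : Nat.card A = 243 := by
    have hG : Nat.card Γ = 3 * Nat.card G := by
      rw [← Subgroup.card_mul_index f.ker, hk, Subgroup.index_ker,
        MonoidHom.range_eq_top.2 hf, Subgroup.card_top]
    have hi : A.index = D.range.index := Subgroup.index_comap_of_surjective _ hf
    have h1 := Subgroup.card_mul_index A
    rw [hi, hG, ← Subgroup.card_mul_index D.range, D.card_range, ← mul_assoc] at h1
    have hfin : Finite G := Finite.of_surjective f hf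
    exact Nat.eq_of_mul_eq_mul_right (Nat.pos_of_ne_zero D.range.index_ne_zero_of_finite) h1
  -- lifts differ by central elements
  have hlift : ∀ a v, f a = D.e v → ∃ z ∈ f.ker, a = s v * z := fun a v h =>
    ⟨(s v)⁻¹ * a, by rw [MonoidHom.mem_ker, map_mul, map_inv, hs, h, inv_mul_cancel],
      (mul_inv_cancel_left _ _).symm⟩
  have : Fact (Nat.Prime 3) := ⟨Nat.prime_three⟩
  have hκ : IsCyclic f.ker := isCyclic_of_prime_card hk
  let χ : f.ker ≃* Multiplicative (ZMod 3) :=
    mulEquivOfPrimeCardEq (p := 3) hk (by simp)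
  let val : f.ker → ZMod 3 := fun z => (χ z).toAdd
  have val_one : val 1 = 0 := by simp [val]
  have val_mul : ∀ z z', val (z * z') = val z + val z' := fun z z' => by simp [val]
  have val_inv : ∀ z, val z⁻¹ = -val z := fun z => by simp [val]
  have val_zero : ∀ z, val z = 0 → z = 1 := fun z h =>
    χ.injective (Multiplicative.toAdd.injective (by simpa [val] using h))
  -- the commutator pairing
  have hbk : ∀ v w, ⁅s v, s w⁆ ∈ f.ker := fun v w => by
    rw [MonoidHom.mem_ker, map_commutatorElement, hs, hs, commutatorElement_eq_one_iff_mul_comm,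
      ← D.add, ← D.add, add_comm]
  let β : V4 → V4 → ZMod 3 := fun v w => val ⟨_, hbk v w⟩
  have hmod : ∀ a b z z', z ∈ f.ker → z' ∈ f.ker → ⁅a * z, b * z'⁆ = ⁅a, b⁆ := by
    intro a b z z' hz hz'
    have e1 := hcz z hz
    have e2 := hcz z' hz'
    rw [commutatorElement_def, commutatorElement_def, mul_inv_rev, mul_inv_rev]
    calc a * z * (b * z') * (z⁻¹ * a⁻¹) * (z'⁻¹ * b⁻¹)
        = a * (z * b) * (z' * (z⁻¹ * a⁻¹)) * (z'⁻¹ * b⁻¹) := by simp only [mul_assoc]
      _ = a * (b * z) * ((z⁻¹ * a⁻¹) * z') * (z'⁻¹ * b⁻¹) := by rw [← e1 b, e2 (z⁻¹ * a⁻¹)]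
      _ = a * b * a⁻¹ * b⁻¹ := by group
  have β_skew : ∀ v w, β w v = -β v w := fun v w => by
    rw [← val_inv]
    exact congrArg val (Subtype.ext (commutatorElement_inv (s v) (s w)).symm)
  have β_add : ∀ u v w, β (u + v) w = β u w + β v w := by
    intro u v w
    obtain ⟨z, hz, e⟩ := hlift (s u * s v) (u + v) (by rw [map_mul, hs, hs, D.add])
    have e1 : s (u + v) = s u * s v * z⁻¹ := by rw [e, mul_inv_cancel_right]
    rw [← val_mul]
    refine congrArg val (Subtype.ext ?_)
    show ⁅s (u + v), s w⁆ = ⁅s u, s w⁆ * ⁅s v, s w⁆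
    have e2 := hmod (s u * s v) (s w) z⁻¹ 1 (inv_mem hz) (one_mem _)
    rw [mul_one, ← e1] at e2
    rw [e2]
    have h1 : ⁅s u * s v, s w⁆ = s u * ⁅s v, s w⁆ * (s u)⁻¹ * ⁅s u, s w⁆ := by
      simp only [commutatorElement_def]; group
    rw [h1, hcz _ (hbk v w) (s u), mul_inv_cancel_right, hcz _ (hbk v w) ⁅s u, s w⁆]
  have β_self : ∀ v, β v v = 0 := fun v => by
    rw [← val_one]
    exact congrArg val (Subtype.ext (commutatorElement_self _))
  have hxs : ∀ j v, ∃ z ∈ f.ker, x j * s v * (x j)⁻¹ = s (act j v) * z := fun j v =>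
    hlift _ _ (by rw [map_mul, map_mul, map_inv, hx, hs, D.conj, mul_inv_cancel_right])
  have β_inv : ∀ j v w, β (act j v) (act j w) = β v w := by
    intro j v w
    refine congrArg val (Subtype.ext ?_)
    show ⁅s (act j v), s (act j w)⁆ = ⁅s v, s w⁆
    obtain ⟨z, hz, e⟩ := hxs j v
    obtain ⟨z', hz', e'⟩ := hxs j w
    rw [← hmod _ _ z z' hz hz', ← e, ← e', ← conjugate_commutatorElement, hcz _ (hbk v w),
      mul_inv_cancel_right]
  have β_zero : ∀ v w, β v w = 0 := by
    let B : V4 → V4 →+ ZMod 3 := fun v => AddMonoidHom.mk' (β v) fun p q => by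
      rw [β_skew, β_add, neg_add, ← β_skew, ← β_skew]
    let c := (β (bas 0) (bas 1), β (bas 0) (bas 2), β (bas 0) (bas 3), β (bas 1) (bas 2),
      β (bas 1) (bas 3), β (bas 2) (bas 3))
    have hform : ∀ v w, β v w = form c v w := by
      intro v w
      have hb : ∀ l k, β (bas l) (bas k) = form c (bas l) (bas k) := by
        intro l k
        fin_cases l <;> fin_cases k <;> simp [form, c, bas, β_self] <;>
          exact β_skew _ _
      have hl : ∀ l w, β (bas l) w = form c (bas l) w := fun l w =>
        ext_bas (f := β (bas l)) (map_add (B (bas l))) (fun p q => by simp [form]; ring)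
          (hb l) w
      exact ext_bas (f := fun v => β v w) (g := fun v => form c v w)
        (fun p q => β_add p q w) (fun p q => by simp [form]; ring) (fun l => hl l w) v
    intro v w
    rw [hform, no_form c fun j l k => by rw [← hform, ← hform, β_inv]]
    simp [form]
  have hcomm : ∀ a ∈ A, ∀ b ∈ A, a * b = b * a := by
    intro a ha b hb
    obtain ⟨v, hv⟩ := hmemA a ha
    obtain ⟨w, hw⟩ := hmemA b hb
    obtain ⟨z, hz, rfl⟩ := hlift a v hv
    obtain ⟨z', hz', rfl⟩ := hlift b w hw
    rw [← commutatorElement_eq_one_iff_mul_comm, hmod _ _ _ _ hz hz']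
    exact congrArg Subtype.val (val_zero _ (β_zero v w))
  -- the cube map
  have hz3 : ∀ z ∈ f.ker, z ^ 3 = 1 := fun z hz => by
    have := pow_card_eq_one' (x := (⟨z, hz⟩ : f.ker))
    rw [hk] at this
    exact congrArg Subtype.val this
  have hck : ∀ v, s v ^ 3 ∈ f.ker := fun v => by
    rw [MonoidHom.mem_ker, map_pow, hs, pow_three, ← D.add, ← D.add,
      three_nsmul_eq v,
      D.zero]
  let γ : V4 → ZMod 3 := fun v => val ⟨_, hck v⟩
  have γ_add : ∀ u v, γ (u + v) = γ u + γ v := by
    intro u v
    obtain ⟨z, hz, e⟩ := hlift (s u * s v) (u + v) (by rw [map_mul, hs, hs, D.add])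
    rw [← val_mul]
    refine congrArg val (Subtype.ext ?_)
    show s (u + v) ^ 3 = s u ^ 3 * s v ^ 3
    have hcm : Commute (s u) (s v) := hcomm _ (hsA u) _ (hsA v)
    have hcm2 : Commute (s (u + v)) z := hcz z hz _
    rw [← hcm.mul_pow, e, hcm2.mul_pow, hz3 z hz, mul_one]
  have γ_inv : ∀ j v, γ (act j v) = γ v := by
    intro j v
    refine congrArg val (Subtype.ext ?_)
    show s (act j v) ^ 3 = s v ^ 3
    obtain ⟨z, hz, e⟩ := hxs j v
    have hcm2 : Commute (s (act j v)) z := hcz z hz _
    calc s (act j v) ^ 3 = (s (act j v) * z) ^ 3 := by rw [hcm2.mul_pow, hz3 z hz, mul_one]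
      _ = x j * s v ^ 3 * (x j)⁻¹ := by rw [← e, conj_pow]
      _ = s v ^ 3 := by rw [hcz _ (hck v) (x j), mul_inv_cancel_right]
  have γ_zero : ∀ v, γ v = 0 := by
    let a : V4 := (γ (bas 0), γ (bas 1), γ (bas 2), γ (bas 3))
    have hdot : ∀ v, γ v = dot a v :=
      ext_bas γ_add (dot_add a) fun l => by fin_cases l <;> simp [dot, a, bas]
    intro v
    rw [hdot, no_functional a fun j l => by rw [← hdot, ← hdot, γ_inv]]
    simp [dot]
  have hexp : ∀ a ∈ A, a ^ 3 = 1 := by
    intro a ha
    obtain ⟨v, hv⟩ := hmemA a ha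
    obtain ⟨z, hz, rfl⟩ := hlift a v hv
    have hcm : Commute (s v) z := hcz z hz _
    rw [hcm.mul_pow, hz3 z hz, mul_one]
    exact congrArg Subtype.val (val_zero _ (γ_zero v))
  refine ⟨A, ⟨⟨⟨fun p q => Subtype.ext (hcomm _ p.2 _ q.2)⟩⟩, hexp⟩, hcard, hker, ?_⟩
  -- the normaliser
  set N := Subgroup.normalizer (A : Set Γ) with hN
  have hex : ∀ g : N, ∃ σ : Equiv.Perm V4, ∀ v, f g * D.e v = D.e (σ v) * f g := by
    intro g
    have h : ∀ v, ∃ w, f g * D.e v * (f g)⁻¹ = D.e w := by
      intro v
      obtain ⟨w, hw⟩ := hmemA _ ((Subgroup.mem_normalizer_iff.1 g.2 (s v)).1 (hsA v))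
      refine ⟨w, ?_⟩
      rw [← hw, map_mul, map_mul, map_inv, hs]
    choose σ hσ using h
    have hinj : Function.Injective σ := fun p q hpq => by
      have := hσ p
      rw [hpq, ← hσ q] at this
      exact D.inj (mul_left_cancel (mul_right_cancel this))
    refine ⟨Equiv.ofBijective σ (Finite.injective_iff_bijective.1 hinj), fun v => ?_⟩
    rw [Equiv.ofBijective_apply, ← hσ, inv_mul_cancel_right]
  choose σ hσ using hex
  have hσu : ∀ (g : N) (τ : Equiv.Perm V4), (∀ v, f g * D.e v = D.e (τ v) * f g) → σ g = τ :=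
    fun g τ h => Equiv.ext fun v => D.inj (mul_right_cancel ((hσ g v).symm.trans (h v)))
  let Φ : N →* Equiv.Perm V4 := MonoidHom.mk' σ fun g h => hσu _ _ fun v => by
    rw [Subgroup.coe_mul, map_mul, mul_assoc, hσ h, ← mul_assoc, hσ g, mul_assoc]
    rfl
  have hC : (Subgroup.centralizer (A : Set Γ)).subgroupOf N ≤ Φ.ker := by
    intro g hg
    refine hσu g 1 fun v => ?_
    rw [Equiv.Perm.one_apply, ← hs v, ← map_mul, ← map_mul,
      (Subgroup.mem_centralizer_iff.1 (Subgroup.mem_subgroupOf.1 hg) (s v) (hsA v)).symm]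
  have hxN : ∀ j, x j ∈ N := by
    intro j
    refine Subgroup.mem_normalizer_iff.2 fun a => ⟨fun ha => ?_, fun ha => ?_⟩
    · obtain ⟨v, hv⟩ := hmemA a ha
      exact ⟨act j v, by rw [map_mul, map_mul, map_inv, hx, hv, D.conj, mul_inv_cancel_right]⟩
    · obtain ⟨w, hw⟩ := hmemA _ ha
      obtain ⟨v, rfl⟩ := (act_bijective j).2 w
      refine ⟨v, mul_left_cancel (a := D.n j) (mul_right_cancel (b := (D.n j)⁻¹) ?_)⟩
      rw [map_mul, map_mul, map_inv, hx] at hw
      rw [hw, D.conj, mul_inv_cancel_right]
  have hword : ∀ w : List (Fin 3), ∃ g : N, ⇑(Φ g) = evalW w := by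
    intro w
    induction w with
    | nil => exact ⟨1, by rw [map_one]; rfl⟩
    | cons j w ih =>
      obtain ⟨g, hg⟩ := ih
      refine ⟨⟨x j, hxN j⟩ * g, funext fun v => ?_⟩
      rw [map_mul, Equiv.Perm.mul_apply, hg]
      have : σ ⟨x j, hxN j⟩ = Equiv.ofBijective (act j) (act_bijective j) :=
        hσu _ _ fun u => by rw [hx]; exact D.conj j u
      show σ ⟨x j, hxN j⟩ (evalW w v) = act j (evalW w v)
      rw [this, Equiv.ofBijective_apply]
  choose gw hgw using hword
  have hdiv : ∀ L : List (List (Fin 3)), GroupWords L → L.length ∣ Nat.card Φ.range := by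
    intro L hL
    let S : Finset (Equiv.Perm V4) := (L.map fun w => Φ (gw w)).toFinset
    have hnd : (L.map fun w => Φ (gw w)).Nodup := by
      refine List.Nodup.of_map (fun p : Equiv.Perm V4 => (List.finRange 4).map fun l => p (bas l)) ?_
      rw [List.map_map]
      convert hL.2.2 using 3
      simp [hgw]
    have hS : S.card = L.length := by
      rw [List.toFinset_card_of_nodup hnd, List.length_map]
    rw [← hS]
    refine card_dvd_of_closed Φ.range S (fun p hp => ?_) ?_ ?_
    · obtain ⟨w, -, rfl⟩ := List.mem_map.1 (List.mem_toFinset.1 hp)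
      exact ⟨_, rfl⟩
    · refine List.mem_toFinset.2 (List.mem_map.2 ⟨[], hL.1, Equiv.ext fun v => ?_⟩)
      rw [hgw]; rfl
    · intro p hp q hq
      obtain ⟨a, ha, rfl⟩ := List.mem_map.1 (List.mem_toFinset.1 hp)
      obtain ⟨b, hb, rfl⟩ := List.mem_map.1 (List.mem_toFinset.1 hq)
      obtain ⟨c, hc', e⟩ := hL.mul ha hb
      refine List.mem_toFinset.2 (List.mem_map.2 ⟨c, hc', Equiv.ext fun v => ?_⟩)
      rw [Equiv.Perm.mul_apply, hgw, hgw, hgw, e]
  have h360 : 360 ∣ Nat.card Φ.range := by
    have h5 : 5 ∣ Nat.card Φ.range := hdiv _ words5_group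
    have h8 : 8 ∣ Nat.card Φ.range := hdiv _ words8_group
    have h9 : 9 ∣ Nat.card Φ.range := hdiv _ words9_group
    exact Nat.Coprime.mul_dvd_of_dvd_of_dvd (m := 40) (n := 9) (by norm_num)
      (Nat.Coprime.mul_dvd_of_dvd_of_dvd (m := 5) (n := 8) (by norm_num) h5 h8) h9
  rw [← Subgroup.index_ker Φ] at h360
  exact h360.trans (Subgroup.index_dvd_of_le hC)

end LocalU43

open LocalU43

/-- `PSU₄(3)` acts trivially on an elementary abelian 2-group of order at most `2 ^ 12`. -/
theorem hom_trivial {F : Type*} [Field F] [Fintype F] (hF : Fintype.card F = 9) {W : Type*}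
    [AddCommGroup W] [Finite W] [DistribMulAction (Cfsg.PSU 4 F 3) W] (h2 : ∀ w : W, w + w = 0) (hW : Nat.card W ≤ 2 ^ 12)
    : ∀ (g : Cfsg.PSU 4 F 3) (w : W), g • w = w := by
  obtain ⟨D⟩ := exists_data hF
  have := ClassicalSimple.PSU_isSimpleGroup (n := 4) (q := 3) (hF.trans (by norm_num))
    (by norm_num) (by omega)
  exact hom_trivial_of_data D h2 hW

/-- A large elementary abelian 3-subgroup of a triple cover of `PSU₄(3)`. -/
theorem exists_local {F : Type*} [Field F] [Fintype F] (hF : Fintype.card F = 9) {Γ : Type*}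
    [Group Γ] [Finite Γ] (f : Γ →* Cfsg.PSU 4 F 3) (hf : Function.Surjective f)
    (hc : f.ker ≤ Subgroup.center Γ) (hk : Nat.card f.ker = 3) :
    ∃ A : Subgroup Γ, Cfsg.IsElementaryAbelian 3 A ∧ Nat.card A = 243 ∧ f.ker ≤ A ∧
      360 ∣ (Subgroup.centralizer (A : Set Γ)).relIndex (Subgroup.normalizer (A : Set Γ)) := by
  obtain ⟨D⟩ := exists_data hF
  exact exists_local_of_data D f hf hc hk

end Cfsg.Agent.LargeFischer
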