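import Cfsg.Agent.Lib.LargeFischer.ImgCore
import Cfsg.Agent.Lib.LargeExtraspecial.Setting
import Cfsg.Agent.Lib.LargeFischer.LocalU43

/-!
# Coordinates on `Q / Z(Q)` in large Fischer type

`exists_coord`: `IsOfLargeFischerTypeAt z Q` gives `Coord z Q`.
-/

set_option autoImplicit false

namespace Cfsg.Agent.LargeFischer

open Subgroup LargeExtraspecial

universe u

variable {G : Type u} [Group G] {z : G} {Q' : Subgroup G}

/-- `0` for the identity, `1` otherwise. -/
noncomputable def chiOne (a : G) : ZMod 2 := by classical exact if a = 1 then 0 else 1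

theorem chiOne_one : chiOne (1 : G) = 0 := by simp [chiOne]

theorem chiOne_ne {a : G} (h : a ≠ 1) : chiOne a = 1 := by simp [chiOne, h]

theorem chiOne_eq_zero {a : G} : chiOne a = 0 ↔ a = 1 := by
  by_cases h : a = 1
  · simp [h, chiOne_one]
  · simp [chiOne_ne h, h]

/-- The commutator form. -/
noncomputable def kapOne (a b : G) : ZMod 2 := chiOne (b * a * b⁻¹ * a⁻¹)

theorem kapOne_eq_zero {a b : G} : kapOne a b = 0 ↔ Commute a b := by
  rw [kapOne, chiOne_eq_zero]
  constructor
  · intro h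
    have := congrArg (fun t => t * a * b) h
    simp only [inv_mul_cancel_right, one_mul] at this
    exact this.symm
  · intro h
    rw [show b * a = a * b from h.eq.symm]
    group

theorem Hub.comm_pair (hub : Hub Q' z) {a b : G} (ha : a ∈ Q') (hb : b ∈ Q') :
    b * a * b⁻¹ * a⁻¹ = 1 ∨ b * a * b⁻¹ * a⁻¹ = z := by
  rcases hub.comm b hb a ha with e | e <;> rw [e]
  · exact Or.inl (mul_inv_cancel a)
  · exact Or.inr (by rw [(hub.central a ha).eq, mul_inv_cancel_right])

theorem Hub.chiOne_mul (hub : Hub Q' z) {a b : G} (ha : a = 1 ∨ a = z) (hb : b = 1 ∨ b = z) :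
    chiOne (a * b) = chiOne a + chiOne b := by
  rcases ha with rfl | rfl <;> rcases hb with rfl | rfl <;>
    simp [chiOne_one, chiOne_ne hub.ne_one, hub.sq, show (1 : ZMod 2) + 1 = 0 from by decide]

theorem Hub.kapOne_mul (hub : Hub Q' z) {a b c : G} (ha : a ∈ Q') (hb : b ∈ Q') (hc : c ∈ Q') :
    kapOne (a * b) c = kapOne a c + kapOne b c := by
  have h2 := Hub.comm_pair hub hb hc
  have hcen : a * (c * b * c⁻¹ * b⁻¹) = (c * b * c⁻¹ * b⁻¹) * a := by
    rcases h2 with e | e <;> rw [e]
    · simp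
    · exact (hub.central a ha).eq
  rw [kapOne, kapOne, kapOne, ← Hub.chiOne_mul hub (Hub.comm_pair hub ha hc) h2]
  congr 1
  calc c * (a * b) * c⁻¹ * (a * b)⁻¹ = (c * a * c⁻¹ * a⁻¹) * (a * (c * b * c⁻¹ * b⁻¹)) * a⁻¹ := by group
    _ = _ := by rw [hcen]; group

theorem Hub.sq_mul_one (hub : Hub Q' z) {a b : G} (ha : a ∈ Q') (hb : b ∈ Q') :
    chiOne (a * b * (a * b)) = chiOne (a * a) + chiOne (b * b) + kapOne a b := by
  have h1 := hub.sq_cases a ha
  have h2 := hub.sq_cases b hb
  have h3 := Hub.comm_pair hub ha hb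
  have hcen : a * (b * a * b⁻¹ * a⁻¹) = (b * a * b⁻¹ * a⁻¹) * a := by
    rcases h3 with e | e <;> rw [e]
    · simp
    · exact (hub.central a ha).eq
  have e : a * b * (a * b) = (b * a * b⁻¹ * a⁻¹) * ((a * a) * (b * b)) := by
    calc a * b * (a * b) = a * (b * a * b⁻¹ * a⁻¹) * (a * (b * b)) := by group
      _ = _ := by rw [hcen]; group
  have h12 : a * a * (b * b) = 1 ∨ a * a * (b * b) = z := by
    rcases h1 with e1 | e1 <;> rcases h2 with e2 | e2 <;> rw [e1, e2]
    · exact Or.inl (mul_one 1)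
    · exact Or.inr (one_mul z)
    · exact Or.inr (mul_one z)
    · exact Or.inl hub.sq
  rw [e, Hub.chiOne_mul hub h3 h12, Hub.chiOne_mul hub h1 h2, kapOne]
  abel

local notation "Cz" => Subgroup.centralizer (Singleton.singleton z : Set G)

variable (z) in
/-- **Parcel B.** The coordinates on `Q / Z(Q)`. -/
theorem exists_coord_of (hT : ∀ (K : Type) [Field K] [Fintype K], Fintype.card K = 9 → HomTrivial.{u} K)
    (hL : ∀ (K : Type) [Field K] [Fintype K], Fintype.card K = 9 → LocalThree.{u} K)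
    [Finite G] (Q : Subgroup Cz) [Q.Normal]
    (hF : Cfsg.IsOfLargeFischerTypeAt z Q) : Nonempty (Coord z Q) := by
  classical
  obtain ⟨hS, N, M, hNn, hMn, hQN, hNM, hN, ⟨K, _, _, hK, ⟨e⟩⟩, hMi⟩ := hF
  obtain ⟨hz2, hFit, hex, hcardQ, -⟩ := hS
  have hub : Hub (Q.map (Cz).subtype) z :=
    (Hub.of_setting hz2 (Subgroup.map_subtype_le _) (by rw [hFit])
      (TI.isExtraspecial_congr (Q.equivMapOfInjective _ (Cz).subtype_injective) hex)).1
  have hmemQ : ∀ a : Q, ((a : Cz) : G) ∈ Q.map (Cz).subtype := fun a => ⟨a, a.2, rfl⟩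
  have hcen : ∀ a : Q, a ∈ center Q ↔ ((a : Cz) : G) = 1 ∨ ((a : Cz) : G) = z := by
    intro a
    constructor
    · intro ha
      refine hub.self _ fun y hy => ?_
      obtain ⟨c, hc, rfl⟩ := hy
      exact (congrArg (fun t : Q => ((t : Cz) : G)) (mem_center_iff.1 ha ⟨c, hc⟩)).symm
    · intro ha
      refine mem_center_iff.2 fun c => Subtype.ext (Subtype.ext ?_)
      show ((c : Cz) : G) * ((a : Cz) : G) = ((a : Cz) : G) * ((c : Cz) : G)
      rcases ha with e' | e' <;> rw [e']
      · simp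
      · exact (hub.central _ (hmemQ c)).eq
  -- the module
  letI : CommGroup (Q ⧸ center Q) :=
    { (inferInstance : Group (Q ⧸ center Q)) with
      mul_comm := fun a b => by
        obtain ⟨a, rfl⟩ := QuotientGroup.mk_surjective a
        obtain ⟨b, rfl⟩ := QuotientGroup.mk_surjective b
        rw [← QuotientGroup.mk_mul, ← QuotientGroup.mk_mul, QuotientGroup.eq, hcen]
        simp only [Subgroup.coe_mul, InvMemClass.coe_inv, mul_inv_rev]
        rcases Hub.comm_pair hub (hmemQ a⁻¹) (hmemQ b⁻¹) with e' | e'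
        · left; exact Eq.trans (by simp [mul_assoc]) e'
        · right; exact Eq.trans (by simp [mul_assoc]) e' }
  let toQ : MulAut Q →* MulAut (Q ⧸ center Q) :=
    MonoidHom.mk' (fun φ => QuotientGroup.congr (center Q) (center Q) φ
      (Subgroup.characteristic_iff_map_eq.1 inferInstance φ)) fun φ ψ => by
      refine MulEquiv.ext fun a => ?_
      obtain ⟨a, rfl⟩ := QuotientGroup.mk_surjective a
      rfl
  let ρ : Cz →* MulAut (Q ⧸ center Q) := toQ.comp MulAut.conjNormal
  have hρ : ∀ (h : Cz) (a : Q), ρ h (QuotientGroup.mk a) =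
      QuotientGroup.mk ⟨h * a * h⁻¹, (inferInstance : Q.Normal).conj_mem _ a.2 h⟩ := fun h a => by
    refine congrArg QuotientGroup.mk ?_
    exact Subtype.ext (MulAut.conjNormal_apply h a)
  have hρQ : Q ≤ ρ.ker := fun c hc => by
    rw [MonoidHom.mem_ker]
    refine MulEquiv.ext fun a => ?_
    obtain ⟨a, rfl⟩ := QuotientGroup.mk_surjective a
    rw [hρ, MulAut.one_apply, QuotientGroup.eq, hcen]
    simp only [Subgroup.coe_mul, InvMemClass.coe_inv]
    rcases hub.comm _ (hmemQ ⟨c, hc⟩) _ (hmemQ a) with e' | e' <;> simp only at e' <;> rw [e']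
    · left; simp
    · right
      rw [mul_inv_rev, mul_assoc, inv_mul_cancel, mul_one]
      exact inv_eq_of_mul_eq_one_right hub.sq
  have hρker : ∀ h : Cz, ρ h = 1 → h ∈ Q := by
    intro h hh
    have hmove : ∀ a : Q, (h : G) * ((a : Cz) : G) * (h : G)⁻¹ = ((a : Cz) : G) ∨
        (h : G) * ((a : Cz) : G) * (h : G)⁻¹ = ((a : Cz) : G) * z := by
      intro a
      have h1 := DFunLike.congr_fun hh (QuotientGroup.mk a)
      rw [hρ, MulAut.one_apply, eq_comm, QuotientGroup.eq, hcen] at h1
      simp only [Subgroup.coe_mul, InvMemClass.coe_inv] at h1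
      rcases h1 with e' | e'
      · exact Or.inl (inv_mul_eq_one.1 e').symm
      · exact Or.inr (inv_mul_eq_iff_eq_mul.1 e')
    obtain ⟨c, hc⟩ : ∃ c : Q, ∀ a : Q, (h : G) * ((a : Cz) : G) * (h : G)⁻¹ =
        ((c : Cz) : G) * ((a : Cz) : G) * ((c : Cz) : G)⁻¹ := by
      by_cases hall : ∀ a : Q, (h : G) * ((a : Cz) : G) * (h : G)⁻¹ = ((a : Cz) : G)
      · exact ⟨1, fun a => by rw [hall a]; simp⟩
      push Not at hall
      obtain ⟨a0, ha0⟩ := hall
      let f : MulAut Q := MulAut.conjNormal h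
      have hf : ∀ a : Q, (((f a : Q) : Cz) : G) = (h : G) * ((a : Cz) : G) * (h : G)⁻¹ := fun a => by
        rw [show ((f a : Q) : Cz) = h * a * h⁻¹ from MulAut.conjNormal_apply h a]; rfl
      let D : Subgroup Q := ((centralizer ({(h : G)} : Set G)).comap (Cz).subtype).comap Q.subtype
      have hD : ∀ a : Q, a ∈ D ↔ f a = a := fun a => by
        show ((a : Cz) : G) ∈ centralizer ({(h : G)} : Set G) ↔ _
        rw [mem_centralizer_singleton_iff, Subtype.ext_iff, Subtype.ext_iff, hf, mul_inv_eq_iff_eq_mul]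
        exact eq_comm
      have hhz : (h : G) * z = z * (h : G) := mem_centralizer_singleton_iff.1 h.2
      have hf2 : ∀ a, f (f a) = a := fun a => by
        refine Subtype.ext (Subtype.ext ?_)
        rw [hf, hf]
        rcases hmove a with e' | e'
        · rw [e', e']
        · rw [e', show (h : G) * (((a : Cz) : G) * z) * (h : G)⁻¹ =
            ((h : G) * ((a : Cz) : G) * (h : G)⁻¹) * ((h : G) * z * (h : G)⁻¹) by group, e', hhz,
            mul_inv_cancel_right, mul_assoc, hub.sq, mul_one]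
      have hDi : D.index = 2 := by
        rw [index_eq_two_iff]
        refine ⟨a0, fun c => ?_⟩
        have hca : ∀ x y : Q, (h : G) * ((x * y : Q) : Cz) * (h : G)⁻¹ =
            ((h : G) * ((x : Cz) : G) * (h : G)⁻¹) * ((h : G) * ((y : Cz) : G) * (h : G)⁻¹) := fun x y => by
          simp only [Subgroup.coe_mul]; group
        have hm : ∀ x : Q, x ∈ D ↔ (h : G) * ((x : Cz) : G) * (h : G)⁻¹ = ((x : Cz) : G) := fun x => by
          rw [hD, Subtype.ext_iff, Subtype.ext_iff, hf]
        rw [hm, hm]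
        rcases hmove c with e' | e'
        · refine Or.inr ⟨e', fun hh' => ha0 ?_⟩
          rw [hca, e'] at hh'
          exact mul_left_cancel hh'
        · refine Or.inl ⟨?_, fun hh' => hub.ne_one ?_⟩
          · rw [hca, e', (hmove a0).resolve_left ha0]
            simp only [Subgroup.coe_mul]
            rw [mul_assoc, ← mul_assoc z, ← (hub.central _ (hmemQ a0)).eq, mul_assoc _ z z, hub.sq, mul_one]
          · exact mul_eq_left.1 (e'.symm.trans hh')
      obtain ⟨c, hc⟩ := TI.exists_eq_conj hex f hf2 D hD hDi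
      refine ⟨c, fun a => ?_⟩
      rw [← hf, hc]
      rfl
    have h' := hub.self (((c : Cz) : G)⁻¹ * (h : G)) fun y hy => by
      obtain ⟨y, hy, rfl⟩ := hy
      have e' : (h : G) * ((Cz).subtype y) * (h : G)⁻¹ = ((c : Cz) : G) * ((Cz).subtype y) * ((c : Cz) : G)⁻¹ :=
        hc ⟨y, hy⟩
      calc ((c : Cz) : G)⁻¹ * (h : G) * (Cz).subtype y
          = ((c : Cz) : G)⁻¹ * ((h : G) * (Cz).subtype y * (h : G)⁻¹) * (h : G) := by group
        _ = _ := by rw [e']; group
    rcases h' with e' | e'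
    · have : h = (c : Cz) := Subtype.ext (inv_mul_eq_one.1 e').symm
      rw [this]; exact c.2
    · have hzC : z ∈ Cz := mem_centralizer_singleton_iff.2 rfl
      have hzQ : (⟨z, hzC⟩ : Cz) ∈ Q := by
        obtain ⟨y, hy, hyz⟩ := hub.mem
        exact (Subtype.ext hyz : y = ⟨z, hzC⟩) ▸ hy
      have : h = (c : Cz) * ⟨z, hzC⟩ := Subtype.ext (inv_mul_eq_iff_eq_mul.1 e')
      rw [this]; exact Q.mul_mem c.2 hzQ
  let ρ' : Cz ⧸ Q →* MulAut (Q ⧸ center Q) := QuotientGroup.lift Q ρ hρQ
  letI : DistribMulAction (Cz ⧸ Q) (Additive (Q ⧸ center Q)) :=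
    { smul := fun h w => Additive.ofMul (ρ' h (Additive.toMul w))
      one_smul := fun w => by
        show Additive.ofMul (ρ' 1 (Additive.toMul w)) = w
        rw [map_one, MulAut.one_apply, ofMul_toMul]
      mul_smul := fun h h' w => by
        show Additive.ofMul (ρ' (h * h') (Additive.toMul w)) = _
        rw [map_mul]; rfl
      smul_zero := fun h => by
        show Additive.ofMul (ρ' h 1) = 0
        rw [map_one]; rfl
      smul_add := fun h v w => by
        show Additive.ofMul (ρ' h (Additive.toMul v * Additive.toMul w)) = _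
        rw [map_mul]; rfl }
  let mkW : Q → Additive (Q ⧸ center Q) := fun a => Additive.ofMul (QuotientGroup.mk a)
  have hmkW : Function.Surjective mkW := fun w => by
    obtain ⟨a, ha⟩ := QuotientGroup.mk_surjective (Additive.toMul w)
    exact ⟨a, by show Additive.ofMul _ = w; rw [ha, ofMul_toMul]⟩
  have hsmul : ∀ (h : Cz) (a : Q), (QuotientGroup.mk h : Cz ⧸ Q) • mkW a =
      mkW ⟨h * a * h⁻¹, (inferInstance : Q.Normal).conj_mem _ a.2 h⟩ := fun h a => by
    show Additive.ofMul (ρ' _ _) = Additive.ofMul _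
    rw [← hρ]
    rfl
  have hmk0 : ∀ a, mkW a = 0 ↔ ((a : Cz) : G) = 1 ∨ ((a : Cz) : G) = z := fun a => by
    rw [← hcen, ← QuotientGroup.eq_one_iff]
    exact Iff.rfl
  have hfaith : ∀ g : Cz ⧸ Q, (∀ w : Additive (Q ⧸ center Q), g • w = w) → g = 1 := by
    intro g hg
    obtain ⟨h, rfl⟩ := QuotientGroup.mk_surjective g
    rw [QuotientGroup.eq_one_iff]
    refine hρker h (MulEquiv.ext fun a => ?_)
    rw [MulAut.one_apply]
    exact congrArg Additive.toMul (hg (Additive.ofMul a))
  have h2 : ∀ w : Additive (Q ⧸ center Q), w + w = 0 := fun w => by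
    obtain ⟨a, rfl⟩ := hmkW w
    refine ((hmk0 (a * a)).2 ?_)
    simpa using hub.sq_cases _ (hmemQ a)
  have hW : Nat.card (Additive (Q ⧸ center Q)) = 4096 := by
    have h := Subgroup.card_eq_card_quotient_mul_card_subgroup (center Q)
    rw [hex.2, hcardQ] at h
    show Nat.card (Q ⧸ center Q) = 4096
    omega
  -- the quadratic form
  let sqv : Q → ZMod 2 := fun a => chiOne (((a : Cz) : G) * ((a : Cz) : G))
  let qW : Additive (Q ⧸ center Q) → ZMod 2 := fun w => sqv (Function.surjInv hmkW w)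
  have hqW : ∀ a : Q, qW (mkW a) = sqv a := by
    intro a
    set a' := Function.surjInv hmkW (mkW a) with ha'
    have h' : mkW a' = mkW a := Function.surjInv_eq hmkW (mkW a)
    have h1 : a'⁻¹ * a ∈ center Q := QuotientGroup.eq.1 (Additive.ofMul.injective h')
    have hsz : chiOne ((((a'⁻¹ * a : Q) : Cz) : G) * (((a'⁻¹ * a : Q) : Cz) : G)) = 0 := by
      rcases (hcen _).1 h1 with e' | e' <;> rw [e']
      · simp [chiOne_one]
      · rw [hub.sq, chiOne_one]
    have h3 := Hub.sq_mul_one hub (hmemQ a') (hmemQ (a'⁻¹ * a))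
    have h4 : kapOne ((a' : Cz) : G) (((a'⁻¹ * a : Q) : Cz) : G) = 0 :=
      kapOne_eq_zero.2 (congrArg (fun t : Q => ((t : Cz) : G)) (mem_center_iff.1 h1 a'))
    rw [hsz, h4, add_zero, add_zero] at h3
    have e' : ((a' : Cz) : G) * (((a'⁻¹ * a : Q) : Cz) : G) = ((a : Cz) : G) := by simp
    rw [e'] at h3
    exact h3.symm
  have hqadd : ∀ a b c, qW (a + b + c) = qW (a + b) + qW (a + c) + qW (b + c) + qW a + qW b + qW c := by
    intro p q r
    obtain ⟨a, rfl⟩ := hmkW p
    obtain ⟨b, rfl⟩ := hmkW q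
    obtain ⟨c, rfl⟩ := hmkW r
    have hsum : ∀ x y : Q, mkW x + mkW y = mkW (x * y) := fun x y => rfl
    simp only [hsum, hqW, sqv, Subgroup.coe_mul]
    rw [Hub.sq_mul_one hub (mul_mem (hmemQ a) (hmemQ b)) (hmemQ c), Hub.sq_mul_one hub (hmemQ a) (hmemQ b),
      Hub.sq_mul_one hub (hmemQ a) (hmemQ c), Hub.sq_mul_one hub (hmemQ b) (hmemQ c),
      Hub.kapOne_mul hub (hmemQ a) (hmemQ b) (hmemQ c)]
    generalize chiOne (((a : Cz) : G) * ((a : Cz) : G)) = A
    generalize chiOne (((b : Cz) : G) * ((b : Cz) : G)) = B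
    generalize chiOne (((c : Cz) : G) * ((c : Cz) : G)) = D
    generalize kapOne ((a : Cz) : G) ((b : Cz) : G) = X
    generalize kapOne ((a : Cz) : G) ((c : Cz) : G) = Y
    generalize kapOne ((b : Cz) : G) ((c : Cz) : G) = Z
    revert A B D X Y Z
    decide
  have hnd : ∀ p, p ≠ 0 → ∃ q, qW (p + q) ≠ qW p + qW q := by
    intro p hp
    obtain ⟨a, rfl⟩ := hmkW p
    rw [Ne, hmk0] at hp
    push Not at hp
    obtain ⟨y, hy, hne⟩ := hub.exists_not_commute hp.1 hp.2
    obtain ⟨y, hyQ, rfl⟩ := hy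
    refine ⟨mkW ⟨y, hyQ⟩, fun hh => hne ?_⟩
    rw [show mkW a + mkW ⟨y, hyQ⟩ = mkW (a * ⟨y, hyQ⟩) from rfl, hqW, hqW, hqW] at hh
    simp only [sqv, Subgroup.coe_mul] at hh
    rw [Hub.sq_mul_one hub (hmemQ a) (hmemQ ⟨y, hyQ⟩), add_eq_left, kapOne_eq_zero] at hh
    exact hh
  have hinv : ∀ (g : Cz ⧸ Q) p, qW (g • p) = qW p := by
    intro g p
    obtain ⟨h, rfl⟩ := QuotientGroup.mk_surjective g
    obtain ⟨a, rfl⟩ := hmkW p
    rw [hsmul, hqW, hqW]
    show chiOne _ = chiOne _
    simp only [Subgroup.coe_mul, InvMemClass.coe_inv]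
    rw [show (h : G) * ((a : Cz) : G) * (h : G)⁻¹ * ((h : G) * ((a : Cz) : G) * (h : G)⁻¹) =
      (h : G) * (((a : Cz) : G) * ((a : Cz) : G)) * (h : G)⁻¹ by group]
    rcases hub.sq_cases _ (hmemQ a) with e' | e' <;> rw [e']
    · simp
    · rw [(mem_centralizer_singleton_iff.1 h.2 : (h : G) * z = z * h), mul_inv_cancel_right]
  -- the subgroup of index two
  let π := QuotientGroup.mk' Q
  let πM : M →* M.map π := π.subgroupMap M
  have hπM : Function.Surjective πM := MonoidHom.subgroupMap_surjective π M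
  let gM : M →* Cfsg.PSU 4 K 3 := e.toMonoidHom.comp (QuotientGroup.mk' (N.subgroupOf M))
  have hgker : gM.ker = N.subgroupOf M := by
    ext m
    rw [MonoidHom.mem_ker, MonoidHom.comp_apply, MulEquiv.coe_toMonoidHom, map_eq_one_iff _ e.injective,
      QuotientGroup.mk'_apply, QuotientGroup.eq_one_iff]
  have hle : πM.ker ≤ gM.ker := fun m hm => by
    rw [hgker, mem_subgroupOf]
    refine hQN ?_
    rw [← QuotientGroup.eq_one_iff]
    exact congrArg Subtype.val (MonoidHom.mem_ker.1 hm)
  let f : M.map π →* Cfsg.PSU 4 K 3 := πM.liftOfSurjective hπM ⟨gM, hle⟩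
  have hfm : ∀ m, f (πM m) = gM m := fun m => πM.liftOfRightInverse_comp_apply _ _ ⟨gM, hle⟩ m
  have hf : Function.Surjective f := fun p => by
    obtain ⟨m, hm⟩ := QuotientGroup.mk'_surjective (N.subgroupOf M) (e.symm p)
    refine ⟨πM m, ?_⟩
    rw [hfm]
    show e _ = p
    rw [hm, e.apply_symm_apply]
  have hk : Nat.card f.ker = 3 := by
    have h1 := Subgroup.card_eq_card_quotient_mul_card_subgroup f.ker
    rw [Nat.card_congr (QuotientGroup.quotientKerEquivOfSurjective f hf).toEquiv] at h1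
    have h3 := Subgroup.card_eq_card_quotient_mul_card_subgroup (N.subgroupOf M)
    rw [Nat.card_congr e.toEquiv, Nat.card_congr (subgroupOfEquivOfLe hNM).toEquiv, hN] at h3
    have h4 := Subgroup.card_eq_card_quotient_mul_card_subgroup πM.ker
    rw [Nat.card_congr (QuotientGroup.quotientKerEquivOfSurjective πM hπM).toEquiv] at h4
    have h5 : πM.ker = Q.subgroupOf M := by
      ext m
      rw [MonoidHom.mem_ker, mem_subgroupOf, Subtype.ext_iff]
      exact QuotientGroup.eq_one_iff _
    rw [h5, Nat.card_congr (subgroupOfEquivOfLe (hQN.trans hNM)).toEquiv, h1, h3] at h4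
    have hp : 0 < Nat.card (Cfsg.PSU 4 K 3) := Nat.card_pos
    have hq : 0 < Nat.card Q := Nat.card_pos
    refine Nat.eq_of_mul_eq_mul_left (Nat.mul_pos hp hq) ?_
    rw [← mul_assoc] at h4
    calc _ = Nat.card (Cfsg.PSU 4 K 3) * Nat.card f.ker * Nat.card Q := by ring
      _ = _ := by rw [← h4]; ring
  have hidx : (M.map π).index = 2 := by
    rw [index_map_eq _ (QuotientGroup.mk'_surjective Q) (by rw [QuotientGroup.ker_mk']; exact hQN.trans hNM), hMi]
  obtain ⟨co, τ, I, hcoadd, hcoq, hτco, hτinj, hrange⟩ :=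
    exists_img hK (hT K hK) (hL K hK) hfaith h2 hW qW hqadd hnd hinv (M.map π) hidx f hf hk
  have hco0 : co 0 = 0 := by
    have := hcoadd 0 0
    rw [add_zero, xo_self] at this
    exact this
  exact ⟨{ co := fun a => co (mkW a)
           co_surjective := co.surjective.comp hmkW
           co_mul := fun a b => hcoadd (mkW a) (mkW b)
           co_eq_zero := fun a => by rw [← hco0, co.injective.eq_iff, hmk0]
           co_sq := fun a => by
             rw [← chiOne_eq_zero]
             show sqv a = 0 ↔ _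
             rw [← hqW, hcoq]
             constructor
             · intro h
               rw [ZMod.natCast_eq_zero_iff_even] at h
               obtain ⟨k, hk'⟩ := h
               have := qN_lt (co (mkW a)).1
               omega
             · intro h; rw [h, Nat.cast_zero]
           act := τ.comp π
           act_ker := by
             ext h
             rw [MonoidHom.mem_ker, MonoidHom.comp_apply, map_eq_one_iff _ hτinj]
             exact QuotientGroup.eq_one_iff h
           act_co := fun h a => by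
             show τ (QuotientGroup.mk h) (co (mkW a)) = _
             rw [hτco, hsmul]
           I := I
           range_act := by
             rw [MonoidHom.range_comp, MonoidHom.range_eq_top.2 (QuotientGroup.mk'_surjective Q),
               ← MonoidHom.range_eq_map, hrange] }⟩

variable (z) in
/-- The coordinates of `C(z) / Q` on `Q / Z(Q)`. -/
theorem exists_coord [Finite G] (Q : Subgroup Cz) [Q.Normal] (hF : Cfsg.IsOfLargeFischerTypeAt z Q) :
    Nonempty (Coord z Q) :=
  exists_coord_of z (fun K _ _ hK {W} _ _ _ h2 hW => hom_trivial hK h2 hW)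
    (fun K _ _ hK {Γ} _ _ f hf hc hk => exists_local hK f hf hc hk) Q hF

end Cfsg.Agent.LargeFischer
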