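import Cfsg.Agent.Lib.LargeFischer.Monomial

/-!
# Counting: classes of isotropic codes, monomial groups, the linear symmetry group of `inO 0`
-/

set_option autoImplicit false

namespace Cfsg.Agent.LargeFischer

theorem isSym_id : IsSym (id : Cd → Cd) := ⟨isAdd_id, fun _ => rfl, Or.inl fun _ => rfl⟩

theorem isAdd_tP (k : Fin 8) : IsAdd (tP k) := isAdd_linC (tI k.1) (tI_lt k)

theorem tP_q (k : Fin 8) (v : Cd) : qN (tP k v).1 = qN v.1 := by
  have h : ∀ k : Fin 8, allB (fun v => decide (qN (apL (tI k.1) v) = qN v)) 12 0 = true := by decide +kernel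
  exact of_decide_eq_true (forall_cd (h k) v)

theorem tP_inO (k : Fin 8) (v : Cd) : inO 0 (tP k v).1 = inO 0 v.1 := by
  have h : ∀ k : Fin 8, allB (fun v => decide (inO 0 (apL (tI k.1) v) = inO 0 v)) 12 0 = true := by decide +kernel
  exact of_decide_eq_true (forall_cd (h k) v)

theorem tP_lin {k : Fin 8} (hk : k ≠ 7) : IsLinC (tP k) := fun v => by
  refine IsAdd.ext ((isAdd_tP k).comp isAdd_wC) (isAdd_wC.comp (isAdd_tP k)) (fun j => ?_) v
  revert hk j
  revert k
  decide +kernel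

theorem tP_anti : IsAntC (tP 7) := fun v => by
  refine IsAdd.ext ((isAdd_tP 7).comp isAdd_wC) (isAdd_wC.comp (isAdd_wC.comp (isAdd_tP 7))) (fun j => ?_) v
  revert j
  decide +kernel

theorem tP_sym (k : Fin 8) : IsSym (tP k) where
  add := isAdd_tP k
  q := tP_q k
  semi := by
    by_cases h : k = 7
    · subst h; exact Or.inr tP_anti
    · exact Or.inl (tP_lin h)

theorem gS_anti : IsAntC gS := fun v => by
  show tP 7 (tP 1 (wC v)) = wC (wC (tP 7 (tP 1 v)))
  rw [tP_lin (by decide) v, tP_anti]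

/-- The linear symmetries of the small orbit. -/
def RS : Subgroup (Equiv.Perm Cd) :=
  let S : Submonoid (Equiv.Perm Cd) :=
    { carrier := {p | IsSym p ∧ IsLinC p ∧ ∀ v, inO 0 (p v).1 = inO 0 v.1}
      one_mem' := ⟨isSym_id, fun _ => rfl, fun _ => rfl⟩
      mul_mem' := fun {p q} hp hq => ⟨hp.1.comp hq.1,
        fun v => by rw [Equiv.Perm.mul_apply, Equiv.Perm.mul_apply, hq.2.1, hp.2.1],
        fun v => (hp.2.2 _).trans (hq.2.2 v)⟩ }
  { S with
    inv_mem' := fun {p} hp => by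
      have : p⁻¹ = p ^ (orderOf p - 1) := inv_eq_of_mul_eq_one_right (by
        rw [← pow_succ', Nat.sub_add_cancel (orderOf_pos p), pow_orderOf_eq_one])
      rw [this]
      exact S.pow_mem hp _ }

theorem mem_RS {p : Equiv.Perm Cd} :
    p ∈ RS ↔ IsSym p ∧ IsLinC p ∧ ∀ v, inO 0 (p v).1 = inO 0 v.1 := Iff.rfl

theorem tP_mem_RS {k : Fin 8} (hk : k ≠ 7) : tP k ∈ RS := mem_RS.2 ⟨tP_sym k, tP_lin hk, tP_inO k⟩

/-- The class of an isotropic code. -/
def clsN (v : ℕ) : ℕ :=
  if qN v == 1 || v == 0 then 9 else if pcN (suppN v) == 2 then 0 else if pcN (suppN v) == 4 then 1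
  else 2 + logN v

/-- The number of codes in an aligned block satisfying a predicate. -/
def countB (p : ℕ → Bool) : ℕ → ℕ → ℕ
  | 0, b => if p b then 1 else 0
  | k + 1, b => countB p k (2 * b) + countB p k (2 * b + 1)

theorem countB_spec (p : ℕ → Bool) : ∀ k b,
    countB p k b = ((Finset.Ico (2 ^ k * b) (2 ^ k * (b + 1))).filter fun v => p v = true).card := by
  intro k
  induction k with
  | zero =>
    intro b
    rw [pow_zero, one_mul, one_mul, Nat.Ico_succ_singleton, Finset.filter_singleton]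
    cases h : p b <;> simp [countB, h]
  | succ k ih =>
    intro b
    rw [countB, ih, ih, ← Finset.card_union_of_disjoint, ← Finset.filter_union,
      Finset.Ico_union_Ico_eq_Ico (Nat.mul_le_mul_left _ (by omega)) (Nat.mul_le_mul_left _ (by omega))]
    · congr 2 <;> rw [pow_succ] <;> ring_nf
    · exact Finset.disjoint_filter_filter (Finset.Ico_disjoint_Ico_consecutive _ _ _)

theorem card_cd (p : ℕ → Bool) : Nat.card {v : Cd // p v.1 = true} = countB p 12 0 := by
  rw [countB_spec, Nat.card_eq_fintype_card, Fintype.card_subtype]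
  refine Finset.card_bij (fun v _ => v.1) (fun v hv => ?_) (fun a _ b _ h => Fin.ext h) (fun v hv => ?_)
  · rw [Finset.mem_filter] at hv ⊢
    exact ⟨Finset.mem_Ico.2 ⟨by simp, by simpa using v.2⟩, hv.2⟩
  · rw [Finset.mem_filter, Finset.mem_Ico] at hv
    exact ⟨⟨v, by simpa using hv.1.2⟩, Finset.mem_filter.2 ⟨Finset.mem_univ _, hv.2⟩, rfl⟩

theorem count_facts : countB (inO 0) 12 0 = 378 ∧ countB inU 12 0 = 1701 ∧
    countB (fun v => qN v == 1) 12 0 = 2016 ∧ countB (fun v => pcN (suppN v) == 2) 12 0 = 135 := by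
  decide +kernel

theorem count_classes : ∀ c : Fin 5, countB (fun v => clsN v == c.1) 12 0 = [135, 1215, 243, 243, 243].getD c.1 0 := by
  decide +kernel

/-- The representative of a class. -/
def clsRep (c : Fin 5) : Cd := Fin.ofNat 4096 ([5, 85, 1365, 1366, 1367].getD c.1 0)

theorem clsRep_cls : ∀ c : Fin 5, clsN (clsRep c).1 = c.1 := by decide +kernel

theorem clsRep_val : clsRep 0 = 5 ∧ clsRep 1 = 85 ∧ clsRep 2 = 1365 ∧ clsRep 3 = 1366 ∧ clsRep 4 = 1367 := by
  decide +kernel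

theorem cls_facts (v : Cd) : (clsN v.1 < 5 ↔ qN v.1 = 0 ∧ v ≠ 0) ∧ (clsN v.1 = 0 ↔ pcN (suppN v.1) = 2) ∧
    (clsN v.1 = 1 ↔ pcN (suppN v.1) = 4) ∧
    (∀ c : Fin 3, clsN v.1 = 2 + c.1 ↔ (suppN v.1 = 1365 ∧ logN v.1 = c.1)) := by
  have := forall_cd (f := fun v => decide ((clsN v < 5 ↔ qN v = 0 ∧ v ≠ 0) ∧
    (clsN v = 0 ↔ pcN (suppN v) = 2) ∧ (clsN v = 1 ↔ pcN (suppN v) = 4) ∧
    (∀ c : Fin 3, clsN v = 2 + c.1 ↔ (suppN v = 1365 ∧ logN v = c.1)))) (by decide +kernel) v
  obtain ⟨a, b, c, d⟩ := of_decide_eq_true this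
  exact ⟨a.trans (and_congr_right' (not_congr (Fin.ext_iff (b := (0 : Cd))).symm)), b, c, d⟩

theorem orb_cls {S : Subgroup (Equiv.Perm Cd)} (hS : ∀ k, gD k ∈ S) {c : Fin 5} {v : Cd}
    (hv : clsN v.1 = c.1) : v ∈ orb S (clsRep c) := by
  obtain ⟨-, h0, h1, h2⟩ := cls_facts v
  obtain ⟨r0, r1, r2, r3, r4⟩ := clsRep_val
  fin_cases c
  · rw [show (⟨0, by norm_num⟩ : Fin 5) = 0 from rfl] at *
    rw [r0]
    exact orb_of_forest (r := (5 : Cd)) (p := fun v => pcN (suppN v) == 2) hS gD_val forTwo_ok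
      (beq_iff_eq.2 (h0.1 hv))
  · rw [show (⟨1, by norm_num⟩ : Fin 5) = 1 from rfl] at *
    rw [r1]
    exact orb_of_forest (r := (85 : Cd)) (p := fun v => pcN (suppN v) == 4) hS gD_val forFour_ok
      (beq_iff_eq.2 (h1.1 hv))
  · rw [show (⟨2, by norm_num⟩ : Fin 5) = 2 from rfl] at *
    rw [r2]
    obtain ⟨a, b⟩ := (h2 0).1 hv
    exact orb_of_forest (r := (1365 : Cd)) (p := fun v => suppN v == 1365 && logN v == 0) hS gD_val
      forSix_ok.1 (by simp [a, b])
  · rw [show (⟨3, by norm_num⟩ : Fin 5) = 3 from rfl] at *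
    rw [r3]
    obtain ⟨a, b⟩ := (h2 1).1 hv
    exact orb_of_forest (r := (1366 : Cd)) (p := fun v => suppN v == 1365 && logN v == 1) hS gD_val
      forSix_ok.2.1 (by simp [a, b])
  · rw [show (⟨4, by norm_num⟩ : Fin 5) = 4 from rfl] at *
    rw [r4]
    obtain ⟨a, b⟩ := (h2 2).1 hv
    exact orb_of_forest (r := (1367 : Cd)) (p := fun v => suppN v == 1365 && logN v == 2) hS gD_val
      forSix_ok.2.2 (by simp [a, b])

theorem orb_trans {S : Subgroup (Equiv.Perm Cd)} {a b c : Cd} (h : b ∈ orb S a) (h' : c ∈ orb S b) :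
    c ∈ orb S a := by
  obtain ⟨p, hp, rfl⟩ := h
  obtain ⟨q, hq, rfl⟩ := h'
  exact ⟨q * p, S.mul_mem hq hp, rfl⟩

theorem orb_symm {S : Subgroup (Equiv.Perm Cd)} {a b : Cd} (h : b ∈ orb S a) : a ∈ orb S b := by
  obtain ⟨p, hp, rfl⟩ := h
  exact ⟨p⁻¹, S.inv_mem hp, p.symm_apply_apply a⟩

/-- An orbit on isotropic codes is a union of classes. -/
theorem orbit_shape {S : Subgroup (Equiv.Perm Cd)} (hS : ∀ k, gD k ∈ S) (hsym : ∀ p ∈ S, IsSym p)
    {r : Cd} (hr : qN r.1 = 0) (hr0 : r ≠ 0) :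
    ∃ T : Fin 5 → Bool, (∀ v : Cd, v ∈ orb S r ↔ ∃ c, T c = true ∧ clsN v.1 = c.1) ∧
      Nat.card (orb S r) =
        countB (fun v => (List.finRange 5).any fun c => T c && (clsN v == c.1)) 12 0 := by
  classical
  let T : Fin 5 → Bool := fun c => decide (clsRep c ∈ orb S r)
  have key : ∀ v : Cd, v ∈ orb S r ↔ ∃ c, T c = true ∧ clsN v.1 = c.1 := by
    intro v
    constructor
    · intro hv
      have hlt : clsN v.1 < 5 := by
        obtain ⟨p, hp, e⟩ := hv
        refine (cls_facts v).1.2 ⟨?_, ?_⟩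
        · rw [← e, (hsym p hp).q, hr]
        · intro e0
          rw [e0, ← (hsym p hp).add.zero] at e
          exact hr0 (p.injective e)
      refine ⟨⟨_, hlt⟩, ?_, rfl⟩
      exact decide_eq_true (orb_trans hv (orb_symm (orb_cls hS (c := ⟨_, hlt⟩) rfl)))
    · rintro ⟨c, hc, e⟩
      exact orb_trans (of_decide_eq_true hc) (orb_cls hS e)
  refine ⟨T, key, ?_⟩
  rw [← card_cd, Nat.card_congr (Equiv.subtypeEquivRight (fun v : Cd => key v))]
  refine Nat.card_congr (Equiv.subtypeEquivRight fun v => ?_)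
  simp only [List.any_eq_true, Bool.and_eq_true, beq_iff_eq]
  exact ⟨fun ⟨c, hc, e⟩ => ⟨c, List.mem_finRange c, hc, e⟩, fun ⟨c, _, hc, e⟩ => ⟨c, hc, e⟩⟩

theorem countB_split (T : Fin 5 → Bool) : ∀ k b,
    countB (fun v => (List.finRange 5).any fun c => T c && (clsN v == c.1)) k b =
      (if T 0 then countB (fun v => clsN v == 0) k b else 0) + (if T 1 then countB (fun v => clsN v == 1) k b else 0) +
      (if T 2 then countB (fun v => clsN v == 2) k b else 0) + (if T 3 then countB (fun v => clsN v == 3) k b else 0) +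
      (if T 4 then countB (fun v => clsN v == 4) k b else 0) := by
  intro k
  induction k with
  | zero =>
    intro b
    generalize hx : clsN b = x
    simp only [countB, hx, show List.finRange 5 = [0, 1, 2, 3, 4] from rfl, List.any_cons, List.any_nil]
    rcases x with _ | _ | _ | _ | _ | x <;> cases T 0 <;> cases T 1 <;> cases T 2 <;> cases T 3 <;> cases T 4 <;>
      simp_all
  | succ k ih =>
    intro b
    rw [countB, ih, ih]
    simp only [countB]
    cases T 0 <;> cases T 1 <;> cases T 2 <;> cases T 3 <;> cases T 4 <;> simp <;> omega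

theorem shape_count (T : Fin 5 → Bool) :
    countB (fun v => (List.finRange 5).any fun c => T c && (clsN v == c.1)) 12 0 =
      (if T 0 then 135 else 0) + (if T 1 then 1215 else 0) + (if T 2 then 243 else 0) +
      (if T 3 then 243 else 0) + (if T 4 then 243 else 0) := by
  have h := count_classes
  have h0 : countB (fun v => clsN v == 0) 12 0 = 135 := h 0
  have h1 : countB (fun v => clsN v == 1) 12 0 = 1215 := h 1
  have h2 : countB (fun v => clsN v == 2) 12 0 = 243 := h 2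
  have h3 : countB (fun v => clsN v == 3) 12 0 = 243 := h 3
  have h4 : countB (fun v => clsN v == 4) 12 0 = 243 := h 4
  rw [countB_split, h0, h1, h2, h3, h4]

theorem swap_ones : ∀ x y : Fin 6, monoC 0 (Equiv.swap x y) ⟨1365, by norm_num⟩ = ⟨1365, by norm_num⟩ := by
  decide +kernel

theorem perm_ones (σ : Equiv.Perm (Fin 6)) : monoC 0 σ ⟨1365, by norm_num⟩ = ⟨1365, by norm_num⟩ := by
  induction σ using Equiv.Perm.swap_induction_on with
  | one => exact monoC_one _
  | swap_mul f x y _ ih =>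
    have e := monoC_comp 0 0 (Equiv.swap x y) f ⟨1365, by norm_num⟩
    rw [ih, swap_ones] at e
    simp only [Pi.zero_apply, add_zero] at e
    exact e.symm

theorem logN_diag : ∀ a b c d e f : ZMod 3,
    suppN (monoC ![a, b, c, d, e, f] 1 ⟨1365, by norm_num⟩).1 = 1365 ∧
      ((logN (monoC ![a, b, c, d, e, f] 1 ⟨1365, by norm_num⟩).1 : ℕ) : ZMod 3) =
        a + b + c + d + e + f := by decide +kernel

theorem logN_mono (d : Fin 6 → ZMod 3) (σ : Equiv.Perm (Fin 6)) :
    suppN (monoC d σ ⟨1365, by norm_num⟩).1 = 1365 ∧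
      ((logN (monoC d σ ⟨1365, by norm_num⟩).1 : ℕ) : ZMod 3) = ∑ i, d i := by
  set d' : Fin 6 → ZMod 3 := fun i => d (σ.symm i) with hd'
  have e := monoC_comp d' 0 1 σ ⟨1365, by norm_num⟩
  rw [perm_ones, show (fun i => (0 : Fin 6 → ZMod 3) i + d' (σ i)) = d by funext i; simp [hd'], one_mul] at e
  rw [← e]
  have hd : d' = ![d' 0, d' 1, d' 2, d' 3, d' 4, d' 5] := by funext i; fin_cases i <;> rfl
  have hh := logN_diag (d' 0) (d' 1) (d' 2) (d' 3) (d' 4) (d' 5)
  rw [← hd] at hh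
  refine ⟨hh.1, hh.2.trans ?_⟩
  rw [← Fin.sum_univ_six d', hd']
  exact Equiv.sum_comp σ.symm d

end Cfsg.Agent.LargeFischer
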