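import Cfsg.Agent.Lib.LargeFischer.JOfT

/-!
# Local data at `z` of the candidate `E_{2^11}`

* `mem_syA2_of_fix`: an element of the image fixing `syV` pointwise lies in `syA2`.
* `GoodCoord.centralizer_aG`: `C_G(A) = A`.
* `GoodCoord.conj_aG_iff`: an element of `C(z)` normalises `A` iff its image stabilises `syV`.
-/

set_option autoImplicit false

namespace Cfsg.Agent.LargeFischer

open Subgroup

theorem perm_apply_inv (p : Equiv.Perm Cd) (v : Cd) : p (p⁻¹ v) = v := Equiv.apply_symm_apply p v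

theorem perm_inv_apply (p : Equiv.Perm Cd) (v : Cd) : p⁻¹ (p v) = v := Equiv.symm_apply_apply p v

/-- The polar form is additive. -/
theorem bN_add_left (a c b : Cd) : bN (xo a c).1 b.1 = (bN a.1 b.1 + bN c.1 b.1) % 2 := by
  have key : ∀ x y w : Fin 4, b2 (x.1 ^^^ y.1) w.1 % 2 = (b2 x.1 w.1 + b2 y.1 w.1) % 2 := by decide +kernel
  have k : ∀ i : ℕ, b2 (dig (xo a c).1 i) (dig b.1 i) % 2 =
      (b2 (dig a.1 i) (dig b.1 i) + b2 (dig c.1 i) (dig b.1 i)) % 2 := fun i => by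
    rw [xo_val, dig_xor]
    exact key ⟨_, dig_lt a.1 i⟩ ⟨_, dig_lt c.1 i⟩ ⟨_, dig_lt b.1 i⟩
  rw [bN_dig, bN_dig, bN_dig]
  have k0 := k 0; have k1 := k 1; have k2 := k 2; have k3 := k 3; have k4 := k 4; have k5 := k 5
  omega

/-- The fixer of `syV` in a group of symmetries. -/
def fixerV (I : Img) : Subgroup (Equiv.Perm Cd) := I.H ⊓ ⨅ v ∈ syV, fixP v

theorem mem_fixerV {I : Img} {p : Equiv.Perm Cd} : p ∈ fixerV I ↔ p ∈ I.H ∧ ∀ v ∈ syV, p v = v := by
  simp [fixerV, mem_iInf, mem_fixP]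

theorem fixerV_sq {I : Img} {p : Equiv.Perm Cd} (hp : p ∈ fixerV I) : p * p = 1 := by
  obtain ⟨hH, hfix⟩ := mem_fixerV.1 hp
  have hs := I.sym p hH
  refine Equiv.ext fun v => ?_
  have hd : xo (p v) v ∈ syV := by
    refine syV_perp fun b hb => ?_
    have h1 := hs.bN_eq v b
    rw [hfix b hb] at h1
    have e2 := bN_add_left (p v) v b
    have hb0 := syV_q hb
    generalize xo (p v) v = d at e2 ⊢
    rw [bN] at e2
    have h3 : qN (xo d b).1 < 2 := Nat.mod_lt _ two_pos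
    have h4 : qN d.1 < 2 := Nat.mod_lt _ two_pos
    rw [xo_val] at h3 ⊢
    omega
  have h := hfix _ hd
  rw [hs.add] at h
  show p (p v) = v
  calc p (p v) = xo (p (p v)) (xo (p v) (p v)) := by rw [xo_self, xo_zero]
    _ = xo (xo (p v) v) (p v) := by rw [← xo_assoc, h]
    _ = v := by rw [xo_comm (p v) v, xo_assoc, xo_self, xo_zero]

/-- An element of the image fixing `syV` pointwise is in `syA2`. -/
theorem mem_syA2_of_fix {I : Img} (hI : I.Good) {p : Equiv.Perm Cd} (hp : p ∈ I.H)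
    (hfix : ∀ v ∈ syV, p v = v) : p ∈ syA2 := by
  have : Fact (Nat.Prime 2) := ⟨Nat.prime_two⟩
  have hle : syA2 ≤ fixerV I := fun q hq =>
    mem_fixerV.2 ⟨syS_le hI (mem_syA2.1 hq).1, (mem_syA2.1 hq).2⟩
  have h16 : 16 ≤ Nat.card ↥(fixerV I) := card_syA2 ▸ Nat.le_of_dvd Nat.card_pos (card_dvd_of_le hle)
  have h2 : IsPGroup 2 ↥(fixerV I) := fun q => ⟨1, Subtype.ext (by
    rw [pow_one, pow_two]; exact fixerV_sq q.2)⟩
  have hS : IsPGroup 2 ↥(syS.subgroupOf I.H) := by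
    refine IsPGroup.of_card (n := 8) ?_
    rw [Nat.card_congr (subgroupOfEquivOfLe (syS_le hI)).toEquiv, card_syS]; norm_num
  let S : Sylow 2 ↥I.H := Sylow.ofCard (syS.subgroupOf I.H) (by
    rw [Nat.card_congr (subgroupOfEquivOfLe (syS_le hI)).toEquiv, card_syS, card_img,
      Nat.factorization_mul (by norm_num) (by norm_num), Finsupp.add_apply,
      Nat.Prime.factorization_pow Nat.prime_two, Finsupp.single_eq_same,
      Nat.factorization_eq_zero_of_not_dvd (by norm_num), add_zero]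
    norm_num)
  obtain ⟨T, hT⟩ := (h2.comap_subtype (H := fixerV I) (K := I.H)).exists_le_sylow
  obtain ⟨h, hh⟩ := MulAction.exists_smul_eq ↥I.H T S
  let e : Equiv.Perm Cd ≃* Equiv.Perm Cd := MulAut.conj (h : Equiv.Perm Cd)
  have hP : (fixerV I).map e.toMonoidHom ≤ syS := by
    rintro _ ⟨q, hq, rfl⟩
    have : (MulAut.conj h) ⟨q, (mem_fixerV.1 hq).1⟩ ∈ (S : Subgroup ↥I.H) := by
      rw [← hh, Sylow.coe_subgroup_smul]
      exact ⟨_, hT (mem_comap.2 hq), rfl⟩
    exact mem_subgroupOf.1 this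
  have hsq : ∀ q ∈ (fixerV I).map e.toMonoidHom, q * q = 1 := by
    rintro _ ⟨q, hq, rfl⟩
    rw [← map_mul, fixerV_sq hq, map_one]
  have hcard : Nat.card ↥((fixerV I).map e.toMonoidHom) = Nat.card ↥(fixerV I) :=
    card_map_of_injective e.injective
  have hfix64 : 64 ≤ (fixSet ((fixerV I).map e.toMonoidHom)).ncard := by
    rw [← syV_ncard, ← Set.ncard_image_of_injective syV (h : Equiv.Perm Cd).injective]
    refine Set.ncard_le_ncard ?_ (Set.toFinite _)
    rintro _ ⟨v, hv, rfl⟩ _ ⟨q, hq, rfl⟩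
    show (h : Equiv.Perm Cd) (q ((h : Equiv.Perm Cd)⁻¹ ((h : Equiv.Perm Cd) v))) = _
    rw [perm_inv_apply, (mem_fixerV.1 hq).2 v hv]
  rcases elementary_cases hP hsq (hcard ▸ h16) with heq | ⟨-, hf⟩
  · have : fixerV I = syA2 := (eq_of_le_of_card_ge hle (by rw [card_syA2, ← hcard, heq, card_syA2])).symm
    exact this ▸ mem_fixerV.2 ⟨hp, hfix⟩
  · omega

namespace GoodCoord

variable {G : Type*} [Group G] {z : G} {Q : Subgroup (Subgroup.centralizer ({z} : Set G))} [Q.Normal]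
  (K : GoodCoord z Q)

theorem mem_syV_of_wT {a : ↥(Subgroup.centralizer ({z} : Set G))} (ha : a ∈ Q) :
    a ∈ K.wT ↔ K.co ⟨a, ha⟩ ∈ syV := ⟨fun h => h.2, fun h => ⟨ha, h⟩⟩

variable [Finite G] (hF : IsOfLargeFischerTypeAt z Q)
include K hF

/-- `C_G(A) = A`. -/
theorem centralizer_aG : Subgroup.centralizer (K.aG : Set G) = K.aG := by
  refine le_antisymm (fun x hx => ?_) fun x hx => mem_centralizer_iff.2 fun y hy =>
    elementary_comm (K.core_facts hF).2.1 hy hx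
  have hxC := K.centralizer_aG_le hF hx
  refine ⟨⟨x, hxC⟩, mem_inf.2 ⟨?_, mem_centralizer_iff.2 fun w hw => Subtype.ext ?_⟩, rfl⟩
  · refine mem_comap.2 (mem_syA2_of_fix K.good (K.range_act ▸ MonoidHom.mem_range.2 ⟨_, rfl⟩) fun v hv => ?_)
    obtain ⟨q, rfl⟩ := K.co_surjective v
    refine K.act_fix (Subtype.ext ?_)
    have := mem_centralizer_iff.1 hx ((q : ↥(Subgroup.centralizer ({z} : Set G))) : G)
      ⟨q, K.wT_le_aT ((K.mem_syV_of_wT q.2).2 hv), rfl⟩
    show x * ((q : ↥(Subgroup.centralizer ({z} : Set G))) : G) * x⁻¹ = _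
    rw [← this, mul_inv_cancel_right]
  · exact mem_centralizer_iff.1 hx _ ⟨w, K.wT_le_aT hw, rfl⟩

/-- Normalising `A` inside `C(z)` is stabilising `syV`. -/
theorem conj_aG_iff (h : ↥(Subgroup.centralizer ({z} : Set G))) :
    (h : G) ∈ Subgroup.normalizer (K.aG : Set G) ↔ ∀ v, K.act h v ∈ syV ↔ v ∈ syV := by
  constructor
  · intro hn v
    have key : ∀ k : ↥(Subgroup.centralizer ({z} : Set G)), (k : G) ∈ Subgroup.normalizer (K.aG : Set G) →
        ∀ v ∈ syV, K.act k v ∈ syV := by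
      intro k hk v hv
      obtain ⟨q, rfl⟩ := K.co_surjective v
      have hqA : k * (q : ↥(Subgroup.centralizer ({z} : Set G))) * k⁻¹ ∈ K.aT := by
        obtain ⟨y, hy, hye⟩ := (mem_normalizer_iff.1 hk _).1
          (⟨q, K.wT_le_aT ((K.mem_syV_of_wT q.2).2 hv), rfl⟩ :
            ((q : ↥(Subgroup.centralizer ({z} : Set G))) : G) ∈ K.aG)
        rwa [show y = k * (q : ↥(Subgroup.centralizer ({z} : Set G))) * k⁻¹ from Subtype.ext hye] at hy
      have hqQ : k * (q : ↥(Subgroup.centralizer ({z} : Set G))) * k⁻¹ ∈ Q :=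
        (inferInstance : Q.Normal).conj_mem _ q.2 k
      rw [K.act_co]
      exact (K.mem_syV_of_wT hqQ).1 (K.aT_inf_Q ▸ mem_inf.2 ⟨hqA, hqQ⟩)
    refine ⟨fun hv => ?_, key h hn v⟩
    have := key h⁻¹ (by rw [Subgroup.coe_inv]; exact Subgroup.inv_mem _ hn) _ hv
    rwa [map_inv, perm_inv_apply] at this
  · intro hst
    have aux : ∀ k : ↥(Subgroup.centralizer ({z} : Set G)), (∀ v, K.act k v ∈ syV ↔ v ∈ syV) →
        ∀ y ∈ K.aG, (k : G) * y * (k : G)⁻¹ ∈ K.aG := by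
      rintro k hk _ ⟨a, ha, rfl⟩
      refine ⟨k * a * k⁻¹, K.aT_conj (fun p hp => ?_) (fun v hv => ?_) ha, rfl⟩
      · refine mem_syA2_of_fix K.good ?_ fun v hv => ?_
        · have hk' : K.act k ∈ K.I.H := K.range_act ▸ MonoidHom.mem_range.2 ⟨k, rfl⟩
          exact mul_mem (mul_mem hk' (syS_le K.good (mem_syA2.1 hp).1)) (inv_mem hk')
        · rw [Equiv.Perm.mul_apply, Equiv.Perm.mul_apply, (mem_syA2.1 hp).2 _ ((hk _).1 (by
            rw [perm_apply_inv]; exact hv)), perm_apply_inv]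
      · exact (hk _).1 (by rw [perm_apply_inv]; exact hv)
    refine mem_normalizer_iff.2 fun y => ⟨aux h hst y, fun hy => ?_⟩
    have := aux h⁻¹ (fun v => by rw [map_inv, ← hst, perm_apply_inv]) _ hy
    rw [Subgroup.coe_inv, inv_inv] at this
    have e : y = (h : G)⁻¹ * ((h : G) * y * (h : G)⁻¹) * h := by group
    exact e.symm ▸ this

end GoodCoord

end Cfsg.Agent.LargeFischer
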