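import Cfsg.Agent.Lib.LargeFischer.JStabData
import Cfsg.Agent.Lib.LargeFischer.JLocal
import Cfsg.Agent.Lib.LargeFischer.Count

/-!
# The stabiliser of the distinguished 3-space

`stV I` has order 34560 (`card_stV`) and two orbits on the nonzero codes of `syV`: the 45 outside the small
orbit (`orb_stV_big`) and the 18 inside (`orb_stV_small`).  `GoodCoord.card_normalizer_aG` is the order of
`N(A) ∩ C(z)`.
-/

set_option autoImplicit false
set_option maxRecDepth 100000

namespace Cfsg.Agent.LargeFischer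

open Subgroup

/-- The setwise stabiliser of `syV` among all permutations. -/
def setV : Subgroup (Equiv.Perm Cd) where
  carrier := {p | ∀ v, p v ∈ syV ↔ v ∈ syV}
  one_mem' := fun _ => Iff.rfl
  mul_mem' := fun {p q} hp hq v => (hp (q v)).trans (hq v)
  inv_mem' := fun {p} (hp : ∀ v, p v ∈ syV ↔ v ∈ syV) v => by rw [← hp, perm_apply_inv]

/-- The stabiliser of `syV` in the image. -/
def stV (I : Img) : Subgroup (Equiv.Perm Cd) := I.H ⊓ setV

theorem mem_stV {I : Img} {p : Equiv.Perm Cd} : p ∈ stV I ↔ p ∈ I.H ∧ ∀ v, p v ∈ syV ↔ v ∈ syV := Iff.rfl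

theorem mem_setV_of_forward {p : Equiv.Perm Cd} (h : ∀ v ∈ syV, p v ∈ syV) : p ∈ setV := by
  intro v
  refine ⟨fun hv => ?_, h v⟩
  have he : p '' syV = syV := Set.eq_of_subset_of_ncard_le (Set.image_subset_iff.2 h)
    (by rw [Set.ncard_image_of_injective _ p.injective]) (Set.toFinite _)
  rw [← he] at hv
  obtain ⟨w, hw, hwv⟩ := hv
  exact p.injective hwv ▸ hw

/-- A word mapping the basis into `syV` stabilises it. -/
theorem wordP_setV (w : List (Fin 8)) (h : syB.all (fun b => syWm.testBit (apL (wordL w) b)) = true) :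
    wordP w ∈ setV := by
  have hp := wordP_permOf w
  have hadd : IsAdd (wordP w) := isAdd_apL hp
  refine mem_setV_of_forward fun v hv => ?_
  refine syV_induction (T := {v | wordP w v ∈ syV}) (by show wordP w 0 ∈ syV; rw [hadd.zero]; exact syV_zero)
    (fun a ha b hb => by show wordP w (xo a b) ∈ syV; rw [hadd]; exact syV_xo ha hb) (fun b hb hbB => ?_) hv
  show syWm.testBit (wordP w ⟨b, hb⟩).1 = true
  rw [hp]
  exact List.all_eq_true.1 h b hbB

/-- The generating permutations. -/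
def jsG (k : Fin 6) : Equiv.Perm Cd := wordP (jsW.getD k.1 [])

theorem jsG_ok : ∀ k : Fin 6, syB.all (fun b => syWm.testBit (apL (wordL (jsW.getD k.1 [])) b)) = true ∧
    (jsW.getD k.1 []).length % 2 = 0 := by
  decide +kernel

theorem jsG_mem {I : Img} (hI : I.Good) (k : Fin 6) : jsG k ∈ stV I :=
  ⟨wordP_mem hI _ (Nat.even_iff.2 (jsG_ok k).2), wordP_setV _ (jsG_ok k).1⟩

theorem syG_ok : ∀ k : Fin 4, syB.all (fun b => syWm.testBit (apL (wordL (syG k)) b)) = true ∧
    apL (wordL (syG k)) 85 = 85 := by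
  decide +kernel

theorem syS_le_stV {I : Img} (hI : I.Good) : syS ≤ stV I ⊓ fixP 85 := by
  rw [syS, closure_le]
  rintro _ ⟨k, rfl⟩
  refine ⟨⟨syS_le hI (subset_closure ⟨k, rfl⟩), wordP_setV _ (syG_ok k).1⟩, ?_⟩
  exact Fin.ext ((wordP_permOf (syG k) 85).trans (syG_ok k).2)

theorem jsT_ok : syB.all (fun b => syWm.testBit (apL (wordL jsT) b)) = true ∧ jsT.length % 2 = 0 ∧
    apL (wordL jsT) 85 = 85 ∧ cmpL (wordL jsT) (cmpL (wordL jsT) (wordL jsT)) = idImg ∧
    difL (wordL jsT) idImg = true := by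
  decide +kernel

/-- The action of the generators on codes. -/
def fJ (k v : ℕ) : ℕ := apL (wordL (jsW.getD k [])) v

theorem jsG_val (k : Fin 6) (v : Cd) : (jsG k v).1 = fJ k.1 v.1 := wordP_permOf _ v

/-- The 45 codes. -/
def inBig (v : ℕ) : Bool := syWm.testBit v && (v != 0) && !inO 0 v

/-- The 18 codes. -/
def inSmall (v : ℕ) : Bool := syWm.testBit v && inO 0 v

theorem jsBig_ok : growN fJ 6 jsBig (1 <<< 85) = maskB inBig 12 0 := by decide +kernel

theorem jsSmall_ok : growN fJ 6 jsSmall (1 <<< jsRoot) = maskB inSmall 12 0 := by decide +kernel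

theorem jsRoot_eq : jsRoot = 5 := rfl

theorem count_big : countB inBig 12 0 = 45 ∧ countB inSmall 12 0 = 18 ∧ inBig 85 = true ∧ inSmall 5 = true ∧
    inBig 0 = false := by
  decide +kernel

theorem stV_inO {I : Img} (hI : I.Good) {p : Equiv.Perm Cd} (hp : p ∈ stV I) (v : Cd) :
    inBig (p v).1 = inBig v.1 ∧ inSmall (p v).1 = inSmall v.1 := by
  obtain ⟨hH, hV⟩ := mem_stV.1 hp
  have h1 : syWm.testBit (p v).1 = syWm.testBit v.1 := Bool.eq_iff_iff.2 (hV v)
  have h2 : ((p v).1 != 0) = (v.1 != 0) := by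
    rw [Bool.eq_iff_iff, bne_iff_ne, bne_iff_ne]
    refine not_congr ⟨fun e => ?_, fun e => ?_⟩
    · have e' : p v = p 0 := by rw [(I.sym p hH).add.zero]; exact Fin.ext e
      exact congrArg Fin.val (p.injective e')
    · rw [show v = 0 from Fin.ext e, (I.sym p hH).add.zero]; rfl
  simp only [inBig, inSmall, h1, h2, hI.inv_O p hH v, and_self]

/-- The stabiliser is transitive on the 45 codes outside the small orbit. -/
theorem orb_stV_big {I : Img} (hI : I.Good) : orb (stV I) 85 = {v | inBig v.1 = true} := by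
  refine Set.Subset.antisymm ?_ fun v hv => ?_
  · rintro w ⟨p, hp, rfl⟩
    exact ((stV_inO hI hp 85).1).trans count_big.2.2.1
  · exact orb_of_forest (g := jsG) (jsG_mem hI) jsG_val (r := 85) jsBig_ok hv

/-- The stabiliser is transitive on the 18 codes inside the small orbit. -/
theorem orb_stV_small {I : Img} (hI : I.Good) : orb (stV I) 5 = {v | inSmall v.1 = true} := by
  refine Set.Subset.antisymm ?_ fun v hv => ?_
  · rintro w ⟨p, hp, rfl⟩
    exact ((stV_inO hI hp 5).2).trans count_big.2.2.2.1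
  · exact orb_of_forest (g := jsG) (jsG_mem hI) jsG_val (r := 5) (jsRoot_eq ▸ jsSmall_ok) hv

/-- Generators of the image. -/
def jsH : Fin 7 → List (Fin 8) := fun k => if h : k.1 < 6 then [0, ⟨k.1 + 1, by omega⟩] else [7, 1]

/-- The `i`-th map. -/
def jsE (i : ℕ) : List ℕ := jsL.getD i []

theorem jsPar_ok : (List.range 567).all (fun i => (i == 0) ||
    (decide (jsPar.getD i 0 / 8 < i) && decide (jsPar.getD i 0 % 8 < 7) &&
      (cmpL (wordL (jsH (Fin.ofNat 7 (jsPar.getD i 0 % 8)))) (jsE (jsPar.getD i 0 / 8)) == jsE i))) = true ∧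
    jsE 0 = idImg := by
  decide +kernel

theorem jsH_even : ∀ k : Fin 7, (jsH k).length % 2 = 0 := by decide +kernel

theorem exists_jsE {I : Img} (hI : I.Good) (i : ℕ) (hi : i < 567) : ∃ p ∈ I.H, PermOf (jsE i) p := by
  induction i using Nat.strong_induction_on with
  | _ i ih =>
    rcases eq_or_ne i 0 with rfl | h0
    · exact ⟨1, I.H.one_mem, jsPar_ok.2 ▸ permOf_one⟩
    have h := List.all_eq_true.1 jsPar_ok.1 i (List.mem_range.2 hi)
    simp only [beq_iff_eq, h0, Bool.or_eq_true, false_or, Bool.and_eq_true, decide_eq_true_eq] at h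
    obtain ⟨⟨hlt, -⟩, he⟩ := h
    obtain ⟨p, hp, hpe⟩ := ih _ hlt (hlt.trans hi)
    exact ⟨wordP (jsH _) * p, I.H.mul_mem (wordP_mem hI _ (Nat.even_iff.2 (jsH_even _))) hp,
      he ▸ (wordP_permOf _).mul hpe⟩

/-- The bit set of a list. -/
def maskL : List ℕ → ℕ
  | [] => 0
  | v :: l => (1 <<< v) ||| maskL l

theorem maskL_bit : ∀ (l : List ℕ) (v : ℕ), (maskL l).testBit v = true ↔ v ∈ l := by
  intro l
  induction l with
  | nil => intro v; simp [maskL]
  | cons a l ih =>
    intro v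
    rw [maskL, Nat.testBit_or, Bool.or_eq_true, ih, Nat.one_shiftLeft, Nat.testBit_two_pow, decide_eq_true_eq,
      List.mem_cons, eq_comm]

/-- The translate of `syV`, as a mask. -/
def jsKey (l : List ℕ) : ℕ := maskL (syWl.map (apL l))

theorem jsKey_eq {l l' : List ℕ} {p q : Equiv.Perm Cd} (hl : PermOf l p) (hl' : PermOf l' q)
    (h : q⁻¹ * p ∈ setV) : jsKey l = jsKey l' := by
  refine Nat.eq_of_testBit_eq fun n => Bool.eq_iff_iff.2 ?_
  rw [jsKey, jsKey, maskL_bit, maskL_bit]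
  simp only [List.mem_map]
  have hw : ∀ a, a ∈ syWl → ∃ x : Cd, x ∈ syV ∧ x.1 = a := fun a ha => by
    rw [syWl, List.mem_filter, List.mem_range] at ha
    exact ⟨⟨a, ha.1⟩, ha.2, rfl⟩
  constructor
  · rintro ⟨a, ha, rfl⟩
    obtain ⟨x, hx, rfl⟩ := hw a ha
    refine ⟨_, mem_syVl ((h x).2 hx), ?_⟩
    rw [← hl', ← Equiv.Perm.mul_apply, ← mul_assoc, mul_inv_cancel, one_mul, hl]
  · rintro ⟨a, ha, rfl⟩
    obtain ⟨x, hx, rfl⟩ := hw a ha
    have hx' : (q⁻¹ * p)⁻¹ x ∈ syV := (setV.inv_mem h x).2 hx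
    refine ⟨_, mem_syVl hx', ?_⟩
    rw [← hl, ← Equiv.Perm.mul_apply, mul_inv_rev, inv_inv, ← mul_assoc, mul_inv_cancel, one_mul, hl']

theorem jsKey_dist : ((List.range 567).map fun i => jsKey (jsE i)).Nodup := by decide +kernel

/-- The stabiliser has order 34560. -/
theorem card_stV {I : Img} (hI : I.Good) : Nat.card ↥(stV I) = 34560 := by
  have hcard : Nat.card ↥I.H = 2 ^ 8 * 76545 := card_img I
  -- at least 567 cosets
  have h567 : 567 ≤ ((stV I).subgroupOf I.H).index := by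
    have hex := fun i : Fin 567 => exists_jsE hI i.1 i.2
    choose p hp hpe using hex
    let f : Fin 567 → ↥I.H ⧸ (stV I).subgroupOf I.H := fun i => QuotientGroup.mk ⟨p i, hp i⟩
    have hf : Function.Injective f := by
      intro i j e
      rw [QuotientGroup.eq, mem_subgroupOf] at e
      have hk : jsKey (jsE i.1) = jsKey (jsE j.1) := (jsKey_eq (hpe j) (hpe i) (mem_stV.1 e).2).symm
      have hd := List.nodup_iff_injective_getElem.1 jsKey_dist
      have := @hd ⟨i.1, by simp⟩ ⟨j.1, by simp⟩ (by simpa using hk)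
      exact Fin.ext (congrArg (fun u : Fin _ => u.1) this)
    have := Nat.card_le_card_of_injective f hf
    rwa [Nat.card_fin] at this
  have hle : Nat.card ↥(stV I) * 567 ≤ 2 ^ 8 * 76545 := by
    have h := ((stV I).subgroupOf I.H).card_mul_index
    rw [Nat.card_congr (subgroupOfEquivOfLe (show stV I ≤ I.H from inf_le_left)).toEquiv, hcard] at h
    rw [← h]
    exact Nat.mul_le_mul_left _ h567
  -- 45 * 768 divides the order
  have horb := card_eq_orb_mul (stV I) 85
  rw [orb_stV_big hI, show Nat.card ↥({v : Cd | inBig v.1 = true}) = 45 from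
    (card_cd inBig).trans count_big.1] at horb
  have h256 : 256 ∣ Nat.card ↥(stV I ⊓ fixP 85) := card_syS ▸ card_dvd_of_le (syS_le_stV hI)
  have h3 : 3 ∣ Nat.card ↥(stV I ⊓ fixP 85) := by
    have ht : wordP jsT ∈ stV I ⊓ fixP 85 :=
      ⟨⟨wordP_mem hI _ (Nat.even_iff.2 jsT_ok.2.1), wordP_setV _ jsT_ok.1⟩,
        Fin.ext ((wordP_permOf jsT 85).trans jsT_ok.2.2.1)⟩
    have hcube : wordP jsT * (wordP jsT * wordP jsT) = 1 :=
      PermOf.eq (jsT_ok.2.2.2.1 ▸ (wordP_permOf jsT).mul ((wordP_permOf jsT).mul (wordP_permOf jsT))) permOf_one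
    have hne : wordP jsT ≠ 1 := (wordP_permOf jsT).ne permOf_one jsT_ok.2.2.2.2
    have : Fact (Nat.Prime 3) := ⟨Nat.prime_three⟩
    have ho : orderOf (⟨_, ht⟩ : ↥(stV I ⊓ fixP 85)) = 3 :=
      orderOf_eq_prime (Subtype.ext (by rw [pow_three]; exact hcube)) fun e => hne (congrArg Subtype.val e)
    exact ho ▸ orderOf_dvd_natCard _
  have h768 : 768 ∣ Nat.card ↥(stV I ⊓ fixP 85) :=
    Nat.Coprime.mul_dvd_of_dvd_of_dvd (by norm_num : Nat.Coprime 256 3) h256 h3
  have hpos : 0 < Nat.card ↥(stV I ⊓ fixP 85) := Nat.card_pos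
  have := Nat.le_of_dvd hpos h768
  omega

namespace GoodCoord

variable {G : Type*} [Group G] {z : G} {Q : Subgroup (Subgroup.centralizer ({z} : Set G))} [Q.Normal]
  (K : GoodCoord z Q) [Finite G] (hF : IsOfLargeFischerTypeAt z Q)
include K hF

/-- `N(A) ∩ C(z)` is the preimage of the stabiliser. -/
theorem normalizer_aG_eq : (Subgroup.normalizer (K.aG : Set G)).subgroupOf (Subgroup.centralizer ({z} : Set G)) =
    (stV K.I).comap K.act := by
  ext h
  rw [mem_subgroupOf, K.conj_aG_iff hF, mem_comap, mem_stV]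
  exact ⟨fun e => ⟨K.range_act ▸ MonoidHom.mem_range.2 ⟨h, rfl⟩, e⟩, fun e => e.2⟩

/-- `|N(A) ∩ C(z)| = 2^11 * 138240`. -/
theorem card_normalizer_aG :
    Nat.card ↥(Subgroup.normalizer (K.aG : Set G) ⊓ Subgroup.centralizer ({z} : Set G)) = 2 ^ 11 * 138240 := by
  have h := card_map_mul_inf_ker K.act ((stV K.I).comap K.act)
  rw [map_comap_eq_self (by rw [K.range_act]; exact inf_le_left), card_stV K.good,
    inf_eq_right.2 (show K.act.ker ≤ (stV K.I).comap K.act from fun a ha => mem_comap.2 (by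
      rw [MonoidHom.mem_ker.1 ha]; exact (stV K.I).one_mem)), K.act_ker, hF.1.2.2.2.1,
    ← K.normalizer_aG_eq hF] at h
  rw [← inf_subgroupOf_right,
    Nat.card_congr (subgroupOfEquivOfLe (inf_le_right : Subgroup.normalizer (K.aG : Set G) ⊓
      Subgroup.centralizer ({z} : Set G) ≤ _)).toEquiv] at h
  omega

end GoodCoord

end Cfsg.Agent.LargeFischer
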