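import Cfsg.Agent.Lib.LargeFischer.LocalFacts
import Cfsg.Agent.Lib.LargeFischer.JStab
import Mathlib.GroupTheory.GroupAction.Quotient
import Mathlib.GroupTheory.Perm.Cycle.Type

/-!
# The centraliser of a four-group of codes `5, 10` is not in `C(z)`

`exists_centralizing_not_commute`: for `a`, `b` in `Q` with codes `5` and `10` some element commutes with
`a` and `b` and not with `z`.  Proof: the class `Ω` of `z` under `N(A)`, `A` the elementary group of
order `2 ^ 11`, has `91 + 240 j` elements, so `1771` as no larger prime acts on `A`; and the `1771 * 72`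
pairs `(n a, n b)` would be different, but `A` has at most `276` elements outside `Ω ∪ {1}`.
-/

set_option autoImplicit false
set_option maxRecDepth 100000

namespace Cfsg.Agent.LargeFischer

open Subgroup

namespace CentE

theorem code_ok : inO 0 5 = true ∧ inO 0 10 = true ∧ inO 0 15 = true ∧ qN 5 = 0 ∧ qN 10 = 0 ∧
    bN 5 10 = 0 ∧ syWm.testBit 5 = true ∧ syWm.testBit 10 = true ∧ wN 5 = 10 := by
  decide +kernel

theorem q_inO : ∀ v : Cd, inO 0 v.1 = true → qN v.1 = 0 ∧ v ≠ 0 := by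
  intro v h
  have := forall_cd (f := fun v => !inO 0 v || (qN v == 0 && v != 0)) (by decide +kernel) v
  simp only [h, Bool.not_true, Bool.false_or, Bool.and_eq_true, beq_iff_eq, bne_iff_ne] at this
  exact ⟨this.1, fun e => this.2 (congrArg Fin.val e)⟩

theorem fix_count : (List.range 15).all (fun r => decide (cntM 12 (fixMask (syI (syA.getD r 0))) ≤ 256)) = true := by
  decide +kernel

/-- Paths to the fifteen indices. -/
def pathR : ℕ → List (Fin 2)
  | 1 => [0] | 5 => [0, 0] | 11 => [0, 0, 0] | 4 => [0, 0, 0, 0] | 8 => [0, 1] | 10 => [0, 1, 0]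
  | 7 => [0, 1, 0, 0] | 13 => [0, 1, 0, 0, 0] | 6 => [0, 1, 0, 0, 0, 0]
  | 2 => [0, 0, 0, 0, 1] | 3 => [0, 0, 0, 0, 1, 0] | 14 => [0, 0, 0, 0, 1, 0, 0]
  | 9 => [0, 0, 0, 0, 1, 0, 0, 0] | 12 => [0, 0, 0, 0, 1, 0, 0, 0, 0]
  | _ => []

theorem pathR_ok : (List.range 15).all (fun r => (pathR r).foldl (fun s t => syNext t s) 0 == r) = true := by
  decide +kernel

theorem big_count : countB (fun v => inBig v || v == 0) 12 0 = 46 := by decide +kernel

theorem big_zero_or (v : Cd) (hv : syWm.testBit v.1 = true) (h0 : v ≠ 0) :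
    inBig v.1 = true ∨ inO 0 v.1 = true := by
  have hn : v.1 ≠ 0 := fun e => h0 (Fin.ext e)
  cases h : inO 0 v.1 <;> simp [inBig, hv, h, hn]

theorem big_q : ∀ v : Cd, inBig v.1 = true → qN v.1 = 0 ∧ inO 0 v.1 = false ∧ v ≠ 0 := by
  intro v h
  simp only [inBig, Bool.and_eq_true, Bool.not_eq_true', bne_iff_ne] at h
  exact ⟨syV_q (a := v) h.1.1, h.2, fun e => h.1.2 (congrArg Fin.val e)⟩

/-- The orders other than `1771` of the form `91 + 240 j` have a large prime factor. -/
theorem no_fix : ∀ r ∈ [13, 331, 571, 811, 1051, 1291, 1531, 2011],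
    ∀ f ≤ 11, 2 ^ 11 % r = 2 ^ f % r → f = 11 := by decide +kernel

section

variable {G : Type*} [Group G] [Finite G] {z : G} {Q : Subgroup (Subgroup.centralizer ({z} : Set G))}
  [Q.Normal] {K : GoodCoord z Q}

omit [Finite G] in
theorem aG_commute {x : G} (hx : x ∈ K.aG) : Commute x z := by
  obtain ⟨c, -, rfl⟩ := hx
  exact mem_centralizer_singleton_iff.1 c.2

omit [Finite G] in
theorem av_aG {x : G} (hx : x ∈ K.aG) : Loc.av K x ∈ syA2 := by
  obtain ⟨c, hc, rfl⟩ := hx
  show Loc.av K (c : G) ∈ syA2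
  rw [Loc.av_eq K (mem_centralizer_singleton_iff.1 c.2)]
  exact (mem_inf.1 hc).1

omit [Finite G] in
theorem mem_aG_of_code {x : G} (hx : x ∈ qG Q) (hv : Loc.cq K x ∈ syV) : x ∈ K.aG := by
  obtain ⟨q, rfl⟩ := Loc.mem_qG hx
  rw [Loc.cq_coe] at hv
  exact ⟨q, K.wT_le_aT ((K.mem_syV_of_wT q.2).2 hv), rfl⟩

omit [Finite G] in
theorem code_of_aG {x : G} (hx : x ∈ qG Q) (hA : x ∈ K.aG) : Loc.cq K x ∈ syV := by
  obtain ⟨q, rfl⟩ := Loc.mem_qG hx
  obtain ⟨c, hc, e⟩ := hA
  rw [Loc.cq_coe]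
  have e' : c = q := Subtype.ext e
  exact (K.mem_syV_of_wT q.2).1 (K.aT_inf_Q ▸ mem_inf.2 ⟨e' ▸ hc, q.2⟩)

variable (F : LFacts K)
include F

theorem not_conj_small {x : G} (hx : x ∈ qG Q) (h : inO 0 (Loc.cq K x).1 = true) : ¬ IsConj z x := by
  obtain ⟨q, rfl⟩ := Loc.mem_qG hx
  rw [Loc.cq_coe] at h
  intro hc
  have := (F.conjQ q (q_inO _ h).1 (q_inO _ h).2).1 hc
  simp [h] at this

theorem conj_big {x : G} (hx : x ∈ qG Q) (h : inBig (Loc.cq K x).1 = true) : IsConj z x := by
  obtain ⟨q, rfl⟩ := Loc.mem_qG hx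
  rw [Loc.cq_coe] at h
  obtain ⟨h1, h2, h3⟩ := big_q _ h
  exact (F.conjQ q h1 h3).2 h2

/-- The elements of `Q` with a given set of codes. -/
theorem ncard_code (f : ℕ → Bool) :
    Nat.card {x : G // x ∈ qG Q ∧ f (Loc.cq K x).1 = true} = 2 * countB f 12 0 := by
  classical
  have hQ := Loc.hub K F
  choose r hr hr' using Loc.exists_code K
  let e : {v : Cd // f v.1 = true} × Bool → {x : G // x ∈ qG Q ∧ f (Loc.cq K x).1 = true} := fun p =>
    if p.2 then ⟨r p.1.1 * z, mul_mem (hr _) hQ.mem, by rw [Loc.cq_mul_z K F (hr _), hr']; exact p.1.2⟩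
    else ⟨r p.1.1, hr _, by rw [hr']; exact p.1.2⟩
  have hb : Function.Bijective e := by
    constructor
    · rintro ⟨v, s⟩ ⟨w, t⟩ h
      have h' := congrArg Subtype.val h
      have hvw : v = w := Subtype.ext (by
        have := congrArg (Loc.cq K) h'
        cases s <;> cases t <;> simpa [e, Loc.cq_mul_z K F (hr _), hr'] using this)
      subst hvw
      cases s <;> cases t <;> simp only [e, Bool.false_eq_true, ↓reduceIte] at h' ⊢
      · exact absurd (mul_eq_left.1 h'.symm) hQ.ne_one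
      · exact absurd (mul_eq_left.1 h') hQ.ne_one
    · rintro ⟨a, ha, hfa⟩
      rcases Loc.rel_of_cq K F ha (hr (Loc.cq K a)) (hr' _).symm with h | h
      · exact ⟨(⟨Loc.cq K a, hfa⟩, false), Subtype.ext h.symm⟩
      · exact ⟨(⟨Loc.cq K a, hfa⟩, true), Subtype.ext h.symm⟩
  rw [← Nat.card_congr (Equiv.ofBijective e hb), Nat.card_prod, card_cd, Nat.card_eq_fintype_card,
    Fintype.card_bool, mul_comm]

/-- At most `2 ^ 9` elements of `Q` commute with an element of `A` outside `Q`. -/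
theorem card_cent_le {x : G} (hA : x ∈ K.aG) (hx : x ∉ qG Q) :
    Nat.card ↥((centralizer ({x} : Set G)).subgroupOf (qG Q)) ≤ 2 ^ 9 := by
  classical
  have hc := aG_commute hA
  rcases mem_syA2_cases (av_aG hA) with h1 | ⟨r, hr, hav⟩
  · exact absurd ((Loc.av_eq_one K hc).1 h1) hx
  set S : Set Cd := {v | aP r v = v}
  have hS : S.ncard ≤ 256 := by
    refine (ncard_le_cntM (m := fixMask (syI (syA.getD r 0))) fun v hv => fixMask_bit v.2 ?_).trans ?_
    · rw [← (eI_spec (syA_lt hr).1).2 v]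
      exact congrArg Fin.val hv
    exact of_decide_eq_true (List.all_eq_true.1 fix_count r (List.mem_range.2 hr))
  choose rep hrep hrep' using Loc.exists_code K
  have hfix : ∀ q : ↥((centralizer ({x} : Set G)).subgroupOf (qG Q)), Loc.cq K ((q.1 : G)) ∈ S := by
    intro q
    have hq := mem_centralizer_singleton_iff.1 (mem_subgroupOf.1 q.2)
    show aP r _ = _
    rw [← hav, ← Loc.cq_conj K hc q.1.2, show x * (q.1 : G) * x⁻¹ = q.1 by
      rw [← hq, mul_inv_cancel_right]]
  let φ : ↥((centralizer ({x} : Set G)).subgroupOf (qG Q)) → ↥S × Bool := fun q =>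
    (⟨_, hfix q⟩, decide ((q.1 : G) = rep (Loc.cq K (q.1 : G))))
  have hφ : Function.Injective φ := by
    intro p q h
    have e : Loc.cq K (p.1 : G) = Loc.cq K (q.1 : G) := congrArg Subtype.val (congrArg Prod.fst h)
    have hb := congrArg Prod.snd h
    simp only [φ, decide_eq_decide] at hb
    refine Subtype.ext (Subtype.ext ?_)
    rcases Loc.rel_of_cq K F p.1.2 q.1.2 e with h' | h'
    · exact h'
    exfalso
    rcases Loc.rel_of_cq K F p.1.2 (hrep (Loc.cq K (p.1 : G))) (hrep' _).symm with hp | hp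
    · have hq := hb.1 hp
      rw [hp, hq, e] at h'
      exact (Loc.hub K F).ne_one (mul_eq_left.1 h'.symm)
    · rw [hp, e] at h'
      have hpq : (q.1 : G) = rep (Loc.cq K (q.1 : G)) := (mul_right_cancel h').symm
      have := hb.2 hpq
      exact (Loc.hub K F).ne_one (mul_eq_left.1 (hp.symm.trans this))
  have := Nat.card_le_card_of_injective φ hφ
  rw [Nat.card_prod, Nat.card_coe_set_eq, Nat.card_eq_fintype_card (α := Bool), Fintype.card_bool] at this
  omega

end

variable {G : Type*} [Group G] [Finite G] {z : G} {Q : Subgroup (Subgroup.centralizer ({z} : Set G))}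
  [Q.Normal] {K : GoodCoord z Q} (hF : IsOfLargeFischerTypeAt z Q)

/-- The class of `z` under `N(A)`. -/
def omegaSet (K : GoodCoord z Q) : Set G :=
  {x | ∃ n ∈ Subgroup.normalizer (K.aG : Set G), n * z * n⁻¹ = x}

include hF

theorem omega_mem {x : G} (hx : x ∈ omegaSet K) : x ∈ K.aG ∧ x ≠ 1 ∧ IsConj z x := by
  obtain ⟨n, hn, rfl⟩ := hx
  refine ⟨(mem_normalizer_iff.1 hn z).1 (K.core_facts hF).2.2.2.1, ?_, isConj_iff.2 ⟨n, rfl⟩⟩
  exact fun e => GoodCoord.ne_one hF (conj_eq_one_iff.1 e)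

theorem omega_conj {m x : G} (hm : m ∈ Subgroup.normalizer (K.aG : Set G)) (hx : x ∈ omegaSet K) :
    m * x * m⁻¹ ∈ omegaSet K := by
  obtain ⟨n, hn, rfl⟩ := hx
  exact ⟨m * n, mul_mem hm hn, by group⟩

theorem omega_of_conj {x : G} (hx : x ∈ K.aG) (h : IsConj z x) : x ∈ omegaSet K := by
  obtain ⟨g, rfl⟩ := isConj_iff.1 h
  obtain ⟨hle, hel, hc, hzA, -⟩ := K.core_facts hF
  exact K.control_fusion hF hel hc hzA hx

theorem qG_normalizes {q : G} (hq : q ∈ qG Q) : q ∈ Subgroup.normalizer (K.aG : Set G) := by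
  obtain ⟨c, hc, rfl⟩ := hq
  refine (K.conj_aG_iff hF c).2 fun v => ?_
  rw [(K.mem_Q_iff c).1 hc]
  rfl

theorem exists_norm {p : Equiv.Perm Cd} (hp : p ∈ stV K.I) :
    ∀ c, Commute c z → Loc.av K c = p → c ∈ Subgroup.normalizer (K.aG : Set G) := by
  intro c hc e
  refine (K.conj_aG_iff hF ⟨c, Loc.memC hc⟩).2 fun v => ?_
  rw [← Loc.av_eq K hc, e]
  exact (mem_stV.1 hp).2 v

/-- `Ω` has 91 elements in `Q`. -/
theorem card_omega_in : Nat.card {x : G // x ∈ omegaSet K ∧ x ∈ qG Q} = 91 := by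
  classical
  have F := lfacts_of_type hF K
  have hQ := Loc.hub K F
  have h := ncard_code F (fun v => inBig v || v == 0)
  rw [big_count] at h
  let S := {x : G // x ∈ qG Q ∧ (fun v => inBig v || v == 0) (Loc.cq K x).1 = true}
  let e : Option {x : G // x ∈ omegaSet K ∧ x ∈ qG Q} → S
    | none => ⟨1, one_mem _, by simp [Loc.cq_one K]⟩
    | some ⟨x, hx, hxQ⟩ => ⟨x, hxQ, by
        obtain ⟨hA, h1, hconj⟩ := omega_mem hF hx
        by_cases h0 : Loc.cq K x = 0
        · simp [h0]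
        · rcases big_zero_or _ (code_of_aG hxQ hA) h0 with hb | hO
          · simp [hb]
          · exact absurd hconj (not_conj_small F hxQ hO)⟩
  have hb : Function.Bijective e := by
    constructor
    · rintro (_ | ⟨x, hx, hxQ⟩) (_ | ⟨y, hy, hyQ⟩) he
      · rfl
      · exact absurd (congrArg Subtype.val he).symm (omega_mem hF hy).2.1
      · exact absurd (congrArg Subtype.val he) (omega_mem hF hx).2.1
      · have := congrArg Subtype.val he
        simp only [e] at this
        simp [this]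
    · rintro ⟨x, hxQ, hx⟩
      by_cases h1 : x = 1
      · exact ⟨none, Subtype.ext h1.symm⟩
      simp only [Bool.or_eq_true, beq_iff_eq] at hx
      refine ⟨some ⟨x, ?_, hxQ⟩, rfl⟩
      rcases hx with hb | h0
      · refine omega_of_conj hF (mem_aG_of_code hxQ ?_) (conj_big F hxQ hb)
        simp only [inBig, Bool.and_eq_true] at hb
        exact hb.1.1
      · rcases (Loc.cq_zero_iff K hxQ).1 (Fin.ext h0) with e | e
        · exact absurd e h1
        · exact ⟨1, one_mem _, by rw [e]; group⟩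
  have hc := Nat.card_congr (Equiv.ofBijective e hb)
  rw [Finite.card_option, h] at hc
  omega

/-- An invariant subset of `A`. -/
def IsAClass (K : GoodCoord z Q) (S : Set G) : Prop :=
  S ⊆ (K.aG : Set G) ∧ ∀ m ∈ Subgroup.normalizer (K.aG : Set G), ∀ x ∈ S, m * x * m⁻¹ ∈ S

theorem isAClass_omega : IsAClass K (omegaSet K) :=
  ⟨fun _ hx => (omega_mem hF hx).1, fun _ hm _ hx => omega_conj hF hm hx⟩

/-- The number of elements outside `Q` of a class of `N(A)` in `A` is a multiple of 16. -/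
theorem sixteen_dvd {S : Set G} (hS : IsAClass K S) : 16 ∣ Nat.card {x : G // x ∈ S ∧ x ∉ qG Q} := by
  classical
  have F := lfacts_of_type hF K
  have hQ := Loc.hub K F
  have hcl : ∀ q ∈ qG Q, ∀ x, x ∈ S ∧ x ∉ qG Q → q * x * q⁻¹ ∈ S ∧ q * x * q⁻¹ ∉ qG Q := by
    intro q hq x hx
    refine ⟨hS.2 _ (qG_normalizes hF hq) _ hx.1, fun h => hx.2 ?_⟩
    have := mul_mem (mul_mem (inv_mem hq) h) hq
    simpa [mul_assoc] using this
  let _ : MulAction ↥(qG Q) {x : G // x ∈ S ∧ x ∉ qG Q} :=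
    { smul := fun q x => ⟨(q : G) * x.1 * (q : G)⁻¹, hcl q q.2 x.1 x.2⟩
      one_smul := fun x => Subtype.ext (show (1 : G) * x.1 * 1⁻¹ = x.1 by group)
      mul_smul := fun p q x => Subtype.ext (show ((p : G) * q) * x.1 * ((p : G) * q)⁻¹ =
        (p : G) * ((q : G) * x.1 * (q : G)⁻¹) * (p : G)⁻¹ by group) }
  have : Fintype (MulAction.orbitRel.Quotient ↥(qG Q) {x : G // x ∈ S ∧ x ∉ qG Q}) := Fintype.ofFinite _
  rw [Nat.card_congr (MulAction.selfEquivSigmaOrbits ↥(qG Q) {x : G // x ∈ S ∧ x ∉ qG Q})]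
  rw [Nat.card_sigma]
  refine Finset.dvd_sum fun ω _ => ?_
  rw [Nat.card_congr (MulAction.orbitEquivQuotientStabilizer ↥(qG Q) ω.out)]
  have hst : MulAction.stabilizer ↥(qG Q) ω.out = (centralizer ({ω.out.1} : Set G)).subgroupOf (qG Q) := by
    ext q
    rw [MulAction.mem_stabilizer_iff, mem_subgroupOf, mem_centralizer_singleton_iff, Subtype.ext_iff]
    exact mul_inv_eq_iff_eq_mul
  rw [hst]
  have h := card_eq_card_quotient_mul_card_subgroup ((centralizer ({ω.out.1} : Set G)).subgroupOf (qG Q))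
  rw [(qFacts_of_type hF).card] at h
  have h9 := card_cent_le F (hS.1 ω.out.2.1) ω.out.2.2
  obtain ⟨k, hk, hke⟩ := (Nat.dvd_prime_pow Nat.prime_two).1 (Dvd.intro _ h.symm)
  rw [hke]
  refine pow_dvd_pow 2 (show 4 ≤ k from ?_)
  rw [hke] at h
  by_contra hlt
  have : 2 ^ k ≤ 2 ^ 3 := Nat.pow_le_pow_right (by norm_num) (by omega)
  nlinarith [Nat.mul_le_mul this h9]

/-- The number of elements outside `Q` of a class of `N(A)` in `A` is a multiple of 15. -/
theorem fifteen_dvd {S : Set G} (hS : IsAClass K S) : 15 ∣ Nat.card {x : G // x ∈ S ∧ x ∉ qG Q} := by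
  classical
  let Fr : ℕ → Type _ := fun r => {x : G // x ∈ S ∧ Loc.av K x = aP r}
  have hcast : ∀ {x : G}, x ∈ S → Commute x z := fun hx => aG_commute (hS.1 hx)
  have hnext : ∀ (t : Fin 2) (r : ℕ), r < 15 → Nat.card (Fr r) = Nat.card (Fr (syNext t r)) := by
    intro t r hr
    obtain ⟨c, hc, hcp⟩ := Loc.exists_av K (syU_mem K.good t)
    have hst : syU' t ∈ stV K.I := mem_stV.2 ⟨syU_mem K.good t, fun v => ⟨fun hv => by
      have := (syU_syV t hv).2; rwa [perm_inv_apply] at this, fun hv => (syU_syV t hv).1⟩⟩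
    have hcN := exists_norm hF hst c hc hcp
    refine Nat.card_congr ⟨fun x => ⟨c * x.1 * c⁻¹, hS.2 _ hcN _ x.2.1, ?_⟩,
      fun x => ⟨c⁻¹ * x.1 * c, by simpa using hS.2 _ (inv_mem hcN) _ x.2.1, ?_⟩,
      fun x => Subtype.ext (by group), fun x => Subtype.ext (by group)⟩
    · rw [Loc.av_mul K (hc.mul_left (hcast x.2.1)) hc.inv_left, Loc.av_mul K hc (hcast x.2.1), x.2.2,
        Loc.av_inv K hc, hcp]
      exact (syU_conj t hr).2
    · rw [Loc.av_mul K (hc.inv_left.mul_left (hcast x.2.1)) hc, Loc.av_mul K hc.inv_left (hcast x.2.1),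
        x.2.2, Loc.av_inv K hc, hcp, ← (syU_conj t hr).2]
      group
  have hfold : ∀ (w : List (Fin 2)) (s : ℕ), s < 15 →
      w.foldl (fun s t => syNext t s) s < 15 ∧ Nat.card (Fr (w.foldl (fun s t => syNext t s) s)) = Nat.card (Fr s) := by
    intro w
    induction w with
    | nil => exact fun s hs => ⟨hs, rfl⟩
    | cons t w ih => exact fun s hs => ⟨(ih _ (syU_conj t hs).1).1,
        (ih _ (syU_conj t hs).1).2.trans (hnext t s hs).symm⟩
  have hall : ∀ r : Fin 15, Nat.card (Fr r.1) = Nat.card (Fr 0) := fun r => by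
    have e := List.all_eq_true.1 pathR_ok r.1 (List.mem_range.2 r.2)
    rw [beq_iff_eq] at e
    have := (hfold (pathR r.1) 0 (by norm_num)).2
    rwa [e] at this
  let f : (Σ r : Fin 15, Fr r.1) → {x : G // x ∈ S ∧ x ∉ qG Q} := fun x => ⟨x.2.1, x.2.2.1, fun hQ =>
    aP_ne_one x.1.2 (x.2.2.2 ▸ (Loc.av_eq_one K (hcast x.2.2.1)).2 hQ)⟩
  have hb : Function.Bijective f := by
    constructor
    · rintro ⟨r, x, hx, hxr⟩ ⟨r', y, hy, hyr⟩ e
      obtain rfl : x = y := congrArg Subtype.val e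
      obtain rfl : r = r' := Fin.ext (aP_inj r.2 r'.2 (hxr.symm.trans hyr))
      rfl
    · rintro ⟨x, hx, hxQ⟩
      rcases mem_syA2_cases (av_aG (hS.1 hx)) with h1 | ⟨r, hr, e⟩
      · exact absurd ((Loc.av_eq_one K (hcast hx)).1 h1) hxQ
      · exact ⟨⟨⟨r, hr⟩, x, hx, e⟩, rfl⟩
  rw [← Nat.card_congr (Equiv.ofBijective f hb), Nat.card_sigma, Finset.sum_congr rfl fun r _ => hall r,
    Finset.sum_const, Finset.card_univ, Fintype.card_fin, smul_eq_mul]
  exact dvd_mul_right 15 _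

/-- `Ω` has 1771 elements. -/
theorem card_omega : Nat.card (omegaSet K) = 1771 := by
  classical
  obtain ⟨-, hel, hcA, -, -, -⟩ := K.core_facts hF
  have hsplit : Nat.card (omegaSet K) = 91 + Nat.card {x : G // x ∈ omegaSet K ∧ x ∉ qG Q} := by
    rw [← card_omega_in hF (K := K), ← Nat.card_congr (Equiv.sumCompl fun x : omegaSet K => x.1 ∈ qG Q),
      Nat.card_sum]
    exact congrArg₂ (· + ·) (Nat.card_congr (Equiv.subtypeSubtypeEquivSubtypeInter _ _))
      (Nat.card_congr (Equiv.subtypeSubtypeEquivSubtypeInter _ fun x => x ∉ qG Q))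
  obtain ⟨j, hj⟩ : 240 ∣ Nat.card {x : G // x ∈ omegaSet K ∧ x ∉ qG Q} :=
    Nat.Coprime.mul_dvd_of_dvd_of_dvd (by norm_num : Nat.Coprime 16 15) (sixteen_dvd hF (isAClass_omega hF)) (fifteen_dvd hF (isAClass_omega hF))
  have hle : Nat.card (omegaSet K) ≤ 2 ^ 11 :=
    hcA ▸ Nat.card_le_card_of_injective (fun x => (⟨x.1, (omega_mem hF x.2).1⟩ : ↥K.aG))
      fun x y e => Subtype.ext (congrArg Subtype.val e :)
  -- `Ω` is an orbit
  set N := Subgroup.normalizer (K.aG : Set G)
  let _ : MulAction ↥N G := MulAction.compHom G (ConjAct.toConjAct.toMonoidHom.comp N.subtype)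
  have hsm : ∀ (n : ↥N) (x : G), n • x = (n : G) * x * (n : G)⁻¹ := fun n x => rfl
  have horb : MulAction.orbit ↥N z = omegaSet K := by
    ext x
    simp only [MulAction.mem_orbit_iff, hsm, omegaSet, Set.mem_ofPred_eq, Subtype.exists, exists_prop]
    rfl
  have hdvd : Nat.card (omegaSet K) ∣ Nat.card ↥N := by
    rw [← horb, Nat.card_congr (MulAction.orbitEquivQuotientStabilizer ↥N z)]
    exact card_quotient_dvd_card _
  -- a prime acting without large fixed subgroup
  have hprime : ∀ r, r ∈ [13, 331, 571, 811, 1051, 1291, 1531, 2011] → r.Prime → ¬ r ∣ Nat.card (omegaSet K) := by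
    intro r hr hrp hdiv
    have : Fact r.Prime := ⟨hrp⟩
    obtain ⟨g, hg⟩ := exists_prime_orderOf_dvd_card' r (hdiv.trans hdvd)
    have hP : IsPGroup r ↥(zpowers g) := IsPGroup.of_card (n := 1) (by rw [Nat.card_zpowers, hg, pow_one])
    let _ : MulAction ↥(zpowers g) ↥K.aG :=
      { smul := fun n x => ⟨((n : ↥N) : G) * x.1 * ((n : ↥N) : G)⁻¹, (mem_normalizer_iff.1 (n : ↥N).2 _).1 x.2⟩
        one_smul := fun x => Subtype.ext (show (1 : G) * x.1 * 1⁻¹ = x.1 by group)
        mul_smul := fun p q x => Subtype.ext (show (((p : ↥N) : G) * ((q : ↥N) : G)) * x.1 *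
          (((p : ↥N) : G) * ((q : ↥N) : G))⁻¹ =
          ((p : ↥N) : G) * (((q : ↥N) : G) * x.1 * ((q : ↥N) : G)⁻¹) * ((p : ↥N) : G)⁻¹ by group) }
    have hm := hP.card_modEq_card_fixedPoints ↥K.aG
    let C : Subgroup ↥K.aG :=
      (centralizer ((fun n : ↥(zpowers g) => ((n : ↥N) : G)) '' Set.univ)).subgroupOf K.aG
    have hfix : Nat.card (MulAction.fixedPoints ↥(zpowers g) ↥K.aG) = Nat.card C := by
      refine Nat.card_congr (Equiv.subtypeEquivRight fun x => ?_)
      simp only [C, MulAction.mem_fixedPoints, mem_subgroupOf, mem_centralizer_iff, Set.mem_image,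
        Set.mem_univ, true_and, forall_exists_index, forall_apply_eq_imp_iff, Subtype.ext_iff]
      exact forall_congr' fun n => mul_inv_eq_iff_eq_mul
    have hd : Nat.card C ∣ 2 ^ 11 := hcA ▸ card_subgroup_dvd_card C
    obtain ⟨f, hf, hfe⟩ := (Nat.dvd_prime_pow Nat.prime_two).1 hd
    rw [hfix, hfe, hcA] at hm
    have hC : C = ⊤ := eq_top_of_card_eq _ (by rw [hfe, hcA, no_fix r hr f hf hm])
    have hgA : ((g : ↥N) : G) ∈ K.aG := by
      rw [← K.centralizer_aG hF]
      refine mem_centralizer_iff.2 fun x hx => ?_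
      have : (⟨x, hx⟩ : ↥K.aG) ∈ C := hC ▸ mem_top _
      exact (mem_centralizer_iff.1 (mem_subgroupOf.1 this) _ ⟨⟨g, mem_zpowers g⟩, trivial, rfl⟩).symm
    have h2 : ((g : ↥N) : G) ^ 2 = 1 := hel.2 _ hgA
    have : orderOf g ∣ 2 := orderOf_dvd_of_pow_eq_one (Subtype.ext h2)
    rw [hg] at this
    have := Nat.le_of_dvd (by norm_num) this
    have := hrp.two_le
    revert hr
    interval_cases r
    decide
  have hj8 : j ≤ 8 := by omega
  interval_cases j
  · exact absurd (by rw [hsplit, hj]; norm_num) (hprime 13 (by decide) (by norm_num))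
  · exact absurd (by rw [hsplit, hj]) (hprime 331 (by decide) (by norm_num))
  · exact absurd (by rw [hsplit, hj]) (hprime 571 (by decide) (by norm_num))
  · exact absurd (by rw [hsplit, hj]) (hprime 811 (by decide) (by norm_num))
  · exact absurd (by rw [hsplit, hj]) (hprime 1051 (by decide) (by norm_num))
  · exact absurd (by rw [hsplit, hj]) (hprime 1291 (by decide) (by norm_num))
  · exact absurd (by rw [hsplit, hj]) (hprime 1531 (by decide) (by norm_num))
  · omega
  · exact absurd (by rw [hsplit, hj]) (hprime 2011 (by decide) (by norm_num))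

/-- Some element centralising `a` and `b` does not commute with `z`. -/
theorem exists_centralizing_not_commute {a b : G} (ha : a ∈ qG Q) (hb : b ∈ qG Q)
    (ea : Loc.cq K a = 5) (eb : Loc.cq K b = 10) : ∃ g, Commute g a ∧ Commute g b ∧ ¬ Commute g z := by
  classical
  by_contra hno
  push Not at hno
  have F := lfacts_of_type hF K
  have hQ := Loc.hub K F
  obtain ⟨h5, h10, -, q5, q10, -, v5, v10, hw⟩ := code_ok
  have haA : a ∈ K.aG := mem_aG_of_code ha (by rw [ea]; exact v5)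
  have hbA : b ∈ K.aG := mem_aG_of_code hb (by rw [eb]; exact v10)
  let P := {x : G // x ∈ K.aG ∧ x ≠ 1 ∧ x ∉ omegaSet K}
  have hP : Nat.card P ≤ 276 := by
    let f : Option ↥(omegaSet K) ⊕ P → ↥K.aG :=
      Sum.elim (fun o => o.elim 1 fun x => ⟨x.1, (omega_mem hF x.2).1⟩) fun x => ⟨x.1, x.2.1⟩
    have hf : Function.Injective f := by
      rintro ((_ | x) | x) ((_ | y) | y) e <;> replace e := congrArg Subtype.val e <;>
        simp only [f, Sum.elim_inl, Sum.elim_inr, Option.elim_none, Option.elim_some, OneMemClass.coe_one] at e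
      · rfl
      · exact absurd e.symm (omega_mem hF y.2).2.1
      · exact absurd e.symm y.2.2.1
      · exact absurd e (omega_mem hF x.2).2.1
      · rw [Subtype.ext e]
      · exact absurd (e ▸ x.2) y.2.2.2
      · exact absurd e x.2.2.1
      · exact absurd (e ▸ y.2) x.2.2.2
      · rw [Subtype.ext e]
    have := Nat.card_le_card_of_injective f hf
    rw [Nat.card_sum, Finite.card_option, card_omega hF, (K.core_facts hF).2.2.1] at this
    omega
  have hPmem : ∀ n ∈ Subgroup.normalizer (K.aG : Set G), ∀ x ∈ qG Q, x ∈ K.aG →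
      inO 0 (Loc.cq K x).1 = true → n * x * n⁻¹ ∈ K.aG ∧ n * x * n⁻¹ ≠ 1 ∧ n * x * n⁻¹ ∉ omegaSet K := by
    intro n hn x hx hxA hO
    refine ⟨(mem_normalizer_iff.1 hn x).1 hxA, fun e => ?_, fun e => ?_⟩
    · have : x = 1 := conj_eq_one_iff.1 e
      rw [this, Loc.cq_one K] at hO
      exact absurd hO (by decide)
    · exact not_conj_small F hx hO ((omega_mem hF e).2.2.trans (isConj_iff.2 ⟨n⁻¹, by group⟩))
  -- the 72 images of the pair under `N(A) ∩ C(z)`
  have hpair : ∀ t : {v : Cd // inSmall v.1 = true}, ∃ c, Commute c z ∧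
      c ∈ Subgroup.normalizer (K.aG : Set G) ∧ Loc.cq K (c * a * c⁻¹) = t.1 := by
    intro t
    have hv : t.1 ∈ orb (stV K.I) 5 := by rw [orb_stV_small K.good]; exact t.2
    obtain ⟨p, hp, hpe⟩ := hv
    obtain ⟨c, hc, hcp⟩ := Loc.exists_av K (mem_stV.1 hp).1
    exact ⟨c, hc, exists_norm hF hp c hc hcp, by rw [Loc.cq_conj K hc ha, ea, hcp, hpe]⟩
  choose c0 hc0 hc0N hc0a using hpair
  have hsign : ∀ t : {v : Cd // inSmall v.1 = true} × Bool × Bool,
      ∃ q ∈ qG Q, ∃ u u', q * (c0 t.1 * a * (c0 t.1)⁻¹) * q⁻¹ = u ∧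
      q * (c0 t.1 * b * (c0 t.1)⁻¹) * q⁻¹ = u' ∧
      u = (if t.2.1 then c0 t.1 * a * (c0 t.1)⁻¹
        else c0 t.1 * a * (c0 t.1)⁻¹ * z) ∧
      u' = (if t.2.2 then c0 t.1 * b * (c0 t.1)⁻¹
        else c0 t.1 * b * (c0 t.1)⁻¹ * z) := by
    intro t
    set c := c0 t.1 with hc_def
    have hc := hc0 t.1
    have m1 : c * a * c⁻¹ ∈ qG Q := Loc.qG_normal hc ha
    have m2 : c * b * c⁻¹ ∈ qG Q := Loc.qG_normal hc hb
    have hs : IsSym (Loc.av K c) := Loc.av_sym K hc
    have e1 : Loc.cq K (c * a * c⁻¹) = Loc.av K c 5 := by rw [Loc.cq_conj K hc ha, ea]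
    have e2 : Loc.cq K (c * b * c⁻¹) = Loc.av K c 10 := by rw [Loc.cq_conj K hc hb, eb]
    have n5 : Loc.av K c 5 ≠ 0 := fun e => absurd ((Loc.av K c).injective (e.trans hs.add.zero.symm))
      (by decide)
    have n10 : Loc.av K c 10 ≠ 0 := fun e => absurd ((Loc.av K c).injective (e.trans hs.add.zero.symm))
      (by decide)
    have nd : Loc.av K c 5 ≠ Loc.av K c 10 := fun e => absurd ((Loc.av K c).injective e) (by decide)
    obtain ⟨q, hq, q1, q2⟩ := Loc.exists_fix_two hQ m1 m2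
      ((Loc.cq_sq K m1).2 (by rw [e1, hs.q]; exact q5)) ((Loc.cq_sq K m2).2 (by rw [e2, hs.q]; exact q10))
      (fun e => n5 (by rw [← e1, e, Loc.cq_one K])) (fun e => n5 (by rw [← e1, e, Loc.cq_z K F]))
      (fun e => n10 (by rw [← e2, e, Loc.cq_one K])) (fun e => n10 (by rw [← e2, e, Loc.cq_z K F]))
      (fun e => nd (by rw [← e1, ← e2, e]))
      (fun e => nd (by rw [← e1, ← e2, e, Loc.cq_mul K hQ.mem m1, Loc.cq_z K F, xo_comm, xo_zero]))
      (a' := if t.2.1 then c * a * c⁻¹ else c * a * c⁻¹ * z)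
      (b' := if t.2.2 then c * b * c⁻¹ else c * b * c⁻¹ * z)
      (by cases t.2.1 <;> simp) (by cases t.2.2 <;> simp)
    exact ⟨q, hq, _, _, q1, q2, rfl, rfl⟩
  choose q hq u u' hu hu' hue hue' using hsign
  let h : {v : Cd // inSmall v.1 = true} × Bool × Bool → G := fun t => q t * c0 t.1
  have hhz : ∀ t, Commute (h t) z := fun t => (hQ.central _ (hq t)).mul_left (hc0 _)
  have hhN : ∀ t, h t ∈ Subgroup.normalizer (K.aG : Set G) := fun t =>
    mul_mem (qG_normalizes hF (hq t)) (hc0N _)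
  have hha : ∀ t, h t * a * (h t)⁻¹ = u t := fun t => by rw [← hu t]; simp only [h]; group
  have hhb : ∀ t, h t * b * (h t)⁻¹ = u' t := fun t => by rw [← hu' t]; simp only [h]; group
  have hinjT : ∀ s t, u s = u t → u' s = u' t → s = t := by
    intro s t e e'
    have hm : ∀ t, Loc.cq K (u t) = t.1.1 := fun t => by
      rw [hue t]
      split
      · exact hc0a _
      · rw [Loc.cq_mul_z K F (Loc.qG_normal (hc0 _) ha)]; exact hc0a _
    have h1 : s.1 = t.1 := Subtype.ext (by rw [← hm s, ← hm t, e])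
    obtain ⟨s1, s2, s3⟩ := s
    obtain ⟨t1, t2, t3⟩ := t
    simp only at h1
    subst h1
    rw [hue, hue] at e
    rw [hue', hue'] at e'
    have hzne : ∀ x : G, x ≠ x * z := fun x hx => hQ.ne_one (mul_eq_left.1 hx.symm)
    cases s2 <;> cases t2 <;> cases s3 <;> cases t3 <;>
      simp only [Bool.false_eq_true, ↓reduceIte] at e e' <;>
      first
        | rfl
        | exact absurd e (hzne _)
        | exact absurd e.symm (hzne _)
        | exact absurd e' (hzne _)
        | exact absurd e'.symm (hzne _)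
  -- the pairs are different
  choose n hn hnz using fun x : ↥(omegaSet K) => x.2
  let Φ : ↥(omegaSet K) × ({v : Cd // inSmall v.1 = true} × Bool × Bool) → P × P := fun x =>
    (⟨(n x.1 * h x.2) * a * (n x.1 * h x.2)⁻¹, hPmem _ (mul_mem (hn _) (hhN _)) a ha haA (by rw [ea]; exact h5)⟩,
     ⟨(n x.1 * h x.2) * b * (n x.1 * h x.2)⁻¹, hPmem _ (mul_mem (hn _) (hhN _)) b hb hbA (by rw [eb]; exact h10)⟩)
  have hΦ : Function.Injective Φ := by
    rintro ⟨x, s⟩ ⟨y, t⟩ e
    have e1 : (n x * h s) * a * (n x * h s)⁻¹ = (n y * h t) * a * (n y * h t)⁻¹ :=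
      congrArg Subtype.val (congrArg Prod.fst e)
    have e2 : (n x * h s) * b * (n x * h s)⁻¹ = (n y * h t) * b * (n y * h t)⁻¹ :=
      congrArg Subtype.val (congrArg Prod.snd e)
    have key : ∀ d, (n x * h s) * d * (n x * h s)⁻¹ = (n y * h t) * d * (n y * h t)⁻¹ →
        Commute ((n y * h t)⁻¹ * (n x * h s)) d := fun d hd => by
      refine (mul_inv_eq_iff_eq_mul.1 ?_ : _ * d = d * _)
      calc (n y * h t)⁻¹ * (n x * h s) * d * ((n y * h t)⁻¹ * (n x * h s))⁻¹
          = (n y * h t)⁻¹ * ((n x * h s) * d * (n x * h s)⁻¹) * (n y * h t) := by group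
        _ = d := by rw [hd]; group
    have hz' := hno _ (key a e1) (key b e2)
    have hxy : x = y := by
      refine Subtype.ext ?_
      have c1 : (h t)⁻¹ * z * h t = z := by rw [mul_assoc, ← (hhz t).eq, inv_mul_cancel_left]
      have c2 : h s * z * (h s)⁻¹ = z := by rw [(hhz s).eq, mul_inv_cancel_right]
      calc (x : G) = n x * (h s * z * (h s)⁻¹) * (n x)⁻¹ := by rw [c2, hnz]
        _ = (n y * h t) * ((n y * h t)⁻¹ * (n x * h s) * z * ((n y * h t)⁻¹ * (n x * h s))⁻¹) * (n y * h t)⁻¹ := by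
            group
        _ = (n y * h t) * z * (n y * h t)⁻¹ := by rw [hz'.eq, mul_inv_cancel_right]
        _ = n y * (h t * z * (h t)⁻¹) * (n y)⁻¹ := by group
        _ = y := by rw [(hhz t).eq, mul_inv_cancel_right, hnz]
    subst hxy
    refine Prod.ext rfl (hinjT s t ?_ ?_)
    · rw [← hha, ← hha]
      calc h s * a * (h s)⁻¹ = (n x)⁻¹ * ((n x * h s) * a * (n x * h s)⁻¹) * n x := by group
        _ = h t * a * (h t)⁻¹ := by rw [e1]; group
    · rw [← hhb, ← hhb]
      calc h s * b * (h s)⁻¹ = (n x)⁻¹ * ((n x * h s) * b * (n x * h s)⁻¹) * n x := by group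
        _ = h t * b * (h t)⁻¹ := by rw [e2]; group
  have := Nat.card_le_card_of_injective Φ hΦ
  rw [Nat.card_prod, Nat.card_prod, Nat.card_prod, Nat.card_prod, card_omega hF, card_cd,
    count_big.2.1, Nat.card_eq_fintype_card, Fintype.card_bool] at this
  nlinarith [Nat.mul_le_mul hP hP]

end CentE

end Cfsg.Agent.LargeFischer
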