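import Cfsg.Agent.Lib.LargeFischer.CentOut
import Cfsg.Agent.Lib.LargeExtraspecial.Pair

/-!
# The four-group of the codes `5` and `10`

`Pair K a b C`: `a`, `b` in `Q` have codes `5`, `10` and `C` is their centraliser.  Facts on
`closure {a, b}`, the codes in `C`, and two explicit elements used later.
-/

set_option autoImplicit false
set_option maxRecDepth 100000

namespace Cfsg.Agent.LargeFischer.CentE

open Subgroup

variable {G : Type*} [Group G] {z : G} {Q : Subgroup (Subgroup.centralizer ({z} : Set G))}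
  [Q.Normal]

/-- Two lifts and their centraliser. -/
structure Pair (K : GoodCoord z Q) (a b : G) (C : Subgroup G) : Prop where
  ha : a ∈ qG Q
  hb : b ∈ qG Q
  ea : Loc.cq K a = 5
  eb : Loc.cq K b = 10
  hC : ∀ g, g ∈ C ↔ Commute g a ∧ Commute g b

/-- The codes of `E⟨z⟩`. -/
def inR (v : ℕ) : Bool := v == 0 || v == 5 || v == 10 || v == 15

/-- The codes orthogonal to `5` and `10`. -/
def inPe (v : ℕ) : Bool := (bN v 5 == 0) && (bN v 10 == 0)

/-- The word of an element fixing `5`, `10` and moving `32` by `5`, `48` by `10`. -/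
def wShift : List (Fin 8) :=
  [0, 3, 0, 2, 0, 6, 0, 6, 0, 1, 0, 2, 0, 3, 0, 6, 0, 2, 0, 1, 0, 6, 0, 2]

theorem wShift_ok : wShift.length % 2 = 0 ∧ apL (wordL wShift) 5 = 5 ∧ apL (wordL wShift) 10 = 10 ∧
    apL (wordL wShift) 32 = 37 ∧ apL (wordL wShift) 48 = 58 := by
  decide +kernel

theorem code_facts : inPe 0 = true ∧ inPe 5 = true ∧ inPe 10 = true ∧ inPe 15 = true ∧ inPe 16 = true ∧
    inPe 32 = true ∧ inPe 48 = true ∧ bN 16 32 = 1 ∧ inO 0 15 = true ∧ qN 15 = 0 ∧ bN 85 5 = 0 ∧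
    bN 85 10 = 0 ∧ inPe 85 = true := by
  decide +kernel

theorem count_pe : countB inPe 12 0 = 1024 := by decide +kernel

theorem radical_ok : allB (fun v => !(inPe v &&
    [16, 32, 64, 128, 256, 512, 1024, 2048].all (fun w => inPe w && bN v w == 0)) || inR v) 12 0 = true := by
  decide +kernel

theorem inR_cases {v : Cd} (h : inR v.1 = true) : v = 0 ∨ v = 5 ∨ v = 10 ∨ v = 15 := by
  simp only [inR, Bool.or_eq_true, beq_iff_eq] at h
  rcases h with ((h | h) | h) | h
  exacts [Or.inl (Fin.ext h), Or.inr (Or.inl (Fin.ext h)), Or.inr (Or.inr (Or.inl (Fin.ext h))),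
    Or.inr (Or.inr (Or.inr (Fin.ext h)))]

variable [Finite G] {K : GoodCoord z Q} {a b : G} {C : Subgroup G}
  (hF : IsOfLargeFischerTypeAt z Q) (P : Pair K a b C)

include P

omit [Finite G] in
theorem cq_ab : Loc.cq K (a * b) = 15 := by
  rw [Loc.cq_mul K P.ha P.hb, P.ea, P.eb]; rfl

omit [Finite G] in
theorem sq_a : a * a = 1 := (Loc.cq_sq K P.ha).2 (by rw [P.ea]; exact code_ok.2.2.2.1)

omit [Finite G] in
theorem sq_b : b * b = 1 := (Loc.cq_sq K P.hb).2 (by rw [P.eb]; exact code_ok.2.2.2.2.1)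

include hF

theorem comm_ab : Commute a b :=
  (Loc.commute_iff K (lfacts_of_type hF K) P.ha P.hb).2 (by rw [P.ea, P.eb]; exact code_ok.2.2.2.2.2.1)

theorem mem_E {x : G} (hx : x ∈ closure ({a, b} : Set G)) : x = 1 ∨ x = a ∨ x = b ∨ x = a * b :=
  LargeExtraspecial.mem_four (sq_a P) (sq_b P) (comm_ab hF P) hx

theorem E_le : closure ({a, b} : Set G) ≤ qG Q := by
  rw [closure_le]
  rintro x (rfl | rfl)
  exacts [P.ha, P.hb]

theorem E_code {x : G} (hx : x ∈ closure ({a, b} : Set G)) (h1 : x ≠ 1) :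
    x ∈ qG Q ∧ inO 0 (Loc.cq K x).1 = true ∧ Loc.cq K x ≠ 0 := by
  refine ⟨E_le hF P hx, ?_⟩
  rcases mem_E hF P hx with rfl | rfl | rfl | rfl
  · exact absurd rfl h1
  · rw [P.ea]; exact ⟨code_ok.1, by decide⟩
  · rw [P.eb]; exact ⟨code_ok.2.1, by decide⟩
  · rw [cq_ab P]; exact ⟨code_ok.2.2.1, by decide⟩

theorem E_not_conj {x : G} (hx : x ∈ closure ({a, b} : Set G)) (h1 : x ≠ 1) :
    ¬ IsConj z x ∧ ¬ IsConj z (x * z) := by
  have F := lfacts_of_type hF K
  obtain ⟨hQ, hO, -⟩ := E_code hF P hx h1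
  exact ⟨not_conj_small F hQ hO, not_conj_small F (mul_mem hQ (Loc.hub K F).mem)
    (by rw [Loc.cq_mul_z K F hQ]; exact hO)⟩

theorem z_not_mem : z ∉ closure ({a, b} : Set G) := fun h =>
  (E_not_conj hF P h (GoodCoord.ne_one hF)).1 (IsConj.refl z)

theorem z_mem_C : z ∈ C :=
  (P.hC z).2 ⟨(Loc.qG_commute P.ha).symm, (Loc.qG_commute P.hb).symm⟩

theorem E_le_C : closure ({a, b} : Set G) ≤ C := by
  rw [closure_le]
  rintro x (rfl | rfl)
  · exact (P.hC _).2 ⟨Commute.refl _, comm_ab hF P⟩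
  · exact (P.hC _).2 ⟨(comm_ab hF P).symm, Commute.refl _⟩

theorem E_central {g x : G} (hg : g ∈ C) (hx : x ∈ closure ({a, b} : Set G)) : Commute g x := by
  obtain ⟨h1, h2⟩ := (P.hC g).1 hg
  rcases mem_E hF P hx with rfl | rfl | rfl | rfl
  exacts [Commute.one_right g, h1, h2, h1.mul_right h2]

theorem E_elementary : IsElementaryAbelian 2 (closure ({a, b} : Set G)) := by
  refine ⟨⟨⟨fun x y => Subtype.ext (E_central hF P (E_le_C hF P x.2) y.2).eq⟩⟩, fun x hx => ?_⟩
  rw [pow_two]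
  rcases mem_E hF P hx with rfl | rfl | rfl | rfl
  · exact one_mul 1
  · exact sq_a P
  · exact sq_b P
  · rw [mul_assoc, ← mul_assoc b, ← (comm_ab hF P).eq, mul_assoc a b b, sq_b P, mul_one, sq_a P]

theorem card_E : Nat.card (closure ({a, b} : Set G)) = 4 := by
  have e : ((closure ({a, b} : Set G) : Subgroup G) : Set G) = {1, a, b, a * b} := by
    ext x
    refine ⟨fun h => by simpa using mem_E hF P h, ?_⟩
    have ha : a ∈ closure ({a, b} : Set G) := subset_closure (Set.mem_insert a _)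
    have hb : b ∈ closure ({a, b} : Set G) := subset_closure (Set.mem_insert_of_mem a rfl)
    rintro (rfl | rfl | rfl | rfl)
    exacts [one_mem _, ha, hb, mul_mem ha hb]
  have h5 : ∀ x : G, ∀ n : Cd, n ≠ 0 → Loc.cq K x = n → x ≠ 1 := fun x n hn h e => hn (by
    rw [← h, e, Loc.cq_one K])
  have na := h5 a 5 (by decide) P.ea
  have nb := h5 b 10 (by decide) P.eb
  have nab := h5 _ 15 (by decide) (cq_ab P)
  have d1 : a ≠ b := fun e => absurd (P.ea.symm.trans (e ▸ P.eb)) (by decide)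
  have d2 : a ≠ a * b := fun e => nb (mul_eq_left.1 e.symm)
  have d3 : b ≠ a * b := fun e => na (mul_eq_right.1 e.symm)
  rw [← SetLike.coe_sort_coe, Nat.card_coe_set_eq, e, Set.ncard_insert_of_notMem (by simp [na.symm, nb.symm, nab.symm]),
    Set.ncard_insert_of_notMem (by simp [d1, d2]), Set.ncard_pair d3]

theorem mem_C_iff {x : G} (hx : x ∈ qG Q) : x ∈ C ↔ inPe (Loc.cq K x).1 = true := by
  have F := lfacts_of_type hF K
  rw [P.hC, Loc.commute_iff K F hx P.ha, Loc.commute_iff K F hx P.hb, P.ea, P.eb]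
  simp only [inPe, Bool.and_eq_true, beq_iff_eq]
  rfl

theorem mem_E_of_code {x : G} (hx : x ∈ qG Q) (h : inR (Loc.cq K x).1 = true) :
    x ∈ closure ({a, b} : Set G) ∨ x * z ∈ closure ({a, b} : Set G) := by
  have F := lfacts_of_type hF K
  have hE := E_le hF P
  have key : ∀ e ∈ closure ({a, b} : Set G), Loc.cq K x = Loc.cq K e →
      x ∈ closure ({a, b} : Set G) ∨ x * z ∈ closure ({a, b} : Set G) := fun e he heq => by
    rcases Loc.rel_of_cq K F hx (hE he) heq with h' | h'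
    · exact Or.inl (h' ▸ he)
    · exact Or.inr (by rw [h', mul_assoc, Loc.zz K F, mul_one]; exact he)
  have ha : a ∈ closure ({a, b} : Set G) := subset_closure (Set.mem_insert a _)
  have hb : b ∈ closure ({a, b} : Set G) := subset_closure (Set.mem_insert_of_mem a rfl)
  rcases inR_cases h with h | h | h | h
  exacts [key 1 (one_mem _) (by rw [h, Loc.cq_one K]), key a ha (by rw [h, P.ea]),
    key b hb (by rw [h, P.eb]), key _ (mul_mem ha hb) (by rw [h, cq_ab P])]

/-- Elements of `C` commuting with `z` modulo `E` commute with `z`. -/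
theorem commute_of_comm_mem {g : G} (_hg : g ∈ C)
    (h : g * z * g⁻¹ * z⁻¹ ∈ closure ({a, b} : Set G)) : Commute g z := by
  by_cases h1 : g * z * g⁻¹ * z⁻¹ = 1
  · exact mul_inv_eq_iff_eq_mul.1 (mul_inv_eq_one.1 h1)
  · exact absurd (isConj_iff.2 ⟨g, by group⟩) (E_not_conj hF P h h1).2

/-- A lift of an element of `M` fixing `5`. -/
theorem exists_lift {p : Equiv.Perm Cd} (hp : p ∈ K.I.H) (h5 : p 5 = 5) (h10 : p 10 = 10) :
    ∃ c, c ∈ C ∧ Commute c z ∧ Loc.av K c = p := by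
  obtain ⟨c, hc, hcp, c1, c2⟩ := Loc.exists_lift_two K (lfacts_of_type hF K) hp P.ha P.hb P.ha P.hb
    (by rw [P.ea]; exact h5) (by rw [P.eb]; exact h10) (sq_a P) (sq_b P) (by rw [P.ea]; decide)
    (by rw [P.eb]; decide) (by rw [P.ea, P.eb]; decide)
  exact ⟨c, (P.hC c).2 ⟨mul_inv_eq_iff_eq_mul.1 c1, mul_inv_eq_iff_eq_mul.1 c2⟩, hc, hcp⟩

/-- An element of `C ∩ C(z)` acts linearly and fixes `5`. -/
theorem av_mem_stab {c : G} (hc : c ∈ C) (hz : Commute c z) : Loc.av K c ∈ K.I.M ⊓ fixP 5 := by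
  obtain ⟨h1, h2⟩ := (P.hC c).1 hc
  have e1 := Loc.cq_conj K hz P.ha
  have e2 := Loc.cq_conj K hz P.hb
  rw [h1.eq, mul_inv_cancel_right, P.ea] at e1
  rw [h2.eq, mul_inv_cancel_right, P.eb] at e2
  refine ⟨Loc.lin_of_commute K (Loc.av_mem K hz) (v := 5) (by decide) ?_, e1.symm⟩
  rw [show wC 5 = 10 by decide +kernel, ← e2, ← e1]
  decide +kernel

end Cfsg.Agent.LargeFischer.CentE
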