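import Cfsg.Agent.Lib.LargeFischer.CentPair
import Cfsg.Agent.Lib.PCore.Basic
import Cfsg.Agent.Lib.PGroup.SymplecticType
import Cfsg.Agent.Lib.SolvableTwo.Basic
import Cfsg.Agent.Lib.TI.Extraspecial
import Mathlib.GroupTheory.FixedPointFree

/-!
# The centraliser of the image of `z` in `C(E)/E`

For `Pair K a b C`, `π : C → C/E` and `zb = π z`: `C(zb)` is the image of `C ∩ C(z)`; its subgroup `jSub`,
the image of `C ∩ Q`, is extraspecial of order `2 ^ 9`, self-centralising, equal to `O₂`, with quotient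
the stabiliser of `5` in `M` (`local_facts`); `C/E` has no normal subgroup of odd order and `zb` is not
central (`oddCore_bot`, `not_central`).
-/

set_option autoImplicit false
set_option maxRecDepth 100000

namespace Cfsg.Agent.LargeFischer.CentE

open Subgroup
open scoped commutatorElement

variable {G : Type*} [Group G] [Finite G] {z : G} {Q : Subgroup (Subgroup.centralizer ({z} : Set G))}
  [Q.Normal] {K : GoodCoord z Q} {a b : G} {C : Subgroup G}
  (hF : IsOfLargeFischerTypeAt z Q) (P : Pair K a b C)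

/-- `C/E`. -/
abbrev CQ (a b : G) (C : Subgroup G) : Type _ := ↥C ⧸ (closure ({a, b} : Set G)).subgroupOf C

/-- `C ∩ C(z)`. -/
abbrev cz (z : G) (C : Subgroup G) : Subgroup ↥C := (centralizer ({z} : Set G)).subgroupOf C

omit [Finite G] in
theorem cz_commute (g : ↥(cz z C)) : Commute ((g : ↥C) : G) z :=
  mem_centralizer_singleton_iff.1 (mem_subgroupOf.1 g.2)

include hF P

/-- The action of `C ∩ C(z)`. -/
noncomputable def rho : ↥(cz z C) →* ↥(K.I.M ⊓ fixP 5) :=
  MonoidHom.mk' (fun g => ⟨Loc.av K ((g : ↥C) : G), av_mem_stab hF P (g : ↥C).2 (cz_commute g)⟩)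
    fun g h => Subtype.ext (Loc.av_mul K (cz_commute g) (cz_commute h))

theorem rho_eq_one (g : ↥(cz z C)) : rho hF P g = 1 ↔ ((g : ↥C) : G) ∈ qG Q :=
  (Subtype.ext_iff).trans (Loc.av_eq_one K (cz_commute g))

theorem rho_surjective : Function.Surjective (rho hF P) := by
  rintro ⟨p, hpM, hp5⟩
  have h10 : p 10 = 10 := by
    have e : p (wC 5) = wC 5 := (K.I.lin p hpM 5).trans (congrArg wC hp5)
    rwa [show wC 5 = 10 by decide +kernel] at e
  obtain ⟨c, hc, hcz, hcp⟩ := exists_lift hF P (K.I.hMH hpM) hp5 h10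
  exact ⟨⟨⟨c, hc⟩, mem_subgroupOf.2 (mem_centralizer_singleton_iff.2 hcz.eq)⟩, Subtype.ext hcp⟩

variable [hN : ((closure ({a, b} : Set G)).subgroupOf C).Normal]

/-- The image of `z`. -/
def zbar : CQ a b C := QuotientGroup.mk' _ ⟨z, z_mem_C hF P⟩

/-- The centraliser of the image of `z`. -/
abbrev cH : Subgroup (CQ a b C) := centralizer ({zbar hF P} : Set (CQ a b C))

theorem zbar_sq : zbar hF P * zbar hF P = 1 := by
  rw [zbar, ← map_mul]
  exact (congrArg _ (Subtype.ext (Loc.zz K (lfacts_of_type hF K)))).trans (map_one _)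

theorem zbar_ne_one : zbar hF P ≠ 1 := fun e =>
  z_not_mem hF P (mem_subgroupOf.1 ((QuotientGroup.eq_one_iff _).1 e))

theorem orderOf_zbar : orderOf (zbar hF P) = 2 :=
  orderOf_eq_prime (by rw [pow_two]; exact zbar_sq hF P) (zbar_ne_one hF P)

theorem commute_of_bar {g : ↥C} (h : Commute (QuotientGroup.mk' _ g : (CQ a b C)) (zbar hF P)) :
    Commute (g : G) z := by
  refine commute_of_comm_mem hF P g.2 ?_
  have e : (QuotientGroup.mk' ((closure ({a, b} : Set G)).subgroupOf C))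
      (g * ⟨z, z_mem_C hF P⟩ * g⁻¹ * ⟨z, z_mem_C hF P⟩⁻¹) = 1 := by
    simp only [map_mul, map_inv]
    have he := h.eq
    unfold zbar at he
    rw [he, mul_inv_cancel_right]
    exact mul_inv_cancel _
  exact mem_subgroupOf.1 ((QuotientGroup.eq_one_iff _).1 e)

/-- The projection of `C ∩ C(z)`. -/
def sigma : ↥(cz z C) →* ↥(cH hF P) :=
  ((QuotientGroup.mk' ((closure ({a, b} : Set G)).subgroupOf C)).comp (cz z C).subtype).codRestrict _
    fun g => mem_centralizer_singleton_iff.2 (by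
      show QuotientGroup.mk' _ (g : ↥C) * zbar hF P = zbar hF P * QuotientGroup.mk' _ (g : ↥C)
      rw [zbar, ← map_mul, ← map_mul]
      exact congrArg _ (Subtype.ext (cz_commute g).eq))

theorem sigma_eq_one (g : ↥(cz z C)) :
    sigma hF P g = 1 ↔ ((g : ↥C) : G) ∈ closure ({a, b} : Set G) :=
  Subtype.ext_iff.trans ((QuotientGroup.eq_one_iff _).trans mem_subgroupOf)

theorem sigma_surjective : Function.Surjective (sigma hF P) := by
  rintro ⟨x, hx⟩
  obtain ⟨g, rfl⟩ := QuotientGroup.mk'_surjective _ x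
  exact ⟨⟨g, mem_subgroupOf.2 (mem_centralizer_singleton_iff.2
    (commute_of_bar hF P (mem_centralizer_singleton_iff.1 hx)).eq)⟩, rfl⟩

/-- The image of `C ∩ Q`. -/
noncomputable def jSub : Subgroup ↥(cH hF P) := (rho hF P).ker.map (sigma hF P)

theorem jSub_normal : (jSub hF P).Normal :=
  Subgroup.Normal.map inferInstance _ (sigma_surjective hF P)

theorem ker_sigma_le : (sigma hF P).ker ≤ (rho hF P).ker := fun g hg =>
  MonoidHom.mem_ker.2 ((rho_eq_one hF P g).2 (E_le hF P ((sigma_eq_one hF P g).1 (MonoidHom.mem_ker.1 hg))))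

theorem quot_iso [(jSub hF P).Normal] : Nonempty (↥(cH hF P) ⧸ jSub hF P ≃* ↥(K.I.M ⊓ fixP 5)) := by
  set f := (QuotientGroup.mk' (jSub hF P)).comp (sigma hF P)
  have hfs : Function.Surjective f := (QuotientGroup.mk'_surjective _).comp (sigma_surjective hF P)
  have hk : f.ker = (rho hF P).ker := by
    rw [← MonoidHom.comap_ker, QuotientGroup.ker_mk', jSub, comap_map_eq, sup_eq_left.2 (ker_sigma_le hF P)]
  exact ⟨(QuotientGroup.quotientKerEquivOfSurjective f hfs).symm.trans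
    ((QuotientGroup.quotientMulEquivOfEq hk).trans
      (QuotientGroup.quotientKerEquivOfSurjective _ (rho_surjective hF P)))⟩

/-- An element of `C ∩ Q` as an element of `C ∩ C(z)`. -/
theorem exists_ker (v : Cd) (hv : inPe v.1 = true) :
    ∃ r : ↥(cz z C), r ∈ (rho hF P).ker ∧ Loc.cq K ((r : ↥C) : G) = v := by
  obtain ⟨x, hx, e⟩ := Loc.exists_code K v
  have hxC := (mem_C_iff hF P hx).2 (by rw [e]; exact hv)
  let r : ↥(cz z C) := ⟨⟨x, hxC⟩, mem_subgroupOf.2 (mem_centralizer_singleton_iff.2 (Loc.qG_commute hx).eq)⟩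
  exact ⟨r, MonoidHom.mem_ker.2 ((rho_eq_one hF P r).2 hx), e⟩

theorem ker_code {g : ↥(cz z C)} (hg : g ∈ (rho hF P).ker) :
    ((g : ↥C) : G) ∈ qG Q ∧ inPe (Loc.cq K ((g : ↥C) : G)).1 = true := by
  have h := (rho_eq_one hF P g).1 (MonoidHom.mem_ker.1 hg)
  exact ⟨h, (mem_C_iff hF P h).1 (g : ↥C).2⟩

theorem card_rho_ker : Nat.card ↥(rho hF P).ker = 2048 := by
  have F := lfacts_of_type hF K
  have h := ncard_code F inPe (K := K)
  rw [count_pe] at h
  rw [show (2048 : ℕ) = 2 * 1024 from rfl, ← h]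
  refine Nat.card_congr (Equiv.ofBijective
    (fun g : ↥(rho hF P).ker => (⟨_, ker_code hF P g.2⟩ : {x : G // x ∈ qG Q ∧ inPe (Loc.cq K x).1 = true}))
    ⟨fun g h e => Subtype.ext (Subtype.ext (Subtype.ext (congrArg Subtype.val e :))), fun x => ?_⟩)
  let r : ↥(cz z C) := ⟨⟨x.1, (mem_C_iff hF P x.2.1).2 x.2.2⟩,
    mem_subgroupOf.2 (mem_centralizer_singleton_iff.2 (Loc.qG_commute x.2.1).eq)⟩
  exact ⟨⟨r, MonoidHom.mem_ker.2 ((rho_eq_one hF P r).2 x.2.1)⟩, rfl⟩

theorem card_jSub : Nat.card ↥(jSub hF P) = 2 ^ 9 := by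
  have h := card_map_mul_inf_ker (sigma hF P) (rho hF P).ker
  rw [inf_eq_right.2 (ker_sigma_le hF P), card_rho_ker] at h
  have hk : Nat.card ↥(sigma hF P).ker = 4 := by
    rw [← card_E hF P]
    refine Nat.card_congr ⟨fun g => ⟨((g.1 : ↥C) : G), (sigma_eq_one hF P g.1).1 g.2⟩, fun x =>
      ⟨⟨⟨x.1, E_le_C hF P x.2⟩, mem_subgroupOf.2 (mem_centralizer_singleton_iff.2
        (Loc.qG_commute (E_le hF P x.2)).eq)⟩, ?_⟩, fun g => rfl, fun x => rfl⟩
    exact MonoidHom.mem_ker.2 ((sigma_eq_one hF P _).2 x.2)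
  rw [hk] at h
  change Nat.card ↥((rho hF P).ker.map (sigma hF P)) = _
  omega

/-- The image of `z` in `C(zb)`. -/
def zH : ↥(cH hF P) := ⟨zbar hF P, mem_centralizer_singleton_iff.2 rfl⟩

theorem sigma_of_pm (g : ↥(cz z C)) (h : ((g : ↥C) : G) = 1 ∨ ((g : ↥C) : G) = z) :
    sigma hF P g = 1 ∨ sigma hF P g = zH hF P := by
  rcases h with h | h
  · exact Or.inl ((sigma_eq_one hF P g).2 (h ▸ one_mem _))
  · refine Or.inr (Subtype.ext ?_)
    show QuotientGroup.mk' _ (g : ↥C) = zbar hF P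
    exact congrArg _ (Subtype.ext h)

theorem zH_mem : zH hF P ∈ jSub hF P := by
  let r : ↥(cz z C) := ⟨⟨z, z_mem_C hF P⟩, mem_subgroupOf.2 (mem_centralizer_singleton_iff.2 rfl)⟩
  refine ⟨r, MonoidHom.mem_ker.2 ((rho_eq_one hF P r).2 (Loc.hub K (lfacts_of_type hF K)).mem), rfl⟩

theorem jSub_comm {x y : ↥(cH hF P)} (hx : x ∈ jSub hF P) (hy : y ∈ jSub hF P) :
    ⁅x, y⁆ = 1 ∨ ⁅x, y⁆ = zH hF P := by
  obtain ⟨r, hr, rfl⟩ := hx
  obtain ⟨s, hs, rfl⟩ := hy
  rw [← map_commutatorElement]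
  refine sigma_of_pm hF P _ ?_
  have hQ := Loc.hub K (lfacts_of_type hF K)
  set x := ((r : ↥C) : G)
  set y := ((s : ↥C) : G)
  show x * y * x⁻¹ * y⁻¹ = 1 ∨ x * y * x⁻¹ * y⁻¹ = z
  rcases hQ.comm x (ker_code hF P hr).1 y (ker_code hF P hs).1 with e | e
  · exact Or.inl (by rw [e, mul_inv_cancel])
  · exact Or.inr (by rw [e, (hQ.central y (ker_code hF P hs).1).eq, mul_inv_cancel_right])

theorem jSub_extraspecial : IsExtraspecial 2 ↥(jSub hF P) := by
  have : Fact (Nat.Prime 2) := ⟨Nat.prime_two⟩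
  have F := lfacts_of_type hF K
  have hQ := Loc.hub K F
  set zJ : ↥(jSub hF P) := ⟨zH hF P, zH_mem hF P⟩ with hzJ
  have hzJ1 : zJ ≠ 1 := fun e => zbar_ne_one hF P (congrArg (fun w : ↥(jSub hF P) => ((w : ↥(cH hF P)) : (CQ a b C))) e)
  have hzJ2 : zJ * zJ = 1 := Subtype.ext (Subtype.ext (zbar_sq hF P))
  have hzc : zJ ∈ center ↥(jSub hF P) := mem_center_iff.2 fun w =>
    Subtype.ext (Subtype.ext (mem_centralizer_singleton_iff.1 (w : ↥(cH hF P)).2))
  have hcen : center ↥(jSub hF P) = zpowers zJ := by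
    refine le_antisymm (fun w hw => ?_) (zpowers_le.2 hzc)
    obtain ⟨w, r, hr, rfl⟩ := w
    obtain ⟨hrQ, hrP⟩ := ker_code hF P hr
    have hall : ∀ u ∈ [16, 32, 64, 128, 256, 512, 1024, 2048],
        inPe u = true ∧ bN (Loc.cq K ((r : ↥C) : G)).1 u = 0 := by
      intro u hu
      have hu' : inPe u = true ∧ u < 4096 := by revert u; decide +kernel
      obtain ⟨s, hs, hse⟩ := exists_ker hF P ⟨u, hu'.2⟩ hu'.1
      refine ⟨hu'.1, ?_⟩
      have hcom := (mem_center_iff.1 hw ⟨sigma hF P s, s, hs, rfl⟩).symm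
      have he : sigma hF P r * sigma hF P s = sigma hF P s * sigma hF P r := congrArg Subtype.val hcom
      rw [← map_mul, ← map_mul, ← mul_inv_eq_one, ← map_inv, ← map_mul, sigma_eq_one] at he
      have hc : Commute ((r : ↥C) : G) ((s : ↥C) : G) := by
        rcases hQ.comm _ hrQ _ (ker_code hF P hs).1 with e | e
        · exact mul_inv_eq_iff_eq_mul.1 e
        · exfalso
          refine z_not_mem hF P ?_
          convert he using 1
          show z = ((r : ↥C) : G) * ((s : ↥C) : G) * (((s : ↥C) : G) * ((r : ↥C) : G))⁻¹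
          rw [mul_inv_rev, ← mul_assoc, e, (hQ.central _ (ker_code hF P hs).1).eq, mul_inv_cancel_right]
      have := (Loc.commute_iff K F hrQ (ker_code hF P hs).1).1 hc
      rwa [hse] at this
    have hR : inR (Loc.cq K ((r : ↥C) : G)).1 = true := by
      have h := forall_cd radical_ok (Loc.cq K ((r : ↥C) : G))
      have hA : ([16, 32, 64, 128, 256, 512, 1024, 2048].all
          fun u => inPe u && bN (Loc.cq K ((r : ↥C) : G)).1 u == 0) = true := by
        rw [List.all_eq_true]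
        intro u hu
        simp [hall u hu]
      simpa [hrP, hA] using h
    rcases mem_E_of_code hF P hrQ hR with he | he
    · have : sigma hF P r = 1 := (sigma_eq_one hF P r).2 he
      exact (show (⟨sigma hF P r, r, hr, rfl⟩ : ↥(jSub hF P)) = 1 from Subtype.ext this) ▸ one_mem _
    · refine (show (⟨sigma hF P r, r, hr, rfl⟩ : ↥(jSub hF P)) = zJ from Subtype.ext (Subtype.ext ?_)) ▸
        mem_zpowers zJ
      show QuotientGroup.mk' _ (r : ↥C) = QuotientGroup.mk' _ ⟨z, z_mem_C hF P⟩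
      refine QuotientGroup.eq.2 (mem_subgroupOf.2 ?_)
      show ((r : ↥C) : G)⁻¹ * z ∈ _
      have hinv := inv_mem he
      rw [mul_inv_rev, inv_eq_of_mul_eq_one_right hQ.sq] at hinv
      rwa [← (hQ.central _ (inv_mem hrQ)).eq] at hinv
  have hpm : ∀ w : ↥(jSub hF P), (w : ↥(cH hF P)) = 1 ∨ (w : ↥(cH hF P)) = zH hF P → w ∈ center ↥(jSub hF P) := by
    rintro w (e | e)
    · exact (show w = 1 from Subtype.ext e) ▸ one_mem _
    · exact (show w = zJ from Subtype.ext e) ▸ hzc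
  refine PGroup.isExtraspecial_of (IsPGroup.of_card (card_jSub hF P)) ?_ ?_ (fun x y => ?_) (fun x => ?_)
  · rw [hcen, Nat.card_zpowers]
    exact orderOf_eq_prime (by rw [pow_two]; exact hzJ2) hzJ1
  · intro htop
    obtain ⟨r, hr, hre⟩ := exists_ker hF P 16 code_facts.2.2.2.2.1
    obtain ⟨s, hs, hse⟩ := exists_ker hF P 32 code_facts.2.2.2.2.2.1
    have hw : (⟨sigma hF P r, r, hr, rfl⟩ : ↥(jSub hF P)) ∈ center _ := htop ▸ mem_top _
    have he : sigma hF P r * sigma hF P s = sigma hF P s * sigma hF P r :=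
      (congrArg Subtype.val (mem_center_iff.1 hw ⟨sigma hF P s, s, hs, rfl⟩)).symm
    rw [← map_mul, ← map_mul, ← mul_inv_eq_one, ← map_inv, ← map_mul, sigma_eq_one] at he
    rcases hQ.comm _ (ker_code hF P hr).1 _ (ker_code hF P hs).1 with e | e
    · have := (Loc.commute_iff K F (ker_code hF P hr).1 (ker_code hF P hs).1).1 (mul_inv_eq_iff_eq_mul.1 e)
      rw [hre, hse] at this
      exact absurd (code_facts.2.2.2.2.2.2.2.1.symm.trans this) (by decide)
    · refine z_not_mem hF P ?_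
      convert he using 1
      show z = ((r : ↥C) : G) * ((s : ↥C) : G) * (((s : ↥C) : G) * ((r : ↥C) : G))⁻¹
      rw [mul_inv_rev, ← mul_assoc, e, (hQ.central _ (ker_code hF P hs).1).eq, mul_inv_cancel_right]
  · exact hpm _ (jSub_comm hF P x.2 y.2)
  · obtain ⟨x, r, hr, rfl⟩ := x
    refine hpm _ ?_
    show sigma hF P r ^ 2 = 1 ∨ sigma hF P r ^ 2 = zH hF P
    rw [pow_two, ← map_mul]
    exact sigma_of_pm hF P _ (hQ.sq_cases _ (ker_code hF P hr).1)

/-- `jSub` contains its centraliser. -/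
theorem centralizer_jSub [IsSimpleGroup ↥(K.I.M ⊓ fixP 5)] :
    centralizer (jSub hF P : Set ↥(cH hF P)) ≤ jSub hF P := by
  have hJn := jSub_normal hF P
  obtain ⟨e⟩ := quot_iso hF P
  have : IsSimpleGroup (↥(cH hF P) ⧸ jSub hF P) := e.isSimpleGroup
  have hn : ((centralizer (jSub hF P : Set ↥(cH hF P))).map (QuotientGroup.mk' (jSub hF P))).Normal :=
    Subgroup.Normal.map inferInstance _ (QuotientGroup.mk'_surjective _)
  rcases hn.eq_bot_or_eq_top with h | h
  · rwa [Subgroup.map_eq_bot_iff, QuotientGroup.ker_mk'] at h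
  exfalso
  have hp : gM 0 ∈ K.I.M ⊓ fixP 5 := ⟨K.good.gM_mem 0, show gM 0 5 = 5 by decide +kernel⟩
  obtain ⟨c, hc⟩ := rho_surjective hF P ⟨gM 0, hp⟩
  obtain ⟨r, hr, hre⟩ := exists_ker hF P 16 code_facts.2.2.2.2.1
  obtain ⟨c0, hc0, hc0e⟩ := mem_map.1 (h ▸ mem_top (QuotientGroup.mk' (jSub hF P) (sigma hF P c)))
  have hj : c0⁻¹ * sigma hF P c ∈ jSub hF P := QuotientGroup.eq.1 hc0e
  have hrJ : sigma hF P r ∈ jSub hF P := ⟨r, hr, rfl⟩
  have hcomm : ⁅sigma hF P c, sigma hF P r⁆ = ⁅c0⁻¹ * sigma hF P c, sigma hF P r⁆ := by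
    generalize hd : c0⁻¹ * sigma hF P c = d at hj ⊢
    rw [show sigma hF P c = c0 * d by rw [← hd, mul_inv_cancel_left]]
    have hjr : d * sigma hF P r * d⁻¹ * (sigma hF P r)⁻¹ ∈ jSub hF P :=
      mul_mem (mul_mem (mul_mem hj hrJ) (inv_mem hj)) (inv_mem hrJ)
    have e1 := mem_centralizer_iff.1 hc0 _ hjr
    have e2 := mem_centralizer_iff.1 hc0 _ hrJ
    simp only [commutatorElement_def]
    calc c0 * d * sigma hF P r * (c0 * d)⁻¹ * (sigma hF P r)⁻¹
        = c0 * (d * sigma hF P r * d⁻¹ * (sigma hF P r)⁻¹) * (sigma hF P r * c0⁻¹ * (sigma hF P r)⁻¹) := by group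
      _ = d * sigma hF P r * d⁻¹ * (sigma hF P r)⁻¹ * (c0 * sigma hF P r) * c0⁻¹ * (sigma hF P r)⁻¹ := by
          rw [← e1]; group
      _ = d * sigma hF P r * d⁻¹ * (sigma hF P r)⁻¹ := by rw [← e2]; group
  have hz := hcomm.symm ▸ jSub_comm hF P hj hrJ
  rw [← map_commutatorElement] at hz
  set x := ((c : ↥C) : G)
  set y := ((r : ↥C) : G)
  have hyQ := (ker_code hF P hr).1
  have hxy : x * y * x⁻¹ * y⁻¹ ∈ qG Q := mul_mem (Loc.qG_normal (cz_commute c) hyQ) (inv_mem hyQ)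
  have hcode : Loc.cq K (x * y * x⁻¹ * y⁻¹) = 1365 := by
    have hyi : Loc.cq K y⁻¹ = Loc.cq K y := by
      obtain ⟨q, hq⟩ := Loc.mem_qG hyQ
      show Loc.cq K (((r : ↥C) : G))⁻¹ = Loc.cq K ((r : ↥C) : G)
      rw [← hq, ← Subgroup.coe_inv, ← Subgroup.coe_inv, Loc.cq_coe, Loc.cq_coe, K.co_inv]
    rw [Loc.cq_mul K (Loc.qG_normal (cz_commute c) hyQ) (inv_mem hyQ), Loc.cq_conj K (cz_commute c) hyQ,
      hyi, hre, show Loc.av K x = gM 0 from congrArg Subtype.val hc]
    decide +kernel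
  have F := lfacts_of_type hF K
  rcases hz with e | e
  · have he : x * y * x⁻¹ * y⁻¹ ∈ closure ({a, b} : Set G) := (sigma_eq_one hF P ⁅c, r⁆).1 e
    by_cases h1 : x * y * x⁻¹ * y⁻¹ = 1
    · rw [h1, Loc.cq_one K] at hcode
      exact absurd hcode (by decide)
    · rcases mem_E hF P he with e | e | e | e <;> rw [e] at hcode
      · exact h1 e
      · rw [P.ea] at hcode; exact absurd hcode (by decide)
      · rw [P.eb] at hcode; exact absurd hcode (by decide)
      · rw [cq_ab P] at hcode; exact absurd hcode (by decide)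
  · have e' := congrArg Subtype.val e
    change QuotientGroup.mk' ((closure ({a, b} : Set G)).subgroupOf C) ((⁅c, r⁆ : ↥(cz z C)) : ↥C) =
      QuotientGroup.mk' _ (⟨z, z_mem_C hF P⟩ : ↥C) at e'
    have h : (x * y * x⁻¹ * y⁻¹)⁻¹ * z ∈ closure ({a, b} : Set G) :=
      mem_subgroupOf.1 (QuotientGroup.eq.1 e')
    have hz' : Loc.cq K ((x * y * x⁻¹ * y⁻¹)⁻¹ * z) = 1365 := by
      obtain ⟨q, hq⟩ := Loc.mem_qG hxy
      rw [Loc.cq_mul_z K F (inv_mem hxy), ← hq, ← Subgroup.coe_inv, ← Subgroup.coe_inv, Loc.cq_coe,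
        K.co_inv, ← Loc.cq_coe K, hq, hcode]
    rcases mem_E hF P h with e | e | e | e <;> rw [e] at hz'
    · rw [Loc.cq_one K] at hz'; exact absurd hz' (by decide)
    · rw [P.ea] at hz'; exact absurd hz' (by decide)
    · rw [P.eb] at hz'; exact absurd hz' (by decide)
    · rw [cq_ab P] at hz'; exact absurd hz' (by decide)

theorem pCore_eq [IsSimpleGroup ↥(K.I.M ⊓ fixP 5)] (hne : ¬ IsPGroup 2 ↥(K.I.M ⊓ fixP 5)) :
    pCore 2 ↥(cH hF P) = jSub hF P := by
  have : Fact (Nat.Prime 2) := ⟨Nat.prime_two⟩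
  have hJn := jSub_normal hF P
  refine le_antisymm ?_ (PCore.le_pCore (IsPGroup.of_card (card_jSub hF P)))
  obtain ⟨e⟩ := quot_iso hF P
  have : IsSimpleGroup (↥(cH hF P) ⧸ jSub hF P) := e.isSimpleGroup
  have hn : ((pCore 2 ↥(cH hF P)).map (QuotientGroup.mk' (jSub hF P))).Normal :=
    Subgroup.Normal.map inferInstance _ (QuotientGroup.mk'_surjective _)
  rcases hn.eq_bot_or_eq_top with h | h
  · rwa [Subgroup.map_eq_bot_iff, QuotientGroup.ker_mk'] at h
  · exfalso
    have hp := (PCore.isPGroup_pCore (p := 2) (G := ↥(cH hF P))).map (QuotientGroup.mk' (jSub hF P))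
    rw [h] at hp
    exact hne ((hp.of_equiv topEquiv).of_equiv e)

/-- All hypotheses of the recognition theorem. -/
theorem local_facts [(pCore 2 ↥(cH hF P)).Normal] [IsSimpleGroup ↥(K.I.M ⊓ fixP 5)]
    (hne : ¬ IsPGroup 2 ↥(K.I.M ⊓ fixP 5)) {S : Type*} [Group S] (hS : Nonempty (↥(K.I.M ⊓ fixP 5) ≃* S)) :
    IsExtraspecial 2 ↥(pCore 2 ↥(cH hF P)) ∧ Nat.card ↥(pCore 2 ↥(cH hF P)) = 2 ^ 9 ∧
      centralizer (pCore 2 ↥(cH hF P) : Set ↥(cH hF P)) ≤ pCore 2 ↥(cH hF P) ∧ Nonempty (↥(cH hF P) ⧸ pCore 2 ↥(cH hF P) ≃* S) := by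
  have hJn := jSub_normal hF P
  have h := pCore_eq hF P hne
  refine ⟨?_, ?_, ?_, ?_⟩
  · rw [h]; exact jSub_extraspecial hF P
  · rw [h]; exact card_jSub hF P
  · rw [h]; exact centralizer_jSub hF P
  · obtain ⟨e⟩ := quot_iso hF P
    obtain ⟨f⟩ := hS
    exact ⟨(QuotientGroup.quotientMulEquivOfEq h).trans (e.trans f)⟩

/-- The image of `z` is not central. -/
theorem not_central : centralizer ({zbar hF P} : Set (CQ a b C)) ≠ ⊤ := by
  intro h
  obtain ⟨g, ga, gb, gz⟩ := exists_centralizing_not_commute hF P.ha P.hb P.ea P.eb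
  have hg : g ∈ C := (P.hC g).2 ⟨ga, gb⟩
  exact gz (commute_of_bar hF P (g := ⟨g, hg⟩)
    (mem_centralizer_singleton_iff.1 (h ▸ mem_top _)))

/-- An element of odd order commuting with the image of a conjugate in `Q` of code `85` commutes with `zb`,
when it lies in a normal subgroup of odd order. -/
theorem commute_zbar_of {O : Subgroup (CQ a b C)} [O.Normal] (hO : Odd (Nat.card O)) {w : (CQ a b C)} (hw : w ∈ O)
    {s : ↥C} (hs : (s : G) ∈ qG Q) (hs85 : Loc.cq K (s : G) = 85)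
    (hc : Commute w (QuotientGroup.mk' _ s)) : Commute w (zbar hF P) := by
  classical
  have F := lfacts_of_type hF K
  set π := QuotientGroup.mk' ((closure ({a, b} : Set G)).subgroupOf C)
  obtain ⟨g, rfl⟩ := QuotientGroup.mk'_surjective _ w
  obtain ⟨m, hm⟩ := hO
  have hgn : π g ^ (2 * m + 1) = 1 := by
    have := congrArg Subtype.val (pow_card_eq_one' (x := (⟨π g, hw⟩ : ↥O)))
    rw [hm] at this
    exact this
  have hE : g ^ (2 * m + 1) ∈ (closure ({a, b} : Set G)).subgroupOf C :=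
    (QuotientGroup.eq_one_iff _).1 (by rw [← hgn, ← map_pow]; rfl)
  have hg2n : (g : G) ^ (2 * (2 * m + 1)) = 1 := by
    rw [mul_comm, pow_mul]
    exact (E_elementary hF P).2 _ (mem_subgroupOf.1 hE)
  -- the lift of odd order
  set h : ↥C := (g ^ 2) ^ (m + 1)
  have hπh : π h = π g := by
    rw [map_pow, map_pow, ← pow_mul, show 2 * (m + 1) = 2 * m + 1 + 1 by ring, pow_succ, hgn, one_mul]
  have hhn : (h : G) ^ (2 * m + 1) = 1 := by
    simp only [h, SubmonoidClass.coe_pow, ← pow_mul]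
    rw [show 2 * (m + 1) * (2 * m + 1) = 2 * (2 * m + 1) * (m + 1) by ring, pow_mul, hg2n, one_pow]
  obtain ⟨e, he, hse⟩ : ∃ e ∈ closure ({a, b} : Set G), (h : G) * (s : G) * (h : G)⁻¹ = e * (s : G) := by
    refine ⟨((h * s * h⁻¹ * s⁻¹ : ↥C) : G), mem_subgroupOf.1 ((QuotientGroup.eq_one_iff _).1 ?_),
      by simp only [Subgroup.coe_mul, Subgroup.coe_inv]; group⟩
    show π (h * s * h⁻¹ * s⁻¹) = 1
    simp only [map_mul, map_inv, hπh]
    have hc' : π g * π s = π s * π g := hc.eq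
    rw [hc', mul_inv_cancel_right, mul_inv_cancel]
  have hee : e * e = 1 := by rw [← pow_two]; exact (E_elementary hF P).2 _ he
  have h2 : Commute ((h : G) ^ 2) (s : G) := by
    refine mul_inv_eq_iff_eq_mul.1 ?_
    calc (h : G) ^ 2 * (s : G) * ((h : G) ^ 2)⁻¹
        = (h : G) * ((h : G) * (s : G) * (h : G)⁻¹) * (h : G)⁻¹ := by rw [pow_two]; group
      _ = (h : G) * (e * (s : G)) * (h : G)⁻¹ := by rw [hse]
      _ = ((h : G) * e * (h : G)⁻¹) * ((h : G) * (s : G) * (h : G)⁻¹) := by group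
      _ = s := by rw [(E_central hF P h.2 he).eq, mul_inv_cancel_right, hse, ← mul_assoc, hee, one_mul]
  have hhs : Commute (h : G) (s : G) := by
    have : ((h : G) ^ 2) ^ (m + 1) = h := by
      rw [← pow_mul, show 2 * (m + 1) = 2 * m + 1 + 1 by ring, pow_succ, hhn, one_mul]
    exact this ▸ h2.pow_left _
  -- the core of `s`
  obtain ⟨q, hq⟩ := Loc.mem_qG hs
  have hs85' : K.co q = 85 := by rw [← Loc.cq_coe K, hq, hs85]
  have hconj : IsConj z (s : G) := by
    rw [← hq]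
    exact (F.conjQ q (by rw [hs85']; decide +kernel) (by rw [hs85']; decide)).2 (by rw [hs85']; decide +kernel)
  obtain ⟨t, ht⟩ := isConj_iff.1 hconj
  have hne : t * z * t⁻¹ ≠ z := fun e' => by
    have : (s : G) = z := ht ▸ e'
    rw [this, Loc.cq_z K F] at hs85
    exact absurd hs85 (by decide)
  have hzs : z ∈ (qG Q).map (MulAut.conj t).toMonoidHom :=
    (qFacts_of_type hF).z_mem_conj (ht ▸ hs) hne
  have hub := (qFacts_of_type hF).hub.conj t
  set y : ↥C := h * ⟨z, z_mem_C hF P⟩ * h⁻¹ * ⟨z, z_mem_C hF P⟩⁻¹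
  have hy : (y : G) ∈ (qG Q).map (MulAut.conj t).toMonoidHom :=
    mul_mem (hub.normalizes h (ht ▸ hhs) z hzs) (inv_mem hzs)
  have hy4 : π y ^ 4 = 1 := by
    rw [← map_pow]
    refine (congrArg π (Subtype.ext ?_)).trans (map_one π)
    show (y : G) ^ 4 = 1
    rw [show 4 = 2 * 2 from rfl, pow_mul, pow_two, pow_two]
    rcases hub.sq_cases _ hy with e' | e' <;> rw [e']
    · exact one_mul 1
    · exact hub.sq
  have hyO : π y ∈ O := by
    simp only [y, map_mul, map_inv, hπh]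
    show π g * π ⟨z, _⟩ * (π g)⁻¹ * (π ⟨z, _⟩)⁻¹ ∈ O
    rw [mul_assoc, mul_assoc, ← mul_assoc (π ⟨z, _⟩)]
    exact mul_mem hw ((inferInstance : O.Normal).conj_mem _ (inv_mem hw) _)
  have hy1 : π y = 1 := by
    have h4 : orderOf (π y) ∣ 4 := orderOf_dvd_of_pow_eq_one hy4
    have ho : orderOf (π y) ∣ Nat.card O := by
      rw [show π y = ((⟨π y, hyO⟩ : ↥O) : (CQ a b C)) from rfl, Subgroup.orderOf_coe]
      exact orderOf_dvd_natCard _
    have := Nat.dvd_gcd h4 ho
    rw [show Nat.gcd 4 (Nat.card O) = 1 from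
      Nat.Coprime.pow_left 2 ((Nat.coprime_two_left).2 ⟨m, hm⟩)] at this
    exact orderOf_eq_one_iff.1 (Nat.dvd_one.1 this)
  show π g * zbar hF P = zbar hF P * π g
  simp only [y, map_mul, map_inv, hπh] at hy1
  exact mul_inv_eq_iff_eq_mul.1 (mul_inv_eq_one.1 hy1)

/-- `C/E` has no odd core. -/
theorem oddCore_bot [IsSimpleGroup ↥(K.I.M ⊓ fixP 5)] : oddCore (CQ a b C) = ⊥ := by
  have : (oddCore (CQ a b C)).Normal := SolvableTwo.oddCore_normal
  have hOdd : Odd (Nat.card (oddCore (CQ a b C))) := SolvableTwo.odd_card_oddCore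
  set O := oddCore (CQ a b C)
  -- centralised by `zb`
  have hfix : ∀ w ∈ O, Commute w (zbar hF P) → w = 1 := by
    intro w hw hc
    set W : ↥(cH hF P) := ⟨w, mem_centralizer_singleton_iff.2 hc.eq⟩
    have hJn := jSub_normal hF P
    have hd : Disjoint (O.subgroupOf (cH hF P)) (jSub hF P) := by
      rw [disjoint_iff, eq_bot_iff]
      intro u hu
      have h1 : orderOf (u : (CQ a b C)) ∣ Nat.card O := by
        rw [show (u : (CQ a b C)) = ((⟨_, mem_subgroupOf.1 hu.1⟩ : ↥O) : (CQ a b C)) from rfl, Subgroup.orderOf_coe]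
        exact orderOf_dvd_natCard _
      have h2 : orderOf u ∣ 2 ^ 9 := by
        rw [show u = ((⟨u, hu.2⟩ : ↥(jSub hF P)) : ↥(cH hF P)) from rfl, Subgroup.orderOf_coe, ← card_jSub hF P]
        exact orderOf_dvd_natCard _
      rw [Subgroup.orderOf_coe] at h1
      have := Nat.dvd_gcd h1 h2
      rw [Nat.Coprime.pow_right 9 ((Nat.coprime_two_right).2 hOdd)] at this
      exact mem_bot.2 (orderOf_eq_one_iff.1 (Nat.dvd_one.1 this))
    have hW : W ∈ O.subgroupOf (cH hF P) := mem_subgroupOf.2 hw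
    have hWJ : W ∈ jSub hF P := centralizer_jSub hF P (mem_centralizer_iff.2 fun j hj =>
      (Subgroup.commute_of_normal_of_disjoint _ _ inferInstance hJn hd W j hW hj).symm)
    exact congrArg Subtype.val (mem_bot.1 (hd.le_bot ⟨hW, hWJ⟩))
  obtain ⟨x, hx, hxe⟩ := Loc.exists_code K (85 : Cd)
  have F := lfacts_of_type hF K
  have hxC : x ∈ C := (mem_C_iff hF P hx).2 (by rw [hxe]; exact code_facts.2.2.2.2.2.2.2.2.2.2.2.2)
  set zC : ↥C := ⟨z, z_mem_C hF P⟩
  set s : ↥C := ⟨x, hxC⟩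
  set π := QuotientGroup.mk' ((closure ({a, b} : Set G)).subgroupOf C)
  have hs2 : s * s = 1 := Subtype.ext ((Loc.cq_sq K hx).2 (by rw [hxe]; decide +kernel))
  have hsz : s * zC = zC * s := Subtype.ext (Loc.qG_commute hx).eq
  -- the three involutions invert `O`
  have hinv : ∀ u : (CQ a b C), u * u = 1 → (∀ w ∈ O, Commute w u → w = 1) → ∀ w ∈ O, u * w * u⁻¹ = w⁻¹ := by
    intro u hu hfp w hw
    let φ : ↥O →* ↥O := MonoidHom.mk'
      (fun v => ⟨u * v.1 * u⁻¹, (inferInstance : O.Normal).conj_mem _ v.2 u⟩)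
      fun v v' => Subtype.ext (show u * (v.1 * v'.1) * u⁻¹ = (u * v.1 * u⁻¹) * (u * v'.1 * u⁻¹) by group)
    have hφf : MonoidHom.FixedPointFree (φ : ↥O → ↥O) := fun v hv =>
      Subtype.ext (hfp v.1 v.2 (mul_inv_eq_iff_eq_mul.1 (congrArg Subtype.val hv :)).symm)
    have hφi : Function.Involutive φ := fun v => Subtype.ext (show u * (u * v.1 * u⁻¹) * u⁻¹ = v.1 by
      rw [← mul_assoc, ← mul_assoc, hu, one_mul, mul_assoc, ← mul_inv_rev, hu, inv_one, mul_one])
    exact congrArg Subtype.val (congrFun (hφf.coe_eq_inv_of_involutive hφi) ⟨w, hw⟩)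
  have i1 := hinv (zbar hF P) (zbar_sq hF P) hfix
  have i2 := hinv (π s) (by rw [← map_mul, hs2, map_one]) fun w hw hc =>
    hfix w hw (commute_zbar_of hF P hOdd hw hx hxe hc)
  have i3 := hinv (π (s * zC)) (by
      rw [← map_mul, show s * zC * (s * zC) = 1 by
        rw [mul_assoc, ← mul_assoc zC, ← hsz, mul_assoc s zC zC,
          show zC * zC = 1 from Subtype.ext (Loc.zz K F), mul_one, hs2], map_one]) fun w hw hc =>
    hfix w hw (commute_zbar_of hF P hOdd hw (s := s * zC) (mul_mem hx (Loc.hub K F).mem)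
      (by rw [show ((s * zC : ↥C) : G) = x * z from rfl, Loc.cq_mul_z K F hx, hxe]) hc)
  refine (eq_bot_iff_forall _).2 fun w hw => ?_
  have e : π (s * zC) * w * (π (s * zC))⁻¹ = w := by
    rw [map_mul, show π s * π zC * w * (π s * π zC)⁻¹ = π s * (π zC * w * (π zC)⁻¹) * (π s)⁻¹ by group]
    show π s * (zbar hF P * w * (zbar hF P)⁻¹) * (π s)⁻¹ = w
    rw [i1 w hw, i2 _ (inv_mem hw), inv_inv]
  rw [i3 w hw] at e
  have h2 : orderOf w ∣ 2 := orderOf_dvd_of_pow_eq_one (by rw [pow_two]; nth_rw 1 [← e]; exact inv_mul_cancel w)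
  have hd : orderOf w ∣ Nat.card O := by
    rw [show w = ((⟨w, hw⟩ : ↥O) : (CQ a b C)) from rfl, Subgroup.orderOf_coe]
    exact orderOf_dvd_natCard _
  have := Nat.dvd_gcd h2 hd
  rw [show Nat.gcd 2 (Nat.card O) = 1 from Nat.coprime_two_left.2 hOdd] at this
  exact orderOf_eq_one_iff.1 (Nat.dvd_one.1 this)

/-- The derived subgroup of `C` contains the four-group. -/
theorem le_commutator : (closure ({a, b} : Set G)).subgroupOf C ≤ commutator ↥C := by
  have F := lfacts_of_type hF K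
  have hQ := Loc.hub K F
  -- commutators in `G`
  have hD : (commutator ↥C).map C.subtype = ⁅C, C⁆ := Subgroup.map_subtype_commutator C
  have hz : z ∈ ⁅C, C⁆ := by
    obtain ⟨r, hr, hre⟩ := exists_ker hF P 16 code_facts.2.2.2.2.1
    obtain ⟨s, hs, hse⟩ := exists_ker hF P 32 code_facts.2.2.2.2.2.1
    obtain ⟨hrQ, -⟩ := ker_code hF P hr
    obtain ⟨hsQ, -⟩ := ker_code hF P hs
    have := commutator_mem_commutator (r : ↥C).2 (s : ↥C).2
    rw [commutatorElement_def] at this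
    rcases hQ.comm _ hrQ _ hsQ with e | e
    · have hb := (Loc.commute_iff K F hrQ hsQ).1 (mul_inv_eq_iff_eq_mul.1 e)
      rw [hre, hse] at hb
      exact absurd (code_facts.2.2.2.2.2.2.2.1.symm.trans hb) (by decide)
    · rwa [e, (hQ.central _ hsQ).eq, mul_inv_cancel_right] at this
  obtain ⟨hlen, w5, w10, w32, w48⟩ := wShift_ok
  have hval : ∀ v : Cd, (wordP wShift v).1 = apL (wordL wShift) v.1 := wordP_permOf wShift
  obtain ⟨c, hc, hcz, hcp⟩ := exists_lift hF P (wordP_mem K.good wShift (Nat.even_iff.2 hlen))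
    (Fin.ext ((hval 5).trans w5)) (Fin.ext ((hval 10).trans w10))
  have key : ∀ u v e : Cd, inPe u.1 = true → apL (wordL wShift) u.1 = v.1 → xo v u = e → ∀ x ∈ qG Q,
      Loc.cq K x = e → x ∈ ⁅C, C⁆ := by
    intro u v e hu huv hve x hx hxe
    obtain ⟨y, hy, hye⟩ := Loc.exists_code K u
    have hyC := (mem_C_iff hF P hy).2 (by rw [hye]; exact hu)
    have hm := commutator_mem_commutator hc hyC
    rw [commutatorElement_def] at hm
    have hq1 := Loc.qG_normal hcz hy
    have hcode : Loc.cq K (c * y * c⁻¹ * y⁻¹) = e := by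
      have hyi : Loc.cq K y⁻¹ = u := by
        obtain ⟨q, rfl⟩ := Loc.mem_qG hy
        rw [← Subgroup.coe_inv, ← Subgroup.coe_inv, Loc.cq_coe, K.co_inv, ← Loc.cq_coe K, hye]
      rw [Loc.cq_mul K hq1 (inv_mem hy), Loc.cq_conj K hcz hy, hcp, hye, hyi, ← hve]
      exact congrArg (fun t => xo t u) (Fin.ext ((hval u).trans huv))
    rcases Loc.rel_of_cq K F hx (mul_mem hq1 (inv_mem hy)) (hxe.trans hcode.symm) with h | h
    · exact h ▸ hm
    · exact h ▸ mul_mem hm hz
  have haD := key 32 37 5 code_facts.2.2.2.2.2.1 w32 (by decide +kernel) a P.ha P.ea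
  have hbD := key 48 58 10 code_facts.2.2.2.2.2.2.1 w48 (by decide +kernel) b P.hb P.eb
  intro x hx
  have hxD : (x : G) ∈ (commutator ↥C).map C.subtype := by
    rw [hD]
    refine (closure_le _).2 ?_ (mem_subgroupOf.1 hx)
    rintro y (rfl | rfl)
    exacts [haD, hbD]
  obtain ⟨y, hy, hyx⟩ := mem_map.1 hxD
  rwa [← Subtype.ext hyx]

/-- `C` is quasisimple when `C/E` is simple. -/
theorem quasisimple [hX : IsSimpleGroup (CQ a b C)] : IsQuasisimple ↥C := by
  set E' := (closure ({a, b} : Set G)).subgroupOf C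
  have hna : center (CQ a b C) = ⊥ := by
    rcases (inferInstance : (center (CQ a b C)).Normal).eq_bot_or_eq_top with h | h
    · exact h
    · refine absurd ?_ (not_central hF P)
      refine eq_top_iff.2 fun x _ => mem_centralizer_singleton_iff.2 ?_
      exact mem_center_iff.1 (h ▸ mem_top (zbar hF P)) x
  have hcen : center ↥C = E' := by
    refine le_antisymm (fun g hg => ?_) fun x hx => mem_center_iff.2 fun g =>
      Subtype.ext (E_central hF P g.2 (mem_subgroupOf.1 hx)).eq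
    refine (QuotientGroup.eq_one_iff g).1 (mem_bot.1 (hna ▸ mem_center_iff.2 fun y => ?_))
    obtain ⟨y, rfl⟩ := QuotientGroup.mk'_surjective _ y
    show QuotientGroup.mk' E' y * QuotientGroup.mk' E' g = QuotientGroup.mk' E' g * QuotientGroup.mk' E' y
    rw [← map_mul, ← map_mul, mem_center_iff.1 hg y]
  refine ⟨⟨?_⟩, ?_⟩
  · have htop : (commutator ↥C).map (QuotientGroup.mk' E') = ⊤ := by
      have hn : ((commutator ↥C).map (QuotientGroup.mk' E')).Normal :=
        Subgroup.Normal.map inferInstance _ (QuotientGroup.mk'_surjective _)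
      refine hn.eq_bot_or_eq_top.resolve_left fun h => ?_
      refine not_central hF P (eq_top_iff.2 fun x _ => mem_centralizer_singleton_iff.2 ?_)
      obtain ⟨g, rfl⟩ := QuotientGroup.mk'_surjective _ x
      show QuotientGroup.mk' E' g * QuotientGroup.mk' E' ⟨z, z_mem_C hF P⟩ =
        QuotientGroup.mk' E' ⟨z, z_mem_C hF P⟩ * QuotientGroup.mk' E' g
      rw [← map_mul, ← map_mul, ← mul_inv_eq_one, ← map_inv, ← map_mul, ← mem_bot, ← h]
      refine mem_map_of_mem _ ?_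
      rw [mul_inv_rev, ← mul_assoc, ← commutatorElement_def]
      exact commutator_mem_commutator (mem_top _) (mem_top _)
    have := congrArg (Subgroup.comap (QuotientGroup.mk' E')) htop
    rwa [comap_map_eq, comap_top, QuotientGroup.ker_mk', sup_eq_left.2 (le_commutator hF P)] at this
  · exact (QuotientGroup.quotientMulEquivOfEq hcen).isSimpleGroup

end Cfsg.Agent.LargeFischer.CentE
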