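import Cfsg.Agent.Lib.LargeFischer.Orbit
import Cfsg.Agent.Lib.Transpos.OrthSixMinus
import Cfsg.Agent.Lib.Forms.QuadOrder

/-!
# The stabiliser of a vector of the small orbit

The stabiliser of the code `5` acts faithfully on the 45 small lines orthogonal to it, hence
is the isometry group of the six-dimensional quadratic form of minus type over two elements.
-/

set_option autoImplicit false

namespace Cfsg.Agent.LargeFischer

/-- The code of a number. -/
def cd (n : ℕ) : Cd := Fin.ofNat 4096 n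

/-- Codes of the same line. -/
def SL (a b : Cd) : Prop := a = b ∨ a = wC b ∨ a = wC (wC b)

instance (a b : Cd) : Decidable (SL a b) := inferInstanceAs (Decidable (_ ∨ _ ∨ _))

theorem SL.refl (a : Cd) : SL a a := Or.inl rfl

theorem SL.symm {a b : Cd} (h : SL a b) : SL b a := by
  rcases h with rfl | rfl | rfl
  · exact Or.inl rfl
  · exact Or.inr (Or.inr (wC_cube b).symm)
  · exact Or.inr (Or.inl (wC_cube b).symm)

theorem SL.trans {a b c : Cd} (h : SL a b) (h' : SL b c) : SL a c := by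
  rcases h with rfl | rfl | rfl <;> rcases h' with rfl | rfl | rfl <;>
    simp [SL, wC_cube]

theorem isSym_wC : IsSym wC where
  add := isAdd_wC
  q v := of_decide_eq_true (forall_cd (f := fun v => decide (qN (wN v) = qN v)) (by decide +kernel) v)
  semi := Or.inl fun _ => rfl

theorem orth_w_left (a b : Cd) : Orth (wC a) b ↔ Orth a b := by
  rw [← orth_w_right (wC a) b, isSym_wC.orth]

theorem orth_congr {a a' b b' : Cd} (h : SL a a') (h' : SL b b') : Orth a b ↔ Orth a' b' := by
  rcases h with rfl | rfl | rfl <;> rcases h' with rfl | rfl | rfl <;>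
    simp only [orth_w_left, orth_w_right]

theorem IsSym.sl {p : Cd → Cd} (h : IsSym p) {a b : Cd} (hab : SL a b) : SL (p a) (p b) := by
  rcases h.semi with hl | ha
  · rcases hab with rfl | rfl | rfl
    · exact SL.refl _
    · exact Or.inr (Or.inl (hl b))
    · exact Or.inr (Or.inr (by rw [hl, hl]))
  · rcases hab with rfl | rfl | rfl
    · exact SL.refl _
    · exact Or.inr (Or.inr (ha b))
    · exact Or.inr (Or.inl (by rw [ha, ha, wC_cube]))

/-- Representatives of the 45 lines, in the order of the graph. -/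
def lnT : List ℕ :=
  [80, 96, 112, 272, 288, 304, 320, 384, 448, 1040, 1056, 1072, 1088, 1152, 1216, 1280, 1365, 1386, 1407,
    1434, 1455, 1461, 1503, 1509, 1530, 1536, 1626, 1647, 1653, 1695, 1701, 1722, 1749, 1770, 1791, 1792,
    1887, 1893, 1914, 1941, 1962, 1983, 2010, 2031, 2037]

/-- The representative of a line. -/
def rep (i : Fin 45) : Cd := cd (lnT.getD i.1 0)

theorem rep_ok : ∀ i, inO 0 (rep i).1 = true ∧ Orth (rep i) 5 ∧ ¬ SL (rep i) 5 := by decide +kernel

theorem rep_unique : ∀ i j, SL (rep i) (rep j) → i = j := by decide +kernel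

theorem rep_adj : ∀ i j, Transpos.O6.adj i j = decide (Orth (rep i) (rep j)) := by decide +kernel

theorem rep_surj (v : Cd) (h1 : inO 0 v.1 = true) (h2 : Orth v 5) (h3 : ¬ SL v 5) :
    ∃ j, SL v (rep j) := by
  have key := forall_cd (f := fun n => decide (inO 0 n = true → orthN n 5 = true →
    (n = 5 ∨ n = 10 ∨ n = 15) ∨ ∃ j ∈ lnT, n = j ∨ n = wN j ∨ n = wN (wN j))) (by decide +kernel) v
  rcases (of_decide_eq_true key) h1 ((orth_iff v 5).1 h2) with h | ⟨j, hj, hj'⟩
  · refine absurd ?_ h3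
    rcases h with h | h | h
    · exact Or.inl (Fin.ext h)
    · exact Or.inr (Or.inl (Fin.ext h))
    · exact Or.inr (Or.inr (Fin.ext h))
  · obtain ⟨k, hk, rfl⟩ := List.getElem_of_mem hj
    refine ⟨⟨k, hk⟩, ?_⟩
    have e : (rep ⟨k, hk⟩).1 = lnT[k] := by
      have hlt : ∀ x ∈ lnT, x % 4096 = x := by decide
      simp only [rep, cd, Fin.val_ofNat, List.getD_eq_getElem _ _ hk]
      exact hlt _ (List.getElem_mem hk)
    rcases hj' with hj' | hj' | hj'
    · exact Or.inl (Fin.ext (hj'.trans e.symm))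
    · exact Or.inr (Or.inl (Fin.ext (by show v.1 = wN _; rw [e]; exact hj')))
    · exact Or.inr (Or.inr (Fin.ext (by show v.1 = wN (wN _); rw [e]; exact hj')))

section Act

variable {I : Img}

theorem exists_act (hI : I.Good) (p : ↥(I.H ⊓ fixP 5)) (i : Fin 45) :
    ∃ j, SL (p.1 (rep i)) (rep j) := by
  obtain ⟨hp, hf : p.1 5 = 5⟩ := p.2
  obtain ⟨h1, h2, h3⟩ := rep_ok i
  have hs := I.sym _ hp
  refine rep_surj _ ?_ ?_ fun h => h3 ?_
  · rw [hI.inv_O _ hp]; exact h1
  · have := hs.orth.2 h2; rwa [hf] at this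
  · have e : p.1⁻¹ 5 = 5 := Equiv.Perm.inv_eq_iff_eq.2 hf.symm
    simpa [e] using (I.sym _ (inv_mem hp)).sl h

/-- The image of a line. -/
noncomputable def act (hI : I.Good) (p : ↥(I.H ⊓ fixP 5)) (i : Fin 45) : Fin 45 :=
  (exists_act hI p i).choose

theorem sl_act (hI : I.Good) (p : ↥(I.H ⊓ fixP 5)) (i : Fin 45) :
    SL (p.1 (rep i)) (rep (act hI p i)) := (exists_act hI p i).choose_spec

theorem act_mul (hI : I.Good) (p q : ↥(I.H ⊓ fixP 5)) (i : Fin 45) :
    act hI (p * q) i = act hI p (act hI q i) :=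
  rep_unique _ _ <| ((sl_act hI (p * q) i).symm.trans
    (((I.sym _ p.2.1).sl (sl_act hI q i)).trans (sl_act hI p (act hI q i))))

theorem act_one (hI : I.Good) (i : Fin 45) : act hI 1 i = i :=
  rep_unique _ _ (sl_act hI 1 i).symm

/-- The permutation of the lines. -/
noncomputable def actPerm (hI : I.Good) (p : ↥(I.H ⊓ fixP 5)) : Equiv.Perm (Fin 45) where
  toFun := act hI p
  invFun := act hI p⁻¹
  left_inv i := by rw [← act_mul, inv_mul_cancel, act_one]
  right_inv i := by rw [← act_mul, mul_inv_cancel, act_one]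

theorem actPerm_mem (hI : I.Good) (p : ↥(I.H ⊓ fixP 5)) : actPerm hI p ∈ Transpos.O6.autGraph := by
  intro i j
  show Transpos.O6.adj (act hI p i) (act hI p j) = _
  rw [rep_adj, rep_adj, decide_eq_decide, ← orth_congr (sl_act hI p i) (sl_act hI p j)]
  exact (I.sym _ p.2.1).orth

/-- The action on the lines. -/
noncomputable def actHom (hI : I.Good) : ↥(I.H ⊓ fixP 5) →* ↥Transpos.O6.autGraph :=
  MonoidHom.mk' (fun p => ⟨actPerm hI p, actPerm_mem hI p⟩)
    fun p q => Subtype.ext (Equiv.ext fun i => act_mul hI p q i)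

end Act

/-! ### The transposition is not in `M` -/

/-- The monomial map as a permutation. -/
noncomputable def monoE (I : Img) (d : Fin 6 → ZMod 3) (σ : Equiv.Perm (Fin 6)) (hd : ∑ i, d i = 0)
    (hσ : Equiv.Perm.sign σ = 1) : ↥I.M :=
  ⟨(I.mono d σ hd hσ).choose, (I.mono d σ hd hσ).choose_spec.1⟩

theorem monoE_apply (I : Img) {d : Fin 6 → ZMod 3} {σ : Equiv.Perm (Fin 6)} (hd : ∑ i, d i = 0)
    (hσ : Equiv.Perm.sign σ = 1) (v : Cd) : (monoE I d σ hd hσ).1 v = monoC d σ v :=
  (I.mono d σ hd hσ).choose_spec.2 v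

/-- Diagonals fixing the first basic vector. -/
def extD (x : Fin 4 → ZMod 3) : Fin 6 → ZMod 3 := ![0, x 0, x 1, x 2, x 3, -(x 0 + x 1 + x 2 + x 3)]

theorem extD_sum (x : Fin 4 → ZMod 3) : ∑ i, extD x i = 0 := by
  simp [extD, Fin.sum_univ_six]

theorem extD_inj : Function.Injective extD := by
  intro x y h
  funext k
  have := congrFun h ⟨k.1 + 1, by omega⟩
  fin_cases k <;> simpa [extD] using this

/-- Even permutations fixing the first point. -/
def extS (s : ↥(alternatingGroup (Fin 5))) : Equiv.Perm (Fin 6) :=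
  Equiv.Perm.decomposeFin.symm (0, s.1)

theorem extS_sign (s : ↥(alternatingGroup (Fin 5))) : Equiv.Perm.sign (extS s) = 1 := by
  simpa [extS, Equiv.Perm.decomposeFin.symm_sign] using Equiv.Perm.mem_alternatingGroup.1 s.2

theorem extS_zero (s : ↥(alternatingGroup (Fin 5))) : extS s 0 = 0 :=
  Equiv.Perm.decomposeFin_symm_apply_zero 0 s.1

theorem extS_inj : Function.Injective extS := fun _ _ h =>
  Subtype.ext (Prod.mk.inj (Equiv.Perm.decomposeFin.symm.injective h)).2

theorem card_anisotropic : Nat.card {v : Cd // (qN v.1 == 1) = true} = 2016 := by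
  rw [Nat.card_eq_fintype_card, Fintype.card_subtype]
  decide +kernel

theorem card_fix_one_le (I : Img) (hI : I.Good) : Nat.card ↥(I.M ⊓ fixP 1) ≤ 4860 := by
  have h := card_eq_orb_mul I.M 1
  rw [I.card_M] at h
  have hle : 2016 ≤ Nat.card (orb I.M 1) := by
    rw [← card_anisotropic]
    refine Nat.card_le_card_of_injective
      (fun v => ⟨v.1, orb_of_forest hI.gM_mem gM_val (r := 1) forA_ok v.2⟩) ?_
    intro v w e
    exact Subtype.ext (congrArg (fun x : ↥(orb I.M 1) => x.1) e)
  nlinarith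

theorem tP_one_not_mem (I : Img) (hI : I.Good) : tP 1 ∉ I.M := by
  intro h1
  have h2 : tP 2 ∈ I.M := by
    have e0 : tP 0 ∈ I.M := (I.M.mul_mem_cancel_right h1).1 (hI.gM_mem 0)
    exact (I.M.mul_mem_cancel_left e0).1 (hI.gM_mem 1)
  let f : ((Fin 4 → ZMod 3) × ↥(alternatingGroup (Fin 5))) ⊕ Unit → ↥(I.M ⊓ fixP 1) :=
    Sum.elim (fun x => ⟨(monoE I (extD x.1) (extS x.2) (extD_sum _) (extS_sign _)).1,
        (monoE I (extD x.1) (extS x.2) (extD_sum _) (extS_sign _)).2, by
        show (monoE I (extD x.1) (extS x.2) (extD_sum _) (extS_sign _)).1 1 = 1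
        rw [monoE_apply]
        show monoC _ _ (unitC 0 0) = unitC 0 0
        rw [monoC_unit, extS_zero]
        rfl⟩)
      fun _ => ⟨tP 2, h2, (by decide +kernel : tP 2 1 = 1)⟩
  have hswap : ∀ v, tP 2 v = monoC 0 (Equiv.swap 1 2) v :=
    IsAdd.ext (isAdd_linC _ (tI_lt 2)) (isAdd_monoC _ _) (by decide +kernel)
  have hf : Function.Injective f := by
    intro a b e
    have e' : ∀ v, (f a).1 v = (f b).1 v := fun v => by rw [e]
    have hne : ∀ (x : (Fin 4 → ZMod 3) × ↥(alternatingGroup (Fin 5))),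
        ¬ ∀ v, (monoE I (extD x.1) (extS x.2) (extD_sum _) (extS_sign _)).1 v = tP 2 v := by
      intro x hx
      have hh := (monoC_inj (d := extD x.1) (σ := extS x.2) (d' := 0) (σ' := Equiv.swap 1 2) fun v => by
        rw [← monoE_apply I (extD_sum _) (extS_sign _), hx, hswap]).2
      have := extS_sign x.2
      rw [hh, Equiv.Perm.sign_swap (by decide)] at this
      exact absurd this (by decide)
    rcases a with x | ⟨⟩ <;> rcases b with y | ⟨⟩
    · obtain ⟨hd, hs⟩ := monoC_inj (d := extD x.1) (σ := extS x.2) (d' := extD y.1) (σ' := extS y.2)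
        fun v => by
          rw [← monoE_apply I (extD_sum _) (extS_sign _), ← monoE_apply I (extD_sum _) (extS_sign _)]
          exact e' v
      exact congrArg Sum.inl (Prod.ext (extD_inj hd) (extS_inj hs))
    · exact absurd e' (hne x)
    · exact absurd (fun v => (e' v).symm) (hne y)
    · rfl
  have h := (Nat.card_le_card_of_injective f hf).trans (card_fix_one_le I hI)
  rw [Nat.card_sum, Nat.card_prod, Nat.card_fun, Nat.card_zmod, nat_card_alternatingGroup,
    Nat.card_fin, Nat.card_fin, Nat.card_unique] at h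
  norm_num [Nat.factorial] at h

/-! ### Faithfulness -/

/-- The codes of the line of a number. -/
def lnL (n : ℕ) : List ℕ := [n, wN n, wN (wN n)]

theorem SL.mem_lnL {a b : Cd} (h : SL a b) : a.1 ∈ lnL b.1 := by
  rcases h with rfl | rfl | rfl <;> simp [lnL, wC]

theorem not_anti_tbl : ∀ A ∈ lnL 80, ∀ B ∈ lnL 320, ∀ C ∈ lnL 144,
    A ^^^ B ∈ lnL 272 → C ^^^ A ^^^ B ∈ lnL 384 → C ^^^ wN (wN B) ∈ lnL 528 → False := by
  decide +kernel

theorem pair_tbl : ∀ t ∈ [(80, 1280), (272, 1088), (320, 1040)], ∀ A ∈ lnL t.1, ∀ B ∈ lnL t.2,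
    5 ^^^ A ^^^ B ∈ lnL 1365 → A = t.1 ∧ B = t.2 := by
  decide +kernel

theorem line_144_tbl : ∀ C ∈ lnL 144, C ^^^ 640 ∈ lnL 528 → C = 144 := by decide +kernel

/-- Fixed lines are fixed pointwise up to scalars. -/
def FixLine (p : Cd → Cd) (n : ℕ) : Prop := SL (p (cd n)) (cd n)

theorem cd_small : ∀ n ∈ [80, 144, 272, 320, 384, 528, 640, 1040, 1088, 1280, 1365],
    (∃ i, SL (cd n) (rep i)) ∧ (cd n).1 = n := by decide +kernel

theorem fixed_mem {p : Cd → Cd} (hs : IsSym p) (hall : ∀ i, SL (p (rep i)) (rep i)) :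
    ∀ n ∈ [80, 144, 272, 320, 384, 528, 640, 1040, 1088, 1280, 1365], (p (cd n)).1 ∈ lnL n := by
  intro n hn
  obtain ⟨⟨i, hi⟩, e⟩ := cd_small n hn
  have := (((hs.sl hi).trans (hall i)).trans hi.symm).mem_lnL
  rwa [e] at this

theorem not_anti_of_fixed {p : Cd → Cd} (hs : IsSym p) (hall : ∀ i, SL (p (rep i)) (rep i)) :
    ¬ IsAntC p := by
  intro ha
  have hm := fixed_mem hs hall
  refine not_anti_tbl _ (hm 80 (by simp)) _ (hm 320 (by simp)) _ (hm 144 (by simp)) ?_ ?_ ?_
  · rw [← xo_val, ← hs.add, show xo (cd 80) (cd 320) = cd 272 by decide +kernel]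
    exact hm 272 (by simp)
  · rw [← xo_val, ← xo_val, ← hs.add, ← hs.add,
      show xo (xo (cd 144) (cd 80)) (cd 320) = cd 384 by decide +kernel]
    exact hm 384 (by simp)
  · rw [show wN (wN (p (cd 320)).1) = (p (wC (cd 320))).1 by rw [ha]; rfl, ← xo_val, ← hs.add,
      show xo (cd 144) (wC (cd 320)) = cd 528 by decide +kernel]
    exact hm 528 (by simp)

theorem fixed_tail {p : Cd → Cd} (hs : IsSym p) (hl : IsLinC p) (h5 : p 5 = 5)
    (hall : ∀ i, SL (p (rep i)) (rep i)) : ∀ n ∈ [16, 64, 256, 1024], p (cd n) = cd n := by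
  have hm := fixed_mem hs hall
  have hcd : ∀ n ∈ [80, 144, 272, 320, 384, 528, 640, 1040, 1088, 1280, 1365], (cd n).1 = n :=
    fun n hn => (cd_small n hn).2
  have hpair : ∀ t ∈ [(80, 1280), (272, 1088), (320, 1040)],
      p (cd t.1) = cd t.1 ∧ p (cd t.2) = cd t.2 := by
    intro t ht
    have hmem : ∀ t ∈ [(80, 1280), (272, 1088), (320, 1040)],
        t.1 ∈ [80, 144, 272, 320, 384, 528, 640, 1040, 1088, 1280, 1365] ∧
        t.2 ∈ [80, 144, 272, 320, 384, 528, 640, 1040, 1088, 1280, 1365] ∧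
        xo (xo 5 (cd t.1)) (cd t.2) = cd 1365 := by decide +kernel
    obtain ⟨h1, h2, h12⟩ := hmem t ht
    obtain ⟨e1, e2⟩ := pair_tbl t ht _ (hm _ h1) _ (hm _ h2) (by
      rw [show (5 : ℕ) = (p 5).1 by rw [h5]; rfl, ← xo_val, ← xo_val, ← hs.add, ← hs.add, h12]
      exact hm 1365 (by simp))
    exact ⟨Fin.ext (e1.trans (hcd _ h1).symm), Fin.ext (e2.trans (hcd _ h2).symm)⟩
  have h80 := (hpair (80, 1280) (by simp)).1
  have h320 := (hpair (320, 1040) (by simp)).1
  have h1280 := (hpair (80, 1280) (by simp)).2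
  have h640 : p (wC (cd 320)) = wC (cd 320) := by rw [hl, h320]
  have h144 : p (cd 144) = cd 144 := by
    refine Fin.ext ((line_144_tbl _ (hm 144 (by simp)) ?_).trans (hcd 144 (by simp)).symm)
    rw [show (640 : ℕ) = (p (wC (cd 320))).1 by rw [h640]; decide +kernel, ← xo_val, ← hs.add,
      show xo (cd 144) (wC (cd 320)) = cd 528 by decide +kernel]
    exact hm 528 (by simp)
  have h64 : p (cd 64) = cd 64 := by
    rw [show cd 64 = wC (xo (cd 80) (cd 144)) by decide +kernel, hl, hs.add, h80, h144]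
  have h16 : p (cd 16) = cd 16 := by
    rw [show cd 16 = xo (cd 80) (cd 64) by decide +kernel, hs.add, h80, h64]
  have h256 : p (cd 256) = cd 256 := by
    rw [show cd 256 = xo (cd 320) (cd 64) by decide +kernel, hs.add, h320, h64]
  have h1024 : p (cd 1024) = cd 1024 := by
    rw [show cd 1024 = xo (cd 1280) (cd 256) by decide +kernel, hs.add, h1280, h256]
  intro n hn
  fin_cases hn
  exacts [h16, h64, h256, h1024]

theorem head_tbl : allB (fun X => decide (qN X = 1 → qN (5 ^^^ X) = 1 →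
    [16, 64, 256, 1024].all (orthN X) = true → X = 1 ∨ X = 4)) 12 0 = true := by
  decide +kernel

theorem eq_one_or_swap {p : Cd → Cd} (hs : IsSym p) (hl : IsLinC p) (h5 : p 5 = 5)
    (hall : ∀ i, SL (p (rep i)) (rep i)) : (∀ v, p v = v) ∨ ∀ v, p v = tP 1 v := by
  have ht := fixed_tail hs hl h5 hall
  have h4 : p (cd 4) = xo 5 (p 1) := by
    rw [← h5, show cd 4 = xo 5 1 by decide +kernel, hs.add, h5]
  have hX : (p 1).1 = 1 ∨ (p 1).1 = 4 := by
    refine of_decide_eq_true (forall_cd head_tbl (p 1)) (by rw [hs.q]; rfl) ?_ ?_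
    · rw [show (5 : ℕ) ^^^ (p 1).1 = (p (cd 4)).1 by rw [h4]; rfl, hs.q]
      decide +kernel
    · rw [List.all_eq_true]
      intro n hn
      have hn' : (cd n).1 = n ∧ Orth 1 (cd n) := by
        revert n
        decide +kernel
      rw [← hn'.1, ← orth_iff, ← ht n hn, hs.orth]
      exact hn'.2
  have hbit : ∀ j : Fin 12, ∃ n ∈ [1, 4, 16, 64, 256, 1024], bit j = cd n ∨ bit j = wC (cd n) := by
    decide +kernel
  have ext' : ∀ q : Cd → Cd, IsAdd q → IsLinC q →
      (∀ n ∈ [1, 4, 16, 64, 256, 1024], p (cd n) = q (cd n)) → ∀ v, p v = q v := by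
    intro q hq hq' h
    refine IsAdd.ext hs.add hq fun j => ?_
    obtain ⟨n, hn, e | e⟩ := hbit j <;> rw [e]
    · exact h n hn
    · rw [hl, hq', h n hn]
  have hswap : IsLinC (tP 1) := fun v => Fin.ext (of_decide_eq_true
    (forall_cd (f := fun v => decide (apL (tI 1) (wN v) = wN (apL (tI 1) v))) (by decide +kernel) v))
  rcases hX with hX | hX
  · left
    refine ext' id isAdd_id (fun _ => rfl) fun n hn => ?_
    have h1 : p (cd 1) = cd 1 := Fin.ext hX
    fin_cases hn
    exacts [h1, by rw [h4, show p 1 = 1 from h1]; decide +kernel, ht _ (by simp), ht _ (by simp),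
      ht _ (by simp), ht _ (by simp)]
  · right
    refine ext' (tP 1) (isAdd_linC _ (tI_lt 1)) hswap fun n hn => ?_
    have h1 : p (cd 1) = cd 4 := Fin.ext hX
    fin_cases hn
    exacts [h1.trans (by decide +kernel), by rw [h4, show p 1 = cd 4 from h1]; decide +kernel,
      (ht _ (by simp)).trans (by decide +kernel), (ht _ (by simp)).trans (by decide +kernel),
      (ht _ (by simp)).trans (by decide +kernel), (ht _ (by simp)).trans (by decide +kernel)]

theorem actHom_injective {I : Img} (hI : I.Good) : Function.Injective (actHom hI) := by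
  rw [injective_iff_map_eq_one]
  intro p hp
  have hall : ∀ i, SL (p.1 (rep i)) (rep i) := fun i => by
    have e : act hI p i = i := congrFun (congrArg (fun π : ↥Transpos.O6.autGraph => ⇑π.1) hp) i
    have := sl_act hI p i
    rwa [e] at this
  have hs := I.sym _ p.2.1
  have hM : p.1 ∈ I.M := by
    by_contra h
    exact not_anti_of_fixed hs hall (hI.anti _ p.2.1 h)
  rcases eq_one_or_swap hs (I.lin _ hM) p.2.2 hall with h | h
  · exact Subtype.ext (Equiv.ext h)
  · exact absurd (Equiv.ext h ▸ hM) (tP_one_not_mem I hI)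

/-! ### Orders -/

theorem card_small : Nat.card {v : Cd // inO 0 v.1 = true} = 378 := by
  rw [Nat.card_eq_fintype_card, Fintype.card_subtype]
  decide +kernel

theorem orb_five {I : Img} (hI : I.Good) : orb I.H 5 = {v | inO 0 v.1 = true} := by
  ext v
  refine ⟨?_, fun hv => orb_of_forest (fun k => I.hMH (hI.gM_mem k)) gM_val (r := 5) forO_ok hv⟩
  rintro ⟨p, hp, rfl⟩
  show inO 0 _ = true
  rw [hI.inv_O p hp]
  decide +kernel

theorem card_H (I : Img) : Nat.card I.H = 19595520 := by
  have h := (I.M.subgroupOf I.H).card_mul_index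
  rw [Nat.card_congr (Subgroup.subgroupOfEquivOfLe I.hMH).toEquiv, I.card_M,
    show (I.M.subgroupOf I.H).index = I.M.relIndex I.H from rfl, I.index_two] at h
  omega

theorem card_stab_five {I : Img} (hI : I.Good) : Nat.card ↥(I.H ⊓ fixP 5) = 51840 := by
  have h := card_eq_orb_mul I.H 5
  rw [card_H, orb_five hI, Set.coe_ofPred, card_small] at h
  omega

theorem card_isometry_minus_six :
    Nat.card ↥(Cfsg.isometryGroup (ZMod 2) (Cfsg.quadFormMinus 2 (ZMod 2) 1 1)) = 51840 := by
  have hab : ∀ z₁ z₂ : ZMod 2, z₁ ^ 2 + 1 * z₁ * z₂ + 1 * z₂ ^ 2 = 0 → z₁ = 0 ∧ z₂ = 0 := by decide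
  rw [Forms.card_isometryGroup _ Forms.quadMinus_apply, Forms.card_isomQ_quadMinus 2 hab, ZMod.card]
  norm_num [Finset.prod_range_succ]

/-- The stabiliser of a vector of the small orbit is the orthogonal group of minus type. -/
theorem stab_five_iso (I : Img) (hI : I.Good) :
    Nonempty (↥(I.H ⊓ fixP 5) ≃* Cfsg.isometryGroup (ZMod 2) (Cfsg.quadFormMinus 2 (ZMod 2) 1 1)) := by
  refine ⟨MulEquiv.ofBijective (Transpos.O6.toIsometry.comp (actHom hI)) ?_⟩
  exact (Nat.bijective_iff_injective_and_card _).2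
    ⟨Transpos.O6.toIsometry_injective.comp (actHom_injective hI),
      (card_stab_five hI).trans card_isometry_minus_six.symm⟩

end Cfsg.Agent.LargeFischer
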