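import Cfsg.Agent.Lib.LargeFischer.Interface
import Cfsg.Agent.Lib.LargeFischer.Stab45
import Cfsg.Agent.Lib.LargeExtraspecial.Setting
import Cfsg.Agent.Lib.PGroup.Extraspecial

/-!
# A conjugate of `z` in `Q`, in coordinates

For `s = g z g⁻¹` in `Q`, `s ≠ z`: `interG Q g = Q ∩ Q^g` is elementary of order at most `2 ^ 7`, its image `imgE` in the
coordinates is an elementary 2-group of order at least 32 normalised by the stabiliser of the code of `s`; the code of
`s` is outside `inO 0`; `isConj_iff_code`: these codes are exactly the codes of the conjugates.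
-/

set_option autoImplicit false

namespace Cfsg.Agent.LargeFischer

open Subgroup LargeExtraspecial

variable {G : Type*} [Group G] {z : G}

/-- The image of `Q` in the group. -/
abbrev qG (Q : Subgroup (centralizer ({z} : Set G))) : Subgroup G :=
  Q.map (centralizer ({z} : Set G)).subtype

/-- What is used of the setting. -/
structure QFacts (z : G) (Q : Subgroup (centralizer ({z} : Set G))) : Prop where
  hub : Hub (qG Q) z
  card : Nat.card ↥(qG Q) = 2 ^ 13
  ex : Cfsg.IsExtraspecial 2 ↥(qG Q)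

theorem qFacts_of_type [Finite G] {Q : Subgroup (centralizer ({z} : Set G))} [Q.Normal]
    (hF : Cfsg.IsOfLargeFischerTypeAt z Q) : QFacts z Q := by
  obtain ⟨⟨hz2, hFit, hex, hcard, -⟩, -⟩ := hF
  have hex' := TI.isExtraspecial_congr (Q.equivMapOfInjective _ (centralizer ({z} : Set G)).subtype_injective) hex
  exact ⟨(Hub.of_setting hz2 (map_subtype_le _) (by rw [hFit]) hex').1,
    by rw [card_map_of_injective (subtype_injective _), hcard], hex'⟩

/-- `Q ∩ Q^g`. -/
def interG (Q : Subgroup (centralizer ({z} : Set G))) (g : G) : Subgroup G :=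
  qG Q ⊓ (qG Q).map (MulAut.conj g).toMonoidHom

/-- `C_{Q^g}(z)`. -/
def centG (Q : Subgroup (centralizer ({z} : Set G))) (g : G) : Subgroup G :=
  (qG Q).map (MulAut.conj g).toMonoidHom ⊓ centralizer ({z} : Set G)

theorem two_cases : ∀ n : Fin 2, n = 0 ∨ n = 1 := by decide

section Facts

variable {Q : Subgroup (centralizer ({z} : Set G))} (F : QFacts z Q) {g : G}

include F

theorem QFacts.conjSq : g * z * g⁻¹ * (g * z * g⁻¹) = 1 := (F.hub.conj g).sq

theorem QFacts.conj_ne_one : g * z * g⁻¹ ≠ 1 := (F.hub.conj g).ne_one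

theorem QFacts.interG_sq (hne : g * z * g⁻¹ ≠ z) {x : G} (hx : x ∈ interG Q g) : x * x = 1 := by
  rcases F.hub.sq_cases x hx.1 with e | e
  · exact e
  rcases (F.hub.conj g).sq_cases x hx.2 with e' | e'
  · exact e'
  · exact absurd (e'.symm.trans e) hne

theorem QFacts.interG_comm (hne : g * z * g⁻¹ ≠ z) : IsMulCommutative (interG Q g) := by
  refine ⟨⟨fun a b => Subtype.ext ?_⟩⟩
  show (a : G) * (b : G) = (b : G) * (a : G)
  rcases F.hub.comm a a.2.1 b b.2.1 with e | e
  · exact mul_inv_eq_iff_eq_mul.1 e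
  rcases (F.hub.conj g).comm a a.2.2 b b.2.2 with e' | e'
  · exact mul_inv_eq_iff_eq_mul.1 e'
  · exact absurd (mul_left_cancel (e'.symm.trans e)) hne

theorem QFacts.interG_elementary (hne : g * z * g⁻¹ ≠ z) : Cfsg.IsElementaryAbelian 2 (interG Q g) :=
  ⟨F.interG_comm hne, fun x hx => by rw [pow_two]; exact F.interG_sq hne hx⟩

theorem QFacts.card_interG_le [Finite G] (hne : g * z * g⁻¹ ≠ z) : Nat.card (interG Q g) ≤ 2 ^ 7 := by
  have : Fact (Nat.Prime 2) := ⟨Nat.prime_two⟩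
  have hc : IsMulCommutative ((interG Q g).subgroupOf (qG Q)) :=
    ⟨⟨fun a b => Subtype.ext (Subtype.ext
      (congrArg Subtype.val ((F.interG_comm hne).is_comm.comm (⟨_, a.2⟩ : interG Q g) ⟨_, b.2⟩) :))⟩⟩
  have h := PGroup.extraspecial_abelian_card_le F.ex hc
  have e : Nat.card ((interG Q g).subgroupOf (qG Q)) = Nat.card (interG Q g) :=
    Nat.card_congr (subgroupOfEquivOfLe (inf_le_left : interG Q g ≤ qG Q)).toEquiv
  rw [e, F.card] at h
  exact (Nat.pow_le_pow_iff_left (n := 2) (by norm_num)).1 (h.trans (by norm_num))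

theorem QFacts.z_mem_conj [Finite G] (hs : g * z * g⁻¹ ∈ qG Q) (hne : g * z * g⁻¹ ≠ z) :
    z ∈ (qG Q).map (MulAut.conj g).toMonoidHom := by
  refine F.hub.self_mem_conj g hs hne (F.hub.exists_noncommuting_pair ?_ hs F.conjSq)
  rw [F.card]; norm_num

theorem QFacts.card_centG_ge [Finite G] (hs : g * z * g⁻¹ ∈ qG Q) (hne : g * z * g⁻¹ ≠ z) :
    2 ^ 12 ≤ Nat.card (centG Q g) := by
  classical
  set P := (qG Q).map (MulAut.conj g).toMonoidHom with hP
  have hub := F.hub.conj g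
  have hrz : ∀ a ∈ P, a * z * a⁻¹ = z ∨ a * z * a⁻¹ = z * (g * z * g⁻¹) := fun a ha =>
    hub.comm a ha z (F.z_mem_conj hs hne)
  obtain ⟨r₀, hr₀, hmove⟩ : ∃ r₀ ∈ P, ∀ a ∈ P, ¬ Commute a z → Commute (r₀⁻¹ * a) z := by
    by_cases hall : ∀ a ∈ P, Commute a z
    · exact ⟨1, one_mem _, fun a ha h => absurd (hall a ha) h⟩
    push Not at hall
    obtain ⟨r, hr, hrn⟩ := hall
    refine ⟨r, hr, fun a ha han => ?_⟩
    have e1 := (hrz r hr).resolve_left fun e => hrn (mul_inv_eq_iff_eq_mul.1 e)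
    have e2 := (hrz a ha).resolve_left fun e => han (mul_inv_eq_iff_eq_mul.1 e)
    refine mul_inv_eq_iff_eq_mul.1 ?_
    calc r⁻¹ * a * z * (r⁻¹ * a)⁻¹ = r⁻¹ * (a * z * a⁻¹) * r := by group
      _ = r⁻¹ * (r * z * r⁻¹) * r := by rw [e1, e2]
      _ = z := by group
  let φ : P → centG Q g × Bool := fun a =>
    if h : Commute (a : G) z then (⟨a, a.2, mem_centralizer_singleton_iff.2 h.eq⟩, true)
    else (⟨r₀⁻¹ * a, P.mul_mem (P.inv_mem hr₀) a.2, mem_centralizer_singleton_iff.2 (hmove a a.2 h).eq⟩, false)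
  have hφ : Function.Injective φ := by
    intro a b h
    simp only [φ] at h
    split_ifs at h
    · exact Subtype.ext (Subtype.ext_iff.1 (congrArg Prod.fst h) :)
    · exact Bool.noConfusion (congrArg Prod.snd h)
    · exact Bool.noConfusion (congrArg Prod.snd h)
    · exact Subtype.ext (mul_left_cancel (Subtype.ext_iff.1 (congrArg Prod.fst h) :))
  have h := Nat.card_le_card_of_injective φ hφ
  rw [hP, card_map_of_injective (MulAut.conj g).injective, F.card, Nat.card_prod,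
    Nat.card_eq_fintype_card (α := Bool), Fintype.card_bool] at h
  omega

end Facts

/-- The diagonal map with `w` at `i` and `w²` at `j`, on natural numbers. -/
def diagN (i j : Fin 6) (v : ℕ) : ℕ := apL (monoImg (Pi.single i 1 + Pi.single j 2) 1) v

/-- Two steps leaving the coordinate `i` only. -/
def stepN (i j k : Fin 6) (v : ℕ) : ℕ := (v ^^^ diagN i j v) ^^^ diagN i k (v ^^^ diagN i j v)

theorem step_ok (v : Cd) : v.1 < 16 ∨ qN (stepN 2 3 4 v.1) = 1 ∨ qN (stepN 3 2 4 v.1) = 1 ∨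
    qN (stepN 4 2 3 v.1) = 1 ∨ qN (stepN 5 2 3 v.1) = 1 :=
  of_decide_eq_true (forall_cd (f := fun v => decide (v < 16 ∨ qN (stepN 2 3 4 v) = 1 ∨
    qN (stepN 3 2 4 v) = 1 ∨ qN (stepN 4 2 3 v) = 1 ∨ qN (stepN 5 2 3 v) = 1)) (by decide +kernel) v)

theorem low_ok : ∀ a b : Fin 16, qN a.1 = 0 → qN b.1 = 0 → qN (a.1 ^^^ b.1) = 0 → a.1 % 4 = b.1 % 4 → a = b := by
  decide +kernel

theorem diag_fix_five : ∀ i j : Fin 6, 2 ≤ i.1 → 2 ≤ j.1 →
    monoC (Pi.single i 1 + Pi.single j 2) 1 5 = 5 := by decide +kernel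

theorem diag_sum : ∀ i j : Fin 6, ∑ l, (Pi.single i 1 + Pi.single j 2 : Fin 6 → ZMod 3) l = 0 := by
  decide +kernel

theorem stepN_val (i j k : Fin 6) (v : Cd) :
    (xo (xo v (monoC (Pi.single i 1 + Pi.single j 2) 1 v))
      (monoC (Pi.single i 1 + Pi.single k 2) 1 (xo v (monoC (Pi.single i 1 + Pi.single j 2) 1 v)))).1 =
      stepN i j k v.1 := by
  simp only [stepN, diagN, xo_val, monoC, linC]

namespace Coord

variable {Q : Subgroup (centralizer ({z} : Set G))} [Q.Normal] (C : Coord z Q)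

include C

/-- The element of the group. -/
theorem val_mem (a : Q) : ((a : centralizer ({z} : Set G)) : G) ∈ qG Q := ⟨a, a.2, rfl⟩

theorem co_one : C.co 1 = 0 := (C.co_eq_zero 1).2 (Or.inl rfl)

theorem co_inv (a : Q) : C.co a⁻¹ = C.co a := by
  have h := C.co_mul a⁻¹ a
  rw [inv_mul_cancel, C.co_one] at h
  calc C.co a⁻¹ = xo (C.co a⁻¹) (xo (C.co a) (C.co a)) := by rw [xo_self, xo_zero]
    _ = xo (xo (C.co a⁻¹) (C.co a)) (C.co a) := (xo_assoc _ _ _).symm
    _ = C.co a := by rw [← h, xo_comm, xo_zero]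

theorem co_cases {a b : Q} (h : C.co a = C.co b) :
    ((b : centralizer ({z} : Set G)) : G) = ((a : centralizer ({z} : Set G)) : G) ∨
      ((b : centralizer ({z} : Set G)) : G) = ((a : centralizer ({z} : Set G)) : G) * z := by
  have h0 : C.co (a⁻¹ * b) = 0 := by rw [C.co_mul, C.co_inv, h, xo_self]
  simp only [C.co_eq_zero, coe_mul, InvMemClass.coe_inv] at h0
  rcases h0 with e | e
  · exact Or.inl (inv_mul_eq_one.1 e).symm
  · exact Or.inr (inv_mul_eq_iff_eq_mul.1 e)

theorem act_mem (h : centralizer ({z} : Set G)) : C.act h ∈ C.I.H := C.range_act ▸ ⟨h, rfl⟩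

theorem exists_act {p : Equiv.Perm Cd} (hp : p ∈ C.I.H) : ∃ h, C.act h = p := by
  rw [← C.range_act] at hp
  exact hp

theorem isSym_act (h : centralizer ({z} : Set G)) : IsSym (C.act h) := C.I.sym _ (C.act_mem h)

theorem act_of_mem {r : centralizer ({z} : Set G)} (hr : r ∈ Q) : C.act r = 1 :=
  MonoidHom.mem_ker.1 (C.act_ker.symm ▸ hr)

theorem act_conj {h : centralizer ({z} : Set G)} {a b : Q}
    (e : (h : G) * ((a : centralizer ({z} : Set G)) : G) * (h : G)⁻¹ = ((b : centralizer ({z} : Set G)) : G)) :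
    C.act h (C.co a) = C.co b := by
  rw [C.act_co]
  congr 1
  exact Subtype.ext (Subtype.ext e)

/-- Elements with the same action on the codes can be adjusted by `Q`. -/
theorem exists_conj (F : QFacts z Q) {h : centralizer ({z} : Set G)} {a b : Q}
    (hb1 : ((b : centralizer ({z} : Set G)) : G) ≠ 1) (hbz : ((b : centralizer ({z} : Set G)) : G) ≠ z)
    (e : C.act h (C.co a) = C.co b) : ∃ h' : centralizer ({z} : Set G), C.act h' = C.act h ∧
      (h' : G) * ((a : centralizer ({z} : Set G)) : G) * (h' : G)⁻¹ = ((b : centralizer ({z} : Set G)) : G) := by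
  rw [C.act_co] at e
  rcases C.co_cases e with e1 | e1
  · exact ⟨h, rfl, e1.symm⟩
  · obtain ⟨q, hq, hqb⟩ := F.hub.exists_not_commute hb1 hbz
    obtain ⟨r, hr, rfl⟩ := hq
    have hflip := (F.hub.comm _ ⟨r, hr, rfl⟩ _ (C.val_mem b)).resolve_left fun e' =>
      hqb (mul_inv_eq_iff_eq_mul.1 e').symm
    refine ⟨r * h, by rw [map_mul, C.act_of_mem hr, one_mul], ?_⟩
    set x := (h : G) * ((a : centralizer ({z} : Set G)) : G) * (h : G)⁻¹
    have e2 : x = ((b : centralizer ({z} : Set G)) : G) * z := by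
      rw [show ((b : centralizer ({z} : Set G)) : G) = x * z from e1, mul_assoc, F.hub.sq, mul_one]
    calc ((r * h : centralizer ({z} : Set G)) : G) * ((a : centralizer ({z} : Set G)) : G) * ((r * h : centralizer ({z} : Set G)) : G)⁻¹
        = (r : G) * x * (r : G)⁻¹ := by simp only [coe_mul, x]; group
      _ = ((r : G) * ((b : centralizer ({z} : Set G)) : G) * (r : G)⁻¹) * ((r : G) * z * (r : G)⁻¹) := by
          rw [e2]; group
      _ = _ := by
          rw [show (r : G) * ((b : centralizer ({z} : Set G)) : G) * (r : G)⁻¹ =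
              ((b : centralizer ({z} : Set G)) : G) * z from hflip,
            (F.hub.central _ ⟨r, hr, rfl⟩ : Commute (r : G) z).eq, mul_inv_cancel_right, mul_assoc, F.hub.sq,
            mul_one]

/-- Coordinates changed by an element of the image. -/
noncomputable def twist (p : Equiv.Perm Cd) (hp : p ∈ C.I.H) : Coord z Q where
  co a := p (C.co a)
  co_surjective := p.surjective.comp C.co_surjective
  co_mul a b := by rw [C.co_mul, (C.I.sym p hp).add]
  co_eq_zero a := by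
    rw [← C.co_eq_zero a]
    constructor
    · intro h; exact p.injective (h.trans (C.I.sym p hp).add.zero.symm)
    · intro h; rw [h, (C.I.sym p hp).add.zero]
  co_sq a := by rw [(C.I.sym p hp).q]; exact C.co_sq a
  act := (MulAut.conj p).toMonoidHom.comp C.act
  act_ker := by
    ext h
    rw [MonoidHom.mem_ker, MonoidHom.comp_apply, MulEquiv.coe_toMonoidHom,
      map_eq_one_iff _ (MulAut.conj p).injective, ← MonoidHom.mem_ker, C.act_ker]
  act_co h a := by
    show (p * C.act h * p⁻¹) (p (C.co a)) = _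
    rw [Equiv.Perm.mul_apply, Equiv.Perm.mul_apply, show (p⁻¹) (p (C.co a)) = C.co a from p.symm_apply_apply _,
      C.act_co]
  I := C.I
  range_act := by
    ext q
    constructor
    · rintro ⟨h, rfl⟩
      exact C.I.H.mul_mem (C.I.H.mul_mem hp (C.act_mem h)) (C.I.H.inv_mem hp)
    · intro hq
      obtain ⟨h, hh⟩ := C.exists_act (C.I.H.mul_mem (C.I.H.mul_mem (C.I.H.inv_mem hp) hq) hp)
      refine ⟨h, ?_⟩
      show p * C.act h * p⁻¹ = q
      rw [hh]; group

variable {g : G} {a : Q}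

/-- The image of `C_{Q^g}(z)`. -/
def imgE (g : G) : Subgroup (Equiv.Perm Cd) :=
  ((centG Q g).subgroupOf (centralizer ({z} : Set G))).map C.act

theorem card_centG_eq [Finite G] : Nat.card (centG Q g) = Nat.card (interG Q g) * Nat.card (C.imgE g) := by
  set K := (centG Q g).subgroupOf (centralizer ({z} : Set G))
  have hKc : Nat.card K = Nat.card (centG Q g) :=
    Nat.card_congr (subgroupOfEquivOfLe inf_le_right).toEquiv
  set f := C.act.comp K.subtype
  have h := Subgroup.card_mul_index f.ker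
  rw [index_ker, hKc] at h
  rw [← h]
  congr 1
  · refine Nat.card_congr ⟨fun x => ⟨((x.1 : centralizer ({z} : Set G)) : G),
        ⟨⟨_, C.act_ker ▸ x.2, rfl⟩, x.1.2.1⟩⟩,
      fun x => ⟨⟨⟨x.1, map_subtype_le Q x.2.1⟩, x.2.2, map_subtype_le Q x.2.1⟩, ?_⟩, fun x => rfl, fun x => rfl⟩
    obtain ⟨r, hr, e⟩ := x.2.1
    show C.act ⟨x.1, _⟩ = 1
    rw [show (⟨x.1, map_subtype_le Q x.2.1⟩ : centralizer ({z} : Set G)) = r from Subtype.ext e.symm]
    exact C.act_of_mem hr
  · rw [show f.range = C.imgE g by rw [MonoidHom.range_comp, range_subtype]; rfl]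

variable (F : QFacts z Q) (ha : ((a : centralizer ({z} : Set G)) : G) = g * z * g⁻¹)

include F

theorem imgE_two [Finite G] : IsPGroup 2 (C.imgE g) := by
  refine IsPGroup.map ?_ _
  refine ((IsPGroup.of_card (n := 13) ?_).to_le inf_le_left).comap_of_injective _ (subtype_injective _)
  rw [card_map_of_injective (MulAut.conj g).injective, F.card]

theorem card_mul_imgE [Finite G] (hs : g * z * g⁻¹ ∈ qG Q) (hne : g * z * g⁻¹ ≠ z) :
    2 ^ 12 ≤ Nat.card (interG Q g) * Nat.card (C.imgE g) :=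
  C.card_centG_eq (g := g) ▸ F.card_centG_ge hs hne

include ha

theorem imgE_le : C.imgE g ≤ C.I.H ⊓ fixP (C.co a) := by
  rintro _ ⟨h, hh, rfl⟩
  refine ⟨C.act_mem h, C.act_conj ?_⟩
  rw [ha]
  exact mul_inv_eq_iff_eq_mul.2 ((F.hub.conj g).central _ hh.1).eq

theorem exists_commuting (hne : g * z * g⁻¹ ≠ z) {p : Equiv.Perm Cd} (hp : p ∈ C.I.H ⊓ fixP (C.co a)) :
    ∃ h : centralizer ({z} : Set G), C.act h = p ∧ Commute (h : G) (g * z * g⁻¹) := by
  obtain ⟨hpH, hpf⟩ := hp
  obtain ⟨h, rfl⟩ := C.exists_act hpH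
  obtain ⟨h', he, hc⟩ := C.exists_conj F (a := a) (b := a) (h := h) (ha ▸ F.conj_ne_one) (ha ▸ hne) hpf
  refine ⟨h', he, ?_⟩
  rw [ha, mul_inv_eq_iff_eq_mul] at hc
  exact hc

theorem imgE_normalized (hne : g * z * g⁻¹ ≠ z) :
    C.I.H ⊓ fixP (C.co a) ≤ normalizer (C.imgE g : Set (Equiv.Perm Cd)) := by
  have key : ∀ p ∈ C.I.H ⊓ fixP (C.co a), ∀ e ∈ C.imgE g, p * e * p⁻¹ ∈ C.imgE g := by
    rintro p hp _ ⟨r, hr, rfl⟩
    obtain ⟨h, rfl, hc⟩ := C.exists_commuting F ha hne hp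
    refine ⟨h * r * h⁻¹, ⟨(F.hub.conj g).normalizes h hc r hr.1, (h * r * h⁻¹).2⟩, by simp⟩
  intro p hp
  refine mem_normalizer_iff.2 fun e => ⟨key p hp e, fun he => ?_⟩
  have := key p⁻¹ (inv_mem hp) _ he
  simpa [mul_assoc] using this

theorem imgE_elementary : Cfsg.IsElementaryAbelian 2 (C.imgE g) := by
  have hz : ∀ r : centralizer ({z} : Set G), (r : G) = 1 ∨ (r : G) = g * z * g⁻¹ → C.act r = 1 := by
    rintro r (e | e)
    · rw [show r = 1 from Subtype.ext e, map_one]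
    · exact C.act_of_mem (by rw [show r = (a : centralizer ({z} : Set G)) from Subtype.ext (e.trans ha.symm)]; exact a.2)
  refine ⟨⟨⟨?_⟩⟩, ?_⟩
  · rintro ⟨_, r, hr, rfl⟩ ⟨_, t, ht, rfl⟩
    refine Subtype.ext ?_
    show C.act r * C.act t = C.act t * C.act r
    have h := hz (r * t * r⁻¹ * t⁻¹) (by
      show (r : G) * t * (r : G)⁻¹ * (t : G)⁻¹ = 1 ∨ _ = _
      rcases (F.hub.conj g).comm _ hr.1 _ ht.1 with e | e
      · exact Or.inl (mul_inv_eq_one.2 e)
      · exact Or.inr (mul_inv_eq_iff_eq_mul.2 (e.trans ((F.hub.conj g).central _ ht.1).eq)))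
    rw [map_mul, map_mul, map_mul, map_inv, map_inv, mul_inv_eq_one, mul_inv_eq_iff_eq_mul] at h
    exact h
  · rintro _ ⟨r, hr, rfl⟩
    rw [pow_two, ← map_mul]
    refine hz _ ?_
    exact (F.hub.conj g).sq_cases _ hr.1

set_option maxHeartbeats 1000000 in
/-- The code of a conjugate of `z` is not `5`. -/
theorem not_five [Finite G] (hne : g * z * g⁻¹ ≠ z) (h5 : C.co a = 5) : False := by
  classical
  have hs : g * z * g⁻¹ ∈ qG Q := ha ▸ C.val_mem a
  let L : Set Cd := {v | ∃ b : Q, ((b : centralizer ({z} : Set G)) : G) ∈ interG Q g ∧ C.co b = v}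
  have hL0 : ∀ v ∈ L, qN v.1 = 0 := by
    rintro _ ⟨b, hb, rfl⟩
    exact (C.co_sq b).1 (F.interG_sq hne hb)
  have hLadd : ∀ v ∈ L, ∀ w ∈ L, xo v w ∈ L := by
    rintro _ ⟨b, hb, rfl⟩ _ ⟨c, hc, rfl⟩
    exact ⟨b * c, mul_mem hb hc, C.co_mul b c⟩
  have hLd : ∀ i j : Fin 6, 2 ≤ i.1 → 2 ≤ j.1 → ∀ v ∈ L, monoC (Pi.single i 1 + Pi.single j 2) 1 v ∈ L := by
    rintro i j hi hj _ ⟨b, hb, rfl⟩
    obtain ⟨p, hp, hpv⟩ := C.I.mono (Pi.single i 1 + Pi.single j 2) 1 (diag_sum i j) (map_one _)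
    obtain ⟨h, rfl, hc⟩ := C.exists_commuting F ha hne
      (p := p) ⟨C.I.hMH hp, show p (C.co a) = C.co a by rw [h5, hpv, diag_fix_five i j hi hj]⟩
    refine ⟨⟨h * b * h⁻¹, (inferInstance : Q.Normal).conj_mem _ b.2 h⟩, ⟨?_, ?_⟩, ?_⟩
    · exact F.hub.normalizes h (mem_centralizer_singleton_iff.1 h.2) _ hb.1
    · exact (F.hub.conj g).normalizes h hc _ hb.2
    · rw [← C.act_co, hpv]
  have hstep : ∀ v ∈ L, ∀ i j k : Fin 6, 2 ≤ i.1 → 2 ≤ j.1 → 2 ≤ k.1 → qN (stepN i j k v.1) = 0 :=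
    fun v hv i j k hi hj hk => by
      rw [← stepN_val i j k v]
      exact hL0 _ (hLadd _ (hLadd _ hv _ (hLd i j hi hj _ hv)) _
        (hLd i k hi hk _ (hLadd _ hv _ (hLd i j hi hj _ hv))))
  have hlow : ∀ v ∈ L, v.1 < 16 := by
    intro v hv
    rcases step_ok v with e | e | e | e | e
    · exact e
    all_goals exact absurd ((hstep v hv _ _ _ (by decide) (by decide) (by decide)).symm.trans e) (by decide)
  have hLinj : ∀ v ∈ L, ∀ w ∈ L, v.1 % 4 = w.1 % 4 → v = w := fun v hv w hw e => by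
    have := low_ok ⟨v.1, hlow v hv⟩ ⟨w.1, hlow w hw⟩ (hL0 v hv) (hL0 w hw) (hL0 _ (hLadd v hv w hw)) e
    exact Fin.ext (congrArg Fin.val this :)
  have h8 : Nat.card (interG Q g) ≤ 8 := by
    let lift : interG Q g → Q := fun x => ⟨⟨x, map_subtype_le Q x.2.1⟩, by
      obtain ⟨r, hr, e⟩ := x.2.1
      exact (Subtype.ext e : r = ⟨x, map_subtype_le Q x.2.1⟩) ▸ hr⟩
    let φ : interG Q g → Fin 4 × Bool := fun x => (⟨(C.co (lift x)).1 % 4, Nat.mod_lt _ (by norm_num)⟩,
      decide ((x : G) = ((Function.invFun C.co (C.co (lift x)) : Q) : centralizer ({z} : Set G))))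
    have hφ : Function.Injective φ := by
      intro x y h
      have e : C.co (lift x) = C.co (lift y) :=
        hLinj _ ⟨lift x, x.2, rfl⟩ _ ⟨lift y, y.2, rfl⟩ (congrArg Fin.val (congrArg Prod.fst h))
      have hb : decide ((x : G) = ((Function.invFun C.co (C.co (lift x)) : Q) : centralizer ({z} : Set G))) =
          decide ((y : G) = ((Function.invFun C.co (C.co (lift x)) : Q) : centralizer ({z} : Set G))) := by
        have := congrArg Prod.snd h
        simp only [φ] at this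
        rwa [← e] at this
      set r := Function.invFun C.co (C.co (lift x))
      have hr : C.co r = C.co (lift x) := Function.invFun_eq ⟨lift x, rfl⟩
      rw [decide_eq_decide] at hb
      refine Subtype.ext ?_
      rcases C.co_cases hr with ex | ex <;> rcases C.co_cases (hr.trans e) with ey | ey
      · exact ex.trans ey.symm
      · exact absurd ((hb.1 ex).symm.trans ey) (fun e' => F.hub.ne_one (mul_eq_left.1 e'.symm))
      · exact absurd ((hb.2 ey).symm.trans ex) (fun e' => F.hub.ne_one (mul_eq_left.1 e'.symm))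
      · exact ex.trans ey.symm
    exact (Nat.card_le_card_of_injective φ hφ).trans (by simp)
  have h12 := (C.card_mul_imgE F hs hne).trans (Nat.mul_le_mul_right _ h8)
  have : Fact (Nat.Prime 2) := ⟨Nat.prime_two⟩
  obtain ⟨n, hn⟩ := IsPGroup.iff_card.1 (C.imgE_two F (g := g))
  have hd : 2 ^ n ∣ 19595520 := by
    rw [← hn, ← card_H C.I]
    exact Subgroup.card_dvd_of_le ((C.imgE_le F ha).trans inf_le_left)
  rw [hn] at h12
  have hn9 : 9 ≤ n := by
    by_contra h
    have := Nat.pow_le_pow_right (n := 2) (by norm_num) (Nat.le_of_lt_succ (not_le.1 h))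
    omega
  exact absurd ((pow_dvd_pow 2 hn9).trans hd) (by norm_num)

/-- The code of a conjugate of `z` is outside `inO 0`. -/
theorem code_conj [Finite G] (hM : ∀ k, gM k ∈ C.I.M) (hne : g * z * g⁻¹ ≠ z) :
    inU (C.co a).1 = true := by
  have h0 : C.co a ≠ 0 := fun e => by
    rcases (C.co_eq_zero a).1 e with e' | e'
    · exact F.conj_ne_one (ha ▸ e')
    · exact hne (ha ▸ e')
  have hq : qN (C.co a).1 = 0 := (C.co_sq a).1 (by rw [ha]; exact F.conjSq)
  have hO : inO 0 (C.co a).1 = false := by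
    by_contra h
    rw [Bool.not_eq_false] at h
    obtain ⟨p, hp, hp5⟩ := orb_of_forest hM gM_val (r := (5 : Cd)) forO_ok h
    refine (C.twist p⁻¹ (C.I.H.inv_mem (C.I.hMH hp))).not_five F ha hne ?_
    show p⁻¹ (C.co a) = 5
    rw [← hp5]
    exact p.symm_apply_apply 5
  have hne0 : (C.co a).1 ≠ 0 := fun e => h0 (Fin.ext e)
  simp [inU, hO, hq, hne0]

omit ha

omit F in
/-- `M` is transitive on the codes outside `inO 0`. -/
theorem transU (hM : ∀ k, gM k ∈ C.I.M) (v : Cd) (hq : qN v.1 = 0) (h0 : v ≠ 0) (hO : inO 0 v.1 = false) :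
    ∃ p ∈ C.I.M, p 85 = v := by
  have hne0 : v.1 ≠ 0 := fun e => h0 (Fin.ext e)
  exact orb_of_forest hM gM_val (r := (85 : Cd)) forU_ok (v := v) (by simp [inU, hO, hq, hne0])

/-- The conjugates of `z` in `Q` by their codes. -/
theorem isConj_iff_code [Finite G] (hM : ∀ k, gM k ∈ C.I.M)
    (hex : ∃ g : G, g * z * g⁻¹ ∈ qG Q ∧ g * z * g⁻¹ ≠ z) (b : Q) (hq : qN (C.co b).1 = 0) (h0 : C.co b ≠ 0) :
    IsConj z ((b : centralizer ({z} : Set G)) : G) ↔ inO 0 (C.co b).1 = false := by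
  have hb1 : ((b : centralizer ({z} : Set G)) : G) ≠ 1 := fun e => h0 ((C.co_eq_zero b).2 (Or.inl e))
  have hbz : ((b : centralizer ({z} : Set G)) : G) ≠ z := fun e => h0 ((C.co_eq_zero b).2 (Or.inr e))
  constructor
  · intro hc
    obtain ⟨g, hg⟩ := isConj_iff.1 hc
    have h := C.code_conj F (g := g) hg.symm hM (hg ▸ hbz)
    simp only [inU, Bool.and_eq_true, Bool.not_eq_true'] at h
    exact h.2
  · intro hO
    obtain ⟨g, hg, hgne⟩ := hex
    obtain ⟨r, hr, hrg⟩ := hg
    have h := C.code_conj F (a := ⟨r, hr⟩) (g := g) hrg hM hgne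
    simp only [inU, Bool.and_eq_true, Bool.not_eq_true', bne_iff_ne, beq_iff_eq] at h
    obtain ⟨p, hp, hp85⟩ := C.transU hM (C.co b) hq h0 hO
    obtain ⟨p', hp', hp85'⟩ := C.transU hM (C.co ⟨r, hr⟩) h.1.2 (fun e => h.1.1 (congrArg Fin.val e)) h.2
    obtain ⟨c, hc⟩ := C.exists_act (C.I.H.mul_mem (C.I.hMH hp) (C.I.H.inv_mem (C.I.hMH hp')))
    obtain ⟨c', -, hc'⟩ := C.exists_conj F (a := ⟨r, hr⟩) (b := b) (h := c) hb1 hbz (by
      rw [hc, Equiv.Perm.mul_apply, ← hp85', show p'⁻¹ (p' 85) = 85 from p'.symm_apply_apply 85, hp85])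
    refine isConj_iff.2 ⟨(c' : G) * g, ?_⟩
    rw [← hc', show ((⟨r, hr⟩ : Q) : centralizer ({z} : Set G)) = r from rfl, show (r : G) = g * z * g⁻¹ from hrg]
    group

end Coord

end Cfsg.Agent.LargeFischer
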