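import Cfsg.Agent.Lib.LargeFischer.Shape

/-!
# The shape of the image of `C(z)`, second part

`Img.inO_inv`, `Img.gM_mem`, `Img.cases`, `exists_shape`.
-/

set_option autoImplicit false
set_option linter.style.haveILetI false

namespace Cfsg.Agent.LargeFischer

/-- The scaling of the first coordinate. -/
def scaleD (k : ZMod 3) : Fin 6 → ZMod 3 := ![k, 0, 0, 0, 0, 0]

/-- The scaling of the first coordinate, as a permutation. -/
def scaleP (k : ZMod 3) : Equiv.Perm Cd where
  toFun := monoC (scaleD k) 1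
  invFun := monoC (scaleD (-k)) 1
  left_inv v := by
    rw [monoC_comp, show (fun i => scaleD k i + scaleD (-k) ((1 : Equiv.Perm (Fin 6)) i)) = 0 by
      funext i; fin_cases i <;> simp [scaleD], mul_one, monoC_one]
  right_inv v := by
    rw [monoC_comp, show (fun i => scaleD (-k) i + scaleD k ((1 : Equiv.Perm (Fin 6)) i)) = 0 by
      funext i; fin_cases i <;> simp [scaleD], mul_one, monoC_one]

theorem scaleP_sym (k : ZMod 3) : IsSym (scaleP k) where
  add := isAdd_monoC _ _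
  q v := by
    have h : ∀ k : ZMod 3, allB (fun v => decide (qN (apL (monoImg (scaleD k) 1) v) = qN v)) 12 0 = true := by
      decide +kernel
    exact of_decide_eq_true (forall_cd (h k) v)
  semi := Or.inl (isLinC_monoC _ _)

theorem scaleP_symm_sym (k : ZMod 3) : IsSym (scaleP k).symm := scaleP_sym (-k)

theorem scale_inO (c : Fin 3) (v : Cd) :
    inO 0 (scaleP (-(c.1 : ZMod 3)) v).1 = inO c.1 v.1 := by
  have h : ∀ c : Fin 3,
      allB (fun v => decide (inO 0 (apL (monoImg (scaleD (-(c.1 : ZMod 3))) 1) v) = inO c.1 v)) 12 0 = true := by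
    decide +kernel
  exact of_decide_eq_true (forall_cd (h c) v)

/-- The image after scaling. -/
def Img.scaled (I : Img) (k : ZMod 3) : Img where
  H := I.H.map (MulAut.conj (scaleP k)).toMonoidHom
  M := I.M.map (MulAut.conj (scaleP k)).toMonoidHom
  hMH := Subgroup.map_mono I.hMH
  index_two := by
    rw [Subgroup.relIndex_map_map_of_injective _ _ (MulEquiv.injective _)]
    exact I.index_two
  card_M := by rw [Subgroup.card_map_of_injective (MulEquiv.injective _), I.card_M]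
  perfect := by rw [← Subgroup.map_commutator, I.perfect]
  sym := by
    rintro _ ⟨p, hp, rfl⟩
    exact (scaleP_sym k).comp ((I.sym p hp).comp (scaleP_symm_sym k))
  lin := by
    rintro _ ⟨p, hp, rfl⟩ v
    show scaleP k (p ((scaleP k).symm (wC v))) = wC (scaleP k (p ((scaleP k).symm v)))
    have hl : IsLinC (scaleP k).symm := isLinC_monoC _ _
    have hl' : IsLinC (scaleP k) := isLinC_monoC _ _
    rw [hl, I.lin p hp, hl']
  mono := by
    intro d σ hd hs
    obtain ⟨p, hp, hpe⟩ := I.mono (fun i => d i + scaleD k i - scaleD k (σ i)) σ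
      (by rw [Finset.sum_sub_distrib, Finset.sum_add_distrib, hd, zero_add, Equiv.sum_comp σ (scaleD k), sub_self]) hs
    refine ⟨MulAut.conj (scaleP k) p, Subgroup.mem_map_of_mem _ hp, fun v => ?_⟩
    show monoC (scaleD k) 1 (p (monoC (scaleD (-k)) 1 v)) = monoC d σ v
    rw [hpe, monoC_comp, monoC_comp, mul_one, one_mul]
    congr 1
    funext i
    have : scaleD (-k) i = - scaleD k i := by fin_cases i <;> simp [scaleD]
    simp only [Equiv.Perm.one_apply, this]
    ring

theorem Img.scaled_inO (I : Img) {c : Fin 3} (h : ∀ v : Cd, v ∈ orb I.M 5 ↔ inO c.1 v.1 = true) (v : Cd) :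
    v ∈ orb (I.scaled (-(c.1 : ZMod 3))).M 5 ↔ inO 0 v.1 = true := by
  set k : ZMod 3 := -(c.1 : ZMod 3)
  have e : inO 0 v.1 = inO c.1 ((scaleP k).symm v).1 := by rw [← scale_inO, Equiv.apply_symm_apply]
  rw [e, ← h]
  have h5 : (scaleP k).symm 5 ∈ orb I.M 5 := by
    rw [h, ← scale_inO, Equiv.apply_symm_apply]; decide +kernel
  constructor
  · rintro ⟨_, ⟨p, hp, rfl⟩, hpv⟩
    refine orb_trans h5 ⟨p, hp, (scaleP k).injective ?_⟩
    rw [Equiv.apply_symm_apply]
    exact hpv
  · intro hv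
    obtain ⟨p, hp, hpv⟩ := orb_trans (orb_symm h5) hv
    refine ⟨MulAut.conj (scaleP k) p, Subgroup.mem_map_of_mem _ hp, ?_⟩
    show scaleP k (p ((scaleP k).symm 5)) = v
    rw [hpv, Equiv.apply_symm_apply]

theorem Img.conj_mem (I : Img) {h p : Equiv.Perm Cd} (hh : h ∈ I.H) (hp : p ∈ I.M) : h * p * h⁻¹ ∈ I.M := by
  haveI hn : (I.M.subgroupOf I.H).Normal := Subgroup.normal_of_index_eq_two I.index_two
  exact hn.conj_mem ⟨p, I.hMH hp⟩ hp ⟨h, hh⟩

variable {I : Img}

theorem Img.map_orb (I : Img) {h : Equiv.Perm Cd} (hh : h ∈ I.H) (v : Cd) :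
    v ∈ orb I.M 5 ↔ h v ∈ orb I.M (h 5) := by
  constructor
  · rintro ⟨p, hp, rfl⟩
    exact ⟨h * p * h⁻¹, I.conj_mem hh hp, by
      simp only [Equiv.Perm.mul_apply]
      rw [show h⁻¹ (h 5) = 5 from h.symm_apply_apply 5]⟩
  · rintro ⟨p, hp, e⟩
    refine ⟨h⁻¹ * p * h⁻¹⁻¹, I.conj_mem (I.H.inv_mem hh) hp, ?_⟩
    rw [inv_inv, Equiv.Perm.mul_apply, Equiv.Perm.mul_apply, e]
    exact h.symm_apply_apply v

theorem Img.inO_inv (hI : ∀ v : Cd, v ∈ orb I.M 5 ↔ inO 0 v.1 = true) {h : Equiv.Perm Cd} (hh : h ∈ I.H)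
    (v : Cd) : inO 0 (h v).1 = inO 0 v.1 := by
  have key : ∀ h ∈ I.H, h 5 ∈ orb I.M 5 := by
    intro h hh
    by_contra hne
    obtain ⟨T, hT, hcard⟩ := orbit_shape I.gD_mem (fun p hp => I.symM hp) (r := h 5)
      (by rw [(I.sym h hh).q]; decide +kernel)
      (fun e => by
        have := (I.sym h hh).add.zero
        rw [← this] at e
        exact absurd (h.injective e) (by decide +kernel))
    rw [shape_count] at hcard
    have hnone : ∀ c : Fin 5, T c = true → inO 0 (clsRep c).1 = false := by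
      intro c hc
      by_contra hcon
      rw [Bool.not_eq_false] at hcon
      exact hne (orb_trans ((hI _).2 hcon) (orb_symm ((hT _).2 ⟨c, hc, clsRep_cls c⟩)))
    have t0 : T 0 = false := by
      by_contra hc
      rw [Bool.not_eq_false] at hc
      exact absurd (hnone 0 hc) (by decide +kernel)
    have t2 : T 2 = false := by
      by_contra hc
      rw [Bool.not_eq_false] at hc
      exact absurd (hnone 2 hc) (by decide +kernel)
    have he : Nat.card (orb I.M (h 5)) = 378 := by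
      rw [← count_facts.1, ← card_cd]
      symm
      refine Nat.card_congr (Equiv.subtypeEquiv h fun v => ?_)
      rw [← hI]
      exact I.map_orb hh v
    rw [he, t0, t2] at hcard
    cases h1 : T 1 <;> cases h3 : T 3 <;> cases h4 : T 4 <;> simp [h1, h3, h4] at hcard
  have mp : ∀ h ∈ I.H, ∀ v : Cd, inO 0 v.1 = true → inO 0 (h v).1 = true := fun h hh v hv =>
    (hI _).1 (orb_trans (key h hh) ((I.map_orb hh v).1 ((hI v).2 hv)))
  rw [Bool.eq_iff_iff]
  refine ⟨fun hv => ?_, mp h hh v⟩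
  have := mp _ (I.H.inv_mem hh) _ hv
  rwa [show h⁻¹ (h v) = v from h.symm_apply_apply v] at this

theorem card_RS_le : Nat.card RS ≤ 19595520 := by
  classical
  rw [card_eq_orb_mul RS 1]
  have h1 : Nat.card (orb RS 1) ≤ 2016 := by
    rw [← count_facts.2.2.1, ← card_cd]
    refine Nat.card_le_card_of_injective (fun v => ⟨v.1, beq_iff_eq.2 ?_⟩) (fun a b hab => Subtype.ext (by simpa using hab))
    obtain ⟨p, hp, e⟩ := v.2
    rw [← e, (mem_RS.1 hp).1.q]
    decide +kernel
  have h2 : Nat.card ↥(RS ⊓ fixP 1) ≤ 81 * 120 := by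
    have hex : ∀ p : ↥(RS ⊓ fixP 1), ∃ x : {d : Fin 6 → ZMod 3 // ∑ i, d i = 0 ∧ d 0 = 0} ×
        {σ : Equiv.Perm (Fin 6) // σ 0 = 0}, ∀ v, p.1 v = monoC x.1.1 x.2.1 v := by
      intro p
      obtain ⟨hs, hl, hO⟩ := mem_RS.1 p.2.1
      have h1 : p.1 1 = 1 := p.2.2
      obtain ⟨d, σ, hfix, e⟩ := exists_monoC hs hl (k := 1) (fun v => by
        rw [show ((1 : Fin 2) : ℕ) = 1 from rfl, inW_one, inW_one, hO]
        congr 1
        rw [Bool.eq_iff_iff, show (1 : ℕ) = (1 : Cd).1 from rfl, ← orth_iff, ← orth_iff]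
        refine Iff.trans ?_ (hs.orth (a := v) (b := (1 : Cd)))
        rw [h1]) (fun _ => by rw [← code_five.2]; exact h1)
      obtain ⟨hd0, hσ0⟩ := hfix rfl
      refine ⟨(⟨d, ?_, hd0⟩, ⟨σ, hσ0⟩), e⟩
      obtain ⟨a, b⟩ := logN_mono d σ
      have := hO ⟨1365, by norm_num⟩
      rw [e, show inO 0 (⟨1365, by norm_num⟩ : Cd).1 = true by decide +kernel] at this
      rw [← b]
      simp only [inO, Bool.or_eq_true, Bool.and_eq_true, beq_iff_eq] at this
      rcases this with h | h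
      · rw [a] at h; exact absurd h (by decide +kernel)
      · rw [h.2, Nat.cast_zero]
    choose f hf using hex
    calc Nat.card ↥(RS ⊓ fixP 1)
        ≤ Nat.card ({d : Fin 6 → ZMod 3 // ∑ i, d i = 0 ∧ d 0 = 0} × {σ : Equiv.Perm (Fin 6) // σ 0 = 0}) :=
          Nat.card_le_card_of_injective f fun a b hab => Subtype.ext (Equiv.ext fun v => by rw [hf, hf, hab])
      _ = 81 * 120 := by rw [Nat.card_prod, card_fix_d, card_fix_s]
  calc _ ≤ 2016 * (81 * 120) := Nat.mul_le_mul h1 h2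
    _ = _ := by norm_num

variable (hI : ∀ v : Cd, v ∈ orb I.M 5 ↔ inO 0 v.1 = true)
include hI

theorem Img.M_le_RS : I.M ≤ RS := fun p hp =>
  mem_RS.2 ⟨I.symM hp, I.lin p hp, Img.inO_inv hI (I.hMH hp)⟩

theorem Img.relIndex_RS : I.M.relIndex RS = 1 ∨ I.M.relIndex RS = 2 := by
  have h := Subgroup.card_mul_index (I.M.subgroupOf RS)
  rw [Nat.card_congr (Subgroup.subgroupOfEquivOfLe (Img.M_le_RS hI)).toEquiv, I.card_M] at h
  change 9797760 * I.M.relIndex RS = _ at h
  have hle := card_RS_le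
  have hpos : 0 < Nat.card RS := Nat.card_pos
  omega

theorem Img.RS_conj {r p : Equiv.Perm Cd} (hr : r ∈ RS) (hp : p ∈ I.M) : r * p * r⁻¹ ∈ I.M := by
  rcases Img.relIndex_RS hI with h | h
  · have := Subgroup.relIndex_eq_one.1 h
    exact I.M.mul_mem (I.M.mul_mem (this hr) hp) (I.M.inv_mem (this hr))
  · haveI hn : (I.M.subgroupOf RS).Normal := Subgroup.normal_of_index_eq_two h
    exact hn.conj_mem ⟨p, Img.M_le_RS hI hp⟩ hp ⟨r, hr⟩

theorem Img.mul_mem_RS {a b : Equiv.Perm Cd} (ha : a ∈ RS) (hb : b ∈ RS) (ha' : a ∉ I.M) (hb' : b ∉ I.M) :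
    a * b ∈ I.M := by
  rcases Img.relIndex_RS hI with h | h
  · exact absurd (Subgroup.relIndex_eq_one.1 h ha) ha'
  · have := Subgroup.mul_mem_iff_of_index_two (H := I.M.subgroupOf RS) h (a := ⟨a, ha⟩) (b := ⟨b, hb⟩)
    simp only [Subgroup.mem_subgroupOf] at this
    exact this.2 (iff_of_false ha' hb')

theorem Img.gM_mem_of (h1 : tP 1 ∉ I.M) (k : Fin 6) : gM k ∈ I.M := by
  have hinv : ∀ j : Fin 8, (tP j)⁻¹ = tP j := fun j => Equiv.ext fun v => rfl
  have hsq : tP 1 * tP 1 = 1 := by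
    conv_lhs => arg 1; rw [← hinv]
    exact inv_mul_cancel _
  have h0 : tP 0 ∉ I.M := by
    intro h
    apply h1
    set r : Equiv.Perm Cd := tP 6 * tP 1 * tP 0 * tP 6
    have hr : r ∈ RS := RS.mul_mem (RS.mul_mem (RS.mul_mem (tP_mem_RS (by decide)) (tP_mem_RS (by decide)))
      (tP_mem_RS (by decide))) (tP_mem_RS (by decide))
    have e : r⁻¹ * tP 0 * r⁻¹⁻¹ = tP 1 := by
      simp only [r, mul_inv_rev, hinv]
      refine Equiv.ext fun v => IsAdd.ext (?_) (isAdd_tP 1) (fun j => ?_) v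
      · simp only [Equiv.Perm.coe_mul]
        exact (((((((isAdd_tP 6).comp (isAdd_tP 0)).comp (isAdd_tP 1)).comp (isAdd_tP 6)).comp (isAdd_tP 0)).comp
          ((((isAdd_tP 6).comp (isAdd_tP 1)).comp (isAdd_tP 0)).comp (isAdd_tP 6))))
      · revert j; decide +kernel
    rw [← e]
    exact Img.RS_conj hI (RS.inv_mem hr) h
  have hj : tP ⟨k.1 + 1, by omega⟩ ∉ I.M := by
    by_cases hk : k.1 = 0
    · rw [show (⟨k.1 + 1, by omega⟩ : Fin 8) = 1 from Fin.ext (by simp [hk])]; exact h1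
    · intro h
      apply h1
      have hg := I.gD_mem ⟨k.1 - 1, by omega⟩
      rw [gD, show (⟨k.1 - 1 + 2, by omega⟩ : Fin 8) = ⟨k.1 + 1, by omega⟩ from Fin.ext (by simp; omega)] at hg
      have := I.M.mul_mem hg (I.M.inv_mem h)
      rwa [mul_assoc, mul_inv_cancel, mul_one] at this
  exact Img.mul_mem_RS hI (tP_mem_RS (by decide))
    (tP_mem_RS (fun e => by simp [Fin.ext_iff] at e; omega)) h0 hj

theorem Img.tP_one_notin : tP 1 ∉ I.M := by
  classical
  intro h1
  have hgM : ∀ k : Fin 5, tP ⟨k.1 + 2, by omega⟩ ∈ I.M := fun k => by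
    have := I.M.mul_mem (I.M.inv_mem h1) (I.gD_mem k)
    rwa [gD, ← mul_assoc, inv_mul_cancel, one_mul] at this
  have h5 : tP 5 ∈ I.M := hgM 3
  -- all monomial elements fixing the first basic vector
  have hall : ∀ (d : Fin 6 → ZMod 3) (σ : Equiv.Perm (Fin 6)), ∑ i, d i = 0 →
      ∃ p ∈ I.M, ∀ v, p v = monoC d σ v := by
    intro d σ hd
    rcases Int.units_eq_one_or (Equiv.Perm.sign σ) with hs | hs
    · exact I.mono d σ hd hs
    · set τ : Equiv.Perm (Fin 6) := Equiv.swap 4 5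
      have hτ : τ * τ = 1 := Equiv.swap_mul_self _ _
      obtain ⟨p, hp, hpe⟩ := I.mono (fun i => d (τ i)) (σ * τ) ((Equiv.sum_comp τ d).trans hd) (by
        rw [map_mul, hs, Equiv.Perm.sign_swap (by decide)]; rfl)
      refine ⟨p * tP 5, I.M.mul_mem hp h5, fun v => ?_⟩
      have e5 : tP 5 v = monoC 0 τ v := tP_swap 4 v
      rw [Equiv.Perm.mul_apply, e5, hpe, monoC_comp, mul_assoc, hτ, mul_one]
      congr 1
      funext i
      simp [← Equiv.Perm.mul_apply, hτ]
  have hex : ∀ x : {d : Fin 6 → ZMod 3 // ∑ i, d i = 0 ∧ d 0 = 0} × {σ : Equiv.Perm (Fin 6) // σ 0 = 0},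
      ∃ p : ↥(I.M ⊓ fixP 1), ∀ v, p.1 v = monoC x.1.1 x.2.1 v := by
    intro x
    obtain ⟨p, hp, hpe⟩ := hall x.1.1 x.2.1 x.1.2.1
    refine ⟨⟨p, hp, mem_fixP.2 ?_⟩, hpe⟩
    rw [hpe, code_five.2, monoC_unit, x.1.2.2, x.2.2, add_zero]
  choose f hf using hex
  have hle := Nat.card_le_card_of_injective f fun a b hab => by
    obtain ⟨e1, e2⟩ := monoC_inj (fun v => (hf a v).symm.trans
      ((by rw [hab] : (f a).1 v = (f b).1 v).trans (hf b v)))
    exact Prod.ext (Subtype.ext e1) (Subtype.ext e2)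
  rw [Nat.card_prod, card_fix_d, card_fix_s] at hle
  -- but then the orbit of the first basic vector is too small
  have hM := card_eq_orb_mul I.M 1
  rw [I.card_M] at hM
  have ho : 2016 ≤ Nat.card (orb I.M 1) := by
    have key : ∀ k : Fin 6, gM k ∈ I.M := by
      intro k
      have hT : ∀ j : Fin 5, tP ⟨j.1 + 2, by omega⟩ ∈ I.M := hgM
      have h0 : tP 0 ∈ I.M := by
        set r : Equiv.Perm Cd := tP 6 * tP 1 * tP 0 * tP 6
        have hr : r ∈ RS := RS.mul_mem (RS.mul_mem (RS.mul_mem (tP_mem_RS (by decide)) (tP_mem_RS (by decide)))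
          (tP_mem_RS (by decide))) (tP_mem_RS (by decide))
        have e : r * tP 1 * r⁻¹ = tP 0 := by
          rw [mul_inv_eq_iff_eq_mul]
          refine Equiv.ext fun v => IsAdd.ext ?_ ?_ (fun j => ?_) v
          · simp only [r, Equiv.Perm.coe_mul]
            exact ((((isAdd_tP 6).comp (isAdd_tP 1)).comp (isAdd_tP 0)).comp (isAdd_tP 6)).comp (isAdd_tP 1)
          · simp only [r, Equiv.Perm.coe_mul]
            exact (isAdd_tP 0).comp ((((isAdd_tP 6).comp (isAdd_tP 1)).comp (isAdd_tP 0)).comp (isAdd_tP 6))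
          · revert j; decide +kernel
        rw [← e]
        exact Img.RS_conj hI hr h1
      refine I.M.mul_mem h0 ?_
      by_cases hk : k.1 = 0
      · rw [show (⟨k.1 + 1, by omega⟩ : Fin 8) = 1 from Fin.ext (by simp [hk])]; exact h1
      · have := hT ⟨k.1 - 1, by omega⟩
        rwa [show (⟨k.1 - 1 + 2, by omega⟩ : Fin 8) = ⟨k.1 + 1, by omega⟩ from Fin.ext (by simp; omega)] at this
    rw [← count_facts.2.2.1, ← card_cd]
    exact Nat.card_le_card_of_injective (fun v => ⟨v.1, orb_of_forest (r := (1 : Cd))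
      (p := fun v => qN v == 1) key gM_val forA_ok v.2⟩) (fun a b hab => Subtype.ext (by simpa using hab))
  have := Nat.mul_le_mul ho hle
  omega

theorem Img.gM_mem (k : Fin 6) : gM k ∈ I.M := Img.gM_mem_of hI (Img.tP_one_notin hI) k

theorem Img.cases : tP 1 ∈ I.H ∨ tP 7 ∈ I.H ∨ I.Good := by
  have hinv := fun (p : Equiv.Perm Cd) (hp : p ∈ I.H) => Img.inO_inv hI hp
  have h1 := Img.tP_one_notin hI
  obtain ⟨h, hh, hm⟩ : ∃ h ∈ I.H, h ∉ I.M := by
    by_contra hcon
    push Not at hcon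
    have := Subgroup.relIndex_eq_one.2 hcon
    rw [I.index_two] at this
    omega
  have t1 : ∀ p ∈ RS, p ∉ I.M → p * tP 1 ∈ I.M := fun p hp hpM =>
    Img.mul_mem_RS hI hp (tP_mem_RS (by decide)) hpM h1
  rcases (I.sym h hh).semi with hl | ha
  · have := t1 h (mem_RS.2 ⟨I.sym h hh, hl, hinv h hh⟩) hm
    refine Or.inl ?_
    have := I.H.mul_mem (I.H.inv_mem hh) (I.hMH this)
    rwa [inv_mul_cancel_left] at this
  · have hR : h * tP 7 ∈ RS := mem_RS.2 ⟨(I.sym h hh).comp (tP_sym 7),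
      fun v => by rw [Equiv.Perm.mul_apply, Equiv.Perm.mul_apply, tP_anti, ha, ha, wC_cube],
      fun v => by rw [Equiv.Perm.mul_apply, hinv h hh, tP_inO]⟩
    by_cases hM : h * tP 7 ∈ I.M
    · refine Or.inr (Or.inl ?_)
      have := I.H.mul_mem (I.H.inv_mem hh) (I.hMH hM)
      rwa [inv_mul_cancel_left] at this
    · refine Or.inr (Or.inr ?_)
      have hS : gS ∈ I.H := by
        have := I.H.mul_mem (I.H.inv_mem hh) (I.hMH (t1 _ hR hM))
        rwa [mul_assoc h, inv_mul_cancel_left] at this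
      have hSM : gS ∉ I.M := fun hg => by
        have e := (I.lin gS hg (unitC 0 0)).symm.trans (gS_anti (unitC 0 0))
        revert e
        decide +kernel
      refine ⟨hinv, fun k => Img.gM_mem hI k, hS, hSM, fun p hp hpM => ?_⟩
      have hpg : p * gS⁻¹ ∈ I.M := by
        have := Subgroup.mul_mem_iff_of_index_two (H := I.M.subgroupOf I.H) I.index_two (a := ⟨p, hp⟩)
          (b := ⟨gS⁻¹, I.H.inv_mem hS⟩)
        simp only [Subgroup.mem_subgroupOf] at this
        exact this.2 (iff_of_false hpM (fun e => hSM (by simpa using I.M.inv_mem e)))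
      intro v
      have e : ∀ v, p v = (p * gS⁻¹) (gS v) := fun v => by
        rw [Equiv.Perm.mul_apply]; exact congrArg p (gS.symm_apply_apply v).symm
      rw [e, e v, gS_anti, I.lin _ hpg, I.lin _ hpg]

omit hI

section Coord

variable {G : Type*} [Group G] {z : G} {Q : Subgroup (Subgroup.centralizer ({z} : Set G))} [Q.Normal]

/-- Coordinates after scaling. -/
def Coord.scaled (C : Coord z Q) (k : ZMod 3) : Coord z Q where
  co a := scaleP k (C.co a)
  co_surjective := (scaleP k).surjective.comp C.co_surjective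
  co_mul a b := by rw [C.co_mul]; exact (scaleP_sym k).add _ _
  co_eq_zero a := by
    rw [← C.co_eq_zero]
    constructor
    · intro e
      exact (scaleP k).injective (e.trans (scaleP_sym k).add.zero.symm)
    · intro e
      rw [e]
      exact (scaleP_sym k).add.zero
  co_sq a := by rw [(scaleP_sym k).q]; exact C.co_sq a
  act := (MulAut.conj (scaleP k)).toMonoidHom.comp C.act
  act_ker := by
    refine Eq.trans ?_ C.act_ker
    ext h
    simp
  act_co h a := by
    show scaleP k (C.act h ((scaleP k).symm (scaleP k (C.co a)))) = _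
    rw [Equiv.symm_apply_apply, C.act_co]
  I := C.I.scaled k
  range_act := by rw [MonoidHom.range_comp, C.range_act]; rfl

/-- The normal shape. -/
theorem exists_shape (C : Coord z Q) : ∃ C' : Coord z Q,
    (∀ p ∈ C'.I.H, ∀ v : Cd, inO 0 (p v).1 = inO 0 v.1) ∧ (∀ k, gM k ∈ C'.I.M) ∧
      (tP 1 ∈ C'.I.H ∨ tP 7 ∈ C'.I.H ∨ C'.I.Good) := by
  obtain ⟨c, hc⟩ := C.I.exists_class
  have hI := C.I.scaled_inO hc
  exact ⟨C.scaled (-(c.1 : ZMod 3)), fun p hp => Img.inO_inv (I := C.I.scaled _) hI hp,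
    fun k => Img.gM_mem (I := C.I.scaled _) hI k, Img.cases (I := C.I.scaled _) hI⟩

end Coord

end Cfsg.Agent.LargeFischer
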