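import Cfsg.Agent.Lib.LargeFischer.StabUCheck
import Cfsg.Prelude.Def_Transfer
import Mathlib.GroupTheory.SpecificGroups.Alternating

/-!
# The stabiliser of the code 85

`card_le_sixteen`: if a transvection or the conjugation is in the image, normal 2-subgroups of the stabiliser
have order at most 16.  With `gS` in the image, the stabiliser is `E32.A6`: `E32_le`, `card_E32`, `elementary_E32`,
`stab_le_normalizer_E32`, `le_E32`, `stab_quot_alt`.
-/

set_option autoImplicit false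

namespace Cfsg.Agent.LargeFischer

open Equiv

/-- The stabiliser of the code 85. -/
abbrev stabU (I : Img) : Subgroup (Perm Cd) := I.H ⊓ fixP 85

/-- An explicit elementary abelian subgroup of order 32. -/
def E32 : Subgroup (Perm Cd) := genS gS wE

theorem rep_gS : Rep gS sI' := (rep_tP 7).mul (rep_tP 1)

theorem card_stabU (I : Img) (hO : ∀ p ∈ I.H, ∀ v : Cd, inO 0 (p v).1 = inO 0 v.1)
    (hM : ∀ k, gM k ∈ I.M) : Nat.card (stabU I) = 11520 := by
  classical
  have e : orb I.H 85 = {v : Cd | inU v.1 = true} := by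
    ext v
    refine ⟨?_, fun hv => ?_⟩
    swap
    · have hr : ((85 : Cd) : ℕ) = 85 := rfl
      exact orb_of_forest (S := I.H) (ng := 6) (g := gM) (f := fM) (p := inU) (l := forU) (r := 85)
        (fun k => I.hMH (hM k)) gM_val (by rw [hr]; exact forU_ok) hv
    rintro ⟨p, hp, rfl⟩
    have hs := I.sym p hp
    have hne : (p 85).1 ≠ 0 := fun h0 => by
      have h85 : p 85 = p 0 := (Fin.ext h0 : p 85 = 0).trans hs.add.zero.symm
      exact absurd (p.injective h85) (by decide)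
    show inU (p 85).1 = true
    simp only [inU, hO p hp, hs.q, bne_iff_ne, ne_eq, hne, not_false_eq_true, decide_true, Bool.and_eq_true,
      beq_iff_eq]
    decide
  have hc : Nat.card (orb I.H 85) = 1701 := by
    rw [e, Nat.card_coe_set_eq, ← count_inU]
    rw [show {v : Cd | inU v.1 = true} = ↑(Finset.univ.filter fun v : Cd => inU v.1 = true) by ext; simp,
      Set.ncard_coe_finset, ← List.toFinset_card_of_nodup (List.nodup_range.filter _)]
    refine Finset.card_bij (fun v _ => v.1) ?_ (fun a _ b _ h => Fin.ext h) ?_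
    · intro v hv; simpa using (Finset.mem_filter.1 hv).2
    · intro n hn
      simp only [List.mem_toFinset, List.mem_filter, List.mem_range] at hn
      exact ⟨⟨n, hn.1⟩, by simp [hn.2], rfl⟩
  have hH : Nat.card I.H = 19595520 := by
    rw [← Subgroup.card_mul_index (I.M.subgroupOf I.H), Nat.card_congr (Subgroup.subgroupOfEquivOfLe I.hMH).toEquiv,
      I.card_M, show (I.M.subgroupOf I.H).index = 2 from I.index_two]
  have h := card_eq_orb_mul I.H 85
  rw [hH, hc] at h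
  exact Nat.eq_of_mul_eq_mul_left (show 0 < 1701 by norm_num) (h.symm.trans (by norm_num))

/-- A 2-subgroup normalised by the stabiliser lies in every subgroup of order 256. -/
theorem le_of_sylow {I : Img} (hc : Nat.card (stabU I) = 11520) {S E : Subgroup (Perm Cd)} (hS : S ≤ stabU I)
    (hS2 : Nat.card S = 256) (hE : E ≤ stabU I) (hp : IsPGroup 2 E)
    (hn : stabU I ≤ Subgroup.normalizer (E : Set (Perm Cd))) : E ≤ S := by
  have hSp : IsPGroup 2 S := IsPGroup.of_card (n := 8) hS2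
  obtain ⟨k, hk⟩ := IsPGroup.iff_card.1 (hSp.to_sup_of_normal_right' hp (hS.trans hn))
  have h1 : 256 ∣ 2 ^ k := hS2 ▸ hk ▸ Subgroup.card_dvd_of_le le_sup_left
  have h2 : 2 ^ k ∣ 11520 := hc ▸ hk ▸ Subgroup.card_dvd_of_le (sup_le hS hE)
  have h3 : 2 ^ k = 256 := by
    have hk14 : k ≤ 13 := by
      by_contra hk'
      have := Nat.le_of_dvd (by norm_num) h2
      have := Nat.pow_le_pow_right (show 0 < 2 by norm_num) (show 14 ≤ k by omega)
      omega
    interval_cases k <;> revert h1 h2 <;> norm_num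
  exact le_sup_right.trans (Subgroup.eq_of_le_of_card_ge le_sup_left (by rw [hk, h3, hS2])).ge

theorem card_le_of_pair {I : Img} (hc : Nat.card (stabU I) = 11520) (hg : ∀ k, gM k ∈ I.H) {x : Perm Cd}
    (hx : x ∈ I.H) {xl : List ℕ} (hr : Rep x xl) {w1 w2 : List (List ℕ)} {F1 F2 : List (ℕ × ℕ)}
    (h : pairB xl w1 w2 F1 F2 = true) (E : Subgroup (Perm Cd)) (hE : E ≤ stabU I) (hp : IsPGroup 2 E)
    (hn : stabU I ≤ Subgroup.normalizer (E : Set (Perm Cd))) : Nat.card E ≤ 16 := by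
  classical
  simp only [pairB, Bool.and_eq_true, beq_iff_eq, List.map_append, List.all_append] at h
  obtain ⟨⟨⟨⟨⟨⟨⟨hf, c1⟩, c2⟩, n1⟩, n2⟩, l1⟩, l2⟩, hi⟩ := h
  obtain ⟨d1, -⟩ := nodupB_spec n1
  obtain ⟨d2, m2⟩ := nodupB_spec n2
  have hS : ∀ w, ((w.map (evI xl)).all fun g => apL g 85 == 85) = true → genS x w ≤ stabU I := fun w hw =>
    le_inf (genS_le hg hx w) (genS_le_fix (v := 85) hr hw)
  have e1 := le_of_sylow hc (hS w1 hf.1) ((card_genS hr c1 d1).trans l1) hE hp hn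
  have e2 := le_of_sylow hc (hS w2 hf.2) ((card_genS hr c2 d2).trans l2) hE hp hn
  choose f hf1 hlen hrep using fun p : ↥E => exists_rep hr c1 (e1 p.2)
  have hmem : ∀ p, f p ∈ (eltI xl w1 F1).filter fun l => memL (eltI xl w2 F2) l := fun p => by
    obtain ⟨l, hl, hl12, hlr⟩ := exists_rep hr c2 (e2 p.2)
    rw [← (hrep p).eq_list hlr (hlen p) hl12] at hl
    exact List.mem_filter.2 ⟨hf1 p, m2 _ hl⟩
  rw [← hi, ← List.toFinset_card_of_nodup (d1.filter _), ← Nat.card_eq_finsetCard]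
  exact Nat.card_le_card_of_injective (fun p => ⟨f p, List.mem_toFinset.2 (hmem p)⟩) fun p q e =>
    Subtype.ext ((hrep p).unique (by rw [show f p = f q from congrArg Subtype.val e]; exact hrep q))

variable {I : Img}

theorem card_le_sixteen (hO : ∀ p ∈ I.H, ∀ v : Cd, inO 0 (p v).1 = inO 0 v.1) (hM : ∀ k, gM k ∈ I.M)
    (hx : tP 1 ∈ I.H ∨ tP 7 ∈ I.H) :
    ∀ E ≤ I.H ⊓ fixP 85, IsPGroup 2 E → I.H ⊓ fixP 85 ≤ Subgroup.normalizer (E : Set (Perm Cd)) →
      Nat.card E ≤ 16 := by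
  intro E hE hp hn
  rcases hx with h | h
  · exact card_le_of_pair (card_stabU I hO hM) (fun k => I.hMH (hM k)) h (rep_tP 1) pairR_ok E hE hp hn
  · exact card_le_of_pair (card_stabU I hO hM) (fun k => I.hMH (hM k)) h (rep_tP 7) pairS_ok E hE hp hn

/-- Permutations of six letters as lists. -/
def piOf (π : Perm (Fin 6)) : List ℕ := List.ofFn fun i => (π i).1

/-- `p` permutes the families by `π`. -/
def Six (p : Perm Cd) (π : Perm (Fin 6)) : Prop :=
  ∀ i : Fin 6, ∀ a : Cd, a.1 ∈ famL.getD i.1 [] → (p a).1 ∈ famL.getD (π i).1 []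

theorem Six.mul {p q : Perm Cd} {π τ : Perm (Fin 6)} (hp : Six p π) (hq : Six q τ) : Six (p * q) (π * τ) :=
  fun i a ha => hp _ _ (hq i a ha)

theorem six_one : Six 1 1 := fun _ _ ha => ha

theorem six_of_famB {p : Perm Cd} {l : List ℕ} (hr : Rep p l) {π : Perm (Fin 6)} (h : famB l (piOf π) = true) :
    Six p π := by
  intro i a ha
  rw [famB, List.all_eq_true] at h
  have := h i.1 (List.mem_range.2 i.2)
  rw [List.all_eq_true] at this
  have h' := List.contains_iff_mem.1 (this _ ha)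
  rw [show (piOf π).getD i.1 0 = (π i).1 by
    rw [piOf, List.getD_eq_getElem _ _ (by simp), List.getElem_ofFn], ← hr a] at h'
  exact h'

theorem famB_of_six {p : Perm Cd} {l : List ℕ} (hr : Rep p l) (h : Six p 1) :
    famB l [0, 1, 2, 3, 4, 5] = true := by
  have hb : ∀ i : Fin 6, (famL.getD i.1 []).all (fun a => decide (a < 4096)) = true := by decide +kernel
  have hid : ∀ i : Fin 6, ([0, 1, 2, 3, 4, 5] : List ℕ).getD i.1 0 = i.1 := by decide
  rw [famB, List.all_eq_true]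
  intro i hi
  have hi' := List.mem_range.1 hi
  rw [List.all_eq_true]
  intro a ha
  have hlt := of_decide_eq_true (List.all_eq_true.1 (hb ⟨i, hi'⟩) a ha)
  rw [hid ⟨i, hi'⟩, List.contains_iff_mem]
  have := h ⟨i, hi'⟩ ⟨a, hlt⟩ ha
  rw [hr] at this
  exact this

theorem six_one_unique {π : Perm (Fin 6)} (h : Six 1 π) : π = 1 := by
  have hb : ∀ i : Fin 6, (famL.getD i.1 []).all (fun a => decide (a < 4096)) = true := by decide +kernel
  refine Equiv.ext fun i => (famL_ok i (π i) ?_).symm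
  rw [List.all_eq_true]
  exact fun a ha => List.contains_iff_mem.2 (h i ⟨a, of_decide_eq_true (List.all_eq_true.1 (hb i) a ha)⟩ ha)

/-- The permutations of the families by the generators. -/
def piG : Fin 7 → Perm (Fin 6) :=
  ![swap 0 3 * swap 1 4, swap 0 4 * swap 2 5, swap 0 4 * swap 2 5, swap 0 4 * swap 1 3,
    swap 0 3 * swap 3 4, swap 0 3 * swap 3 4 * (swap 1 5 * swap 5 2), swap 0 3 * swap 3 1 * swap 1 2 * swap 2 5]

theorem piG_spec : (List.ofFn fun k => piOf (piG k)) = sixW ∧ (∀ k, Perm.sign (piG k) = 1) ∧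
    piG 6 * piG 6 * piG 6 * piG 6 * piG 6 = 1 ∧ piG 6 ≠ 1 := by decide +kernel

/-- Generators of the whole stabiliser. -/
def wStab : List (List ℕ) := wG1 ++ wX

theorem six_gen {w : List ℕ} (hw : w ∈ wStab) : ∃ k, Six (evP gS w) (piG k) := by
  obtain ⟨n, hn, rfl⟩ := List.getElem_of_mem hw
  have h7 : wStab.length = 7 := by decide +kernel
  refine ⟨⟨n, h7 ▸ hn⟩, six_of_famB (rep_evP rep_gS _) ?_⟩
  have hz := List.all_eq_true.1 sixG_ok (wStab[n], piOf (piG ⟨n, h7 ▸ hn⟩)) ?_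
  · exact hz
  · rw [← piG_spec.1]
    refine List.mem_iff_getElem.2 ⟨n, by simp only [List.length_zip, List.length_ofFn]; rw [show (wG1 ++ wX).length = 7 from h7]; omega, ?_⟩
    simp only [List.getElem_zip, List.getElem_ofFn]; rfl

theorem exists_six {p : Perm Cd} (hp : p ∈ genS gS wStab) : ∃ π, Six p π ∧ Perm.sign π = 1 :=
  genS_induction (P := fun p => ∃ π, Six p π ∧ Perm.sign π = 1) ⟨1, six_one, map_one _⟩
    (fun _ hw => let ⟨k, hk⟩ := six_gen hw; ⟨_, hk, piG_spec.2.1 k⟩)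
    (fun _ _ ⟨π, h, hs⟩ ⟨τ, h', hs'⟩ => ⟨π * τ, h.mul h', by rw [map_mul, hs, hs', one_mul]⟩) hp

theorem six_unique {p : Perm Cd} (hp : p ∈ genS gS wStab) {π τ : Perm (Fin 6)} (h : Six p π) (h' : Six p τ) :
    π = τ := by
  obtain ⟨σ, hσ, -⟩ := exists_six (inv_mem hp)
  have e1 := six_one_unique (inv_mul_cancel p ▸ hσ.mul h)
  have e2 := six_one_unique (inv_mul_cancel p ▸ hσ.mul h')
  exact mul_left_cancel (e1.trans e2.symm)

/-- The action on the six families. -/
noncomputable def sixHom : ↥(genS gS wStab) →* ↥(alternatingGroup (Fin 6)) :=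
  MonoidHom.mk' (fun p => ⟨(exists_six p.2).choose, Perm.mem_alternatingGroup.2 (exists_six p.2).choose_spec.2⟩)
    fun p q => Subtype.ext (six_unique (p * q).2 (exists_six (p * q).2).choose_spec.1
      ((exists_six p.2).choose_spec.1.mul (exists_six q.2).choose_spec.1))

theorem sixHom_eq {p : ↥(genS gS wStab)} {π : Perm (Fin 6)} (h : Six p π) : (sixHom p : Perm (Fin 6)) = π :=
  six_unique p.2 (exists_six p.2).choose_spec.1 h

theorem mem_wStab {w : List ℕ} (hw : w ∈ wStab) : evP gS w ∈ genS gS wStab :=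
  Subgroup.subset_closure ⟨w, hw, rfl⟩

theorem genS_mono {ws : List (List ℕ)} (h : ∀ w ∈ ws, w ∈ wStab) : genS gS ws ≤ genS gS wStab :=
  (Subgroup.closure_le _).2 fun _ ⟨w, hw, e⟩ => e ▸ mem_wStab (h w hw)

theorem card_E32 : Nat.card E32 = 32 :=
  (card_genS rep_gS elemE_ok.1 (nodupB_spec elemE_ok.2.1).1).trans elemE_ok.2.2.1

theorem E32_spec {p : Perm Cd} (hp : p ∈ E32) : ∃ l, Rep p l ∧ l ∈ eltI sI' wE fE ∧ cmpI l l = idI ∧
    famB l [0, 1, 2, 3, 4, 5] = true ∧ l ∈ eltI sI' wG1 fG1 ∧ ∀ m ∈ eltI sI' wE fE, cmpI l m = cmpI m l := by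
  obtain ⟨l, hl, -, hr⟩ := exists_rep rep_gS elemE_ok.1 hp
  have h := List.all_eq_true.1 elemE_ok.2.2.2 l hl
  simp only [Bool.and_eq_true, beq_iff_eq, List.all_eq_true] at h
  obtain ⟨⟨⟨h1, h2⟩, h3⟩, h4⟩ := h
  exact ⟨l, hr, hl, h1, h2, mem_of_memL h3, h4⟩

theorem elementary_E32 : Cfsg.IsElementaryAbelian 2 E32 := by
  refine ⟨⟨⟨fun a b => Subtype.ext ?_⟩⟩, fun a ha => ?_⟩
  · obtain ⟨l, hl, -, -, -, -, hcomm⟩ := E32_spec a.2
    obtain ⟨m, hm, hmE, -⟩ := E32_spec b.2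
    exact (hcomm m hmE ▸ hl.mul hm : Rep (a.1 * b.1) (cmpI m l)).unique (hm.mul hl)
  · obtain ⟨l, hl, -, h, -⟩ := E32_spec ha
    rw [pow_two]
    exact (h ▸ hl.mul hl : Rep (a * a) idI).unique rep_one

theorem E32_le_G1 : E32 ≤ genS gS wG1 := fun p hp => by
  obtain ⟨l, hl, -, -, -, h1, -⟩ := E32_spec hp
  obtain ⟨q, hq, hq'⟩ := exists_elem rep_gS wG1 fG1 h1
  exact hl.unique hq' ▸ hq

theorem card_G1 : Nat.card (genS gS wG1) = 256 :=
  (card_genS rep_gS oneG_ok.1 (nodupB_spec oneG_ok.2.1).1).trans oneG_ok.2.2.1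

theorem G1_le : genS gS wG1 ≤ genS gS wStab := genS_mono fun _ h => List.mem_append_left _ h

theorem E32_le_ker : E32.subgroupOf (genS gS wStab) ≤ sixHom.ker := fun p hp => by
  obtain ⟨l, hl, -, -, hf, -⟩ := E32_spec hp
  exact Subtype.ext (sixHom_eq (six_of_famB (π := 1) hl hf))

theorem ker_inf_G1 {p : ↥(genS gS wStab)} (hk : p ∈ sixHom.ker) (hp : (p : Perm Cd) ∈ genS gS wG1) :
    (p : Perm Cd) ∈ E32 := by
  obtain ⟨l, hl, -, hr⟩ := exists_rep rep_gS oneG_ok.1 hp
  have h6 : Six p 1 := by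
    have := (exists_six p.2).choose_spec.1
    rwa [show (exists_six p.2).choose = 1 from congrArg Subtype.val hk] at this
  have h := List.all_eq_true.1 kerG_ok l hl
  rw [famB_of_six hr h6] at h
  obtain ⟨q, hq, hq'⟩ := exists_elem rep_gS wE fE (mem_of_memL (by simpa using h))
  exact hr.unique hq' ▸ hq

theorem eight_dvd : 8 ∣ Nat.card sixHom.range := by
  set ψ := sixHom.comp (Subgroup.inclusion G1_le)
  have hk : Nat.card ψ.ker ∣ 32 := by
    rw [← card_E32, ← Nat.card_congr (Subgroup.subgroupOfEquivOfLe E32_le_G1).toEquiv]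
    exact Subgroup.card_dvd_of_le fun p hp =>
      Subgroup.mem_subgroupOf.2 (ker_inf_G1 (MonoidHom.mem_ker.2 (MonoidHom.mem_ker.1 hp)) p.2)
  have h := Subgroup.card_mul_index ψ.ker
  rw [card_G1, Subgroup.index_ker] at h
  have h8 : 8 ∣ Nat.card ψ.range := by
    obtain ⟨c, hc⟩ := hk
    refine ⟨c, Nat.eq_of_mul_eq_mul_left (show 0 < 32 by norm_num) ?_⟩
    exact (congrArg (· * Nat.card ψ.range) hc).trans (by rw [mul_right_comm, h]; ring)
  exact h8.trans (Subgroup.card_dvd_of_le (by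
    rintro _ ⟨x, rfl⟩; exact ⟨_, rfl⟩))

/-- A subgroup of order nine. -/
def nineS : Subgroup (Perm (Fin 6)) where
  carrier := {π | ∃ a b : Fin 3, π = piG 4 ^ a.1 * (piG 4 ^ 2 * piG 5) ^ b.1}
  one_mem' := ⟨0, 0, by simp⟩
  mul_mem' := by
    rintro _ _ ⟨a, b, rfl⟩ ⟨a', b', rfl⟩
    exact (by decide +kernel : ∀ a b a' b' : Fin 3, ∃ c e : Fin 3,
      piG 4 ^ a.1 * (piG 4 ^ 2 * piG 5) ^ b.1 * (piG 4 ^ a'.1 * (piG 4 ^ 2 * piG 5) ^ b'.1) =
        piG 4 ^ c.1 * (piG 4 ^ 2 * piG 5) ^ e.1) a b a' b'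
  inv_mem' := by
    rintro _ ⟨a, b, rfl⟩
    exact (by decide +kernel : ∀ a b : Fin 3, ∃ c e : Fin 3,
      (piG 4 ^ a.1 * (piG 4 ^ 2 * piG 5) ^ b.1)⁻¹ = piG 4 ^ c.1 * (piG 4 ^ 2 * piG 5) ^ e.1) a b

theorem piG_mem (k : Fin 7) : piG k ∈ sixHom.range.map (alternatingGroup (Fin 6)).subtype := by
  have h7 : wStab.length = 7 := by decide +kernel
  have hw : wStab[k.1]'(by omega) ∈ wStab := List.getElem_mem _
  refine ⟨_, ⟨⟨_, mem_wStab hw⟩, rfl⟩, sixHom_eq (p := ⟨_, mem_wStab hw⟩) (six_of_famB (rep_evP rep_gS _) ?_)⟩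
  refine List.all_eq_true.1 sixG_ok (wStab[k.1]'(by omega), piOf (piG k)) ?_
  rw [← piG_spec.1]
  refine List.mem_iff_getElem.2 ⟨k.1, by simp only [List.length_zip, List.length_ofFn]; rw [show (wG1 ++ wX).length = 7 from h7]; omega, ?_⟩
  simp only [List.getElem_zip, List.getElem_ofFn]; rfl

theorem range_eq_top : sixHom.range = ⊤ := by
  classical
  set R := sixHom.range.map (alternatingGroup (Fin 6)).subtype with hR
  have hcard : Nat.card R = Nat.card sixHom.range := Subgroup.card_map_of_injective Subtype.val_injective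
  have h5 : 5 ∣ Nat.card R := by
    haveI : Fact (Nat.Prime 5) := ⟨by norm_num⟩
    have : orderOf (piG 6) = 5 := orderOf_eq_prime (by
      rw [← piG_spec.2.2.1]; simp only [pow_succ, pow_zero, one_mul]) piG_spec.2.2.2
    exact this ▸ Subgroup.orderOf_dvd_natCard _ (piG_mem 6)
  have h9 : 9 ∣ Nat.card R := by
    have hle : nineS ≤ R := by
      rintro _ ⟨a, b, rfl⟩
      exact mul_mem (pow_mem (piG_mem 4) _) (pow_mem (mul_mem (pow_mem (piG_mem 4) _) (piG_mem 5)) _)
    have hn : Nat.card nineS = 9 := by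
      have hinj : Function.Injective fun p : Fin 3 × Fin 3 => piG 4 ^ p.1.1 * (piG 4 ^ 2 * piG 5) ^ p.2.1 := by
        decide +kernel
      rw [show Nat.card nineS = Nat.card (Set.range fun p : Fin 3 × Fin 3 =>
        piG 4 ^ p.1.1 * (piG 4 ^ 2 * piG 5) ^ p.2.1) from Nat.card_congr (Equiv.setCongr (by
          ext π; simp [nineS, eq_comm])), Nat.card_range_of_injective hinj]
      simp
    exact hn ▸ Subgroup.card_dvd_of_le hle
  have h8 := eight_dvd
  refine Subgroup.eq_top_of_le_card _ ?_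
  rw [nat_card_alternatingGroup, Nat.card_fin]
  rw [show (Nat.factorial 6) / 2 = 8 * 9 * 5 by decide]
  exact Nat.le_of_dvd Nat.card_pos (Nat.Coprime.mul_dvd_of_dvd_of_dvd (show Nat.Coprime (8 * 9) 5 by norm_num)
    (Nat.Coprime.mul_dvd_of_dvd_of_dvd (show Nat.Coprime 8 9 by norm_num) h8 (hcard ▸ h9)) (hcard ▸ h5))

theorem genS_wStab_le (hg : ∀ k, gM k ∈ I.H) (hS : gS ∈ I.H) : genS gS wStab ≤ stabU I := by
  refine le_inf (genS_le hg hS _) (genS_le_fix (v := 85) rep_gS ?_)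
  have h := oneG_ok.2.2.2
  rw [List.all_append, Bool.and_eq_true] at h
  rw [List.all_map]
  exact h.1

section gS

variable (hO : ∀ p ∈ I.H, ∀ v : Cd, inO 0 (p v).1 = inO 0 v.1) (hM : ∀ k, gM k ∈ I.M) (hS : gS ∈ I.H)
include hO hM hS

/-- The generated group is the stabiliser and `E32` is the kernel. -/
theorem stab_facts : genS gS wStab = stabU I ∧ sixHom.ker = E32.subgroupOf (genS gS wStab) := by
  have hle := genS_wStab_le (fun k => I.hMH (hM k)) hS
  have hc := card_stabU I hO hM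
  have hE : Nat.card (E32.subgroupOf (genS gS wStab)) = 32 := by
    rw [Nat.card_congr (Subgroup.subgroupOfEquivOfLe (E32_le_G1.trans G1_le)).toEquiv, card_E32]
  have h360 : sixHom.ker.index = 360 := by
    rw [Subgroup.index_ker, range_eq_top, Subgroup.card_top, nat_card_alternatingGroup, Nat.card_fin]
    decide
  have hk := Subgroup.card_mul_index sixHom.ker
  rw [h360] at hk
  have h32 : 32 ∣ Nat.card sixHom.ker := hE ▸ Subgroup.card_dvd_of_le E32_le_ker
  have hup : Nat.card sixHom.ker * 360 ≤ 11520 := by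
    rw [hk, ← hc]; exact Subgroup.card_le_of_le hle
  have hker : Nat.card sixHom.ker = 32 := le_antisymm
    (Nat.le_of_mul_le_mul_right (hup.trans (by norm_num)) (by norm_num : 0 < 360)) (Nat.le_of_dvd Nat.card_pos h32)
  refine ⟨Subgroup.eq_of_le_of_card_ge hle ?_, (Subgroup.eq_of_le_of_card_ge E32_le_ker (by rw [hE, hker])).symm⟩
  rw [hc, ← hk, hker]

theorem E32_le : E32 ≤ I.H ⊓ fixP 85 :=
  (E32_le_G1.trans G1_le).trans (stab_facts hO hM hS).1.le

theorem stab_le_normalizer_E32 : I.H ⊓ fixP 85 ≤ Subgroup.normalizer (E32 : Set (Perm Cd)) := by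
  obtain ⟨h1, h2⟩ := stab_facts hO hM hS
  intro g hg
  have hg' : g ∈ genS gS wStab := h1 ▸ hg
  have hn : (E32.subgroupOf (genS gS wStab)).Normal := h2 ▸ MonoidHom.normal_ker _
  haveI := hn
  have := (Subgroup.normal_subgroupOf_iff_le_normalizer (E32_le_G1.trans G1_le)).1 hn hg'
  exact this

/-- It is the largest normal 2-subgroup. -/
theorem le_E32 : ∀ E ≤ I.H ⊓ fixP 85, IsPGroup 2 E →
    I.H ⊓ fixP 85 ≤ Subgroup.normalizer (E : Set (Perm Cd)) → E ≤ E32 := by
  intro E hE hp hn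
  have hc := card_stabU I hO hM
  have h := oneG_ok.2.2.2
  rw [List.all_append, Bool.and_eq_true] at h
  have hS2 : genS gS wG2 ≤ stabU I := le_inf (genS_le (fun k => I.hMH (hM k)) hS _)
    (genS_le_fix (v := 85) rep_gS (by rw [List.all_map]; exact h.2))
  have e1 := le_of_sylow hc (G1_le.trans (stab_facts hO hM hS).1.le) card_G1 hE hp hn
  have e2 := le_of_sylow hc hS2 ((card_genS rep_gS twoG_ok.1 (nodupB_spec twoG_ok.2.1).1).trans twoG_ok.2.2) hE hp hn
  intro p hp'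
  obtain ⟨l, hl, l12, hr⟩ := exists_rep rep_gS oneG_ok.1 (e1 hp')
  obtain ⟨m, hm, m12, hrm⟩ := exists_rep rep_gS twoG_ok.1 (e2 hp')
  rw [← hr.eq_list hrm l12 m12] at hm
  have h' := List.all_eq_true.1 interG_ok l hl
  rw [(nodupB_spec twoG_ok.2.1).2 l hm] at h'
  obtain ⟨q, hq, hq'⟩ := exists_elem rep_gS wE fE (mem_of_memL (by simpa using h'))
  exact hr.unique hq' ▸ hq

theorem stab_quot_alt : ∃ _ : (E32.subgroupOf (I.H ⊓ fixP 85)).Normal,
    Nonempty (↥(I.H ⊓ fixP 85) ⧸ E32.subgroupOf (I.H ⊓ fixP 85) ≃* ↥(alternatingGroup (Fin 6))) := by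
  obtain ⟨h1, h2⟩ := stab_facts hO hM hS
  change ∃ _ : (E32.subgroupOf (stabU I)).Normal,
    Nonempty (↥(stabU I) ⧸ E32.subgroupOf (stabU I) ≃* ↥(alternatingGroup (Fin 6)))
  rw [← h1]
  refine ⟨h2 ▸ MonoidHom.normal_ker _, ⟨?_⟩⟩
  haveI : (E32.subgroupOf (genS gS wStab)).Normal := h2 ▸ MonoidHom.normal_ker _
  exact (QuotientGroup.quotientMulEquivOfEq h2.symm).trans
    (QuotientGroup.quotientKerEquivOfSurjective sixHom (MonoidHom.range_eq_top.1 range_eq_top))

end gS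

end Cfsg.Agent.LargeFischer
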