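import Cfsg.Agent.Lib.LargeFischer.Bridge
import Cfsg.Agent.Lib.LargeFischer.ShapeTwo
import Cfsg.Agent.Lib.LargeFischer.Conjugate
import Cfsg.Agent.Lib.LargeFischer.StabU

/-!
# The good coordinates of a group of large Fischer type

`exists_goodCoord`, and for every good coordinate system `GoodCoord.isConj_iff`, `GoodCoord.transU`.
-/

set_option autoImplicit false

namespace Cfsg.Agent.LargeFischer

variable {G : Type*} [Group G] [Finite G] {z : G} {Q : Subgroup (Subgroup.centralizer ({z} : Set G))}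
  [Q.Normal]

omit [Finite G] [Q.Normal] in
theorem exists_conj_in (hS : Cfsg.IsExtraspecialCentralizerSetting z Q 6) :
    ∃ g : G, g * z * g⁻¹ ∈ qG Q ∧ g * z * g⁻¹ ≠ z := by
  obtain ⟨-, -, -, -, g, ⟨hc, hq⟩, hne⟩ := hS
  exact ⟨g, ⟨⟨_, hc⟩, hq, rfl⟩, hne⟩

/-- The good coordinates. -/
theorem exists_goodCoord (hF : Cfsg.IsOfLargeFischerTypeAt z Q) : Nonempty (GoodCoord z Q) := by
  obtain ⟨C0⟩ := exists_coord z Q hF
  obtain ⟨C, hO, hM, hcases⟩ := exists_shape C0
  have F := qFacts_of_type hF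
  rcases or_assoc.2 hcases with hx | hg
  · exfalso
    obtain ⟨g, hs, hne⟩ := exists_conj_in hF.1
    obtain ⟨r, hr, hrg⟩ := hs
    have ha : (((⟨r, hr⟩ : Q) : Subgroup.centralizer ({z} : Set G)) : G) = g * z * g⁻¹ := hrg
    have hu := C.code_conj F ha hM hne
    simp only [inU, Bool.and_eq_true, Bool.not_eq_true', bne_iff_ne, beq_iff_eq] at hu
    obtain ⟨p, hp, hp85⟩ := C.transU hM _ hu.1.2 (fun e => hu.1.1 (congrArg Fin.val e)) hu.2
    set D := C.twist p⁻¹ (C.I.H.inv_mem (C.I.hMH hp)) with hD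
    have hDa : D.co ⟨r, hr⟩ = 85 := by
      show p⁻¹ (C.co ⟨r, hr⟩) = 85
      rw [← hp85]
      exact p.symm_apply_apply 85
    have hle := D.imgE_le F ha
    have hn := D.imgE_normalized F ha hne
    rw [hDa] at hle hn
    have h16 := card_le_sixteen (I := D.I) hO hM hx (D.imgE g) hle (D.imgE_two F) hn
    have h12 := (D.card_mul_imgE F (ha ▸ D.val_mem ⟨r, hr⟩) hne).trans
      (Nat.mul_le_mul (F.card_interG_le hne) h16)
    norm_num at h12
  · exact ⟨{ toCoord := C, good := hg }⟩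

/-- The conjugates of `z` in `Q` by their codes. -/
theorem GoodCoord.isConj_iff (K : GoodCoord z Q) (hF : Cfsg.IsOfLargeFischerTypeAt z Q) (b : Q)
    (hq : qN (K.co b).1 = 0) (h0 : K.co b ≠ 0) :
    IsConj z ((b : Subgroup.centralizer ({z} : Set G)) : G) ↔ inO 0 (K.co b).1 = false :=
  K.toCoord.isConj_iff_code (qFacts_of_type hF) K.good.gM_mem (exists_conj_in hF.1) b hq h0

omit [Finite G] in
/-- `M` is transitive on the codes outside `inO 0`. -/
theorem GoodCoord.transU (K : GoodCoord z Q) (v : Cd) (hq : qN v.1 = 0) (h0 : v ≠ 0)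
    (hO : inO 0 v.1 = false) : ∃ p ∈ K.I.M, p 85 = v :=
  K.toCoord.transU K.good.gM_mem v hq h0 hO

end Cfsg.Agent.LargeFischer
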