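import Cfsg.Agent.Lib.LargeFischer.Stab45
import Cfsg.Agent.Lib.Forms.OmegaOrder
import Cfsg.Agent.Lib.G2Four.Field
import Cfsg.Agent.S5379
import Cfsg.Agent.S0303
import Cfsg.Agent.S0822

/-!
# The stabiliser of a small vector in the index-two subgroup

`stabM_five_iso`: it is `PSp₄(3)`, being the commutator subgroup of `O⁻₆(2)`.
-/

set_option autoImplicit false

namespace Cfsg.Agent.LargeFischer

theorem card_stabM_five {I : Img} (hI : I.Good) : Nat.card ↥(I.M ⊓ fixP 5) = 25920 := by
  have h := card_eq_orb_mul I.M 5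
  have ho : orb I.M 5 = {v | inO 0 v.1 = true} := by
    refine Set.Subset.antisymm ?_ fun v hv => orb_of_forest hI.gM_mem gM_val (r := (5 : Cd)) forO_ok hv
    rw [← orb_five hI]
    rintro v ⟨p, hp, rfl⟩
    exact ⟨p, I.hMH hp, rfl⟩
  rw [I.card_M, ho, Set.coe_ofPred, card_small] at h
  omega

theorem card_center_omega : Nat.card (Subgroup.center
    (Cfsg.Omega (ZMod 2) (Cfsg.quadFormMinus 2 (ZMod 2) 1 1))) = 1 := by
  have key : ∀ f : (_ → ZMod 2) → ZMod 2, f = ⇑(Forms.quadMinus 2 (ZMod 2) (1 : ZMod 2) 1) →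
      Nat.card (Subgroup.center (Cfsg.Omega (ZMod 2) f)) = 1 := by
    rintro f rfl
    refine Forms.omega_center_card_one _ (Forms.quadMinus_nondegenerate 2 S5379.hab) (by simp) ?_
    intro g _ hg
    refine Subtype.ext (Units.ext (hg.trans ?_))
    ext i j
    rw [Matrix.neg_apply, ZMod.neg_eq_self_mod_two]
    rfl
  exact key _ (funext fun v => (Forms.quadMinus_apply (F := ZMod 2) v).symm)

theorem stabM_five_iso (I : Img) (hI : I.Good) {F : Type*} [Field F] [Fintype F]
    (hF : Fintype.card F = 3) : Nonempty (↥(I.M ⊓ fixP 5) ≃* Cfsg.PSp 2 F) := by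
  obtain ⟨e⟩ := stab_five_iso I hI
  let N := (I.M ⊓ fixP 5).subgroupOf (I.H ⊓ fixP 5)
  have hle : I.M ⊓ fixP 5 ≤ I.H ⊓ fixP 5 := inf_le_inf_right _ I.hMH
  let T := N.map e.toMonoidHom
  have hT : Nat.card T = 25920 := by
    rw [Subgroup.card_map_of_injective e.injective,
      Nat.card_congr (Subgroup.subgroupOfEquivOfLe hle).toEquiv, card_stabM_five hI]
  have hidx : T.index = 2 := by
    have h := T.card_mul_index
    rw [hT, card_isometry_minus_six] at h
    omega
  set O := Cfsg.Omega (ZMod 2) (Cfsg.quadFormMinus 2 (ZMod 2) 1 1)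
  have : T.Normal := Subgroup.normal_of_index_eq_two hidx
  have hcomm : IsCyclic (Cfsg.isometryGroup (ZMod 2) (Cfsg.quadFormMinus 2 (ZMod 2) 1 1) ⧸ T) :=
    isCyclic_of_prime_card (p := 2) (by rw [← Subgroup.index_eq_card, hidx])
  have hOT : O ≤ T := by
    refine Subgroup.Normal.quotient_commutative_iff_commutator_le.1 ⟨⟨?_⟩⟩
    let := IsCyclic.commGroup (α := Cfsg.isometryGroup (ZMod 2) (Cfsg.quadFormMinus 2 (ZMod 2) 1 1) ⧸ T)
    exact fun a b => mul_comm a b
  have hOeq : O = T := by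
    have : Finite T := Nat.finite_of_card_ne_zero (by rw [hT]; norm_num)
    exact Subgroup.eq_of_le_of_card_ge hOT (by rw [hT, S5379.card_omega])
  -- the centre is trivial
  have hcen : Subgroup.center O = ⊥ := Subgroup.card_eq_one.1 card_center_omega
  obtain ⟨p⟩ := S0303.result (F := ZMod 2) (K := G2Four.K4) (q := 2) (ZMod.card 2)
    G2Four.card_K4 1 1 S5379.hab
  obtain ⟨r⟩ := S0822.result (F := G2Four.K4) G2Four.card_K4 hF
  exact ⟨((Subgroup.subgroupOfEquivOfLe hle).symm.trans
    (N.equivMapOfInjective e.toMonoidHom e.injective)).trans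
      ((MulEquiv.subgroupCongr hOeq.symm).trans
        ((QuotientGroup.quotientBot.symm.trans (QuotientGroup.quotientMulEquivOfEq hcen.symm)).trans
          (p.trans r)))⟩

end Cfsg.Agent.LargeFischer
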