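import Cfsg.Agent.Lib.LargeFischer.CentQuot
import Cfsg.Agent.Lib.LargeFischer.GoodExists
import Cfsg.Agent.Lib.LargeFischer.StabPairIso
import Cfsg.Agent.S0270
import Cfsg.Agent.S0283
import Cfsg.Prelude.Def_CaseTheorems

/-!
# `C(E)` is quasisimple with quotient `U₆(2)`

`centPair`: for `Pair K a b C`, from the recognition of `U₆(2)` by the centraliser of an involution
(the hypothesis `hrec`, the statement S3230), `C` is quasisimple and `C/E ≅ PSU(6,2)`.
`exists_four_group`: the four-group asked for.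
-/

set_option autoImplicit false

namespace Cfsg.Agent.LargeFischer.CentE

open Subgroup

universe u

/-- The recognition of `U₆(2)` used here. -/
def U6Recognition : Prop :=
  ∀ (X : Type u) [Group X] [Finite X] (x : X), orderOf x = 2 →
    IsExtraspecial 2 ↥(pCore 2 ↥(centralizer ({x} : Set X))) →
    Nat.card ↥(pCore 2 ↥(centralizer ({x} : Set X))) = 2 ^ 9 →
    centralizer (pCore 2 ↥(centralizer ({x} : Set X)) : Set ↥(centralizer ({x} : Set X))) ≤
      pCore 2 ↥(centralizer ({x} : Set X)) →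
    ∀ [(pCore 2 ↥(centralizer ({x} : Set X))).Normal],
    Nonempty ((↥(centralizer ({x} : Set X)) ⧸ pCore 2 ↥(centralizer ({x} : Set X))) ≃* PSp 2 (ZMod 3)) →
    Nonempty (X ≃* PSU 6 (GaloisField 2 2) 2) ∨ centralizer ({x} : Set X) ⊔ oddCore X = ⊤

theorem card_gf_four : Nat.card (GaloisField 2 2) = 4 := by
  rw [GaloisField.card 2 2 (by norm_num)]; rfl

variable {G : Type u} [Group G] [Finite G] {z : G} {Q : Subgroup (Subgroup.centralizer ({z} : Set G))}
  [Q.Normal] {K : GoodCoord z Q} {a b : G} {C : Subgroup G}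

/-- `C` is quasisimple with quotient `PSU(6,2)`. -/
theorem centPair (hrec : U6Recognition.{u}) (hF : IsOfLargeFischerTypeAt z Q) (P : Pair K a b C) :
    IsQuasisimple ↥C ∧ ∃ _ : ((closure ({a, b} : Set G)).subgroupOf C).Normal,
      Nonempty (↥C ⧸ (closure ({a, b} : Set G)).subgroupOf C ≃* PSU 6 (GaloisField 2 2) 2) := by
  have hN : ((closure ({a, b} : Set G)).subgroupOf C).Normal := ⟨fun x hx g => by
    have e : g * x * g⁻¹ = x := Subtype.ext (by
      simp only [Subgroup.coe_mul, Subgroup.coe_inv]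
      rw [(E_central hF P g.2 (mem_subgroupOf.1 hx)).eq, mul_inv_cancel_right])
    rw [e]; exact hx⟩
  have h3 : Fintype.card (ZMod 3) = 3 := ZMod.card 3
  obtain ⟨e⟩ := stabM_five_iso K.I K.good (F := ZMod 3) h3
  have : IsSimpleGroup (PSp 2 (ZMod 3)) := S0270.result 2 le_rfl fun _ => h3.ge
  have : IsSimpleGroup ↥(K.I.M ⊓ fixP 5) := e.isSimpleGroup
  have hne : ¬ IsPGroup 2 ↥(K.I.M ⊓ fixP 5) := by
    intro h
    have : Fact (Nat.Prime 2) := ⟨Nat.prime_two⟩
    obtain ⟨n, hn⟩ := IsPGroup.iff_card.1 h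
    have h3 : 3 ∣ 2 ^ n := by rw [← hn, card_stabM_five K.good]; norm_num
    have := Nat.le_of_dvd (by norm_num) (Nat.prime_three.dvd_of_dvd_pow h3)
    omega
  have : (pCore 2 ↥(cH hF P)).Normal := PCore.pCore_normal
  obtain ⟨h1, h2, h4, h5⟩ := local_facts hF P hne (S := PSp 2 (ZMod 3)) ⟨e⟩
  rcases hrec (CQ a b C) (zbar hF P) (orderOf_zbar hF P) h1 h2 h4 h5 with hf | htop
  · let _ : Fintype (GaloisField 2 2) := Fintype.ofFinite _
    have hcard : Fintype.card (GaloisField 2 2) = 2 ^ 2 := by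
      rw [Fintype.card_eq_nat_card, card_gf_four]; rfl
    have : IsSimpleGroup (PSU 6 (GaloisField 2 2) 2) := S0283.result hcard 6 (by norm_num) (by norm_num)
    obtain ⟨f⟩ := hf
    have : IsSimpleGroup (CQ a b C) := f.isSimpleGroup
    exact ⟨quasisimple hF P, hN, ⟨f⟩⟩
  · rw [oddCore_bot hF P, sup_bot_eq] at htop
    exact absurd htop (not_central hF P)

/-- The four-group of the statement. -/
theorem exists_four_group (hrec : U6Recognition.{u}) (hF : IsOfLargeFischerTypeAt z Q) :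
    ∃ E : Subgroup G, E ≤ qG Q ∧ IsElementaryAbelian 2 E ∧ Nat.card E = 4 ∧ z ∉ E ∧
      (∃ t ∈ E, orderOf t = 2 ∧ ¬ IsConj z t) ∧ IsQuasisimple ↥(centralizer (E : Set G)) ∧
      ∃ (_ : (E.subgroupOf (centralizer (E : Set G))).Normal) (K : Type) (_ : Field K) (_ : Fintype K),
        Fintype.card K = 4 ∧
        Nonempty (↥(centralizer (E : Set G)) ⧸ E.subgroupOf (centralizer (E : Set G)) ≃* PSU 6 K 2) := by
  obtain ⟨K⟩ := exists_goodCoord hF
  obtain ⟨a, ha, ea⟩ := Loc.exists_code K 5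
  obtain ⟨b, hb, eb⟩ := Loc.exists_code K 10
  have hC : ∀ g, g ∈ centralizer ((closure ({a, b} : Set G) : Subgroup G) : Set G) ↔
      Commute g a ∧ Commute g b := by
    intro g
    rw [centralizer_closure, mem_centralizer_iff]
    simp only [Set.mem_insert_iff, Set.mem_singleton_iff, forall_eq_or_imp, forall_eq]
    exact ⟨fun h => ⟨h.1.symm, h.2.symm⟩, fun h => ⟨h.1.symm, h.2.symm⟩⟩
  have P : Pair K a b (centralizer ((closure ({a, b} : Set G) : Subgroup G) : Set G)) := ⟨ha, hb, ea, eb, hC⟩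
  obtain ⟨hqs, hN, hiso⟩ := centPair hrec hF P
  have haE : a ∈ closure ({a, b} : Set G) := subset_closure (Set.mem_insert a _)
  have ha1 : a ≠ 1 := fun e => by rw [e, Loc.cq_one K] at ea; exact absurd ea (by decide)
  refine ⟨closure {a, b}, E_le hF P, E_elementary hF P, card_E hF P, z_not_mem hF P,
    ⟨a, haE, orderOf_eq_prime (by rw [pow_two]; exact sq_a P) ha1, (E_not_conj hF P haE ha1).1⟩,
    hqs, hN, GaloisField 2 2, inferInstance, Fintype.ofFinite _, ?_, hiso⟩
  rw [Fintype.card_eq_nat_card, card_gf_four]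

end Cfsg.Agent.LargeFischer.CentE
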