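import Mathlib

/-!
# Twelve-bit codes for a six-dimensional hermitian space over four elements

Two bits per coordinate.  `wN` multiplies by a primitive cube root of one, `qN` is the value
`h(v, v)`, `orthN` is orthogonality, `apL` applies the linear map with given images of the bits.
-/

set_option autoImplicit false

namespace Cfsg.Agent.LargeFischer

/-- Codes of vectors. -/
abbrev Cd : Type := Fin 4096

/-- The sum of two codes. -/
def xo (a b : Cd) : Cd := ⟨a.1 ^^^ b.1, Nat.xor_lt_two_pow (n := 12) a.2 b.2⟩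

/-- Low bits. -/
def loN (v : ℕ) : ℕ := v &&& 1365

/-- High bits. -/
def hiN (v : ℕ) : ℕ := (v >>> 1) &&& 1365

/-- Multiplication by the cube root of one. -/
def wN (v : ℕ) : ℕ := hiN v ||| ((loN v ^^^ hiN v) <<< 1)

/-- Conjugation of the coordinates. -/
def cN (v : ℕ) : ℕ := (loN v ^^^ hiN v) ||| (hiN v <<< 1)

/-- The support, on the low bits. -/
def suppN (v : ℕ) : ℕ := loN v ||| hiN v

/-- Number of marked coordinates. -/
def pcN (x : ℕ) : ℕ :=
  x % 2 + (x >>> 2) % 2 + (x >>> 4) % 2 + (x >>> 6) % 2 + (x >>> 8) % 2 + (x >>> 10) % 2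

/-- The quadratic form. -/
def qN (v : ℕ) : ℕ := pcN (suppN v) % 2

/-- The polar form. -/
def bN (a b : ℕ) : ℕ := (qN (a ^^^ b) + qN a + qN b) % 2

/-- Orthogonality for the hermitian form. -/
def orthN (a b : ℕ) : Bool := (bN a b == 0) && (bN a (wN b) == 0)

/-- The sum of the logarithms of the coordinates. -/
def logN (v : ℕ) : ℕ := (pcN (hiN v &&& (loN v ^^^ 1365)) + 2 * pcN (hiN v &&& loN v)) % 3

/-- The isotropic vectors of support two, and those of full support with logarithm sum `c`. -/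
def inO (c : ℕ) (v : ℕ) : Bool := (pcN (suppN v) == 2) || ((suppN v == 1365) && (logN v == c))

/-- The linear map with the given images of the bits. -/
def apL : List ℕ → ℕ → ℕ
  | [], _ => 0
  | a :: l, v => a * (v % 2) ^^^ apL l (v / 2)

theorem mod_two_xor (a b : ℕ) : (a ^^^ b) % 2 = (a % 2 + b % 2) % 2 := by
  have h := Nat.xor_mod_two_eq_one (a := a) (b := b)
  omega

theorem div_two_xor (a b : ℕ) : (a ^^^ b) / 2 = a / 2 ^^^ b / 2 := by
  simpa [Nat.shiftRight_one] using Nat.shiftRight_xor_distrib (a := a) (b := b) (i := 1)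

theorem mul_bit_xor (a x y : ℕ) : a * ((x ^^^ y) % 2) = a * (x % 2) ^^^ a * (y % 2) := by
  rw [mod_two_xor]
  rcases Nat.mod_two_eq_zero_or_one x with hx | hx <;> rcases Nat.mod_two_eq_zero_or_one y with hy | hy <;>
    simp [hx, hy]

theorem apL_xor : ∀ (l : List ℕ) (x y : ℕ), apL l (x ^^^ y) = apL l x ^^^ apL l y := by
  intro l
  induction l with
  | nil => intro x y; simp [apL]
  | cons a l ih =>
    intro x y
    simp only [apL, div_two_xor, ih, mul_bit_xor]
    rw [Nat.xor_assoc, Nat.xor_assoc]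
    congr 1
    rw [← Nat.xor_assoc, Nat.xor_comm (a * (y % 2)), Nat.xor_assoc]

/-- `p` is additive. -/
def IsAdd (p : Cd → Cd) : Prop := ∀ a b, p (xo a b) = xo (p a) (p b)

theorem xo_val (a b : Cd) : (xo a b).1 = a.1 ^^^ b.1 := rfl

theorem xo_self (a : Cd) : xo a a = 0 := Fin.ext (Nat.xor_self _)

theorem xo_zero (a : Cd) : xo a 0 = a := Fin.ext (Nat.xor_zero _)

theorem xo_comm (a b : Cd) : xo a b = xo b a := Fin.ext (Nat.xor_comm _ _)

theorem xo_assoc (a b c : Cd) : xo (xo a b) c = xo a (xo b c) := Fin.ext (Nat.xor_assoc _ _ _)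

theorem IsAdd.zero {p : Cd → Cd} (h : IsAdd p) : p 0 = 0 := by
  have := h 0 0
  rw [xo_self, xo_self] at this
  exact this

/-- The basic code of a bit. -/
def bit (i : Fin 12) : Cd := ⟨2 ^ i.1, Nat.pow_lt_pow_right (by norm_num) i.2⟩

theorem split_bit (a : ℕ) (k : ℕ) :
    a % 2 ^ (k + 1) = a % 2 ^ k ^^^ (a % 2 ^ (k + 1) - a % 2 ^ k) ∧
      (a % 2 ^ (k + 1) - a % 2 ^ k = 0 ∨ a % 2 ^ (k + 1) - a % 2 ^ k = 2 ^ k) := by
  have e : a % 2 ^ (k + 1) = a % 2 ^ k + 2 ^ k * (a / 2 ^ k % 2) := by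
    rw [pow_succ, Nat.mod_mul]
  rcases Nat.mod_two_eq_zero_or_one (a / 2 ^ k) with h | h
  · rw [e, h]; simp
  · rw [e, h, mul_one, Nat.add_sub_cancel_left]
    refine ⟨?_, Or.inr rfl⟩
    have hlt : a % 2 ^ k < 2 ^ k := Nat.mod_lt _ (by positivity)
    have := Nat.two_pow_add_eq_or_of_lt hlt 1
    rw [mul_one] at this
    rw [add_comm, this, Nat.or_comm]
    apply Nat.eq_of_testBit_eq
    intro j
    rw [Nat.testBit_or, Nat.testBit_xor, Nat.testBit_two_pow]
    rcases eq_or_ne k j with rfl | hj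
    · rw [Nat.testBit_lt_two_pow hlt]; simp
    · simp [hj]

/-- Additive maps agreeing on the twelve bits are equal. -/
theorem IsAdd.ext {p p' : Cd → Cd} (hp : IsAdd p) (hp' : IsAdd p') (h : ∀ i, p (bit i) = p' (bit i))
    (v : Cd) : p v = p' v := by
  suffices H : ∀ k, k ≤ 12 → ∀ (hk : v.1 % 2 ^ k < 4096),
      p ⟨v.1 % 2 ^ k, hk⟩ = p' ⟨v.1 % 2 ^ k, hk⟩ by
    have e : v.1 % 2 ^ 12 = v.1 := Nat.mod_eq_of_lt v.2
    have := H 12 le_rfl (by rw [e]; exact v.2)
    simpa only [e, Fin.eta] using this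
  intro k
  induction k with
  | zero =>
    intro _ hk
    have e : (⟨v.1 % 2 ^ 0, hk⟩ : Cd) = 0 := Fin.ext (Nat.mod_one _)
    rw [e, hp.zero, hp'.zero]
  | succ k ih =>
    intro hk12 hk
    have hlt : v.1 % 2 ^ k < 4096 := lt_of_le_of_lt (Nat.mod_le _ _) v.2
    obtain ⟨e, h0 | h0⟩ := split_bit v.1 k
    · have e' : (⟨v.1 % 2 ^ (k + 1), hk⟩ : Cd) = ⟨v.1 % 2 ^ k, hlt⟩ := Fin.ext (e.trans (by rw [h0, Nat.xor_zero]))
      rw [e']; exact ih (by omega) hlt
    · have e' : (⟨v.1 % 2 ^ (k + 1), hk⟩ : Cd) = xo ⟨v.1 % 2 ^ k, hlt⟩ (bit ⟨k, by omega⟩) :=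
        Fin.ext (by rw [xo_val]; show v.1 % 2 ^ (k + 1) = _; rw [e, h0]; rfl)
      rw [e', hp, hp', ih (by omega) hlt, h]

/-- Check of a predicate on an aligned block of `2 ^ k` numbers. -/
def allB (f : ℕ → Bool) : ℕ → ℕ → Bool
  | 0, b => f b
  | k + 1, b => allB f k (2 * b) && allB f k (2 * b + 1)

theorem allB_spec {f : ℕ → Bool} : ∀ (k b : ℕ), allB f k b = true →
    ∀ v, v / 2 ^ k = b → f v = true := by
  intro k
  induction k with
  | zero => intro b h v hv; rw [pow_zero, Nat.div_one] at hv; rw [hv]; exact h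
  | succ k ih =>
    intro b h v hv
    rw [allB, Bool.and_eq_true] at h
    have e : v / 2 ^ k / 2 = b := by rw [Nat.div_div_eq_div_mul, ← pow_succ]; exact hv
    rcases Nat.mod_two_eq_zero_or_one (v / 2 ^ k) with hm | hm
    · exact ih _ h.1 v (by omega)
    · exact ih _ h.2 v (by omega)

/-- Check of a predicate on all codes. -/
theorem forall_cd {f : ℕ → Bool} (h : allB f 12 0 = true) (v : Cd) : f v.1 = true :=
  allB_spec 12 0 h v.1 (Nat.div_eq_of_lt v.2)

theorem wN_lt (v : Cd) : wN v.1 < 4096 :=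
  of_decide_eq_true (forall_cd (f := fun v => decide (wN v < 4096)) (by decide +kernel) v)

theorem cN_lt (v : Cd) : cN v.1 < 4096 :=
  of_decide_eq_true (forall_cd (f := fun v => decide (cN v < 4096)) (by decide +kernel) v)

/-- The cube root of one on codes. -/
def wC (v : Cd) : Cd := ⟨wN v.1, wN_lt v⟩

theorem isAdd_apL {l : List ℕ} {p : Cd → Cd} (h : ∀ v : Cd, (p v).1 = apL l v.1) : IsAdd p :=
  fun a b => Fin.ext (by rw [xo_val, h, h, h, xo_val, apL_xor])

theorem wC_eq (v : Cd) : (wC v).1 = apL [2, 3, 8, 12, 32, 48, 128, 192, 512, 768, 2048, 3072] v.1 :=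
  of_decide_eq_true (forall_cd
    (f := fun v => decide (wN v = apL [2, 3, 8, 12, 32, 48, 128, 192, 512, 768, 2048, 3072] v))
    (by decide +kernel) v)

theorem isAdd_wC : IsAdd wC := isAdd_apL wC_eq

theorem wC_cube (v : Cd) : wC (wC (wC v)) = v :=
  Fin.ext (of_decide_eq_true (forall_cd (f := fun v => decide (wN (wN (wN v)) = v)) (by decide +kernel) v))

theorem wC_sum (v : Cd) : xo (xo (wC (wC v)) (wC v)) v = 0 :=
  Fin.ext (of_decide_eq_true (forall_cd (f := fun v => decide (wN (wN v) ^^^ wN v ^^^ v = 0))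
    (by decide +kernel) v))

end Cfsg.Agent.LargeFischer
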