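import Cfsg.Agent.Lib.LargeFischer.Coord.Codes
import Cfsg.Agent.Lib.LargeFischer.Coord.Counts
import Cfsg.Agent.Lib.LargeFischer.Coord.Partition

/-!
# Six coordinates over the field with four elements

`F4` is the field with four elements as pairs `(a, b) = a + b ω` over `ℤ/2`; `tw` is multiplication by
`ω`; a vector is singular when its weight is even.  The singular nonzero vectors fall into five classes
under the monomial group of even permutations and scalars of product one; the numbers of vectors of each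
class orthogonal to a given one are recorded.
-/

set_option autoImplicit false
set_option maxRecDepth 100000

namespace Cfsg.Agent.LFRep

theorem zs_add : ∀ (a b : ZMod 3) (x : F4), zs (a + b) x = zs a (zs b x) := by decide +kernel

theorem zs_map_add : ∀ (a : ZMod 3) (x y : F4), zs a (x + y) = zs a x + zs a y := by decide +kernel

theorem zs_zero (x : F4) : zs 0 x = x := rfl

theorem zs_one (x : F4) : zs 1 x = tw x := rfl

theorem zs_inj : ∀ (a b : ZMod 3) (x : F4), x ≠ 0 → zs a x = zs b x → a = b := by decide +kernel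

theorem zs_eq_zero : ∀ (a : ZMod 3) (x : F4), zs a x = 0 ↔ x = 0 := by decide +kernel

theorem mono_add (σ : Equiv.Perm (Fin 6)) (a : Fin 6 → ZMod 3) (x y : Vec) :
    mono σ a (x + y) = mono σ a x + mono σ a y :=
  funext fun _ => zs_map_add _ _ _

theorem mono_mono (σ τ : Equiv.Perm (Fin 6)) (a b : Fin 6 → ZMod 3) (x : Vec) :
    mono σ a (mono τ b x) = mono (σ * τ) (fun i => a i + b (σ.symm i)) x :=
  funext fun _ => (zs_add _ _ _).symm

theorem mono_one (x : Vec) : mono 1 0 x = x := funext fun _ => rfl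

theorem wt_eq_sum (x : Vec) : wt x = ∑ i, nz (x i) := by
  simp [wt, Fin.sum_univ_six]

theorem wt_mono (σ : Equiv.Perm (Fin 6)) (a : Fin 6 → ZMod 3) (x : Vec) : wt (mono σ a x) = wt x := by
  rw [wt_eq_sum, wt_eq_sum, ← Equiv.sum_comp σ]
  refine Finset.sum_congr rfl fun i _ => ?_
  show nz (zs (a (σ i)) (x (σ.symm (σ i)))) = nz (x i)
  rw [Equiv.symm_apply_apply, nz, nz, if_congr (zs_eq_zero _ _) rfl rfl]

theorem qf_mono (σ : Equiv.Perm (Fin 6)) (a : Fin 6 → ZMod 3) (x : Vec) : qf (mono σ a x) = qf x := by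
  rw [qf, qf, wt_mono]

theorem zs_lg : ∀ x : F4, x ≠ 0 → zs (lg x) (1, 0) = x := by decide +kernel

/-! ## Codes -/

theorem forall_vec {p : Vec → Prop} (h : ∀ n < 4096, p (decV n)) (x : Vec) : p x :=
  dec_encV x ▸ h _ (encV_lt x)

theorem orthN_iff (m n : ℕ) :
    orthN m n = true ↔ bf (decV m) (decV n) = 0 := by
  rw [bf, ← decV_xor, qf, qf, qf, wt_decV, wt_decV, wt_decV,
    ← Nat.cast_add, ← Nat.cast_add, ZMod.natCast_eq_zero_iff_even, Nat.even_iff, orthN, beq_iff_eq]

theorem singN_iff {n : ℕ} (hn : n < 4096) :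
    singN n = true ↔ qf (decV n) = 0 ∧ decV n ≠ 0 := by
  rw [singN, Bool.and_eq_true, beq_iff_eq, bne_iff_ne, qf, ZMod.natCast_eq_zero_iff_even,
    Nat.even_iff, wt_decV, and_comm]
  refine and_congr_right fun _ => not_congr ⟨fun h => by rw [h, decV_zero], fun h => ?_⟩
  rw [← encV_dec n hn, h]
  decide +kernel

/-! ## Classes -/

theorem rep_spec : ∀ c, cls (rep c) = c ∧ qf (rep c) = 0 ∧ rep c ≠ 0 := by decide +kernel

theorem gen_spec : ∀ g, Equiv.Perm.sign (genPerm g) = 1 ∧ ∑ i, genScal g i = 0 := by decide +kernel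

/-- The singular nonzero vectors of class `j`. -/
def clsSet (j : Fin 5) : Finset Vec := Finset.univ.filter fun x => qf x = 0 ∧ x ≠ 0 ∧ cls x = j

theorem card_filter_code (p : Vec → Prop) [DecidablePred p] (b : ℕ → Bool)
    (h : ∀ n < 4096, b n = true ↔ p (decV n)) :
    (Finset.univ.filter p).card = ((List.range 4096).filter b).length := by
  have hinj : Set.InjOn decV {n | n < 4096} := fun a ha c hc e => by
    rw [← encV_dec a ha, ← encV_dec c hc, e]
  have : Finset.univ.filter p = ((List.range 4096).filter b).toFinset.image decV := by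
    ext x
    simp only [Finset.mem_filter, Finset.mem_univ, true_and, Finset.mem_image, List.mem_toFinset,
      List.mem_filter, List.mem_range]
    constructor
    · intro hx
      exact ⟨encV x, ⟨encV_lt x, (h _ (encV_lt x)).2 (by rwa [dec_encV])⟩, dec_encV x⟩
    · rintro ⟨n, ⟨hn, hb⟩, rfl⟩
      exact (h n hn).1 hb
  rw [this, Finset.card_image_of_injOn, List.toFinset_card_of_nodup (List.nodup_range.filter _)]
  exact hinj.mono fun n hn => List.mem_range.1 (List.mem_filter.1 (List.mem_toFinset.1 hn)).1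

theorem cls_eq_iff (n : ℕ) (j : Fin 5) : clsN n = (j : ℕ) ↔ cls (decV n) = j := by
  rw [← cls_decV, Fin.val_inj]

theorem card_orth (i j : Fin 5) :
    ((clsSet j).filter fun y => bf (rep i) y = 0).card = countTab i j := by
  rw [clsSet, Finset.filter_filter, ← count_ok i j]
  refine card_filter_code _ _ fun n hn => ?_
  rw [Bool.and_eq_true, Bool.and_eq_true, beq_iff_eq, singN_iff hn, cls_eq_iff, orthN_iff, rep]
  tauto

theorem card_clsSet (j : Fin 5) : (clsSet j).card = [135, 1215, 243, 243, 243].getD (j : ℕ) 0 := by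
  rw [clsSet, ← class_sizes j]
  refine card_filter_code _ _ fun n hn => ?_
  rw [Bool.and_eq_true, beq_iff_eq, singN_iff hn, cls_eq_iff]
  tauto

/-- Every singular nonzero vector is the image of its representative under a product of generators. -/
theorem exists_mono {x : Vec} (hq : qf x = 0) (h0 : x ≠ 0) :
    ∃ (σ : Equiv.Perm (Fin 6)) (a : Fin 6 → ZMod 3), Equiv.Perm.sign σ = 1 ∧ ∑ i, a i = 0 ∧
      mono σ a (rep (cls x)) = x := by
  have key : ∀ k, k < 2079 → ∃ (σ : Equiv.Perm (Fin 6)) (a : Fin 6 → ZMod 3),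
      Equiv.Perm.sign σ = 1 ∧ ∑ i, a i = 0 ∧
        mono σ a (rep (cls (decV (entCode k)))) = decV (entCode k) := by
    intro k
    induction k using Nat.strong_induction_on with
    | _ k ih =>
      intro hk
      have hok := tab_ok k hk
      rw [entOK, Bool.and_eq_true] at hok
      obtain ⟨-, hok⟩ := hok
      by_cases hr : entPar k = 4095
      · rw [if_pos hr, beq_iff_eq] at hok
        refine ⟨1, 0, map_one _, by simp, ?_⟩
        rw [mono_one, rep]
        conv_rhs => rw [hok]
        congr 2
        rw [← cls_decV]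
        exact Fin.ext (Nat.mod_eq_of_lt (Fin.is_lt _)).symm
      rw [if_neg hr, Bool.and_eq_true, Bool.and_eq_true, decide_eq_true_eq, beq_iff_eq,
        beq_iff_eq] at hok
      obtain ⟨⟨hlt, hc⟩, hm⟩ := hok
      obtain ⟨σ, a, hσ, ha, he⟩ := ih _ hlt (hlt.trans hk)
      refine ⟨genPerm (entGen k) * σ, fun i => genScal (entGen k) i + a ((genPerm (entGen k)).symm i),
        ?_, ?_, ?_⟩
      · rw [map_mul, (gen_spec _).1, hσ, mul_one]
      · rw [Finset.sum_add_distrib, (gen_spec _).2, zero_add, Equiv.sum_comp (genPerm (entGen k)).symm, ha]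
      · have hcl : cls (decV (entCode (entPar k))) = cls (decV (entCode k)) := by
          exact Fin.ext (by rw [cls_decV, cls_decV]; exact hc)
        rw [← mono_mono, ← hcl, he]
        conv_rhs => rw [← hm, dec_encV]
  have hs : singN (encV x) = true := (singN_iff (encV_lt x)).2 (by rw [dec_encV]; exact ⟨hq, h0⟩)
  obtain ⟨hlt, he⟩ := pos_ok _ (encV_lt x) hs
  obtain ⟨σ, a, h1, h2, h3⟩ := key _ hlt
  rw [he, dec_encV] at h3
  exact ⟨σ, a, h1, h2, h3⟩

theorem mask_surj : ∀ b : Fin 6 → Bool, ∃ m : Fin 64,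
    decV (maskN m) = fun i => if b i then (1, 0) else 0 := by decide +kernel

theorem clsSet_zero_eq : clsSet 0 = MonoData.two.toFinset.image decV := by
  ext x
  simp only [clsSet, Finset.mem_filter, Finset.mem_univ, true_and, Finset.mem_image, List.mem_toFinset,
    ← two_eq, List.mem_filter, List.mem_range, Bool.and_eq_true, beq_iff_eq]
  constructor
  · rintro ⟨hq, h0, hc⟩
    refine ⟨encV x, ⟨encV_lt x, (singN_iff (encV_lt x)).2 (by rw [dec_encV]; exact ⟨hq, h0⟩), ?_⟩,
      dec_encV x⟩
    exact (cls_eq_iff _ 0).2 (by rw [dec_encV]; exact hc)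
  · rintro ⟨n, ⟨hn, hs, hc⟩, rfl⟩
    exact ⟨((singN_iff hn).1 hs).1, ((singN_iff hn).1 hs).2, (cls_eq_iff n 0).1 hc⟩

theorem cls_eq_zero_iff (x : Vec) : cls x = 0 ↔ wt x = 2 := by
  unfold cls
  repeat' split_ifs
  all_goals simp_all

theorem bf_mono (σ : Equiv.Perm (Fin 6)) (a : Fin 6 → ZMod 3) (x y : Vec) :
    bf (mono σ a x) (mono σ a y) = bf x y := by
  rw [bf, ← mono_add, qf_mono, qf_mono, qf_mono, bf]

theorem mono_injective (σ : Equiv.Perm (Fin 6)) (a : Fin 6 → ZMod 3) :
    Function.Injective (mono σ a) := by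
  intro x y h
  funext i
  have h' : zs (a (σ i)) (x (σ.symm (σ i))) = zs (a (σ i)) (y (σ.symm (σ i))) := congrFun h (σ i)
  rw [Equiv.symm_apply_apply] at h'
  have e : zs (a (σ i)) (x i + y i) = 0 := by
    rw [zs_map_add, h']
    exact CharTwo.add_self_eq_zero _
  exact CharTwo.add_eq_zero.1 ((zs_eq_zero _ _).1 e)

/-- A vector of odd weight has weight one exactly when 105 vectors of weight two are orthogonal to it. -/
theorem cls_zero_card (x : Vec) (hx : qf x = 1) :
    wt x = 1 ↔ ((clsSet 0).filter fun y => bf x y = 0).card = 105 := by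
  set a : Fin 6 → ZMod 3 := fun i => -lg (x i)
  set x' := mono 1 a x with hx'
  have hval : ∀ i, x' i = if x i ≠ 0 then (1, 0) else 0 := by
    intro i
    show zs (-lg (x i)) (x i) = _
    by_cases h : x i = 0
    · rw [h, if_neg (by simp)]; exact (zs_eq_zero _ _).2 rfl
    · rw [if_pos h]
      conv_lhs => arg 2; rw [← zs_lg _ h]
      rw [← zs_add, neg_add_cancel, zs_zero]
  obtain ⟨m, hm⟩ := mask_surj fun i => decide (x i ≠ 0)
  have hm' : decV (maskN m) = x' := by
    rw [hm]; funext i; rw [hval]; simp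
  have hw : wtN (maskN m) = wt x := by rw [← wt_decV, hm', hx', wt_mono]
  have hcard : ((clsSet 0).filter fun y => bf x y = 0).card =
      ((clsSet 0).filter fun y => bf x' y = 0).card := by
    refine Finset.card_bij' (fun y _ => mono 1 a y) (fun y _ => mono 1 (fun i => -a i) y) ?_ ?_ ?_ ?_
    · intro y hy
      simp only [Finset.mem_filter, clsSet, Finset.mem_univ, true_and, cls_eq_zero_iff] at hy ⊢
      refine ⟨⟨?_, fun h => hy.1.2.1 ?_, ?_⟩, ?_⟩
      · rw [qf_mono]; exact hy.1.1
      · exact mono_injective 1 a (h.trans (funext fun i => ((zs_eq_zero _ _).2 rfl).symm))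
      · rw [wt_mono]; exact hy.1.2.2
      · rw [hx', bf_mono]; exact hy.2
    · intro y hy
      simp only [Finset.mem_filter, clsSet, Finset.mem_univ, true_and, cls_eq_zero_iff] at hy ⊢
      refine ⟨⟨?_, fun h => hy.1.2.1 ?_, ?_⟩, ?_⟩
      · rw [qf_mono]; exact hy.1.1
      · exact mono_injective 1 _ (h.trans (funext fun i => ((zs_eq_zero _ _).2 rfl).symm))
      · rw [wt_mono]; exact hy.1.2.2
      · rw [← bf_mono 1 a, ← hx', mono_mono, show (fun i => a i + -a ((1 : Equiv.Perm (Fin 6)).symm i)) =
          0 from funext fun i => add_neg_cancel _, one_mul, mono_one]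
        exact hy.2
    · intro y _
      rw [mono_mono, show (fun i => -a i + a ((1 : Equiv.Perm (Fin 6)).symm i)) =
          0 from funext fun i => neg_add_cancel _, one_mul, mono_one]
    · intro y _
      rw [mono_mono, show (fun i => a i + -a ((1 : Equiv.Perm (Fin 6)).symm i)) =
          0 from funext fun i => add_neg_cancel _, one_mul, mono_one]
  have hlt : ∀ n ∈ MonoData.two, n < 4096 := fun n hn => by
    rw [← two_eq, List.mem_filter, List.mem_range] at hn
    exact hn.1
  have hnd : MonoData.two.Nodup := two_eq ▸ List.nodup_range.filter _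
  have hlist : ((clsSet 0).filter fun y => bf x' y = 0).card =
      (MonoData.two.filter (orthN (maskN m))).length := by
    rw [clsSet_zero_eq, ← List.toFinset_card_of_nodup (hnd.filter _), Finset.filter_image,
      Finset.card_image_of_injOn]
    · refine congrArg Finset.card ?_
      ext n
      simp only [Finset.mem_filter, List.mem_toFinset, List.mem_filter]
      refine and_congr_right fun hn => ?_
      rw [orthN_iff, hm']
    · intro p hp r hr e
      rw [← encV_dec p (hlt p (List.mem_toFinset.1 (Finset.mem_filter.1 (Finset.mem_coe.1 hp)).1)),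
        ← encV_dec r (hlt r (List.mem_toFinset.1 (Finset.mem_filter.1 (Finset.mem_coe.1 hr)).1)), e]
  rw [hcard, hlist, ← hw]
  refine (mask_count m ?_).symm
  rw [hw, ← Nat.odd_iff, ← ZMod.natCast_eq_one_iff_odd]
  exact hx

end Cfsg.Agent.LFRep
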