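import Cfsg.Agent.Lib.AbstractGolay.Basic
import Cfsg.Agent.Lib.GolayUnique.Transport

/-!
# A group with a family of involutions labelled by the pairs of 24 points

`IsDuads A T d`: the elements of `T` in an elementary abelian group `A` of order `2^11` are labelled by
the pairs of 24 points, adjacent pairs multiply to the third pair and disjoint pairs multiply outside
`T`.  Then the relations form a binary code with parameters of the Golay code, so a group acting on
`T` by conjugation maps into `M24` (`IsDuads.exists_hom`).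
-/

set_option autoImplicit false

namespace Cfsg.Agent.LargeFischer

open Subgroup

/-- The labelling of `T` by pairs. -/
structure IsDuads {G : Type*} [Group G] (A : Subgroup G) (T : Set G) (d : Fin 24 → Fin 24 → G) : Prop where
  card : Nat.card ↥A = 2 ^ 11
  sq : ∀ a ∈ A, a * a = 1
  sub : T ⊆ (A : Set G)
  one_notMem : (1 : G) ∉ T
  mem : ∀ x y, x ≠ y → d x y ∈ T
  symm : ∀ x y, x ≠ y → d y x = d x y
  inj : ∀ x y u v, x ≠ y → u ≠ v → d x y = d u v → ({x, y} : Finset (Fin 24)) = {u, v}
  surj : ∀ t ∈ T, ∃ x y, x ≠ y ∧ d x y = t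
  tri : ∀ x y w, x ≠ y → y ≠ w → x ≠ w → d x y * d y w = d x w
  disj : ∀ x y u v, x ≠ y → x ≠ u → x ≠ v → y ≠ u → y ≠ v → u ≠ v → d x y * d u v ∉ T

/-- Pairwise meeting pairs, at least four of them, have a common point. -/
theorem exists_common_point {α ι : Type*} [DecidableEq α] (s : Finset ι) (e : ι → Finset α)
    (h2 : ∀ i ∈ s, (e i).card = 2) (hinj : Set.InjOn e s) (hs : 4 ≤ s.card)
    (hmeet : ∀ i ∈ s, ∀ j ∈ s, i ≠ j → ∃ a ∈ e i, a ∈ e j) : ∃ a, ∀ i ∈ s, a ∈ e i := by
  classical
  obtain ⟨i, hi, j, hj, hij⟩ := Finset.one_lt_card.1 (show 1 < s.card by omega)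
  obtain ⟨a, hai, haj⟩ := hmeet i hi j hj hij
  obtain ⟨b, hb⟩ := Finset.card_eq_one.1 (show ((e i).erase a).card = 1 by
    rw [Finset.card_erase_of_mem hai, h2 i hi])
  obtain ⟨c, hc⟩ := Finset.card_eq_one.1 (show ((e j).erase a).card = 1 by
    rw [Finset.card_erase_of_mem haj, h2 j hj])
  have ei : e i = {a, b} := by rw [← Finset.insert_erase hai, hb]
  have ej : e j = {a, c} := by rw [← Finset.insert_erase haj, hc]
  by_contra hno
  push Not at hno
  obtain ⟨k, hk, hak⟩ := hno a
  have hki : k ≠ i := fun h => hak (h ▸ hai)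
  have hkj : k ≠ j := fun h => hak (h ▸ haj)
  have hbk : b ∈ e k := by
    obtain ⟨u, hu, hu'⟩ := hmeet k hk i hi hki
    rw [ei, Finset.mem_insert, Finset.mem_singleton] at hu'
    rcases hu' with rfl | rfl
    exacts [absurd hu hak, hu]
  have hck : c ∈ e k := by
    obtain ⟨u, hu, hu'⟩ := hmeet k hk j hj hkj
    rw [ej, Finset.mem_insert, Finset.mem_singleton] at hu'
    rcases hu' with rfl | rfl
    exacts [absurd hu hak, hu]
  have hbc : b ≠ c := fun h => hij (hinj hi hj (by rw [ei, ej, h]))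
  have ek : e k = {b, c} := (Finset.eq_of_subset_of_card_le (by
      intro u hu
      rw [Finset.mem_insert, Finset.mem_singleton] at hu
      rcases hu with rfl | rfl
      exacts [hbk, hck]) (by rw [h2 k hk, Finset.card_pair hbc])).symm
  have hsub : ∀ l ∈ s, e l ∈ ({a, b, c} : Finset α).powersetCard 2 := fun l hl => by
    refine Finset.mem_powersetCard.2 ⟨?_, h2 l hl⟩
    by_cases hli : l = i
    · rw [hli, ei]; intro u; simp only [Finset.mem_insert, Finset.mem_singleton]; tauto
    by_cases hlj : l = j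
    · rw [hlj, ej]; intro u; simp only [Finset.mem_insert, Finset.mem_singleton]; tauto
    by_cases hlk : l = k
    · rw [hlk, ek]; intro u; simp only [Finset.mem_insert, Finset.mem_singleton]; tauto
    intro u hu
    simp only [Finset.mem_insert, Finset.mem_singleton]
    by_contra hout
    obtain ⟨hua, hub, huc⟩ : u ≠ a ∧ u ≠ b ∧ u ≠ c := by tauto
    obtain ⟨p, hp, hp'⟩ := hmeet l hl i hi hli
    obtain ⟨q, hq, hq'⟩ := hmeet l hl j hj hlj
    obtain ⟨r, hr, hr'⟩ := hmeet l hl k hk hlk
    rw [ei] at hp'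
    rw [ej] at hq'
    rw [ek] at hr'
    simp only [Finset.mem_insert, Finset.mem_singleton] at hp' hq' hr'
    have h3 : ∀ v w : α, v ∈ e l → w ∈ e l → v ≠ u → w ≠ u → v = w := fun v w hv hw h2' h3 => by
      obtain ⟨o, ho⟩ := Finset.card_eq_one.1 (show ((e l).erase u).card = 1 by
        rw [Finset.card_erase_of_mem hu, h2 l hl])
      have hv' := Finset.mem_erase.2 ⟨h2', hv⟩
      have hw' := Finset.mem_erase.2 ⟨h3, hw⟩
      rw [ho, Finset.mem_singleton] at hv' hw'
      exact hv'.trans hw'.symm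
    have hpu : p ≠ u := by rintro rfl; tauto
    have hqu : q ≠ u := by rintro rfl; tauto
    have hru : r ≠ u := by rintro rfl; tauto
    obtain rfl := h3 p q hp hq hpu hqu
    obtain rfl := h3 p r hp hr hpu hru
    have hac : a ≠ c := fun h => hak (h ▸ hck)
    have hab : a ≠ b := fun h => hak (h ▸ hbk)
    rcases hp' with rfl | rfl <;> tauto
  have := Finset.card_le_card_of_injOn e hsub hinj
  rw [Finset.card_powersetCard] at this
  have h3 : ({a, b, c} : Finset α).card ≤ 3 := Finset.card_le_three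
  have := Nat.choose_le_choose 2 h3
  norm_num [Nat.choose] at this
  omega

namespace IsDuads

variable {G : Type*} [Group G] {A : Subgroup G} {T : Set G} {d : Fin 24 → Fin 24 → G}
  (D : IsDuads A T d)
include D

theorem memA (t : G) (ht : t ∈ T) : t ∈ A := D.sub ht

theorem comm {a b : G} (ha : a ∈ A) (hb : b ∈ A) : a * b = b * a := by
  have i : ∀ x ∈ A, x⁻¹ = x := fun x hx => inv_eq_of_mul_eq_one_right (D.sq x hx)
  calc a * b = (a * b)⁻¹ := (i _ (A.mul_mem ha hb)).symm
    _ = b * a := by rw [mul_inv_rev, i a ha, i b hb]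

/-- `A` as a commutative group. -/
@[reducible] def commGroup : CommGroup ↥A :=
  { (inferInstance : Group ↥A) with mul_comm := fun a b => Subtype.ext (D.comm a.2 b.2) }

open Classical in
/-- The label of a point, relative to the base point. -/
noncomputable def phi (x : Fin 24) : ↥A :=
  if h : (0 : Fin 24) = x then 1 else ⟨d 0 x, D.sub (D.mem 0 x h)⟩

theorem phi_mul {x y : Fin 24} (h : x ≠ y) : ((D.phi x * D.phi y : ↥A) : G) = d x y := by
  simp only [phi]
  split_ifs with hx hy hy
  · exact absurd (hx.symm.trans hy) h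
  · subst hx; simp
  · subst hy; simp [D.symm x 0 h]
  · show d 0 x * d 0 y = d x y
    rw [← D.symm 0 x hx, D.tri x 0 y (Ne.symm hx) hy h]

/-- The product of the labels over a word. -/
noncomputable def evP (w : Fin 24 → ZMod 2) : ↥A :=
  letI := D.commGroup
  ∏ x, D.phi x ^ (w x).val

theorem phi_sq (x : Fin 24) : D.phi x ^ 2 = 1 := by
  rw [pow_two]
  exact Subtype.ext (D.sq _ (D.phi x).2)

theorem evP_add (u v : Fin 24 → ZMod 2) : D.evP (u + v) = D.evP u * D.evP v := by
  let := D.commGroup
  unfold evP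
  rw [← Finset.prod_mul_distrib]
  refine Finset.prod_congr rfl fun x _ => ?_
  rw [Pi.add_apply, ← pow_add, ZMod.val_add, ← pow_eq_pow_mod _ (D.phi_sq x)]

/-- The product of the labels over a word, and its parity. -/
noncomputable def evL : (Fin 24 → ZMod 2) →+ Additive ↥A × ZMod 2 :=
  AddMonoidHom.mk' (fun w => (Additive.ofMul (D.evP w), ∑ x, w x)) fun u v =>
    Prod.ext (congrArg Additive.ofMul (D.evP_add u v)) Finset.sum_add_distrib

/-- The relations. -/
noncomputable def code : Submodule (ZMod 2) (Fin 24 → ZMod 2) := AddSubgroup.toZModSubmodule 2 D.evL.ker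

theorem mem_code {w : Fin 24 → ZMod 2} : w ∈ D.code ↔ D.evL w = 0 := Iff.rfl

open AbstractGolay in
theorem evL_word (s : Finset (Fin 24)) : letI := D.commGroup
    D.evL (word s) = (Additive.ofMul (∏ x ∈ s, D.phi x), (s.card : ZMod 2)) := by
  letI := D.commGroup
  refine Prod.ext (congrArg Additive.ofMul ?_) ?_
  · unfold evP
    rw [← Finset.prod_subset (Finset.subset_univ s) (fun x _ hx => by simp [word, hx])]
    exact Finset.prod_congr rfl fun x hx => by simp [word, hx, ZMod.val_one]
  · show ∑ x, word s x = _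
    simp [word, Finset.sum_ite_mem]

open AbstractGolay in
theorem word_mem {s : Finset (Fin 24)} (hs : word s ∈ D.code) : letI := D.commGroup
    Even s.card ∧ ∏ x ∈ s, D.phi x = 1 := by
  rw [mem_code, evL_word] at hs
  obtain ⟨h1, h2⟩ := Prod.ext_iff.1 hs
  exact ⟨(ZMod.natCast_eq_zero_iff_even).1 h2, ofMul_eq_zero.1 h1⟩

open AbstractGolay in
theorem minWeight : MinWeight D.code := by
  letI := D.commGroup
  intro w hw h0
  by_contra hlt
  rw [hammingNorm_eq, not_le] at hlt
  rw [← word_supp w] at hw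
  obtain ⟨hev, hprod⟩ := D.word_mem hw
  have hne : supp w ≠ ∅ := fun e => h0 (by rw [← word_supp w, e]; funext x; simp [word])
  have hpos : 0 < (supp w).card := Finset.card_pos.2 (Finset.nonempty_iff_ne_empty.2 hne)
  obtain ⟨l, hl⟩ : ∃ l : List (Fin 24), l.Nodup ∧ l.toFinset = supp w :=
    ⟨_, Finset.nodup_toList _, Finset.toList_toFinset _⟩
  have hlen : l.length = (supp w).card := by rw [← hl.2, List.toFinset_card_of_nodup hl.1]
  rw [← hl.2, List.prod_toFinset _ hl.1] at hprod
  obtain ⟨k, hk⟩ := hev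
  rcases (by omega : l.length = 2 ∨ l.length = 4 ∨ l.length = 6) with e | e | e
  · match l, e, hl.1, hprod with
    | [a, b], _, hn, hp =>
      simp at hn hp
      refine D.one_notMem ?_
      have := D.mem a b hn
      rwa [← D.phi_mul hn, hp, Subgroup.coe_one] at this
  · match l, e, hl.1, hprod with
    | [a, b, c, f], _, hn, hp =>
      simp [not_or, ← mul_assoc] at hn hp
      have hab : a ≠ b := hn.1.1
      have hcf : c ≠ f := hn.2.2
      have e' : D.phi a * D.phi b = D.phi c * D.phi f := by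
        rw [mul_assoc _ (D.phi c)] at hp
        rw [eq_inv_of_mul_eq_one_left hp]
        exact inv_eq_of_mul_eq_one_right (Subtype.ext (D.sq _ (D.phi c * D.phi f).2))
      have h := D.inj a b c f hab hcf (by rw [← D.phi_mul hab, ← D.phi_mul hcf, e'])
      have : a ∈ ({c, f} : Finset (Fin 24)) := h ▸ Finset.mem_insert_self _ _
      simp at this
      tauto
  · match l, e, hl.1, hprod with
    | [a, b, c, f, g, h], _, hn, hp =>
      simp [not_or, ← mul_assoc] at hn hp
      have hab : a ≠ b := hn.1.1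
      have hcf : c ≠ f := hn.2.2.1.1
      have hgh : g ≠ h := hn.2.2.2.2
      refine D.disj a b c f hab hn.1.2.1 hn.1.2.2.1 hn.2.1.1 hn.2.1.2.1 hcf ?_
      rw [mul_assoc _ (D.phi g), mul_assoc _ (D.phi c)] at hp
      have e' : D.phi a * D.phi b * (D.phi c * D.phi f) = D.phi g * D.phi h := by
        rw [eq_inv_of_mul_eq_one_left hp]
        exact inv_eq_of_mul_eq_one_right (Subtype.ext (D.sq _ (D.phi g * D.phi h).2))
      have e'' := congrArg Subtype.val e'
      rw [Subgroup.coe_mul, D.phi_mul hab, D.phi_mul hcf, D.phi_mul hgh] at e''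
      exact e'' ▸ D.mem g h hgh

open AbstractGolay in
theorem range_card : Nat.card ↥D.evL.range = 4096 ∧ Module.finrank (ZMod 2) D.code = 12 := by
  classical
  letI := D.commGroup
  have hA : Finite ↥A := Nat.finite_of_card_ne_zero (by rw [D.card]; norm_num)
  have hcard : Nat.card (Additive ↥A × ZMod 2) = 4096 := by
    rw [Nat.card_prod, Nat.card_zmod, show Nat.card (Additive ↥A) = 2 ^ 11 from D.card]; norm_num
  let small : Finset (Finset (Fin 24)) := (Finset.range 4).biUnion fun k => Finset.powersetCard k Finset.univ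
  have hsmall : ∀ s ∈ small, s.card ≤ 3 := by
    intro s hs
    simp [small, Finset.mem_powersetCard] at hs
    omega
  have hsc : small.card = 2325 := by
    rw [Finset.card_biUnion]
    · simp only [Finset.card_powersetCard, Finset.card_univ, Fintype.card_fin]
      exact sum_choose
    · intro i _ j _ hij
      exact Finset.disjoint_left.mpr fun s hs hs' =>
        hij ((Finset.mem_powersetCard.mp hs).2.symm.trans (Finset.mem_powersetCard.mp hs').2)
  have hge : 2325 ≤ Nat.card ↥D.evL.range := by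
    have h := Finset.card_image_of_injOn (s := small) (f := fun s => D.evL (word s)) (by
      intro s hs t ht e
      rcases D.minWeight.eq_or_le (C := D.code) (s := s) (t := t) (by
        rw [mem_code, map_sub]; exact sub_eq_zero.2 e) with e | e
      · exact e
      · have := hsmall s hs; have := hsmall t ht; omega)
    rw [hsc] at h
    rw [← SetLike.coe_sort_coe, Nat.card_coe_set_eq, ← h, ← Set.ncard_coe_finset]
    refine Set.ncard_le_ncard (fun v hv => ?_) (Set.toFinite _)
    obtain ⟨s, -, rfl⟩ := Finset.mem_image.1 hv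
    exact ⟨_, rfl⟩
  have hdvd : Nat.card ↥D.evL.range ∣ 4096 := hcard ▸ AddSubgroup.card_addSubgroup_dvd_card _
  have hr : Nat.card ↥D.evL.range = 4096 := by
    obtain ⟨k, hk⟩ := hdvd
    rcases k with _ | _ | k
    · omega
    · omega
    · nlinarith
  refine ⟨hr, ?_⟩
  have h := D.evL.ker.card_mul_index
  rw [AddSubgroup.index_ker, hr, Nat.card_fun, Nat.card_zmod, Nat.card_fin] at h
  have hc : Nat.card ↥D.code = 2 ^ 12 := by
    show Nat.card ↥D.evL.ker = _
    norm_num at h ⊢
    omega
  have := Module.natCard_eq_pow_finrank (K := ZMod 2) (V := ↥D.code)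
  rw [hc, Nat.card_zmod] at this
  exact (Nat.pow_right_injective le_rfl this).symm

/-- `A` is generated by `T`. -/
theorem le_closure : A ≤ Subgroup.closure T := by
  letI := D.commGroup
  intro a ha
  have hA : Finite ↥A := Nat.finite_of_card_ne_zero (by rw [D.card]; norm_num)
  have htop : D.evL.range = ⊤ := by
    refine AddSubgroup.eq_top_of_card_eq _ ?_
    rw [D.range_card.1, Nat.card_prod, Nat.card_zmod, show Nat.card (Additive ↥A) = 2 ^ 11 from D.card]
    norm_num
  obtain ⟨w, hw⟩ : (Additive.ofMul (⟨a, ha⟩ : ↥A), (0 : ZMod 2)) ∈ D.evL.range := htop ▸ AddSubgroup.mem_top _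
  have hphi : ∀ x, D.phi x ∈ (Subgroup.closure T).subgroupOf A := fun x => by
    rw [Subgroup.mem_subgroupOf, phi]
    split
    · exact Subgroup.one_mem _
    · exact Subgroup.subset_closure (D.mem 0 x ‹_›)
  have h := (Subgroup.closure T).subgroupOf A |>.prod_mem (t := Finset.univ)
    (f := fun x => D.phi x ^ (w x).val) fun x _ => Subgroup.pow_mem _ (hphi x) _
  rw [show (∏ x, D.phi x ^ (w x).val) = (⟨a, ha⟩ : ↥A) from congrArg Prod.fst hw] at h
  exact h

/-- The blocks. -/
def blocks : Set (Finset (Fin 24)) := {o | o.card = 8 ∧ AbstractGolay.word o ∈ D.code}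

theorem steiner : Cfsg.IsSteinerSystem 5 8 D.blocks := by
  refine ⟨fun b hb => hb.1, fun s hs => ?_⟩
  obtain ⟨o, ho, h8, hso⟩ := AbstractGolay.octad_cover D.range_card.2 D.minWeight s hs
  exact ⟨o, ⟨⟨h8, ho⟩, hso⟩, fun o' ho' =>
    AbstractGolay.octad_unique D.minWeight hs ho'.1.2 ho ho'.1.1 h8 ho'.2 hso⟩

open Classical in
/-- The pair of an element of `T`. -/
noncomputable def pairOf (t : G) : Finset (Fin 24) :=
  if h : t ∈ T then {(D.surj t h).choose, (D.surj t h).choose_spec.choose} else ∅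

theorem pairOf_d {x y : Fin 24} (h : x ≠ y) : D.pairOf (d x y) = {x, y} := by
  rw [pairOf, dif_pos (D.mem x y h)]
  obtain ⟨hne, he⟩ := (D.surj _ (D.mem x y h)).choose_spec.choose_spec
  exact D.inj _ _ x y hne h he

theorem pairOf_card {t : G} (ht : t ∈ T) : (D.pairOf t).card = 2 := by
  obtain ⟨x, y, h, rfl⟩ := D.surj t ht
  rw [D.pairOf_d h, Finset.card_pair h]

theorem pairOf_inj {s t : G} (hs : s ∈ T) (ht : t ∈ T) (h : D.pairOf s = D.pairOf t) : s = t := by
  obtain ⟨x, y, hxy, rfl⟩ := D.surj s hs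
  obtain ⟨u, v, huv, rfl⟩ := D.surj t ht
  rw [D.pairOf_d hxy, D.pairOf_d huv] at h
  have hx : x ∈ ({u, v} : Finset (Fin 24)) := h ▸ Finset.mem_insert_self _ _
  have hy : y ∈ ({u, v} : Finset (Fin 24)) :=
    h ▸ Finset.mem_insert_of_mem (Finset.mem_singleton_self _)
  simp only [Finset.mem_insert, Finset.mem_singleton] at hx hy
  rcases hx with rfl | rfl <;> rcases hy with rfl | rfl <;>
    first
      | exact absurd rfl hxy
      | rfl
      | exact D.symm _ _ huv

theorem meet {s t : G} (hs : s ∈ T) (ht : t ∈ T) (hst : s * t ∈ T) :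
    ∃ a ∈ D.pairOf s, a ∈ D.pairOf t := by
  obtain ⟨x, y, hxy, rfl⟩ := D.surj s hs
  obtain ⟨u, v, huv, rfl⟩ := D.surj t ht
  rw [D.pairOf_d hxy, D.pairOf_d huv]
  by_contra hno
  simp only [Finset.mem_insert, Finset.mem_singleton, not_exists, not_and, not_or] at hno
  exact D.disj x y u v hxy (hno x (Or.inl rfl)).1 (hno x (Or.inl rfl)).2 (hno y (Or.inr rfl)).1
    (hno y (Or.inr rfl)).2 huv hst

variable {N : Subgroup G} (hN : ∀ m ∈ N, ∀ t ∈ T, m * t * m⁻¹ ∈ T)
include hN

theorem exists_image (m : ↥N) (x : Fin 24) :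
    ∃ p, ∀ y, y ≠ x → p ∈ D.pairOf ((m : G) * d x y * (m : G)⁻¹) := by
  have hm := fun y (hy : y ∈ (Finset.univ : Finset (Fin 24)).erase x) =>
    hN m m.2 _ (D.mem x y (Finset.mem_erase.1 hy).1.symm)
  obtain ⟨p, hp⟩ := exists_common_point ((Finset.univ : Finset (Fin 24)).erase x)
    (fun y => D.pairOf ((m : G) * d x y * (m : G)⁻¹)) (fun y hy => D.pairOf_card (hm y hy))
    (fun y hy y' hy' e => by
      have := D.pairOf_inj (hm y hy) (hm y' hy') e
      rw [mul_left_inj, mul_right_inj] at this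
      have h2 := D.inj x y x y' (Finset.mem_erase.1 hy).1.symm (Finset.mem_erase.1 hy').1.symm this
      have h3 : y ∈ ({x, y'} : Finset (Fin 24)) := h2 ▸ Finset.mem_insert_of_mem (Finset.mem_singleton_self _)
      simp only [Finset.mem_insert, Finset.mem_singleton] at h3
      exact h3.resolve_left (Finset.mem_erase.1 hy).1)
    (by simp) (fun y hy y' hy' hne => D.meet (hm y hy) (hm y' hy') (by
      have hyx := (Finset.mem_erase.1 hy).1
      have hyx' := (Finset.mem_erase.1 hy').1
      rw [show (m : G) * d x y * (m : G)⁻¹ * ((m : G) * d x y' * (m : G)⁻¹) =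
        (m : G) * (d x y * d x y') * (m : G)⁻¹ by group, ← D.symm x y hyx.symm,
        D.tri y x y' hyx hyx'.symm hne]
      exact hN m m.2 _ (D.mem y y' hne)))
  exact ⟨p, fun y hy => hp y (Finset.mem_erase.2 ⟨hy, Finset.mem_univ y⟩)⟩

/-- The image of a point. -/
noncomputable def img (m : ↥N) (x : Fin 24) : Fin 24 := (D.exists_image hN m x).choose

theorem img_spec (m : ↥N) {x y : Fin 24} (h : y ≠ x) :
    D.img hN m x ∈ D.pairOf ((m : G) * d x y * (m : G)⁻¹) :=
  (D.exists_image hN m x).choose_spec y h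

theorem img_unique (m : ↥N) {x p : Fin 24}
    (hp : ∀ y, y ≠ x → p ∈ D.pairOf ((m : G) * d x y * (m : G)⁻¹)) : D.img hN m x = p := by
  by_contra hne
  obtain ⟨y, hy, y', hy', hne'⟩ := Finset.one_lt_card.1
    (show 1 < ((Finset.univ : Finset (Fin 24)).erase x).card by simp)
  have hyx := (Finset.mem_erase.1 hy).1
  have hyx' := (Finset.mem_erase.1 hy').1
  have key : ∀ w, w ≠ x → D.pairOf ((m : G) * d x w * (m : G)⁻¹) = {D.img hN m x, p} := fun w hw =>
    (Finset.eq_of_subset_of_card_le (by
      intro u hu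
      simp only [Finset.mem_insert, Finset.mem_singleton] at hu
      rcases hu with rfl | rfl
      exacts [D.img_spec hN m hw, hp w hw])
      (by rw [D.pairOf_card (hN m m.2 _ (D.mem x w hw.symm)), Finset.card_pair hne])).symm
  have e := D.pairOf_inj (hN m m.2 _ (D.mem x y hyx.symm)) (hN m m.2 _ (D.mem x y' hyx'.symm))
    ((key y hyx).trans (key y' hyx').symm)
  rw [mul_left_inj, mul_right_inj] at e
  have h2 := D.inj x y x y' hyx.symm hyx'.symm e
  have h3 : y ∈ ({x, y'} : Finset (Fin 24)) := h2 ▸ Finset.mem_insert_of_mem (Finset.mem_singleton_self _)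
  simp only [Finset.mem_insert, Finset.mem_singleton] at h3
  rcases h3 with h3 | h3
  exacts [hyx h3, hne' h3]

theorem img_one (x : Fin 24) : D.img hN 1 x = x :=
  D.img_unique hN 1 fun y hy => by simp [D.pairOf_d (Ne.symm hy)]

theorem img_mul (m n : ↥N) (x : Fin 24) : D.img hN (m * n) x = D.img hN m (D.img hN n x) := by
  refine D.img_unique hN _ fun y hy => ?_
  have hs := hN n n.2 _ (D.mem x y hy.symm)
  obtain ⟨u, v, huv, he⟩ := D.surj _ hs
  have hu := D.img_spec hN n hy
  rw [← he, D.pairOf_d huv, Finset.mem_insert, Finset.mem_singleton] at hu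
  rw [show (((m * n : ↥N) : G)) * d x y * ((m * n : ↥N) : G)⁻¹ =
    (m : G) * ((n : G) * d x y * (n : G)⁻¹) * (m : G)⁻¹ by rw [Subgroup.coe_mul]; group, ← he]
  rcases hu with hu | hu <;> rw [hu]
  · exact D.img_spec hN m huv.symm
  · rw [← D.symm u v huv]; exact D.img_spec hN m huv

/-- The permutations of the 24 points. -/
noncomputable def perm : ↥N →* Equiv.Perm (Fin 24) where
  toFun m :=
    { toFun := D.img hN m
      invFun := D.img hN m⁻¹
      left_inv := fun x => by rw [← D.img_mul hN, inv_mul_cancel, D.img_one]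
      right_inv := fun x => by rw [← D.img_mul hN, mul_inv_cancel, D.img_one] }
  map_one' := Equiv.ext fun x => D.img_one hN x
  map_mul' m n := Equiv.ext fun x => D.img_mul hN m n x

theorem conj_d (m : ↥N) {x y : Fin 24} (h : x ≠ y) :
    (m : G) * d x y * (m : G)⁻¹ = d (D.perm hN m x) (D.perm hN m y) := by
  have hne : D.perm hN m x ≠ D.perm hN m y := fun e => h ((D.perm hN m).injective e)
  have ht := hN m m.2 _ (D.mem x y h)
  refine D.pairOf_inj ht (D.mem _ _ hne) ?_
  rw [D.pairOf_d hne]
  refine (Finset.eq_of_subset_of_card_le ?_ (by rw [D.pairOf_card ht, Finset.card_pair hne])).symm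
  intro u hu
  simp only [Finset.mem_insert, Finset.mem_singleton] at hu
  rcases hu with rfl | rfl
  · exact D.img_spec hN m h.symm
  · rw [← D.symm x y h]; exact D.img_spec hN m h

theorem perm_code (m : ↥N) {s : Finset (Fin 24)} (hs : AbstractGolay.word s ∈ D.code) :
    AbstractGolay.word (s.image (D.perm hN m)) ∈ D.code := by
  letI := D.commGroup
  obtain ⟨hev, hprod⟩ := D.word_mem hs
  set σ := D.perm hN m
  have hinj : Set.InjOn σ s := σ.injective.injOn
  rw [mem_code, evL_word, Finset.card_image_of_injOn hinj, Finset.prod_image hinj]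
  refine Prod.ext (ofMul_eq_zero.2 ?_) ((ZMod.natCast_eq_zero_iff_even).2 hev)
  have hc : ∀ x, (m : G) * (D.phi x : G) * (m : G)⁻¹ = ((D.phi (σ 0) * D.phi (σ x) : ↥A) : G) := by
    intro x
    by_cases h : (0 : Fin 24) = x
    · subst h
      rw [Subgroup.coe_mul, D.sq _ (D.phi (σ 0)).2]
      simp [phi]
    · rw [D.phi_mul (fun e => h (σ.injective e)), ← D.conj_d hN m h]
      simp [phi, h]
  have hfold : ∀ u : Finset (Fin 24), (m : G) * ((∏ x ∈ u, D.phi x : ↥A) : G) * (m : G)⁻¹ =
      ((∏ x ∈ u, D.phi (σ 0) * D.phi (σ x) : ↥A) : G) := by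
    intro u
    induction u using Finset.induction_on with
    | empty => simp
    | insert a u ha ih =>
      rw [Finset.prod_insert ha, Finset.prod_insert ha, Subgroup.coe_mul, Subgroup.coe_mul, ← hc, ← ih]
      group
  have h1 := hfold s
  rw [hprod, Finset.prod_mul_distrib, Finset.prod_const, Subgroup.coe_one, mul_one, mul_inv_cancel] at h1
  have hp : D.phi (σ 0) ^ s.card = 1 := by
    obtain ⟨k, hk⟩ := hev
    rw [hk, pow_add, ← mul_pow, show D.phi (σ 0) * D.phi (σ 0) = 1 from Subtype.ext (D.sq _ (D.phi _).2),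
      one_pow]
  rw [hp, one_mul] at h1
  exact Subtype.ext h1.symm

theorem perm_mem (m : ↥N) : D.perm hN m ∈ Cfsg.setSystemAut D.blocks := by
  classical
  rw [GolayUnique.mem_setSystemAut_iff]
  intro b
  have key : ∀ (m : ↥N) (b : Finset (Fin 24)), b ∈ D.blocks → b.image (D.perm hN m) ∈ D.blocks :=
    fun m b hb => ⟨by rw [Finset.card_image_of_injective _ (D.perm hN m).injective]; exact hb.1,
      D.perm_code hN m hb.2⟩
  refine ⟨fun h => ?_, key m b⟩
  have := key m⁻¹ _ h
  rwa [Finset.image_image, ← Equiv.Perm.coe_mul, ← map_mul, inv_mul_cancel, map_one, Equiv.Perm.coe_one,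
    Finset.image_id] at this

open scoped Pointwise in
/-- The action on the pairs gives a homomorphism to `M24`. -/
theorem exists_hom : ∃ ψ : ↥N →* ↥Cfsg.M24,
    (∀ m : ↥N, ψ m = 1 ↔ ∀ t ∈ T, (m : G) * t * (m : G)⁻¹ = t) ∧
    ∀ t ∈ T, ∃ p q : Cfsg.GolayPt, p ≠ q ∧ ∀ m : ↥N,
      ((ψ m : Equiv.Perm Cfsg.GolayPt) ∈
        MulAction.stabilizer (Equiv.Perm Cfsg.GolayPt) ({p, q} : Set Cfsg.GolayPt)) ↔
      (m : G) * t * (m : G)⁻¹ = t := by
  classical
  obtain ⟨e, -, he⟩ := GolayUnique.exists_iso (Fintype.card_fin 24) GolayUnique.card_golayPt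
    D.steiner Mathieu.octads_steiner
  have hmem : ∀ m : ↥N, e.permCongr (D.perm hN m) ∈ Cfsg.M24 := fun m => by
    rw [Mathieu.M24_eq_setSystemAut_octads, GolayUnique.permCongr_mem e he]
    exact D.perm_mem hN m
  let ψ : ↥N →* ↥Cfsg.M24 :=
    { toFun := fun m => ⟨e.permCongr (D.perm hN m), hmem m⟩
      map_one' := Subtype.ext (Equiv.ext fun x => by simp)
      map_mul' := fun m n => Subtype.ext (Equiv.ext fun x => by simp) }
  have hpair : ∀ (m : ↥N) {x y : Fin 24} (h : x ≠ y),
      (m : G) * d x y * (m : G)⁻¹ = d x y ↔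
        ({D.perm hN m x, D.perm hN m y} : Finset (Fin 24)) = {x, y} := by
    intro m x y h
    have hne : D.perm hN m x ≠ D.perm hN m y := fun e => h ((D.perm hN m).injective e)
    rw [D.conj_d hN m h]
    exact ⟨fun e => D.inj _ _ _ _ hne h e,
      fun e => D.pairOf_inj (D.mem _ _ hne) (D.mem _ _ h) (by rw [D.pairOf_d hne, D.pairOf_d h, e])⟩
  refine ⟨ψ, fun m => ⟨fun hm t ht => ?_, fun hall => ?_⟩, fun t ht => ?_⟩
  · obtain ⟨x, y, h, rfl⟩ := D.surj t ht
    have h1 : D.perm hN m = 1 := e.permCongr.injective (by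
      have := congrArg Subtype.val hm
      refine this.trans (Equiv.ext fun x => by simp))
    rw [hpair m h, h1]; rfl
  · refine Subtype.ext (Equiv.ext fun u => ?_)
    show e (D.perm hN m (e.symm u)) = u
    rw [← Equiv.eq_symm_apply]
    set x := e.symm u
    by_contra hne
    obtain ⟨y, hy⟩ := Finset.card_pos.1
      (show 0 < ((Finset.univ : Finset (Fin 24)) \ {x, D.perm hN m x}).card by
        rw [Finset.card_sdiff_of_subset (Finset.subset_univ _), Finset.card_pair (Ne.symm hne)]; simp)
    simp only [Finset.mem_sdiff, Finset.mem_univ, true_and, Finset.mem_insert, Finset.mem_singleton, not_or] at hy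
    have h := (hpair m (Ne.symm hy.1)).1 (hall _ (D.mem x y (Ne.symm hy.1)))
    have hx : D.perm hN m x ∈ ({x, y} : Finset (Fin 24)) := h ▸ Finset.mem_insert_self _ _
    simp only [Finset.mem_insert, Finset.mem_singleton] at hx
    rcases hx with hx | hx
    exacts [hne hx, hy.2 hx.symm]
  · obtain ⟨x, y, h, rfl⟩ := D.surj t ht
    refine ⟨e x, e y, fun h' => h (e.injective h'), fun m => ?_⟩
    rw [hpair m h, MulAction.mem_stabilizer_iff, ← Finset.coe_inj, Finset.coe_pair, Finset.coe_pair,
      ← Set.image_eq_image e.injective, Set.image_pair, Set.image_pair]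
    show (fun u => (ψ m : Equiv.Perm Cfsg.GolayPt) • u) '' {e x, e y} = _ ↔ _
    rw [Set.image_pair]
    show ({e (D.perm hN m (e.symm (e x))), e (D.perm hN m (e.symm (e y)))} : Set _) = _ ↔ _
    rw [e.symm_apply_apply, e.symm_apply_apply]

end IsDuads

end Cfsg.Agent.LargeFischer
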