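import Cfsg.Agent.Lib.LargeFischer.U43Frame
import Mathlib.Algebra.BigOperators.Pi
import Mathlib.GroupTheory.Coset.Card

/-!
# Eigenspaces of an elementary abelian group of order 81 over the field with four elements

`V` has exponent two and a map `w` with `w² + w + 1 = 0`; `ρ` is an action of `(ℤ/3)^4` commuting with
`w`.  Then `V` is the direct sum of the spaces `U f` on which `ρ v` is the scalar `ω^(f·v)`.
-/

set_option autoImplicit false

namespace Cfsg.Agent.LFRep

open Finset

theorem card_V4 : Fintype.card V4 = 81 := by simp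

theorem dot_comm (f v : V4) : dot f v = dot v f := by simp only [dot]; ring

theorem dot_add_right (f u v : V4) : dot f (u + v) = dot f u + dot f v := by
  simp only [dot, Pi.add_apply]; ring

theorem dot_neg_right (f v : V4) : dot f (-v) = -dot f v := by
  simp only [dot, Pi.neg_apply]; ring

theorem dot_sub_left (f g v : V4) : dot (f - g) v = dot f v - dot g v := by
  simp only [dot, Pi.sub_apply]; ring

theorem exists_dot_one : ∀ f : V4, f ≠ 0 → ∃ v, dot f v = 1 := by decide +kernel

theorem dot_zero_left (v : V4) : dot 0 v = 0 := by simp [dot]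

theorem dot_eq_zero : ∀ f : V4, (∀ v, dot f v = 0) → f = 0 := by decide +kernel

/-- An additive function on `V4` is a dot product. -/
theorem exists_dot (φ : V4 → ZMod 3) (h : ∀ u v, φ (u + v) = φ u + φ v) : ∃ f, ∀ v, φ v = dot f v := by
  let L : V4 →+ ZMod 3 := AddMonoidHom.mk' φ h
  refine ⟨fun j => φ (Pi.single j 1), fun v => ?_⟩
  show L v = _
  conv_lhs => rw [eq_sum v]
  rw [map_sum, Fin.sum_univ_four]
  simp only [ZMod.map_smul, smul_eq_mul, dot]
  show v 0 * φ _ + v 1 * φ _ + v 2 * φ _ + v 3 * φ _ = _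
  ring

variable (V : Type*) [AddCommGroup V]

/-- A group of exponent two with a map satisfying `w² + w + 1 = 0`. -/
structure W3 where
  w : V →+ V
  two : ∀ x : V, x + x = 0
  rel : ∀ x, w (w x) + w x + x = 0

/-- An action of `(ℤ/3)^4` commuting with `w`. -/
structure EigSys extends W3 V where
  ρ : V4 → V →+ V
  ρ_zero : ∀ x, ρ 0 x = x
  ρ_add : ∀ u v x, ρ (u + v) x = ρ u (ρ v x)
  comm : ∀ v x, ρ v (w x) = w (ρ v x)

variable {V}

namespace W3

variable (D : W3 V)

include D in
theorem neg_eq (x : V) : -x = x := neg_eq_of_add_eq_zero_left (D.two x)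

theorem ww (x : V) : D.w (D.w x) = D.w x + x := by
  have h := D.rel x
  rw [add_assoc, add_eq_zero_iff_eq_neg, D.neg_eq] at h
  exact h

theorem w_cube (x : V) : D.w (D.w (D.w x)) = x := by
  rw [D.ww (D.w x), D.ww, add_assoc, add_comm x, ← add_assoc, D.two, zero_add]

theorem w_inj : Function.Injective D.w := fun x y h => by rw [← D.w_cube x, h, D.w_cube]

/-- The power `w^a`. -/
def wp (a : ZMod 3) (x : V) : V := if a = 0 then x else if a = 1 then D.w x else D.w (D.w x)

theorem wp_zero (x : V) : D.wp 0 x = x := rfl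

theorem wp_one (x : V) : D.wp 1 x = D.w x := rfl

theorem wp_map_add (a : ZMod 3) (x y : V) : D.wp a (x + y) = D.wp a x + D.wp a y := by
  unfold wp
  split_ifs <;> simp

theorem wp_succ (a : ZMod 3) (x : V) : D.w (D.wp a x) = D.wp (a + 1) x := by
  fin_cases a
  · rfl
  · rfl
  · exact D.w_cube x

theorem wp_wp (a b : ZMod 3) (x : V) : D.wp a (D.wp b x) = D.wp (a + b) x := by
  fin_cases a
  · show D.wp b x = D.wp (0 + b) x
    rw [zero_add]
  · show D.w (D.wp b x) = D.wp (1 + b) x
    rw [wp_succ, add_comm]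
  · show D.w (D.w (D.wp b x)) = D.wp (2 + b) x
    rw [wp_succ, wp_succ, add_assoc, add_comm, show (1 : ZMod 3) + 1 = 2 from rfl]

/-- `w^a` as an additive map. -/
def wpHom (a : ZMod 3) : V →+ V := AddMonoidHom.mk' (D.wp a) (D.wp_map_add a)

theorem wp_zero_right (a : ZMod 3) : D.wp a 0 = 0 := map_zero (D.wpHom a)

theorem wp_eq_self {a : ZMod 3} (ha : a ≠ 0) {x : V} (h : D.wp a x = x) : x = 0 := by
  have hw : D.w x = x := by
    fin_cases a
    · exact absurd rfl ha
    · exact h
    · have h2 : D.w (D.w x) = x := h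
      calc D.w x = D.w (D.w (D.w x)) := by rw [h2]
        _ = x := D.w_cube x
  have := D.rel x
  rwa [hw, hw, D.two, zero_add] at this

theorem wp_inj (a : ZMod 3) : Function.Injective (D.wp a) := fun x y h => by
  rw [← D.wp_zero x, ← D.wp_zero y, ← neg_add_cancel a, ← D.wp_wp, h, D.wp_wp]

theorem wp_left_inj {a b : ZMod 3} {x : V} (hx : x ≠ 0) (h : D.wp a x = D.wp b x) : a = b := by
  by_contra hne
  refine hx (D.wp_eq_self (sub_ne_zero.2 hne) (D.wp_inj b ?_))
  rw [D.wp_wp, add_sub_cancel, h]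

include D in
theorem odd_nsmul (n : ℕ) (hn : Odd n) (x : V) : n • x = x := by
  obtain ⟨k, rfl⟩ := hn
  rw [succ_nsmul, mul_nsmul', two_nsmul, D.two, zero_add]

/-- A nonzero additive function sums to zero under `w`. -/
theorem sum_wp (f : V4) (hf : f ≠ 0) (x : V) : ∑ v : V4, D.wp (dot f v) x = 0 := by
  obtain ⟨u, hu⟩ := exists_dot_one f hf
  set S := ∑ v : V4, D.wp (dot f v) x with hS
  have h : D.w S = S := by
    conv_rhs => rw [hS, ← Equiv.sum_comp (Equiv.addRight u)]
    rw [hS, map_sum]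
    refine Finset.sum_congr rfl fun v _ => ?_
    rw [wp_succ, Equiv.coe_addRight, dot_add_right, hu]
  exact D.wp_eq_self (a := 1) (by decide) h

theorem sum_wp_delta (f g : V4) (x : V) :
    ∑ v : V4, D.wp (dot g v - dot f v) x = if f = g then x else 0 := by
  split_ifs with h
  · subst h
    simp only [sub_self, wp_zero, Finset.sum_const, Finset.card_univ, card_V4]
    exact D.odd_nsmul 81 (by decide) x
  · simp only [← dot_sub_left]
    exact D.sum_wp _ (sub_ne_zero.2 (Ne.symm h)) x

end W3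

namespace EigSys

variable (D : EigSys V)

theorem comm_wp (v : V4) (a : ZMod 3) (x : V) : D.ρ v (D.wp a x) = D.wp a (D.ρ v x) := by
  fin_cases a
  · rfl
  · exact D.comm v x
  · show D.ρ v (D.w (D.w x)) = D.w (D.w (D.ρ v x))
    rw [D.comm, D.comm]

/-- The eigenspace of a functional. -/
def U (f : V4) : AddSubgroup V where
  carrier := {x | ∀ v, D.ρ v x = D.wp (dot f v) x}
  add_mem' hx hy v := by rw [map_add, hx v, hy v, D.wp_map_add]
  zero_mem' v := by rw [map_zero, D.wp_zero_right]
  neg_mem' {x} hx := by rwa [D.neg_eq x]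

theorem mem_U {f : V4} {x : V} : x ∈ D.U f ↔ ∀ v, D.ρ v x = D.wp (dot f v) x := Iff.rfl

theorem w_mem {f : V4} {x : V} (hx : x ∈ D.U f) : D.w x ∈ D.U f := fun v => by
  rw [D.comm, hx v, D.wp_succ, ← D.wp_one x, D.wp_wp]

theorem wp_mem {f : V4} {x : V} (hx : x ∈ D.U f) (a : ZMod 3) : D.wp a x ∈ D.U f := fun v => by
  rw [D.comm_wp, hx v, D.wp_wp, D.wp_wp, add_comm]

theorem U_unique {f g : V4} {x : V} (hx : x ≠ 0) (hf : x ∈ D.U f) (hg : x ∈ D.U g) : f = g := by
  refine sub_eq_zero.1 (dot_eq_zero _ fun v => ?_)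
  rw [dot_sub_left, sub_eq_zero]
  exact D.wp_left_inj hx ((hf v).symm.trans (hg v))

/-- A common eigenvector lies in an eigenspace. -/
theorem exists_U {x : V} (hx : x ≠ 0) (h : ∀ v, ∃ a, D.ρ v x = D.wp a x) : ∃ f, x ∈ D.U f := by
  choose φ hφ using h
  obtain ⟨f, hf⟩ := exists_dot φ fun u v => D.wp_left_inj hx (by
    rw [← hφ, D.ρ_add, hφ v, D.comm_wp, hφ u, D.wp_wp, add_comm])
  exact ⟨f, fun v => by rw [← hf, hφ]⟩

/-- The projection onto an eigenspace. -/
def proj (f : V4) (x : V) : V := ∑ v : V4, D.wp (-dot f v) (D.ρ v x)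

theorem proj_mem (f : V4) (x : V) : D.proj f x ∈ D.U f := fun u => by
  show D.ρ u (∑ v : V4, _) = D.wpHom (dot f u) (∑ v : V4, _)
  rw [map_sum, map_sum]
  conv_rhs => rw [← Equiv.sum_comp (Equiv.addLeft u)]
  refine Finset.sum_congr rfl fun v _ => ?_
  show _ = D.wp (dot f u) (D.wp (-dot f (u + v)) (D.ρ (u + v) x))
  rw [D.comm_wp, D.wp_wp, ← D.ρ_add, dot_add_right]
  congr 1
  abel

theorem proj_map_add (f : V4) (x y : V) : D.proj f (x + y) = D.proj f x + D.proj f y := by
  simp only [proj, map_add, D.wp_map_add, Finset.sum_add_distrib]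

theorem proj_apply {f g : V4} {x : V} (hx : x ∈ D.U g) : D.proj f x = if f = g then x else 0 := by
  rw [← D.sum_wp_delta f g]
  refine Finset.sum_congr rfl fun v _ => ?_
  rw [hx v, D.wp_wp, neg_add_eq_sub]

theorem sum_proj (x : V) : ∑ f : V4, D.proj f x = x := by
  simp only [proj]
  rw [Finset.sum_comm, Finset.sum_eq_single 0]
  · simp only [D.ρ_zero, dot_comm _ (0 : V4), dot_zero_left, neg_zero, D.wp_zero, Finset.sum_const,
      Finset.card_univ, card_V4]
    exact D.odd_nsmul 81 (by decide) x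
  · intro v _ hv
    have h : ∀ f : V4, -dot f v = dot (-v) f := fun f => by
      rw [dot_comm (-v) f, dot_neg_right]
    simp only [h]
    exact D.sum_wp _ (neg_ne_zero.2 hv) _
  · simp

/-- The decomposition. -/
def decomp : V ≃+ ((f : V4) → D.U f) where
  toFun x f := ⟨D.proj f x, D.proj_mem f x⟩
  invFun y := ∑ f, (y f : V)
  left_inv x := D.sum_proj x
  right_inv y := funext fun f => Subtype.ext (by
    show D.proj f (∑ g, (y g : V)) = y f
    let L : V →+ V := AddMonoidHom.mk' (D.proj f) (D.proj_map_add f)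
    show L _ = _
    rw [map_sum, Finset.sum_eq_single f]
    · show D.proj f (y f : V) = _
      rw [D.proj_apply (y f).2, if_pos rfl]
    · intro g _ hg
      show D.proj f (y g : V) = _
      rw [D.proj_apply (y g).2, if_neg hg.symm]
    · simp)
  map_add' x y := funext fun f => Subtype.ext (D.proj_map_add f x y)

theorem card_eq : Nat.card V = ∏ f : V4, Nat.card (D.U f) := by
  rw [Nat.card_congr D.decomp.toEquiv, Nat.card_pi]

/-- Functionals with nonzero eigenspace. -/
noncomputable def supp : Finset V4 := by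
  classical exact Finset.univ.filter fun f => D.U f ≠ ⊥

theorem mem_supp {f : V4} : f ∈ D.supp ↔ D.U f ≠ ⊥ := by simp [supp]

theorem mem_supp_iff {f : V4} : f ∈ D.supp ↔ ∃ x ∈ D.U f, x ≠ 0 := by
  rw [mem_supp, ne_eq, AddSubgroup.eq_bot_iff_forall]
  push Not
  rfl

theorem eq_zero_of_not_supp {f : V4} (hf : f ∉ D.supp) {x : V} (hx : x ∈ D.U f) : x = 0 := by
  by_contra h
  exact hf (D.mem_supp_iff.2 ⟨x, hx, h⟩)

/-- A map `n` that moves `x` to an eigenvector. -/
theorem image_eigen (n : V →+ V) (hn : ∀ y, n (D.w y) = D.w (n y)) (σ : V4 → V4) (c : V4 → ZMod 3)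
    (h : ∀ v y, n (D.ρ v y) = D.wp (c v) (D.ρ (σ v) (n y))) (hσ : Function.Surjective σ) {f : V4} {x : V}
    (hx : x ∈ D.U f) (hx0 : n x ≠ 0) : ∃ g, n x ∈ D.U g := by
  refine D.exists_U hx0 fun u => ?_
  obtain ⟨v, rfl⟩ := hσ u
  refine ⟨-c v + dot f v, ?_⟩
  have hwp : ∀ a y, n (D.wp a y) = D.wp a (n y) := fun a y => by
    fin_cases a
    · rfl
    · exact hn y
    · show n (D.w (D.w y)) = D.w (D.w (n y))
      rw [hn, hn]
  have := h v x
  rw [hx v, hwp] at this
  rw [← D.wp_wp, this, D.wp_wp, neg_add_cancel, D.wp_zero]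

theorem four_le_card [Finite V] {f : V4} (hf : f ∈ D.supp) : 4 ≤ Nat.card (D.U f) := by
  obtain ⟨x, hx, h0⟩ := D.mem_supp_iff.1 hf
  let k : Option (ZMod 3) → D.U f :=
    fun o => o.elim 0 fun a => ⟨D.wp a x, D.wp_mem hx a⟩
  have hk : Function.Injective k := by
    rintro (_ | a) (_ | b) h
    · rfl
    · exact absurd (D.wp_inj b ((congrArg Subtype.val h).symm.trans (D.wp_zero_right b).symm)) h0
    · exact absurd (D.wp_inj a ((congrArg Subtype.val h).trans (D.wp_zero_right a).symm)) h0
    · exact congrArg some (D.wp_left_inj h0 (congrArg Subtype.val h))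
  have := Nat.card_le_card_of_injective k hk
  simpa using this

theorem pow_card_le [Finite V] : 4 ^ D.supp.card ≤ Nat.card V := by
  rw [D.card_eq, ← Finset.prod_const]
  refine (Finset.prod_le_prod' fun f hf => D.four_le_card hf).trans ?_
  exact Finset.prod_le_prod_of_subset_of_one_le' (Finset.subset_univ _) fun f _ _ => Nat.card_pos

theorem prod_supp : ∏ f ∈ D.supp, Nat.card (D.U f) = Nat.card V := by
  rw [D.card_eq]
  refine Finset.prod_subset (Finset.subset_univ _) fun f _ hf => ?_
  rw [not_not.1 (mt D.mem_supp.2 hf), Nat.card_eq_one_iff_unique]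
  exact ⟨inferInstance, inferInstance⟩

end EigSys

end Cfsg.Agent.LFRep
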