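import Cfsg.Agent.Lib.LargeFischer.Mono

/-!
# Monomial elements

`exists_mono`: if the normaliser of a group of diagonal maps of order 243 containing the scalar acts monomially and
induces a group of order divisible by 360, then every monomial map with zero diagonal sum and even permutation is reached.
-/

set_option autoImplicit false

namespace Cfsg.Agent.LargeFischer

open Subgroup Equiv

theorem single_comp (σ : Perm (Fin 6)) (i : Fin 6) :
    (Pi.single (σ i) (1 : ZMod 3) : Fin 6 → ZMod 3) ∘ σ = Pi.single i 1 := by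
  funext k
  by_cases h : k = i
  · subst h; simp
  · simp [Pi.single_apply, h]

theorem cube_eq_self : ∀ k : ZMod 3, k * k * k = k := by decide

theorem exists_mono {Γ : Type*} [Group Γ] [Finite Γ] (τ : Γ →* Perm Cd) (hτ : Function.Injective τ)
    (A : Subgroup Γ) (hA : Nat.card A = 243) (hAd : ∀ a ∈ A, ∃ d, ∀ v, τ a v = monoC d 1 v)
    (hN : ∀ n ∈ normalizer (A : Set Γ), ∃ d σ, ∀ v, τ n v = monoC d σ v)
    (h360 : 360 ∣ (centralizer (A : Set Γ)).relIndex (normalizer (A : Set Γ)))
    (d : Fin 6 → ZMod 3) (σ : Perm (Fin 6)) (hd : ∑ i, d i = 0) (hσ : Perm.sign σ = 1) :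
    ∃ g, ∀ v, τ g v = monoC d σ v := by
  classical
  choose D hD using fun a : A => hAd a a.2
  choose E S hS using fun n : normalizer (A : Set Γ) => hN n n.2
  have hmul : ∀ n m, E (n * m) = (fun i => E m i + E n (S m i)) ∧ S (n * m) = S n * S m := fun n m =>
    monoC_inj fun v => by
      rw [← monoC_comp, ← hS, ← hS, ← hS, Subgroup.coe_mul, map_mul]
      rfl
  let π : normalizer (A : Set Γ) →* Perm (Fin 6) := MonoidHom.mk' S fun n m => (hmul n m).2
  let s : normalizer (A : Set Γ) →* Multiplicative (ZMod 3) :=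
    MonoidHom.mk' (fun n => Multiplicative.ofAdd (∑ i, E n i)) fun n m => by
      rw [← ofAdd_add, (hmul n m).1, Finset.sum_add_distrib, Equiv.sum_comp, add_comm]
  -- the kernel centralises `A`
  have hker : π.ker ≤ (centralizer (A : Set Γ)).subgroupOf (normalizer (A : Set Γ)) := by
    intro n hn
    rw [MonoidHom.mem_ker] at hn
    have hn' : S n = 1 := hn
    rw [mem_subgroupOf, mem_centralizer_iff]
    intro a ha
    refine hτ (Equiv.ext fun v => ?_)
    rw [map_mul, map_mul, Perm.mul_apply, Perm.mul_apply, hS n, hS n, hD ⟨a, ha⟩, hD ⟨a, ha⟩, hn',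
      monoC_comp, monoC_comp]
    simp only [Perm.one_apply, add_comm]
  have hd360 : 360 ∣ Nat.card π.range := by
    rw [← Subgroup.index_ker]
    exact h360.trans (Subgroup.index_dvd_of_le hker)
  have hA6 : alternatingGroup (Fin 6) ≤ π.range := by
    refine Perm.alternatingGroup_le_of_index_le_two ?_
    have h := Subgroup.card_mul_index π.range
    rw [Nat.card_perm, Nat.card_fin] at h
    obtain ⟨c, hc⟩ := hd360
    rw [hc] at h
    norm_num [Nat.factorial] at h
    rcases Nat.eq_zero_or_pos c with rfl | hc0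
    · simp at h
    · nlinarith
  -- the diagonals
  let T : AddSubgroup (Fin 6 → ZMod 3) :=
    { carrier := {e | ∃ a : A, D a = e}
      add_mem' := by
        rintro _ _ ⟨a, rfl⟩ ⟨b, rfl⟩
        refine ⟨a * b, (monoC_inj (σ := 1) (σ' := 1) fun v => ?_).1⟩
        rw [← hD, Subgroup.coe_mul, map_mul, Perm.mul_apply, hD, hD, monoC_comp, mul_one]
        congr 1
        funext i
        simp [add_comm]
      zero_mem' := ⟨1, (monoC_inj (σ := 1) (σ' := 1) fun v => by
        rw [← hD, OneMemClass.coe_one, map_one, Perm.one_apply]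
        exact (monoC_one v).symm).1⟩
      neg_mem' := by
        rintro _ ⟨a, rfl⟩
        refine ⟨a * a, (monoC_inj (σ := 1) (σ' := 1) fun v => ?_).1⟩
        rw [← hD, Subgroup.coe_mul, map_mul, Perm.mul_apply, hD, hD, monoC_comp, mul_one]
        congr 1
        funext i
        have h3 : ∀ k : ZMod 3, k + k = -k := by decide
        simp [h3] }
  have hTmem : ∀ a, D a ∈ T := fun a => ⟨a, rfl⟩
  have hTcard : Nat.card T = 243 := by
    rw [← hA]
    refine (Nat.card_congr (Equiv.ofBijective (fun a : A => (⟨D a, hTmem a⟩ : T)) ⟨fun a b h => ?_, ?_⟩)).symm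
    · refine Subtype.ext (hτ (Equiv.ext fun v => ?_))
      rw [hD, hD, show D a = D b from Subtype.ext_iff.1 h]
    · rintro ⟨_, a, rfl⟩
      exact ⟨a, rfl⟩
  have hinv : ∀ n, ∀ e ∈ T, e ∘ S n ∈ T := by
    rintro n _ ⟨a, rfl⟩
    have hmem : (n : Γ)⁻¹ * a * n ∈ A := by
      have := (mem_normalizer_iff.1 (inv_mem n.2) (a : Γ)).1 a.2
      simpa using this
    refine ⟨⟨_, hmem⟩, ?_⟩
    have h := monoC_inj (d := fun i => D ⟨_, hmem⟩ i + E n i) (d' := fun i => E n i + D a (S n i))
      (σ := S n * 1) (σ' := 1 * S n) fun v => by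
        have e : (n : Γ) * ((n : Γ)⁻¹ * a * n) = a * n := by group
        have h1 := congrArg (fun g => τ g v) e
        simp only [map_mul (f := τ) (n : Γ), Perm.mul_apply, map_mul (f := τ) (a : Γ), hS n, hD ⟨_, hmem⟩,
          hD a, monoC_comp, Perm.one_apply] at h1
        exact h1
    funext i
    have := congrFun h.1 i
    simp only [Function.comp_apply] at this ⊢
    linear_combination this
  have hsmul : ∀ (k : ZMod 3) e, e ∈ T → k • e ∈ T := fun k e he => by
    have : k • e = k.val • e := by rw [← Nat.cast_smul_eq_nsmul (ZMod 3), ZMod.natCast_zmod_val]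
    rw [this]; exact T.nsmul_mem he _
  have hindex : T.index = 3 := by
    have h := AddSubgroup.card_mul_index T
    rw [hTcard, Nat.card_fun, Nat.card_zmod, Nat.card_fin] at h
    omega
  have hdiff : ∀ i j : Fin 6, (Pi.single i (1 : ZMod 3) : Fin 6 → ZMod 3) - Pi.single j 1 ∈ T := by
    intro i j
    by_cases hij : i = j
    · subst hij; rw [sub_self]; exact T.zero_mem
    obtain ⟨l, hli, hlj⟩ : ∃ l : Fin 6, l ≠ i ∧ l ≠ j := by
      revert i j; decide
    set c := Equiv.swap i l * Equiv.swap i j with hcdef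
    have hc3 : c.IsThreeCycle := Perm.isThreeCycle_swap_mul_swap_same hli.symm hij hlj
    have hcij : c i = j := by
      rw [hcdef, Perm.mul_apply, Equiv.swap_apply_left, Equiv.swap_apply_of_ne_of_ne (Ne.symm hij) (Ne.symm hlj)]
    obtain ⟨n, hn⟩ := hA6 hc3.mem_alternatingGroup
    have hn' : S n = c := hn
    let y : Fin 6 → ZMod 3 := Pi.single j 1
    have hy : y ∘ c = Pi.single i 1 := by
      show (Pi.single j 1 : Fin 6 → ZMod 3) ∘ c = _
      rw [← hcij]; exact single_comp c i
    have hcT : ∀ e ∈ T, e ∘ c ∈ T := fun e he => hn' ▸ hinv n e he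
    rw [← hy]
    by_cases hyT : y ∈ T
    · exact T.sub_mem (hcT y hyT) hyT
    obtain ⟨k, hk⟩ : ∃ k : ZMod 3, y ∘ c - (k • y) ∈ T := by
      have hinj : Function.Injective (fun k : ZMod 3 => (QuotientAddGroup.mk (k • y) :
          (Fin 6 → ZMod 3) ⧸ T)) := by
        intro k k' h
        by_contra hne
        rw [QuotientAddGroup.eq] at h
        have e : -(k • y) + k' • y = (k' - k) • y := by rw [sub_smul]; abel
        rw [e] at h
        rcases (by decide : ∀ m : ZMod 3, m = 0 ∨ m = 1 ∨ m = -1) (k' - k) with h0 | h1 | h1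
        · exact hne (sub_eq_zero.1 h0).symm
        · rw [h1, one_smul] at h; exact hyT h
        · rw [h1, neg_smul, one_smul] at h; exact hyT (by simpa using T.neg_mem h)
      have hbij := (Fintype.bijective_iff_injective_and_card _).2 ⟨hinj, by
        rw [← Nat.card_eq_fintype_card, ← Nat.card_eq_fintype_card, Nat.card_zmod]
        exact hindex.symm⟩
      obtain ⟨k, hk⟩ := hbij.2 (QuotientAddGroup.mk (y ∘ c))
      refine ⟨k, ?_⟩
      rw [QuotientAddGroup.eq] at hk
      convert hk using 1
      abel
    have hk1 : k = 1 := by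
      have h1 := hcT _ hk
      have h2 := hcT _ h1
      have hc : ∀ p, c (c (c p)) = p := fun p => by
        have := congrArg (fun q : Perm (Fin 6) => q p) (hc3.orderOf ▸ pow_orderOf_eq_one c)
        simpa [pow_succ, Perm.mul_apply] using this
      have hk3 : ((1 - k * k * k) • y) ∈ T := by
        have h3 := T.add_mem h2 (T.add_mem (hsmul k _ h1) (hsmul k _ (hsmul k _ hk)))
        convert h3 using 1
        funext p
        simp [hc]
        ring
      by_contra hne
      rw [cube_eq_self] at hk3
      rcases (by decide : ∀ m : ZMod 3, m = 0 ∨ m = 1 ∨ m = -1) (1 - k) with h0 | h0 | h0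
      · exact hne (sub_eq_zero.1 h0).symm
      · rw [h0, one_smul] at hk3; exact hyT hk3
      · rw [h0, neg_smul, one_smul] at hk3; exact hyT (by simpa using T.neg_mem hk3)
    subst hk1
    simpa using hk
  have hzero : ∀ e : Fin 6 → ZMod 3, ∑ i, e i = 0 → e ∈ T := by
    intro e he
    have heq : e = ∑ i, (e i) • ((Pi.single i (1 : ZMod 3) : Fin 6 → ZMod 3) - Pi.single 0 1) := by
      funext p
      simp [Finset.sum_apply, mul_sub, Pi.single_apply, Finset.sum_sub_distrib, he]
    rw [heq]
    exact T.sum_mem fun i _ => hsmul _ _ (hdiff i 0)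
  -- commutators
  have hA6' : alternatingGroup (Fin 6) ≤ (commutator (normalizer (A : Set Γ))).map π := by
    rw [_root_.commutator_def, map_commutator, ← MonoidHom.range_eq_map]
    refine le_trans (le_of_eq ?_) (commutator_mono hA6 hA6)
    have h := commutator_alternatingGroup_eq_top (α := Fin 6) (by simp)
    rw [_root_.commutator_def] at h
    have := congrArg (Subgroup.map (alternatingGroup (Fin 6)).subtype) h
    rwa [map_commutator, ← MonoidHom.range_eq_map, Subgroup.range_subtype, eq_comm] at this
  obtain ⟨n, hn, hnσ⟩ := hA6' (Perm.mem_alternatingGroup.2 hσ)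
  have hn0 : ∑ i, E n i = 0 := by
    have h : s n = 1 := MonoidHom.mem_ker.1 (Abelianization.commutator_subset_ker s hn)
    exact h
  obtain ⟨a, ha⟩ := hzero (d - E n) (by simp [Finset.sum_sub_distrib, hd, hn0])
  refine ⟨n * a, fun v => ?_⟩
  rw [map_mul, Perm.mul_apply, hD, hS, monoC_comp, mul_one]
  rw [show S n = σ from hnσ]
  congr 1
  funext i
  simp [ha]

end Cfsg.Agent.LargeFischer
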