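import Mathlib

/-!
# Six planes for an elementary abelian group of order 243

`exists_planes`: a group `Γ` acting faithfully on an elementary abelian group `W` of order `2 ^ 12` with a central element
`x` of order three whose fixed vectors are fixed by `Γ`, and an elementary abelian subgroup `A ∋ x` of order `3 ^ 5` whose
normaliser induces a group of order divisible by 360: `W` is the direct sum of six planes on which `A` acts by powers of
`x`, the planes are separated by `A`, and the normaliser of `A` permutes them.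
-/

set_option autoImplicit false

namespace Cfsg.Agent.LargeFischer.Planes

open Subgroup

variable {Γ W : Type*} [Group Γ] [AddCommGroup W] [DistribMulAction Γ W]

/-- The orbit sum of `x` vanishes. -/
def Fpf (x : Γ) (u : W) : Prop := u + x • u + x • x • u = 0

/-- Every element of `S` acts on `u` as a power of `x`. -/
def Eig (x : Γ) (S : Set Γ) (u : W) : Prop := ∀ a ∈ S, a • u = u ∨ a • u = x • u ∨ a • u = x • x • u

/-- The four points of the plane of `u`. -/
def comp (x : Γ) (u : W) : Fin 4 → W := ![0, u, x • u, x • x • u]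

/-- The three non-zero points of the plane of `u`. -/
def pw (x : Γ) (u : W) (k : ZMod 3) : W :=
  comp x u ⟨k.val + 1, by have := ZMod.val_lt k; omega⟩

theorem pw_zero (x : Γ) (u : W) : pw x u 0 = u := rfl

theorem pw_one (x : Γ) (u : W) : pw x u 1 = x • u := rfl

theorem pw_two (x : Γ) (u : W) : pw x u 2 = x • x • u := rfl

section Basic

variable (h2 : ∀ w : W, w + w = 0) {x : Γ} (hc : ∀ (g : Γ) (w : W), g • x • w = x • g • w)
  (hx3 : ∀ w : W, x • x • x • w = w)

include h2 in
theorem eq_of_add {a b : W} (h : a + b = 0) : a = b := by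
  calc a = a + (b + b) := by rw [h2, add_zero]
    _ = (a + b) + b := by abel
    _ = b := by rw [h, zero_add]

include h2 in
theorem eq_zero_of_fix {u : W} (hu : Fpf x u) (h : x • u = u) : u = 0 := by
  rw [Fpf, h, h, h2, zero_add] at hu
  exact hu

include h2 hx3 in
theorem Fpf.moves {u : W} (hu : Fpf x u) (h0 : u ≠ 0) :
    x • u ≠ u ∧ x • x • u ≠ u ∧ x • x • u ≠ x • u := by
  have e1 : x • u ≠ u := fun e => h0 (eq_zero_of_fix h2 hu e)
  refine ⟨e1, fun e => e1 ?_, fun e => e1 ((smul_left_cancel_iff x).1 e)⟩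
  calc x • u = x • x • x • u := by rw [e]
    _ = u := hx3 u

theorem Fpf.add {u v : W} (hu : Fpf x u) (hv : Fpf x v) : Fpf x (u + v) := by
  simp only [Fpf, smul_add] at *
  calc u + v + (x • u + x • v) + (x • x • u + x • x • v)
      = (u + x • u + x • x • u) + (v + x • v + x • x • v) := by abel
    _ = 0 := by rw [hu, hv, add_zero]

theorem Fpf.zero : Fpf x (0 : W) := by simp [Fpf]

include hc in
theorem Fpf.smul {u : W} (hu : Fpf x u) (g : Γ) : Fpf x (g • u) := by
  unfold Fpf at *
  rw [← hc g u, ← hc g, ← smul_add, ← smul_add, hu, smul_zero]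

include h2 hx3 in
/-- Coprime decomposition: every vector is a fixed vector plus one with vanishing orbit sum. -/
theorem exists_split (w : W) : ∃ f u, x • f = f ∧ Fpf x u ∧ w = f + u := by
  refine ⟨w + x • w + x • x • w, x • w + x • x • w, ?_, ?_, ?_⟩
  · simp only [smul_add, hx3]; abel
  · simp only [Fpf, smul_add, hx3]
    calc x • w + x • x • w + (x • x • w + w) + (w + x • w)
        = (x • w + x • w) + (x • x • w + x • x • w) + (w + w) := by abel
      _ = 0 := by simp only [h2, add_zero]
  · calc w = w + (x • w + x • w) + (x • x • w + x • x • w) := by simp only [h2, add_zero]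
      _ = _ := by abel

include h2 hc hx3 in
/-- Simultaneous eigenvectors span the vectors with vanishing orbit sum. -/
theorem mem_closure (S : Finset Γ) (hcom : ∀ a ∈ S, ∀ b ∈ S, ∀ w : W, a • b • w = b • a • w)
    (h3 : ∀ a ∈ S, ∀ w : W, a • a • a • w = w) (u : W) (hu : Fpf x u) :
    u ∈ AddSubgroup.closure {v : W | Fpf x v ∧ Eig x (S : Set Γ) v} := by
  classical
  induction S using Finset.induction_on generalizing u with
  | empty => exact AddSubgroup.subset_closure ⟨hu, fun a ha => absurd ha (by simp)⟩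
  | @insert a S _ ih =>
    have hmem : u ∈ AddSubgroup.closure {v : W | Fpf x v ∧ Eig x (S : Set Γ) v} :=
      ih (fun b hb c hc' => hcom b (Finset.mem_insert_of_mem hb) c (Finset.mem_insert_of_mem hc'))
        (fun b hb => h3 b (Finset.mem_insert_of_mem hb)) u hu
    refine (AddSubgroup.closure_le _).2 ?_ hmem
    rintro v ⟨hv, hS⟩
    have ha3 := h3 a (Finset.mem_insert_self a S)
    have hsa : ∀ s ∈ S, ∀ w : W, s • a • w = a • s • w := fun s hs w =>
      hcom s (Finset.mem_insert_of_mem hs) a (Finset.mem_insert_self a S) w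
    have key : ∀ g : Γ, (∀ w : W, g • g • g • w = w) → (∀ s ∈ S, ∀ w : W, s • g • w = g • s • w) →
        Fpf x (v + g • v + g • g • v) ∧ g • (v + g • v + g • g • v) = v + g • v + g • g • v ∧
          Eig x (S : Set Γ) (v + g • v + g • g • v) := by
      intro g hg3 hgs
      refine ⟨(hv.add (hv.smul hc g)).add ((hv.smul hc g).smul hc g), ?_, fun s hs => ?_⟩
      · simp only [smul_add, hg3]; abel
      · have e : s • (v + g • v + g • g • v) = s • v + g • (s • v) + g • g • (s • v) := by
          simp only [smul_add, hgs s hs]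
        rw [e]
        rcases hS s hs with e' | e' | e' <;> rw [e']
        · exact Or.inl rfl
        · refine Or.inr (Or.inl ?_); simp only [smul_add, hc g]
        · refine Or.inr (Or.inr ?_); simp only [smul_add, hc g]
    obtain ⟨f0, g0, s0⟩ := key a ha3 hsa
    obtain ⟨f1, g1, s1⟩ := key (a * x) (fun w => by simp only [mul_smul, hc a, ha3, hx3])
      (fun s hs w => by simp only [mul_smul, hsa s hs, hc s])
    obtain ⟨f2, g2, s2⟩ := key (a * x * x) (fun w => by simp only [mul_smul, hc a, ha3, hx3])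
      (fun s hs w => by simp only [mul_smul, hsa s hs, hc s])
    have hext : ∀ c : W, (a • c = c ∨ a • c = x • c ∨ a • c = x • x • c) → Eig x (S : Set Γ) c →
        Eig x ((insert a S : Finset Γ) : Set Γ) c := by
      intro c h h' s hs
      rcases Finset.mem_insert.1 (Finset.mem_coe.1 hs) with rfl | hs
      exacts [h, h' s hs]
    have m0 := AddSubgroup.subset_closure (k := {w : W | Fpf x w ∧ Eig x ((insert a S : Finset Γ) : Set Γ) w})
      ⟨f0, hext _ (Or.inl g0) s0⟩
    have m1 := AddSubgroup.subset_closure (k := {w : W | Fpf x w ∧ Eig x ((insert a S : Finset Γ) : Set Γ) w})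
      ⟨f1, hext _ (Or.inr (Or.inr (by
        have e := congrArg (fun t => x • x • t) g1
        simp only [mul_smul, hc a, hx3] at e ⊢
        exact e))) s1⟩
    have m2 := AddSubgroup.subset_closure (k := {w : W | Fpf x w ∧ Eig x ((insert a S : Finset Γ) : Set Γ) w})
      ⟨f2, hext _ (Or.inr (Or.inl (by
        have e := congrArg (fun t => x • t) g2
        simp only [mul_smul, hc a, hx3] at e ⊢
        exact e))) s2⟩
    show v ∈ AddSubgroup.closure _
    have := add_mem (add_mem m0 m1) m2
    convert this using 1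
    simp only [mul_smul, hc a, hx3]
    have hv0 : ∀ w : W, Fpf x w → w + x • w + x • x • w = 0 := fun w hw => hw
    calc v = (v + v) + v + (a • v + x • a • v + x • x • a • v)
          + (a • a • v + x • a • a • v + x • x • a • a • v) := by
          rw [h2, hv0 _ (hv.smul hc a), hv0 _ ((hv.smul hc a).smul hc a)]; abel
      _ = _ := by abel

end Basic

/-- The indices of the planes. -/
def IsPlane (x : Γ) (A : Subgroup Γ) (B : Subgroup Γ) : Prop :=
  ∃ v : W, v ≠ 0 ∧ Fpf x v ∧ Eig x (A : Set Γ) v ∧ ∀ g, g ∈ B ↔ g ∈ A ∧ g • v = v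

/-- **Six planes.** -/
theorem exists_planes [Finite Γ] [Finite W] (h2 : ∀ w : W, w + w = 0) (hW : Nat.card W = 4096)
    (hfaith : ∀ g : Γ, (∀ w : W, g • w = w) → g = 1) {x : Γ} (hxc : ∀ g : Γ, Commute x g)
    (hfix : ∀ w : W, x • w = w → ∀ g : Γ, g • w = w)
    {A : Subgroup Γ} (hab : ∀ a ∈ A, ∀ b ∈ A, a * b = b * a) (hA3 : ∀ a ∈ A, a ^ 3 = 1)
    (hA : Nat.card A = 243) (hxA : x ∈ A)
    (h360 : 360 ∣ (centralizer (A : Set Γ)).relIndex (normalizer (A : Set Γ))) :
    ∃ v : Fin 6 → W, (∀ i, v i ≠ 0 ∧ Fpf x (v i)) ∧ (∀ a ∈ A, ∀ i, ∃ k, a • v i = pw x (v i) k) ∧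
      (∀ i j, i ≠ j → ∃ a ∈ A, (a • v i = v i ∧ a • v j ≠ v j) ∨ (a • v j = v j ∧ a • v i ≠ v i)) ∧
      Function.Bijective (fun c : Fin 6 → Fin 4 => ∑ i, comp x (v i) (c i)) ∧
      ∀ n ∈ normalizer (A : Set Γ), ∃ (σ : Equiv.Perm (Fin 6)) (d : Fin 6 → ZMod 3),
        ∀ i, n • v i = pw x (v (σ i)) (d i) := by
  classical
  have : Fintype Γ := Fintype.ofFinite Γ
  have hc : ∀ (g : Γ) (w : W), g • x • w = x • g • w := fun g w => by
    rw [← mul_smul, ← mul_smul, (hxc g).eq]
  have h3 : ∀ a ∈ A, ∀ w : W, a • a • a • w = w := fun a ha w => by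
    rw [← mul_smul, ← mul_smul, ← pow_three' a, hA3 a ha, one_smul]
  have hx3 := h3 x hxA
  -- the planes
  let ι := {B : Subgroup Γ // IsPlane (W := W) x A B}
  have : Finite (Subgroup Γ) := inferInstance
  have : Fintype ι := Fintype.ofFinite ι
  choose vec hv0 hvf hve hvB using fun B : ι => B.2
  -- membership in a plane
  let Fix : ι → W → Prop := fun B u => Fpf x u ∧ ∀ b ∈ B.1, b • u = u
  have hfixv : ∀ B, Fix B (vec B) := fun B => ⟨hvf B, fun b hb => ((hvB B b).1 hb).2⟩
  have hact : ∀ (B : ι) (u : W), Fix B u → ∀ a ∈ A,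
      (a ∈ B.1 ∧ a • u = u) ∨ (a ∉ B.1 ∧ (a • u = x • u ∨ a • u = x • x • u)) := by
    intro B u hu a ha
    obtain ⟨m1, m2, -⟩ := (hvf B).moves h2 hx3 (hv0 B)
    rcases hve B a ha with e | e | e
    · exact Or.inl ⟨(hvB B a).2 ⟨ha, e⟩, hu.2 a ((hvB B a).2 ⟨ha, e⟩)⟩
    · refine Or.inr ⟨fun h => m1 (e.symm.trans ((hvB B a).1 h).2), Or.inl ?_⟩
      have hmem : a * x * x ∈ B.1 := (hvB B _).2 ⟨mul_mem (mul_mem ha hxA) hxA, by
        simp only [mul_smul, hc a, e, hx3]⟩
      have h := congrArg (fun t => x • t) (hu.2 _ hmem)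
      simpa only [mul_smul, hc a, hx3] using h
    · refine Or.inr ⟨fun h => m2 (e.symm.trans ((hvB B a).1 h).2), Or.inr ?_⟩
      have hmem : a * x ∈ B.1 := (hvB B _).2 ⟨mul_mem ha hxA, by
        simp only [mul_smul, hc a, e, hx3]⟩
      have h := congrArg (fun t => x • x • t) (hu.2 _ hmem)
      simpa only [mul_smul, hc a, hx3] using h
  have htr : ∀ (B : ι) (u : W), Fix B u → ∀ a ∈ A,
      u + a • u + a • a • u = if a ∈ B.1 then u else 0 := by
    intro B u hu a ha
    rcases hact B u hu a ha with ⟨hm, e⟩ | ⟨hm, e⟩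
    · rw [if_pos hm, e, e, h2, zero_add]
    · rw [if_neg hm]
      rcases e with e | e
      · rw [e, hc a, e]; exact hu.1
      · rw [e, hc a, hc a, e, hx3]
        calc u + x • x • u + x • u = u + x • u + x • x • u := by abel
          _ = 0 := hu.1
  -- independence
  have hindep : ∀ (T : Finset ι) (u : ι → W), (∀ B ∈ T, Fix B (u B)) → ∑ B ∈ T, u B = 0 →
      ∀ B ∈ T, u B = 0 := by
    intro T
    induction T using Finset.strongInductionOn with
    | _ T ih =>
      intro u hu hsum B0 hB0
      by_cases hone : ∀ B ∈ T, B = B0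
      · have : T = {B0} := Finset.eq_singleton_iff_unique_mem.2 ⟨hB0, hone⟩
        rwa [this, Finset.sum_singleton] at hsum
      push Not at hone
      obtain ⟨B1, hB1, hne⟩ := hone
      obtain ⟨a, haA, ha⟩ : ∃ a ∈ A, ¬ (a ∈ B1.1 ↔ a ∈ B0.1) := by
        by_contra hcon
        push Not at hcon
        refine hne (Subtype.ext (Subgroup.ext fun g => ⟨fun h => ?_, fun h => ?_⟩))
        · exact (hcon g ((hvB B1 g).1 h).1).1 h
        · exact (hcon g ((hvB B0 g).1 h).1).2 h
      have h1 : ∑ B ∈ T.filter (fun B => a ∈ B.1), u B = 0 := by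
        rw [Finset.sum_filter]
        calc ∑ B ∈ T, (if a ∈ B.1 then u B else 0)
            = ∑ B ∈ T, (u B + a • u B + a • a • u B) :=
              Finset.sum_congr rfl fun B hB => (htr B _ (hu B hB) a haA).symm
          _ = (∑ B ∈ T, u B) + a • (∑ B ∈ T, u B) + a • a • (∑ B ∈ T, u B) := by
              simp only [Finset.sum_add_distrib, Finset.smul_sum]
          _ = 0 := by simp [hsum]
      have h0 : ∑ B ∈ T.filter (fun B => ¬ a ∈ B.1), u B = 0 := by
        rw [← Finset.sum_filter_add_sum_filter_not T (fun B => a ∈ B.1) u, h1, zero_add] at hsum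
        exact hsum
      by_cases hb0 : a ∈ B0.1
      · exact ih _ (Finset.filter_ssubset.2 ⟨B1, hB1, fun h => ha (iff_of_true h hb0)⟩) u
          (fun B hB => hu B (Finset.mem_filter.1 hB).1) h1 B0 (Finset.mem_filter.2 ⟨hB0, hb0⟩)
      · exact ih _ (Finset.filter_ssubset.2 ⟨B1, hB1, fun h => ha (iff_of_false h hb0)⟩) u
          (fun B hB => hu B (Finset.mem_filter.1 hB).1) h0 B0 (Finset.mem_filter.2 ⟨hB0, hb0⟩)
  have hFix_add : ∀ B u u', Fix B u → Fix B u' → Fix B (u + u') := fun B u u' h h' =>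
    ⟨h.1.add h'.1, fun b hb => by rw [smul_add, h.2 b hb, h'.2 b hb]⟩
  have hFix_smul : ∀ B u, Fix B u → Fix B (x • u) := fun B u h =>
    ⟨h.1.smul hc x, fun b hb => by rw [hc b, h.2 b hb]⟩
  have hFix_comp : ∀ B k, Fix B (comp x (vec B) k) := by
    intro B k
    fin_cases k
    · exact ⟨Fpf.zero, fun b _ => smul_zero b⟩
    · exact hfixv B
    · exact hFix_smul B _ (hfixv B)
    · exact hFix_smul B _ (hFix_smul B _ (hfixv B))
  have hcinj : ∀ B, Function.Injective (comp x (vec B)) := by
    intro B k l h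
    obtain ⟨m1, m2, m3⟩ := (hvf B).moves h2 hx3 (hv0 B)
    have n1 : x • vec B ≠ 0 := fun e => hv0 B ((smul_eq_zero_iff_eq x).1 e)
    have n2 : x • x • vec B ≠ 0 := fun e => n1 ((smul_eq_zero_iff_eq x).1 e)
    fin_cases k <;> fin_cases l <;>
      simp [comp, hv0 B, n1, n2, m1, m2, m3, (hv0 B).symm, n1.symm, n2.symm, m1.symm, m2.symm, m3.symm]
        at h ⊢
  have hΘinj : Function.Injective (fun c : ι → Fin 4 => ∑ B, comp x (vec B) (c B)) := by
    intro c c' h
    funext B
    refine hcinj B (eq_of_add h2 (hindep Finset.univ (fun B => comp x (vec B) (c B) + comp x (vec B) (c' B))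
      (fun B _ => hFix_add B _ _ (hFix_comp B _) (hFix_comp B _)) ?_ B (Finset.mem_univ B)))
    rw [Finset.sum_add_distrib]
    simp only at h
    rw [h, h2]
  -- eigenvectors detect elements
  have hdetect : ∀ a ∈ A, (∀ B, a • vec B = vec B) → a = 1 := by
    intro a ha hall
    refine hfaith a fun w => ?_
    obtain ⟨f, u, hf, hu, rfl⟩ := exists_split h2 hx3 w
    rw [smul_add, hfix f hf a]
    congr 1
    have hu' := mem_closure h2 hc hx3 (Finset.univ.filter (fun g => g ∈ A))
      (fun p hp q hq w => by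
        rw [← mul_smul, ← mul_smul, hab p (by simpa using hp) q (by simpa using hq)])
      (fun p hp => h3 p (by simpa using hp)) u hu
    clear hu
    induction hu' using AddSubgroup.closure_induction with
    | mem v hv =>
      by_cases h0 : v = 0
      · rw [h0, smul_zero]
      let B : ι := ⟨A ⊓ MulAction.stabilizer Γ v, v, h0, hv.1, fun g hg => hv.2 g (by simpa using hg),
        fun g => by rw [Subgroup.mem_inf, MulAction.mem_stabilizer_iff]⟩
      have : a ∈ B.1 := (hvB B a).2 ⟨ha, hall B⟩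
      exact (Subgroup.mem_inf.1 this).2
    | zero => exact smul_zero a
    | add p q _ _ hp hq => rw [smul_add, hp, hq]
    | neg p _ hp => rw [smul_neg, hp]
  let lam : A → ι → Fin 3 := fun a B =>
    if (a : Γ) • vec B = vec B then 0 else if (a : Γ) • vec B = x • vec B then 1 else 2
  have hlam : ∀ (a a' : A) (B : ι), lam a B = lam a' B → (a : Γ) • vec B = (a' : Γ) • vec B := by
    intro a a' B h
    simp only [lam] at h
    rcases hve B a a.2 with e | e | e <;> rcases hve B a' a'.2 with e' | e' | e' <;>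
      obtain ⟨m1, m2, m3⟩ := (hvf B).moves h2 hx3 (hv0 B) <;>
      simp [e, e', m1, m2, m3] at h ⊢
  have hlam_inj : Function.Injective lam := by
    intro a a' h
    have := hdetect ((a' : Γ)⁻¹ * (a : Γ)) (mul_mem (inv_mem a'.2) a.2) fun B => by
      rw [mul_smul, hlam a a' B (congrFun h B), inv_smul_smul]
    exact Subtype.ext (inv_mul_eq_one.1 this).symm
  -- the action of the normaliser
  have hperm : ∀ n ∈ normalizer (A : Set Γ), ∀ B : ι, IsPlane (W := W) x A (B.1.map (MulAut.conj n).toMonoidHom) := by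
    intro n hn B
    refine ⟨n • vec B, fun e => hv0 B ((smul_eq_zero_iff_eq n).1 e), (hvf B).smul hc n, fun a ha => ?_,
      fun g => ?_⟩
    · have ha' : n⁻¹ * a * n ∈ A := by
        have := (mem_normalizer_iff.1 (inv_mem hn) a).1 ha
        simpa using this
      have e : a • n • vec B = n • (n⁻¹ * a * n) • vec B := by
        rw [← mul_smul, ← mul_smul]; congr 1; group
      rw [e]
      rcases hve B _ ha' with e' | e' | e' <;> rw [e']
      · exact Or.inl rfl
      · exact Or.inr (Or.inl (hc n _))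
      · exact Or.inr (Or.inr (by rw [hc n, hc n]))
    · rw [Subgroup.mem_map_equiv, MulAut.conj_symm_apply, hvB]
      have hn' : n⁻¹ * g * n ∈ A ↔ g ∈ A := by
        have := mem_normalizer_iff.1 (inv_mem hn) g
        simpa using this.symm
      rw [hn', mul_smul, mul_smul, inv_smul_eq_iff]
  letI : MulAction (normalizer (A : Set Γ)) ι :=
    { smul := fun n B => ⟨B.1.map (MulAut.conj (n : Γ)).toMonoidHom, hperm n n.2 B⟩
      one_smul := fun B => Subtype.ext (Subgroup.ext fun g => by
        show g ∈ B.1.map (MulAut.conj (1 : Γ)).toMonoidHom ↔ _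
        rw [Subgroup.mem_map_equiv, MulAut.conj_symm_apply]; simp)
      mul_smul := fun n m B => Subtype.ext (Subgroup.ext fun g => by
        show g ∈ B.1.map (MulAut.conj ((n : Γ) * m)).toMonoidHom ↔
          g ∈ (B.1.map (MulAut.conj (m : Γ)).toMonoidHom).map (MulAut.conj (n : Γ)).toMonoidHom
        simp only [Subgroup.mem_map_equiv, MulAut.conj_symm_apply]
        group) }
  let π := MulAction.toPermHom (normalizer (A : Set Γ)) ι
  have hkerπ : π.ker ≤ (centralizer (A : Set Γ)).subgroupOf (normalizer (A : Set Γ)) := by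
    intro n hn
    rw [MonoidHom.mem_ker] at hn
    rw [Subgroup.mem_subgroupOf, mem_centralizer_iff]
    intro a ha
    have hconj : (n : Γ) * a * (n : Γ)⁻¹ ∈ A := (mem_normalizer_iff.1 n.2 a).1 ha
    have hB : ∀ (B : ι) (b : Γ), b ∈ B.1 → (n : Γ) * b * (n : Γ)⁻¹ ∈ B.1 := by
      intro B b hb
      have e : n • B = B := congrFun (congrArg (fun p : Equiv.Perm ι => (p : ι → ι)) hn) B
      have hmem : (n : Γ) * b * (n : Γ)⁻¹ ∈ (n • B).1 := ⟨b, hb, rfl⟩
      rwa [e] at hmem
    have hfixall : ∀ B, (a⁻¹ * ((n : Γ) * a * (n : Γ)⁻¹)) • vec B = vec B := by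
      intro B
      rw [mul_smul, inv_smul_eq_iff]
      rcases hve B a ha with e | e | e <;> rw [e]
      · exact ((hvB B _).1 (hB B a ((hvB B a).2 ⟨ha, e⟩))).2
      · have hmem : a * x * x ∈ B.1 := (hvB B _).2 ⟨mul_mem (mul_mem ha hxA) hxA, by
          simp only [mul_smul, hc a, e, hx3]⟩
        have h := ((hvB B _).1 (hB B _ hmem)).2
        have e2 : (n : Γ) * (a * x * x) * (n : Γ)⁻¹ = (n : Γ) * a * (n : Γ)⁻¹ * x * x := by
          calc (n : Γ) * (a * x * x) * (n : Γ)⁻¹ = (n : Γ) * a * (x * x * (n : Γ)⁻¹) := by group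
            _ = (n : Γ) * a * ((n : Γ)⁻¹ * (x * x)) := by rw [((hxc _).mul_left (hxc _)).eq]
            _ = _ := by group
        rw [e2] at h
        have h' := congrArg (fun t => x • t) h
        simpa only [mul_smul, hc ((n : Γ) * a * (n : Γ)⁻¹), hx3] using h'
      · have hmem : a * x ∈ B.1 := (hvB B _).2 ⟨mul_mem ha hxA, by
          simp only [mul_smul, hc a, e, hx3]⟩
        have h := ((hvB B _).1 (hB B _ hmem)).2
        have e2 : (n : Γ) * (a * x) * (n : Γ)⁻¹ = (n : Γ) * a * (n : Γ)⁻¹ * x := by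
          simp only [mul_assoc, (hxc (n : Γ)⁻¹).eq]
        rw [e2] at h
        have h' := congrArg (fun t => x • x • t) h
        simpa only [mul_smul, hc ((n : Γ) * a * (n : Γ)⁻¹), hx3] using h'
    have h1 := inv_mul_eq_one.1 (hdetect _ (mul_mem (inv_mem ha) hconj) hfixall)
    exact mul_inv_eq_iff_eq_mul.1 h1.symm |>.symm
  -- exactly six planes
  have hk6 : Fintype.card ι ≤ 6 := by
    have h := Nat.card_le_card_of_injective _ hΘinj
    rw [Nat.card_fun, hW, Nat.card_eq_fintype_card, Nat.card_eq_fintype_card, Fintype.card_fin,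
      show 4096 = 4 ^ 6 from rfl] at h
    exact (Nat.pow_le_pow_iff_right (by norm_num)).1 h
  have hk : Fintype.card ι = 6 := by
    have h5 : 5 ≤ Fintype.card ι := by
      have h := Nat.card_le_card_of_injective _ hlam_inj
      rw [Nat.card_fun, hA, Nat.card_eq_fintype_card, Nat.card_eq_fintype_card, Fintype.card_fin,
        show 243 = 3 ^ 5 from rfl] at h
      exact (Nat.pow_le_pow_iff_right (by norm_num)).1 h
    by_contra hne
    have h5' : Fintype.card ι = 5 := by omega
    have hd : (360 : ℕ) ∣ Nat.card π.range := by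
      rw [← Subgroup.index_ker]
      exact h360.trans (Subgroup.index_dvd_of_le hkerπ)
    have := hd.trans (Subgroup.card_subgroup_dvd_card π.range)
    rw [Nat.card_perm, Nat.card_eq_fintype_card, h5'] at this
    norm_num [Nat.factorial] at this
  have hsurj : Function.Bijective (fun c : ι → Fin 4 => ∑ B, comp x (vec B) (c B)) := by
    have : Fintype W := Fintype.ofFinite W
    rw [Fintype.bijective_iff_injective_and_card]
    refine ⟨hΘinj, ?_⟩
    rw [← Nat.card_eq_fintype_card (α := W), hW, Fintype.card_fun, hk, Fintype.card_fin]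
    norm_num
  -- a vector of a plane is one of its four points
  have hplane : ∀ (B : ι) (w : W), Fix B w → ∃ k, w = comp x (vec B) k := by
    intro B w hw
    obtain ⟨c, hcw⟩ := hsurj.2 w
    refine ⟨c B, ?_⟩
    have h := hindep Finset.univ (fun B' => comp x (vec B') (c B') + if B' = B then w else 0) (fun B' _ => ?_) ?_ B
      (Finset.mem_univ B)
    · rw [if_pos rfl] at h
      exact (eq_of_add h2 h).symm
    · split_ifs with e
      · subst e; exact hFix_add _ _ _ (hFix_comp _ _) hw
      · rw [add_zero]; exact hFix_comp _ _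
    · simp only at hcw
      rw [Finset.sum_add_distrib, hcw, Finset.sum_ite_eq', if_pos (Finset.mem_univ B), h2]
  let e : Fin 6 ≃ ι := (Fintype.equivFinOfCardEq hk).symm
  refine ⟨fun i => vec (e i), fun i => ⟨hv0 _, hvf _⟩, fun a ha i => ?_, fun i j hij => ?_, ?_, fun n hn => ?_⟩
  · rcases hve (e i) a ha with h | h | h
    exacts [⟨0, h⟩, ⟨1, h⟩, ⟨2, h⟩]
  · have hne : (e i).1 ≠ (e j).1 := fun h => hij (e.injective (Subtype.ext h))
    by_contra hcon
    push Not at hcon
    refine hne (Subgroup.ext fun g => ⟨fun h => ?_, fun h => ?_⟩)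
    · have h' := (hvB _ g).1 h
      exact (hvB _ g).2 ⟨h'.1, (hcon g h'.1).1 h'.2⟩
    · have h' := (hvB _ g).1 h
      exact (hvB _ g).2 ⟨h'.1, (hcon g h'.1).2 h'.2⟩
  · have he : (fun c : Fin 6 → Fin 4 => ∑ i, comp x (vec (e i)) (c i)) =
        (fun c : ι → Fin 4 => ∑ B, comp x (vec B) (c B)) ∘ (Equiv.arrowCongr e (Equiv.refl (Fin 4))) := by
      funext c
      simp only [Function.comp_apply, Equiv.arrowCongr_apply, Equiv.coe_refl, id_eq]
      rw [← Equiv.sum_comp e]
      simp
    rw [he]
    exact hsurj.comp (Equiv.bijective _)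
  · let σ : Equiv.Perm (Fin 6) := (e.trans (π ⟨n, hn⟩)).trans e.symm
    have hσ : ∀ i, e (σ i) = (⟨n, hn⟩ : normalizer (A : Set Γ)) • e i := fun i => by simp [σ, π]
    have hk' : ∀ i, ∃ k : ZMod 3, n • vec (e i) = pw x (vec (e (σ i))) k := by
      intro i
      have hF : Fix (e (σ i)) (n • vec (e i)) := by
        refine ⟨(hvf _).smul hc n, fun b hb => ?_⟩
        rw [hσ] at hb
        obtain ⟨b', hb', rfl⟩ := hb
        show (n * b' * n⁻¹) • n • vec (e i) = _
        rw [← mul_smul, inv_mul_cancel_right, mul_smul, ((hvB _ _).1 hb').2]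
      obtain ⟨k, hk⟩ := hplane _ _ hF
      fin_cases k
      · exact absurd ((smul_eq_zero_iff_eq n).1 hk) (hv0 _)
      exacts [⟨0, hk⟩, ⟨1, hk⟩, ⟨2, hk⟩]
    choose d hd using hk'
    exact ⟨σ, d, hd⟩

end Cfsg.Agent.LargeFischer.Planes
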