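import Cfsg.Agent.Lib.LargeFischer.Interface
import Cfsg.Agent.Lib.LargeFischer.Planes
import Cfsg.Agent.Lib.LargeFischer.MonoLift
import Cfsg.Agent.Lib.ClassicalSimple.UnitaryMatrix
import Cfsg.Agent.Lib.Forms.HermCenter

/-!
# The image of `C(z)` in coordinates

`exists_img`: a finite group `H` acting faithfully on a quadratic space `W` of order `2 ^ 12`, with a subgroup of index two
mapping onto `PSU 4 K 3` with kernel of order three, has the form `Img` in suitable coordinates.
The two facts on `PSU 4 K 3` are the propositions `HomTrivial`, `LocalThree`.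
-/

set_option autoImplicit false

namespace Cfsg.Agent.LargeFischer

open Subgroup

universe u

/-- `PSU 4 K 3` has no faithful module of order at most `2 ^ 12`. -/
def HomTrivial (K : Type) [Field K] : Prop :=
  ∀ {W : Type u} [AddCommGroup W] [Finite W] [DistribMulAction (Cfsg.PSU 4 K 3) W],
    (∀ w : W, w + w = 0) → Nat.card W ≤ 2 ^ 12 → ∀ (g : Cfsg.PSU 4 K 3) (w : W), g • w = w

/-- The 3-local subgroup of a central extension of `PSU 4 K 3` by three. -/
def LocalThree (K : Type) [Field K] : Prop :=
  ∀ {Γ : Type u} [Group Γ] [Finite Γ] (f : Γ →* Cfsg.PSU 4 K 3), Function.Surjective f →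
    f.ker ≤ center Γ → Nat.card f.ker = 3 →
    ∃ A : Subgroup Γ, Cfsg.IsElementaryAbelian 3 A ∧ Nat.card A = 243 ∧ f.ker ≤ A ∧
      360 ∣ (centralizer (A : Set Γ)).relIndex (normalizer (A : Set Γ))

section PSUFacts

variable {K : Type} [Field K] [Fintype K]

theorem psu_simple (hK : Fintype.card K = 9) : IsSimpleGroup (Cfsg.PSU 4 K 3) :=
  ClassicalSimple.PSU_isSimpleGroup (hK.trans (by norm_num)) (by norm_num) (by omega)

theorem psu_perfect (hK : Fintype.card K = 9) : commutator (Cfsg.PSU 4 K 3) = ⊤ := by
  have h := ClassicalSimple.SU_perfect (F := K) (q := 3) (n := 4) (hK.trans (by norm_num)) (by norm_num) (by omega)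
  have := congrArg (Subgroup.map (QuotientGroup.mk' (center (Cfsg.SU 4 K 3)))) h
  rw [Subgroup.map_top_of_surjective _ (QuotientGroup.mk'_surjective _), _root_.commutator_def, map_commutator,
    Subgroup.map_top_of_surjective _ (QuotientGroup.mk'_surjective _)] at this
  exact this

theorem card_psu (hK : Fintype.card K = 9) : Nat.card (Cfsg.PSU 4 K 3) = 3265920 := by
  have hK' : Fintype.card K = 3 ^ 2 := hK.trans (by norm_num)
  have h1 := Forms.card_SU_mul (n := 4) hK' (by norm_num)
  rw [Forms.card_GU hK'] at h1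
  simp only [Finset.prod_range_succ, Finset.prod_range_zero, one_mul] at h1
  rw [if_pos (by decide), if_neg (by decide), if_pos (by decide), if_neg (by decide)] at h1
  norm_num at h1
  have h2 := Subgroup.card_eq_card_quotient_mul_card_subgroup (center (Cfsg.SU 4 K 3))
  rw [Forms.card_center_SU hK' (by norm_num), show Nat.gcd 4 (3 + 1) = 4 from rfl] at h2
  show Nat.card (Cfsg.SU 4 K 3 ⧸ center (Cfsg.SU 4 K 3)) = _
  omega

theorem psu_not_comm (hK : Fintype.card K = 9) : ∃ a b : Cfsg.PSU 4 K 3, a * b ≠ b * a := by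
  by_contra hcon
  push Not at hcon
  have := psu_simple hK
  have h0 : commutator (Cfsg.PSU 4 K 3) = ⊥ :=
    (commutator_eq_bot_iff_le_centralizer).2 fun a _ b _ => hcon b a
  rw [psu_perfect hK] at h0
  exact top_ne_bot h0

/-- An action through `PSU 4 K 3` on a small module is trivial. -/
theorem act_trivial (hT : HomTrivial.{u} K) {M : Type*} [Group M] {V : Type u} [AddCommGroup V] [Finite V]
    [DistribMulAction M V] (f : M →* Cfsg.PSU 4 K 3) (hf : Function.Surjective f)
    (hker : ∀ g ∈ f.ker, ∀ v : V, g • v = v) (h2 : ∀ v : V, v + v = 0) (hV : Nat.card V ≤ 2 ^ 12)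
    (g : M) (v : V) : g • v = v := by
  have hcompat : ∀ (g g' : M) (v : V), f g = f g' → g • v = g' • v := fun g g' v h => by
    have hm : g'⁻¹ * g ∈ f.ker := by rw [MonoidHom.mem_ker, map_mul, map_inv, h, inv_mul_cancel]
    have := hker _ hm v
    rwa [mul_smul, inv_smul_eq_iff] at this
  letI : DistribMulAction (Cfsg.PSU 4 K 3) V :=
    { smul := fun p v => Function.surjInv hf p • v
      one_smul := fun v => (hcompat _ 1 v (by rw [Function.surjInv_eq hf, map_one])).trans (one_smul M v)
      mul_smul := fun p p' v => (hcompat _ (Function.surjInv hf p * Function.surjInv hf p') v (by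
        rw [map_mul, Function.surjInv_eq hf, Function.surjInv_eq hf, Function.surjInv_eq hf])).trans
        (mul_smul _ _ v)
      smul_zero := fun p => smul_zero (Function.surjInv hf p)
      smul_add := fun p => smul_add (Function.surjInv hf p) }
  exact (hcompat g _ v (Function.surjInv_eq hf (f g)).symm).trans (hT h2 hV (f g) v)

end PSUFacts

theorem zmod2_cases : ∀ a : ZMod 2, a = 0 ∨ a = 1 := by decide

theorem zmod3_cases : ∀ m : ZMod 3, m = 0 ∨ m = 1 ∨ m = 2 := by decide

theorem qN_lt (v : ℕ) : qN v < 2 := Nat.mod_lt _ (by norm_num)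

theorem qN_inj {a b : ℕ} (h : (qN a : ZMod 2) = (qN b : ZMod 2)) : qN a = qN b := by
  rw [ZMod.natCast_eq_natCast_iff', Nat.mod_eq_of_lt (qN_lt a), Nat.mod_eq_of_lt (qN_lt b)] at h
  exact h

theorem dig_unitC : ∀ (k : ZMod 3) (i j : Fin 6),
    dig (unitC k i).1 j = if j = i then k.val + 1 else 0 := by decide +kernel

theorem dig_ext (a b : Cd) (h : ∀ i : Fin 6, dig a.1 i = dig b.1 i) : a = b := by
  have e : ∀ v : Cd, v.1 = dig v.1 0 + 4 * dig v.1 1 + 16 * dig v.1 2 + 64 * dig v.1 3 + 256 * dig v.1 4 +
      1024 * dig v.1 5 := fun v =>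
    of_decide_eq_true (forall_cd (f := fun v => decide (v = dig v 0 + 4 * dig v 1 + 16 * dig v 2 +
      64 * dig v 3 + 256 * dig v 4 + 1024 * dig v 5)) (by decide +kernel) v)
  refine Fin.ext ?_
  rw [e a, e b]
  have h0 := h 0; have h1 := h 1; have h2 := h 2; have h3 := h 3; have h4 := h 4; have h5 := h 5
  simp only [Fin.val_zero, Fin.val_one, Fin.val_two, show ((3 : Fin 6) : ℕ) = 3 from rfl,
    show ((4 : Fin 6) : ℕ) = 4 from rfl, show ((5 : Fin 6) : ℕ) = 5 from rfl] at h0 h1 h2 h3 h4 h5
  rw [h0, h1, h2, h3, h4, h5]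

/-- A digit as an index. -/
def digF (c : Cd) (i : Fin 6) : Fin 4 := ⟨dig c.1 i, dig_lt _ _⟩

/-- **The coordinates.** -/
theorem exists_img {K : Type} [Field K] [Fintype K] (hK : Fintype.card K = 9) (hT : HomTrivial.{u} K)
    (hL : LocalThree.{u} K) {W : Type u} [AddCommGroup W] [Finite W] {H0 : Type u} [Group H0] [Finite H0]
    [DistribMulAction H0 W] (hfaith : ∀ g : H0, (∀ w : W, g • w = w) → g = 1)
    (h2 : ∀ w : W, w + w = 0) (hW : Nat.card W = 4096) (q : W → ZMod 2)
    (hadd : ∀ a b c : W, q (a + b + c) = q (a + b) + q (a + c) + q (b + c) + q a + q b + q c)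
    (hnd : ∀ a : W, a ≠ 0 → ∃ b, q (a + b) ≠ q a + q b) (hinv : ∀ (g : H0) (w : W), q (g • w) = q w)
    (M0 : Subgroup H0) (hidx : M0.index = 2) (f : M0 →* Cfsg.PSU 4 K 3) (hf : Function.Surjective f)
    (hk : Nat.card f.ker = 3) :
    ∃ (co : W ≃ Cd) (τ : H0 →* Equiv.Perm Cd) (I : Img), (∀ a b, co (a + b) = xo (co a) (co b)) ∧
      (∀ w, q w = (qN (co w).1 : ZMod 2)) ∧ (∀ g w, τ g (co w) = co (g • w)) ∧ Function.Injective τ ∧
      τ.range = I.H := by
  classical
  have := psu_simple hK
  -- the scalar
  have : Nontrivial f.ker := Finite.one_lt_card_iff_nontrivial.1 (by omega)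
  obtain ⟨⟨x, hxk⟩, hx1'⟩ := exists_ne (1 : f.ker)
  have hx1 : x ≠ 1 := fun e => hx1' (Subtype.ext e)
  have : Fact (Nat.Prime 3) := ⟨Nat.prime_three⟩
  have hox : orderOf x = 3 := by
    refine orderOf_eq_prime ?_ hx1
    have := congrArg Subtype.val (pow_card_eq_one' (x := (⟨x, hxk⟩ : f.ker)))
    rwa [hk] at this
  have hkz : f.ker = zpowers x :=
    (eq_of_le_of_card_ge (zpowers_le.2 hxk) (by rw [hk, Nat.card_zpowers, hox])).symm
  have hker3 : ∀ g ∈ f.ker, g = 1 ∨ g = x ∨ g = x * x := by
    intro g hg
    rw [hkz, mem_zpowers_iff_mem_range_orderOf, hox, Finset.mem_image] at hg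
    obtain ⟨n, hn, rfl⟩ := hg
    rw [Finset.mem_range] at hn
    interval_cases n <;> simp [pow_two]
  have hx3 : x * x * x = 1 := by
    rw [show x * x * x = x ^ 3 by rw [pow_three', mul_assoc], ← hox, pow_orderOf_eq_one]
  have hconj : ∀ g : M0, g * x * g⁻¹ = x ∨ g * x * g⁻¹ = x * x := fun g =>
    (hker3 _ ((MonoidHom.normal_ker f).conj_mem x hxk g)).resolve_left fun e => hx1 (by
      calc x = g⁻¹ * (g * x * g⁻¹) * g := by group
        _ = 1 := by rw [e]; group)
  have hxc : ∀ g : M0, Commute x g := by
    let C := centralizer ({x} : Set M0)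
    have hCn : C.Normal := ⟨fun c hc g => by
      rw [mem_centralizer_singleton_iff] at hc ⊢
      have hc' : Commute c x := hc
      have h1 : Commute (g * c * g⁻¹) (g * x * g⁻¹) := hc'.map (MulAut.conj g).toMonoidHom
      rcases hconj g with e | e
      · rwa [e] at h1
      · rw [e] at h1
        have h4 := h1.mul_right h1
        rwa [show x * x * (x * x) = x * x * x * x by group, hx3, one_mul] at h4⟩
    have : (C.map f).Normal := hCn.map f hf
    have htop : C.map f = ⊤ := by
      refine (IsSimpleGroup.eq_bot_or_eq_top_of_normal (C.map f) this).resolve_left fun hbot => ?_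
      obtain ⟨a, b, hab⟩ := psu_not_comm hK
      have hsq : ∀ p : Cfsg.PSU 4 K 3, p * p = 1 := by
        intro p
        obtain ⟨g, rfl⟩ := hf p
        rw [← map_mul, ← mem_bot, ← hbot]
        refine mem_map_of_mem f (mem_centralizer_singleton_iff.2 ?_)
        rcases hconj g with e | e
        · have hgx : g * x = x * g := mul_inv_eq_iff_eq_mul.1 e
          rw [mul_assoc, hgx, ← mul_assoc, hgx, mul_assoc]
        · refine mul_inv_eq_iff_eq_mul.1 ?_
          calc g * g * x * (g * g)⁻¹ = g * (g * x * g⁻¹) * g⁻¹ := by group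
            _ = g * (x * x) * g⁻¹ := by rw [e]
            _ = (g * x * g⁻¹) * (g * x * g⁻¹) := by group
            _ = x * x * x * x := by rw [e]; group
            _ = x := by rw [hx3, one_mul]
      refine hab ?_
      have hi : ∀ p : Cfsg.PSU 4 K 3, p⁻¹ = p := fun p => inv_eq_of_mul_eq_one_right (hsq p)
      calc a * b = (a * b)⁻¹ := (hi _).symm
        _ = b * a := by rw [mul_inv_rev, hi, hi]
    intro g
    obtain ⟨c, hc, hcg⟩ : f g ∈ C.map f := htop ▸ mem_top _
    have hm : c⁻¹ * g ∈ f.ker := by rw [MonoidHom.mem_ker, map_mul, map_inv, hcg, inv_mul_cancel]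
    have h1 : Commute x c := (mem_centralizer_singleton_iff.1 hc).symm
    have h2' : Commute x (c⁻¹ * g) := by
      rcases hker3 _ hm with e | e | e <;> rw [e]
      all_goals first
        | exact Commute.one_right x
        | exact Commute.refl x
        | exact (Commute.refl x).mul_right (Commute.refl x)
    simpa using h1.mul_right h2'
  have hcen : f.ker ≤ center M0 := by
    intro k hk'
    refine mem_center_iff.2 fun g => ?_
    rcases hker3 k hk' with e | e | e <;> rw [e]
    · simp
    · exact (hxc g).eq.symm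
    · exact ((hxc g).mul_left (hxc g)).eq.symm
  -- perfect
  have hperf : commutator M0 = ⊤ := by
    set D := commutator M0 with hD
    have hDf : D.map f = ⊤ := by
      rw [hD, _root_.commutator_def, map_commutator, Subgroup.map_top_of_surjective f hf,
        ← _root_.commutator_def, psu_perfect hK]
    by_cases hxD : x ∈ D
    · refine eq_top_iff.2 fun g _ => ?_
      obtain ⟨d, hd, hdg⟩ : f g ∈ D.map f := hDf ▸ mem_top _
      have hm : d⁻¹ * g ∈ f.ker := by rw [MonoidHom.mem_ker, map_mul, map_inv, hdg, inv_mul_cancel]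
      have : d⁻¹ * g ∈ D := (hkz ▸ zpowers_le.2 hxD : f.ker ≤ D) hm
      simpa using D.mul_mem hd this
    · exfalso
      have hinjD : ∀ d : D, f d = 1 → d = 1 := by
        intro d hd
        rcases hker3 d hd with e | e | e
        · exact Subtype.ext e
        · exact absurd (e ▸ d.2) hxD
        · refine absurd ?_ hxD
          have : x = (d : M0) * d := by rw [e, show x * x * (x * x) = x * x * x * x by group, hx3, one_mul]
          rw [this]; exact D.mul_mem d.2 d.2
      have htriv : ∀ (d : D) (w : W), (d : M0) • w = w := fun d w =>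
        act_trivial (M := D) hT (f.comp D.subtype) (fun p => by
          obtain ⟨g, hg, rfl⟩ : p ∈ D.map f := hDf ▸ mem_top _
          exact ⟨⟨g, hg⟩, rfl⟩) (fun g hg v => by rw [hinjD g hg]; exact one_smul D v) h2 (by rw [hW]; norm_num) d w
      have hbot : D = ⊥ := (eq_bot_iff_forall _).2 fun d hd =>
        Subtype.ext (hfaith (d : M0) (htriv ⟨d, hd⟩))
      rw [hbot, Subgroup.map_bot] at hDf
      exact bot_ne_top hDf
  -- fixed vectors of the scalar
  have hfix : ∀ w : W, x • w = w → ∀ g : M0, g • w = w := by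
    let F : AddSubgroup W :=
      { carrier := {w | x • w = w}
        add_mem' := fun {a b} ha hb => by
          show x • (a + b) = a + b
          rw [smul_add, show x • a = a from ha, show x • b = b from hb]
        zero_mem' := smul_zero x
        neg_mem' := fun {a} ha => by
          show x • (-a) = -a
          rw [smul_neg, show x • a = a from ha] }
    letI : DistribMulAction M0 F :=
      { smul := fun g w => ⟨g • (w : W), by
          show x • g • (w : W) = g • (w : W)
          rw [← mul_smul, (hxc g).eq, mul_smul, show x • (w : W) = w from w.2]⟩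
        one_smul := fun w => Subtype.ext (one_smul M0 (w : W))
        mul_smul := fun g g' w => Subtype.ext (mul_smul g g' (w : W))
        smul_zero := fun g => Subtype.ext (smul_zero g)
        smul_add := fun g v w => Subtype.ext (smul_add g (v : W) w) }
    intro w hw g
    have h := act_trivial (V := F) hT f hf (fun k hk' v => by
      refine Subtype.ext ?_
      show k • (v : W) = v
      have hv : x • (v : W) = v := v.2
      rcases hker3 k hk' with e | e | e <;> rw [e]
      · exact one_smul _ _
      · exact hv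
      · rw [mul_smul, hv, hv]) (fun v => Subtype.ext (h2 v)) ((Finite.card_subtype_le _).trans (by rw [hW]; norm_num))
      g ⟨w, hw⟩
    exact congrArg Subtype.val h
  -- the planes
  obtain ⟨A, hAel, hA, hkA, h360⟩ := hL f hf hcen hk
  obtain ⟨v, hv, hve, hsep, hbij, hnorm⟩ := Planes.exists_planes h2 hW
    (fun g hg => Subtype.ext (hfaith g hg)) hxc hfix
    (fun a ha b hb => congrArg Subtype.val (hAel.1.is_comm.comm (⟨a, ha⟩ : A) ⟨b, hb⟩))
    (fun a ha => hAel.2 a ha) hA (hkA hxk) h360
  have hc : ∀ (g : M0) (w : W), g • x • w = x • g • w := fun g w => by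
    rw [← mul_smul, ← mul_smul, (hxc g).eq]
  have hx3' : ∀ w : W, x • x • x • w = w := fun w => by
    rw [← mul_smul, ← mul_smul, hx3, one_smul]
  -- the quadratic form on the planes
  have hq0 : q 0 = 0 := by
    have := hadd 0 0 0
    simp only [add_zero] at this
    revert this; generalize q 0 = a; revert a; decide
  let b : W → W → ZMod 2 := fun a c => q (a + c) + q a + q c
  have hbadd : ∀ a a' c, b (a + a') c = b a c + b a' c := by
    intro a a' c
    have key : ∀ A B C D E F : ZMod 2, A + B + C + D + E + F + A + F = B + D + F + (C + E + F) := by decide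
    show q (a + a' + c) + q (a + a') + q c = _
    rw [hadd]
    exact key _ _ _ _ _ _
  have hbcomm : ∀ a c, b a c = b c a := fun a c => by
    show q (a + c) + q a + q c = q (c + a) + q c + q a
    rw [add_comm a c, add_right_comm]
  have hb0 : ∀ c, b 0 c = 0 := fun c => by
    show q (0 + c) + q 0 + q c = 0
    rw [zero_add, hq0, add_zero]; generalize q c = a; revert a; decide
  have hqx : ∀ (g : M0) w, q (g • w) = q w := fun g w => hinv (g : H0) w
  have hbinv : ∀ (g : M0) a c, b (g • a) (g • c) = b a c := fun g a c => by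
    show q (g • a + g • c) + q (g • a) + q (g • c) = _
    rw [← smul_add, hqx, hqx, hqx]
  have hcomp_x : ∀ i k, ∃ l, x • Planes.comp x (v i) k = Planes.comp x (v i) l := fun i k => by
    fin_cases k
    exacts [⟨0, smul_zero x⟩, ⟨2, rfl⟩, ⟨3, rfl⟩, ⟨1, hx3' _⟩]
  have hcfpf : ∀ i k, Planes.Fpf x (Planes.comp x (v i) k) := by
    intro i k
    fin_cases k
    exacts [Planes.Fpf.zero, (hv i).2, (hv i).2.smul hc x, ((hv i).2.smul hc x).smul hc x]
  have hbsum : ∀ (s : Finset (Fin 6)) (p : Fin 6 → W) c, b (∑ i ∈ s, p i) c = ∑ i ∈ s, b (p i) c := by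
    intro s p c
    induction s using Finset.induction_on with
    | empty => simp [hb0]
    | @insert i s hi ih => rw [Finset.sum_insert hi, Finset.sum_insert hi, hbadd, ih]
  have horth : ∀ i j, i ≠ j → ∀ k l, b (Planes.comp x (v i) k) (Planes.comp x (v j) l) = 0 := by
    have key : ∀ i j, ∀ a ∈ A, a • v i = v i → a • v j ≠ v j → ∀ k l,
        b (Planes.comp x (v i) k) (Planes.comp x (v j) l) = 0 := by
      intro i j a ha hai haj k l
      set p := Planes.comp x (v i) k with hp
      set r := Planes.comp x (v j) l with hr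
      have hap : a • p = p := by
        rw [hp]; fin_cases k <;> simp [Planes.comp, hc a, hai]
      obtain ⟨m, hm⟩ := hve a ha j
      have har : a • r = x • r ∨ a • r = x • x • r := by
        rcases zmod3_cases m with rfl | rfl | rfl
        · exact absurd hm haj
        · left; rw [hr]; fin_cases l <;> simp [Planes.comp, hc a, hm, Planes.pw_one]
        · right; rw [hr]; fin_cases l <;> simp [Planes.comp, hc a, hm, Planes.pw_two]
      have hfr : r + x • r + x • x • r = 0 := hcfpf j l
      have e1 : b p r = b p (a • r) := by conv_lhs => rw [← hbinv a, hap]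
      have e2 : b p (a • r) = b p (a • a • r) := by conv_lhs => rw [← hbinv a, hap]
      have e3 : b p r = b p (x • r) ∧ b p r = b p (x • x • r) := by
        rcases har with e | e
        · rw [e, hc a, e] at e2
          rw [e] at e1
          exact ⟨e1, e1.trans e2⟩
        · rw [e, hc a, hc a, e, hx3'] at e2
          rw [e] at e1
          exact ⟨e1.trans e2, e1⟩
      have hsum : b p r + b p (x • r) + b p (x • x • r) = 0 := by
        rw [hbcomm p r, hbcomm p (x • r), hbcomm p (x • x • r), ← hbadd, ← hbadd, hfr, hb0]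
      rw [← e3.1, ← e3.2] at hsum
      revert hsum; generalize b p r = c; revert c; decide
    intro i j hij k l
    obtain ⟨a, ha, ⟨h1, h1'⟩ | ⟨h1, h1'⟩⟩ := hsep i j hij
    · exact key i j a ha h1 h1' k l
    · rw [hbcomm]; exact key j i a ha h1 h1' l k
  have hqv : ∀ i, q (v i) = 1 ∧ q (x • v i) = 1 ∧ q (x • x • v i) = 1 := by
    intro i
    refine (fun h => ⟨h, by rw [hqx, h], by rw [hqx, hqx, h]⟩) ?_
    obtain ⟨u', hu'⟩ := hnd (v i) (hv i).1
    obtain ⟨c, rfl⟩ := hbij.2 u'
    have hne : b (v i) (Planes.comp x (v i) (c i)) ≠ 0 := by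
      intro h0
      refine hu' ?_
      have hs : b (v i) (∑ j, Planes.comp x (v j) (c j)) = 0 := by
        rw [hbcomm, hbsum]
        refine Finset.sum_eq_zero fun j _ => ?_
        by_cases hj : j = i
        · subst hj; rw [hbcomm]; exact h0
        · exact horth j i hj (c j) 1
      simp only [b] at hs
      revert hs
      generalize q (v i + ∑ j, Planes.comp x (v j) (c j)) = A0
      generalize q (v i) = B0
      generalize q (∑ j, Planes.comp x (v j) (c j)) = C0
      revert A0 B0 C0
      decide
    have hfv : v i + x • v i + x • x • v i = 0 := (hv i).2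
    have e3 : v i + x • v i = x • x • v i := Planes.eq_of_add h2 hfv
    have e2 : v i + x • x • v i = x • v i := Planes.eq_of_add h2 (by
      rw [← hfv]; abel)
    revert hne
    generalize c i = k
    intro hne
    fin_cases k
    · exact absurd (by rw [hbcomm]; exact hb0 _) hne
    · simp only [b, Planes.comp] at hne
      simp only [Matrix.cons_val_one, Matrix.cons_val_zero, Fin.mk_one, h2, hq0, zero_add] at hne
      exact absurd (by generalize q (v i) = a; revert a; decide) hne
    · simp only [b, Planes.comp] at hne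
      simp only [Fin.reduceFinMk, Matrix.cons_val, e3, hqx] at hne
      revert hne; generalize q (v i) = a; revert a; decide
    · simp only [b, Planes.comp] at hne
      simp only [Fin.reduceFinMk, Matrix.cons_val, e2, hqx] at hne
      revert hne; generalize q (v i) = a; revert a; decide
  have hqcomp : ∀ i k, q (Planes.comp x (v i) k) = (nzD k.1 : ZMod 2) := by
    intro i k
    obtain ⟨h1, h1', h1''⟩ := hqv i
    fin_cases k <;> simp [Planes.comp, nzD, hq0, h1, h1', h1'']
  -- the coordinates
  let Φ : Cd → W := fun c => ∑ i, Planes.comp x (v i) (digF c i)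
  have hΦbij : Function.Bijective Φ := by
    have : Fintype W := Fintype.ofFinite W
    rw [Fintype.bijective_iff_injective_and_card, ← Nat.card_eq_fintype_card (α := W), hW, Fintype.card_fin]
    refine ⟨fun a c h => dig_ext a c fun i => ?_, rfl⟩
    have hd : digF a = digF c := hbij.1 h
    exact congrArg Fin.val (congrFun hd i)
  have hcompadd : ∀ i, ∀ (k l : Fin 4) (hkl : k.1 ^^^ l.1 < 4),
      Planes.comp x (v i) ⟨k.1 ^^^ l.1, hkl⟩ = Planes.comp x (v i) k + Planes.comp x (v i) l := by
    intro i k l hkl
    have hfv : v i + x • v i + x • x • v i = 0 := (hv i).2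
    have e3 : x • x • v i = v i + x • v i := (Planes.eq_of_add h2 hfv).symm
    have e2 : x • v i = v i + x • x • v i := (Planes.eq_of_add h2 (by rw [← hfv]; abel)).symm
    have e1 : v i = x • v i + x • x • v i := (Planes.eq_of_add h2 (by rw [← hfv]; abel)).symm
    fin_cases k <;> fin_cases l <;> simp [Planes.comp, h2] <;>
      first
        | exact e3
        | exact e2
        | exact e1
        | exact e3.trans (add_comm _ _)
        | exact e2.trans (add_comm _ _)
        | exact e1.trans (add_comm _ _)
  have hΦadd : ∀ a c, Φ (xo a c) = Φ a + Φ c := by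
    intro a c
    rw [← Finset.sum_add_distrib]
    refine Finset.sum_congr rfl fun i _ => ?_
    rw [← hcompadd i (digF a i) (digF c i) (Nat.xor_lt_two_pow (n := 2) (digF a i).2 (digF c i).2)]
    congr 1
    exact Fin.ext (dig_xor _ _ _)
  have hΦw : ∀ c, Φ (wC c) = x • Φ c := by
    intro c
    rw [Finset.smul_sum]
    refine Finset.sum_congr rfl fun i _ => ?_
    have e : digF (wC c) i = ![0, 2, 3, 1] (digF c i) := by
      refine Fin.ext ?_
      show dig (wC c).1 i = _
      rw [dig_wC]
      have : ∀ k : Fin 4, wD k.1 = (![0, 2, 3, 1] k : Fin 4).1 := by decide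
      exact this (digF c i)
    rw [e]
    generalize digF c i = k
    fin_cases k <;> simp [Planes.comp, hx3']
  have hΦq : ∀ c, q (Φ c) = (qN c.1 : ZMod 2) := by
    intro c
    have hsum : ∀ s : Finset (Fin 6), q (∑ i ∈ s, Planes.comp x (v i) (digF c i)) =
        ∑ i ∈ s, q (Planes.comp x (v i) (digF c i)) := by
      intro s
      induction s using Finset.induction_on with
      | empty => simp [hq0]
      | @insert i s hi ih =>
        rw [Finset.sum_insert hi, Finset.sum_insert hi, ← ih]
        have h0 : b (Planes.comp x (v i) (digF c i)) (∑ j ∈ s, Planes.comp x (v j) (digF c j)) = 0 := by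
          rw [hbcomm, hbsum]
          exact Finset.sum_eq_zero fun j hj => horth j i (fun e => hi (e ▸ hj)) _ _
        simp only [b] at h0
        revert h0
        generalize q (Planes.comp x (v i) (digF c i) + ∑ j ∈ s, Planes.comp x (v j) (digF c j)) = A0
        generalize q (Planes.comp x (v i) (digF c i)) = B0
        generalize q (∑ j ∈ s, Planes.comp x (v j) (digF c j)) = C0
        revert A0 B0 C0
        decide
    show q (∑ i, _) = _
    rw [hsum, qN_dig, ZMod.natCast_mod, Fin.sum_univ_six]
    simp only [hqcomp, digF, Nat.cast_add]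
    rfl
  have hΦunit : ∀ (k : ZMod 3) i, Φ (unitC k i) = Planes.pw x (v i) k := by
    intro k i
    show ∑ j, _ = _
    rw [Finset.sum_eq_single i]
    · unfold Planes.pw
      congr 1
      exact Fin.ext ((dig_unitC k i i).trans (if_pos rfl))
    · intro j _ hj
      have : digF (unitC k i) j = 0 := Fin.ext ((dig_unitC k i j).trans (if_neg hj))
      rw [this]; rfl
    · simp
  let co : W ≃ Cd := (Equiv.ofBijective Φ hΦbij).symm
  have hcoΦ : ∀ c, co (Φ c) = c := fun c => (Equiv.ofBijective Φ hΦbij).symm_apply_apply c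
  have hΦco : ∀ w, Φ (co w) = w := fun w => (Equiv.ofBijective Φ hΦbij).apply_symm_apply w
  have hcoadd : ∀ a c, co (a + c) = xo (co a) (co c) := fun a c => by
    rw [← hcoΦ (xo (co a) (co c)), hΦadd, hΦco, hΦco]
  let τ : H0 →* Equiv.Perm Cd := co.permCongrHom.toMonoidHom.comp (MulAction.toPermHom H0 W)
  have hτ : ∀ g c, τ g c = co (g • Φ c) := fun g c => rfl
  have hτinj : Function.Injective τ := by
    refine (injective_iff_map_eq_one τ).2 fun g hg => hfaith g fun w => ?_
    have h := hτ g (co w)
    rw [hg, hΦco, Equiv.Perm.one_apply] at h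
    exact (co.injective h).symm
  have hwC : ∀ c, wC c = τ (x : H0) c := fun c => by
    rw [hτ, ← hcoΦ (wC c), hΦw]
    rfl
  have hadd' : ∀ g, IsAdd (τ g) := fun g a c => by
    rw [hτ, hτ, hτ, hΦadd, smul_add, hcoadd]
  have hlin : ∀ g : H0, Commute g (x : H0) → IsLinC (τ g) := fun g hg c => by
    rw [hwC, hwC, ← Equiv.Perm.mul_apply, ← map_mul, hg.eq, map_mul, Equiv.Perm.mul_apply]
  have hxc0 : ∀ g : M0, Commute (g : H0) (x : H0) := fun g => ((hxc g).symm).map M0.subtype
  have hnorM : M0.Normal := normal_of_index_eq_two hidx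
  have hsym : ∀ g, IsSym (τ g) := by
    intro g
    refine ⟨hadd' g, fun c => qN_inj ?_, ?_⟩
    · rw [← hΦq, ← hΦq, hτ, hΦco, hinv]
    · let y : M0 := ⟨g * (x : H0) * g⁻¹, hnorM.conj_mem _ x.2 g⟩
      have hyc : ∀ m : M0, Commute y m := fun m => by
        have hm' : g⁻¹ * (m : H0) * g ∈ M0 := by simpa using hnorM.conj_mem _ m.2 g⁻¹
        have h1 : Commute (g * (x : H0) * g⁻¹) (g * (g⁻¹ * m * g) * g⁻¹) :=
          ((hxc ⟨_, hm'⟩).map M0.subtype).map (MulAut.conj g).toMonoidHom
        rw [show g * (g⁻¹ * (m : H0) * g) * g⁻¹ = m by group] at h1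
        exact Subtype.ext h1.eq
      have hyk : y ∈ f.ker := by
        have hy : f y ∈ center (Cfsg.PSU 4 K 3) := mem_center_iff.2 fun p => by
          obtain ⟨m, rfl⟩ := hf p
          rw [← map_mul, ← map_mul, (hyc m).eq]
        have hnor : (center (Cfsg.PSU 4 K 3)).Normal := inferInstance
        rcases IsSimpleGroup.eq_bot_or_eq_top_of_normal _ hnor with h | h
        · rw [h, mem_bot] at hy; exact hy
        · obtain ⟨a, c, hac⟩ := psu_not_comm hK
          exact absurd ((mem_center_iff.1 (h ▸ mem_top a) c).symm) hac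
      rcases hker3 y hyk with e | e | e
      · exfalso
        refine hx1 (Subtype.ext ?_)
        have h := congrArg Subtype.val e
        calc (x : H0) = g⁻¹ * (g * (x : H0) * g⁻¹) * g := by group
          _ = 1 := by rw [show g * (x : H0) * g⁻¹ = 1 from h]; group
      · exact Or.inl (hlin g (mul_inv_eq_iff_eq_mul.1 (congrArg Subtype.val e)))
      · refine Or.inr fun c => ?_
        have h : g * (x : H0) = (x : H0) * x * g := mul_inv_eq_iff_eq_mul.1 (congrArg Subtype.val e)
        rw [hwC, hwC, hwC, ← Equiv.Perm.mul_apply, ← map_mul, h, map_mul, map_mul, Equiv.Perm.mul_apply,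
          Equiv.Perm.mul_apply]
  -- monomial elements
  have hmonoA : ∀ (g : M0) (σ : Equiv.Perm (Fin 6)) (d : Fin 6 → ZMod 3),
      (∀ i, g • v i = Planes.pw x (v (σ i)) (d i)) → ∀ c, τ (g : H0) c = monoC d σ c := by
    intro g σ d hg c
    refine eq_monoC (hadd' _) (hlin _ (hxc0 g)) (fun i => ?_) c
    rw [hτ, hΦunit, Planes.pw_zero, show (g : H0) • v i = Planes.pw x (v (σ i)) (d i) from hg i, ← hΦunit, hcoΦ]
  have hmono : ∀ (d : Fin 6 → ZMod 3) (σ : Equiv.Perm (Fin 6)), ∑ i, d i = 0 → Equiv.Perm.sign σ = 1 →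
      ∃ g : M0, ∀ c, τ (g : H0) c = monoC d σ c := fun d σ hd hσ =>
    exists_mono (τ.comp M0.subtype) (hτinj.comp M0.subtype_injective) A hA
      (fun a ha => by
        choose k hk' using fun i => hve a ha i
        exact ⟨k, hmonoA a 1 k hk'⟩)
      (fun n hn => by
        obtain ⟨σ', d', h⟩ := hnorm n hn
        exact ⟨d', σ', hmonoA n σ' d' h⟩) h360 d σ hd hσ
  refine ⟨co, τ,
    { H := τ.range
      M := M0.map τ
      hMH := map_le_range τ M0
      index_two := ?_
      card_M := ?_
      perfect := ?_
      sym := ?_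
      lin := ?_
      mono := ?_ },
    hcoadd, fun w => by rw [← hΦq, hΦco], fun g w => by rw [hτ, hΦco], hτinj, rfl⟩
  · rw [MonoidHom.range_eq_map, relIndex_map_map_of_injective _ _ hτinj, relIndex_top_right, hidx]
  · have hc : Nat.card (M0 ⧸ f.ker) = 3265920 := by
      rw [Nat.card_congr (QuotientGroup.quotientKerEquivOfSurjective f hf).toEquiv, card_psu hK]
    rw [card_map_of_injective hτinj, Subgroup.card_eq_card_quotient_mul_card_subgroup f.ker, hk, hc]
  · have h := congrArg (Subgroup.map M0.subtype) hperf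
    rw [_root_.commutator_def, map_commutator, ← MonoidHom.range_eq_map, range_subtype] at h
    rw [← map_commutator, h]
  · rintro _ ⟨g, rfl⟩
    exact hsym g
  · rintro _ ⟨g, hg, rfl⟩
    exact hlin g (hxc0 ⟨g, hg⟩)
  · intro d σ hd hσ
    obtain ⟨g, hg⟩ := hmono d σ hd hσ
    exact ⟨_, mem_map_of_mem τ g.2, hg⟩

end Cfsg.Agent.LargeFischer
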