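import Cfsg.Agent.Lib.LargeFischer.Mono
import Cfsg.Prelude.Def_MonsterType

/-!
# Interface: coordinates for `C(z)/Q` in large Fischer type

`Img`: what the bridge knows about the image of `C(z)` on `Q/Z(Q)`; `Coord`: the coordinates on `Q`;
`Img.Good`: the explicit form that the model reaches (`gM`, `gS` are explicit).
-/

set_option autoImplicit false

namespace Cfsg.Agent.LargeFischer

/-- Images of the bits under seven transvections and the conjugation. -/
def tI : ℕ → List ℕ
  | 0 => [1364, 2728, 1361, 2722, 1349, 2698, 1301, 2602, 1109, 2218, 341, 682]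
  | 1 => [4, 8, 1, 2, 16, 32, 64, 128, 256, 512, 1024, 2048]
  | 2 => [1, 2, 16, 32, 4, 8, 64, 128, 256, 512, 1024, 2048]
  | 3 => [1, 2, 4, 8, 64, 128, 16, 32, 256, 512, 1024, 2048]
  | 4 => [1, 2, 4, 8, 16, 32, 256, 512, 64, 128, 1024, 2048]
  | 5 => [1, 2, 4, 8, 16, 32, 64, 128, 1024, 2048, 256, 512]
  | 6 => [8, 12, 3, 1, 16, 32, 64, 128, 256, 512, 1024, 2048]
  | _ => [1, 3, 4, 12, 16, 48, 64, 192, 256, 768, 1024, 3072]

theorem tI_lt (k : Fin 8) : ∀ a ∈ tI k.1, a < 4096 := by
  revert k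
  decide +kernel

theorem tI_invol (k : Fin 8) (v : Cd) : linC (tI k.1) (tI_lt k) (linC (tI k.1) (tI_lt k) v) = v := by
  have h : ∀ k : Fin 8, allB (fun v => decide (apL (tI k.1) (apL (tI k.1) v) = v)) 12 0 = true := by
    decide +kernel
  exact Fin.ext (of_decide_eq_true (forall_cd (h k) v) : apL (tI k.1) (apL (tI k.1) v.1) = v.1)

/-- The transvections `0 .. 6` and, for `7`, the conjugation of coordinates. -/
def tP (k : Fin 8) : Equiv.Perm Cd :=
  Function.Involutive.toPerm (linC (tI k.1) (tI_lt k)) (tI_invol k)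

/-- Six products of two transvections. -/
def gM (k : Fin 6) : Equiv.Perm Cd := tP 0 * tP ⟨k.1 + 1, by omega⟩

/-- The semilinear outer element. -/
def gS : Equiv.Perm Cd := tP 7 * tP 1

/-- The image of `C(z)` on the twelve-bit space, as far as the abstract argument gives it. -/
structure Img where
  H : Subgroup (Equiv.Perm Cd)
  M : Subgroup (Equiv.Perm Cd)
  hMH : M ≤ H
  index_two : M.relIndex H = 2
  card_M : Nat.card M = 9797760
  perfect : ⁅M, M⁆ = M
  sym : ∀ p ∈ H, IsSym p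
  lin : ∀ p ∈ M, IsLinC p
  mono : ∀ (d : Fin 6 → ZMod 3) (σ : Equiv.Perm (Fin 6)), ∑ i, d i = 0 → Equiv.Perm.sign σ = 1 →
    ∃ p ∈ M, ∀ v, p v = monoC d σ v

/-- The explicit form. -/
structure Img.Good (I : Img) : Prop where
  inv_O : ∀ p ∈ I.H, ∀ v : Cd, inO 0 (p v).1 = inO 0 v.1
  gM_mem : ∀ k, gM k ∈ I.M
  gS_mem : gS ∈ I.H
  gS_not_mem : gS ∉ I.M
  anti : ∀ p ∈ I.H, p ∉ I.M → IsAntC p

/-- Coordinates on `Q` modulo its centre and the action of `C(z)`. -/
structure Coord {G : Type*} [Group G] (z : G) (Q : Subgroup (Subgroup.centralizer ({z} : Set G)))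
    [Q.Normal] where
  co : ↥Q → Cd
  co_surjective : Function.Surjective co
  co_mul : ∀ a b : ↥Q, co (a * b) = xo (co a) (co b)
  co_eq_zero : ∀ a : ↥Q, co a = 0 ↔
    (((a : Subgroup.centralizer ({z} : Set G)) : G) = 1 ∨ ((a : Subgroup.centralizer ({z} : Set G)) : G) = z)
  co_sq : ∀ a : ↥Q, ((a : Subgroup.centralizer ({z} : Set G)) : G) *
    ((a : Subgroup.centralizer ({z} : Set G)) : G) = 1 ↔ qN (co a).1 = 0
  act : ↥(Subgroup.centralizer ({z} : Set G)) →* Equiv.Perm Cd
  act_ker : act.ker = Q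
  act_co : ∀ (h : ↥(Subgroup.centralizer ({z} : Set G))) (a : ↥Q),
    act h (co a) = co ⟨h * a * h⁻¹, (inferInstance : Q.Normal).conj_mem _ a.2 h⟩
  I : Img
  range_act : act.range = I.H

/-- Coordinates in which the image has the explicit form. -/
structure GoodCoord {G : Type*} [Group G] (z : G) (Q : Subgroup (Subgroup.centralizer ({z} : Set G)))
    [Q.Normal] extends Coord z Q where
  good : I.Good

end Cfsg.Agent.LargeFischer
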