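import Cfsg.Agent.Lib.LargeFischer.SylowMax
import Cfsg.Agent.Lib.LargeExtraspecial.Setting
import Cfsg.Prelude.Def_MonsterType

/-!
# The Thompson subgroup of a Sylow 2-subgroup of `G` in large Fischer type

`aG` is the candidate `E_{2^11}` as a subgroup of `G`.  Main facts, from `GoodCoord`:
`tG` is a Sylow 2-subgroup of `G` (`exists_sylow_tG`), every `J(T)` is a conjugate of `aG`
(`exists_conj_thompson`), every elementary subgroup of order at least `2 ^ 11` of a 2-group `T` is `J(T)`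
(`eq_thompson`), and `N(J(T))` controls fusion in `J(T)` (`control_fusion`).
-/

set_option autoImplicit false

namespace Cfsg.Agent.LargeFischer

open Subgroup

section Tools

variable {A B : Type*} [Group A] [Group B]

theorem elementary_map {X : Subgroup A} (f : A →* B) (hX : IsElementaryAbelian 2 X) :
    IsElementaryAbelian 2 (X.map f) := by
  refine ⟨⟨⟨fun a b => ?_⟩⟩, fun a ha => ?_⟩
  · obtain ⟨x, hx, hxa⟩ := mem_map.1 a.2
    obtain ⟨y, hy, hyb⟩ := mem_map.1 b.2
    refine Subtype.ext ?_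
    show (a : B) * b = b * a
    rw [← hxa, ← hyb, ← map_mul, ← map_mul]
    exact congrArg f (congrArg Subtype.val (hX.1.1.1 ⟨x, hx⟩ ⟨y, hy⟩))
  · obtain ⟨x, hx, rfl⟩ := mem_map.1 ha
    rw [← map_pow, hX.2 x hx, map_one]

theorem elementary_of_map {X : Subgroup A} {f : A →* B} (hf : Function.Injective f)
    (hX : IsElementaryAbelian 2 (X.map f)) : IsElementaryAbelian 2 X := by
  refine ⟨⟨⟨fun a b => Subtype.ext (hf ?_)⟩⟩, fun a ha => hf ?_⟩
  · rw [Subgroup.coe_mul, Subgroup.coe_mul, map_mul, map_mul]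
    exact congrArg Subtype.val (hX.1.1.1 ⟨f a, mem_map_of_mem f a.2⟩ ⟨f b, mem_map_of_mem f b.2⟩)
  · rw [map_pow, map_one]
    exact hX.2 _ (mem_map_of_mem f ha)

theorem elementary_comm {X : Subgroup A} (hX : IsElementaryAbelian 2 X) {a b : A} (ha : a ∈ X) (hb : b ∈ X) :
    a * b = b * a :=
  congrArg Subtype.val (hX.1.1.1 ⟨a, ha⟩ ⟨b, hb⟩)

/-- A unique candidate of largest order is the Thompson subgroup. -/
theorem thompson_eq_of_unique {P X : Subgroup A} (hle : X ≤ P) (hel : IsElementaryAbelian 2 X)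
    (huniq : ∀ B : Subgroup A, B ≤ P → IsElementaryAbelian 2 B → Nat.card ↥X ≤ Nat.card ↥B → B = X) :
    thompsonSubgroupOf 2 P = X := by
  have hX : (X.subgroupOf P).map P.subtype = X := by rw [subgroupOf_map_subtype, inf_eq_left.2 hle]
  have hXel : IsElementaryAbelian 2 (X.subgroupOf P) :=
    elementary_of_map P.subtype_injective (by rw [hX]; exact hel)
  have hc : Nat.card ↥(X.subgroupOf P) = Nat.card ↥X := Nat.card_congr (subgroupOfEquivOfLe hle).toEquiv
  have hB : ∀ B : Subgroup ↥P, IsElementaryAbelian 2 B → Nat.card ↥X ≤ Nat.card ↥B → B = X.subgroupOf P := by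
    intro B hB hcard
    refine map_injective P.subtype_injective ?_
    rw [hX]
    exact huniq _ (map_subtype_le B) (elementary_map _ hB)
      (by rw [card_map_of_injective P.subtype_injective]; exact hcard)
  have hset : maxElementaryAbelianSubgroups 2 ↥P = {X.subgroupOf P} := by
    ext B
    simp only [maxElementaryAbelianSubgroups, Set.mem_ofPred_eq, Set.mem_singleton_iff]
    constructor
    · rintro ⟨hBel, hmax⟩
      exact hB B hBel (hc ▸ hmax _ hXel)
    · rintro rfl
      refine ⟨hXel, fun B hBel => ?_⟩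
      by_contra hlt
      rw [hc, not_le] at hlt
      rw [hB B hBel hlt.le, hc] at hlt
      exact lt_irrefl _ hlt
  rw [thompsonSubgroupOf, thompsonSubgroup, hset, sSup_singleton, hX]

end Tools

variable {G : Type*} [Group G] {z : G} {Q : Subgroup (Subgroup.centralizer ({z} : Set G))} [Q.Normal]

namespace GoodCoord

variable (K : GoodCoord z Q)

/-- The candidate inside `G`. -/
def aG : Subgroup G := K.aT.map (Subgroup.centralizer ({z} : Set G)).subtype

/-- A Sylow 2-subgroup of `C(z)`, inside `G`. -/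
def tG : Subgroup G := (syS.comap K.act).map (Subgroup.centralizer ({z} : Set G)).subtype

variable [Finite G] (hF : IsOfLargeFischerTypeAt z Q)

include hF in
omit [Finite G] in
theorem ne_one : z ≠ 1 := fun e => by
  have := hF.1.1
  rw [e, orderOf_one] at this
  omega

include K hF

theorem core_facts :
    K.aG ≤ K.tG ∧ IsElementaryAbelian 2 K.aG ∧ Nat.card ↥K.aG = 2 ^ 11 ∧ z ∈ K.aG ∧
      Nat.card ↥K.tG = 2 ^ 21 ∧
      ∀ B : Subgroup G, B ≤ K.tG → IsElementaryAbelian 2 B → 2 ^ 11 ≤ Nat.card ↥B → B = K.aG := by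
  obtain ⟨hle, hel, hcard, -, huniq⟩ :=
    K.toCoord.sylow_core K.good hF.1.2.2.1 hF.1.2.2.2.1 (ne_one hF)
  have hinj := (Subgroup.centralizer ({z} : Set G)).subtype_injective
  refine ⟨map_mono hle, elementary_map _ hel, by rw [aG, card_map_of_injective hinj]; exact hcard, ?_, ?_, ?_⟩
  · refine ⟨zIn z, K.wT_le_aT ⟨K.zIn_mem hF.1.2.2.2.1, ?_⟩, rfl⟩
    rw [show K.co ⟨zIn z, K.zIn_mem hF.1.2.2.2.1⟩ = 0 from (K.co_eq_zero _).2 (Or.inr rfl)]
    exact syV_zero
  · rw [tG, card_map_of_injective hinj]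
    have h := card_map_mul_inf_ker K.act (syS.comap K.act)
    rw [map_comap_eq_self (by rw [K.range_act]; exact syS_le K.good), card_syS,
      inf_eq_right.2 (show K.act.ker ≤ syS.comap K.act from fun a ha => mem_comap.2 (by
        rw [MonoidHom.mem_ker.1 ha]; exact syS.one_mem)), K.act_ker, hF.1.2.2.2.1] at h
    omega
  · intro B hB hBel hBc
    have hBC : B ≤ (Subgroup.centralizer ({z} : Set G)).subtype.range :=
      hB.trans (map_le_range _ _)
    have hB' : (B.comap (Subgroup.centralizer ({z} : Set G)).subtype).map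
        (Subgroup.centralizer ({z} : Set G)).subtype = B := map_comap_eq_self hBC
    have h0 := huniq _ (comap_mono hB |>.trans (comap_map_eq_self_of_injective hinj _).le)
      (elementary_of_map hinj (by rw [hB']; exact hBel))
      (by rw [← card_map_of_injective hinj, hB']; exact hBc)
    rw [← hB', h0]; rfl

/-- A Sylow 2-subgroup of `C(z)` is one of `G`. -/
theorem exists_sylow_tG : ∃ S : Sylow 2 G, (S : Subgroup G) = K.tG := by
  have : Fact (Nat.Prime 2) := ⟨Nat.prime_two⟩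
  obtain ⟨-, -, -, hzA, hTcard, -⟩ := K.core_facts hF
  have hT2 : IsPGroup 2 ↥K.tG := IsPGroup.of_card hTcard
  obtain ⟨S, hS⟩ := hT2.exists_le_sylow
  refine ⟨S, ?_⟩
  by_contra hne
  -- the Sylow subgroup meets the centraliser in `tG`
  have hSC : (S : Subgroup G) ⊓ (Subgroup.centralizer ({z} : Set G)) = K.tG := by
    refine (eq_of_le_of_card_ge (le_inf hS (map_subtype_le _)) ?_).symm
    obtain ⟨k, hk⟩ := (S.2.to_le (inf_le_left : (S : Subgroup G) ⊓ (Subgroup.centralizer ({z} : Set G)) ≤ S)).exists_card_eq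
    have hC : Nat.card ↥(Subgroup.centralizer ({z} : Set G)) = 2 ^ 21 * 76545 := by
      have h := K.act.ker.card_mul_index
      rw [Subgroup.index_ker, K.range_act, card_img, K.act_ker, hF.1.2.2.2.1] at h
      omega
    have hdvd : 2 ^ k ∣ 2 ^ 21 * 76545 := hk ▸ hC ▸ card_dvd_of_le inf_le_right
    have hk21 : 2 ^ k ∣ 2 ^ 21 :=
      (Nat.Coprime.pow_left k (by norm_num : Nat.Coprime 2 76545)).dvd_of_dvd_mul_right hdvd
    rw [hk, hTcard]
    exact Nat.le_of_dvd (by positivity) hk21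
  have hlt : K.tG.subgroupOf S < ⊤ := lt_top_iff_ne_top.2 fun e =>
    hne (le_antisymm (subgroupOf_eq_top.1 e) hS)
  have : Group.IsNilpotent ↥(S : Subgroup G) := S.2.isNilpotent
  have := Group.normalizerCondition_of_isNilpotent (G := ↥(S : Subgroup G)) _ hlt
  obtain ⟨⟨n, hnS⟩, hnN, hnT⟩ := SetLike.exists_of_lt this
  have hnC : n ∈ (Subgroup.centralizer ({z} : Set G)) := by
    -- the centre of `tG` is `⟨z⟩`
    obtain ⟨hub, -, hcen⟩ := LargeExtraspecial.Hub.of_setting (Q := Q.map (Subgroup.centralizer ({z} : Set G)).subtype) hF.1.1 (map_subtype_le Q)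
      (by rw [hF.1.2.1]) (by
        exact (TI.isExtraspecial_congr (Q.equivMapOfInjective (Subgroup.centralizer ({z} : Set G)).subtype (Subgroup.centralizer ({z} : Set G)).subtype_injective)
          hF.1.2.2.1))
    have hzc : ∀ x ∈ K.tG, z * x = x * z := fun x hx =>
      (mem_centralizer_singleton_iff.1 ((map_subtype_le _) hx)).symm
    have hz' : n * z * n⁻¹ ∈ centralizer ((Q.map (Subgroup.centralizer ({z} : Set G)).subtype : Subgroup G) : Set G) := by
      refine mem_centralizer_iff.2 fun q hq => ?_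
      have hqT : q ∈ K.tG := by
        obtain ⟨a, ha, rfl⟩ := hq
        refine ⟨a, mem_comap.2 ?_, rfl⟩
        rw [(K.mem_Q_iff a).1 ha]; exact syS.one_mem
      have hq' : n⁻¹ * q * n ∈ K.tG := by
        have := (mem_normalizer_iff.1 hnN ⟨n⁻¹ * q * n, S.1.mul_mem (S.1.mul_mem (S.1.inv_mem hnS) (hS hqT)) hnS⟩).2
        refine this ?_
        simp only [mem_subgroupOf, Subgroup.coe_mul, Subgroup.coe_inv]
        rw [show n * (n⁻¹ * q * n) * n⁻¹ = q by group]
        exact hqT
      calc q * (n * z * n⁻¹) = n * ((n⁻¹ * q * n) * z) * n⁻¹ := by group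
        _ = n * (z * (n⁻¹ * q * n)) * n⁻¹ := by rw [hzc _ hq']
        _ = n * z * n⁻¹ * q := by group
    rw [hcen] at hz'
    obtain ⟨j, hj⟩ := mem_zpowers_iff.1 hz'
    refine mem_centralizer_singleton_iff.2 (mul_inv_eq_iff_eq_mul.1 ?_)
    rcases Int.even_or_odd j with ⟨i, rfl⟩ | ⟨i, rfl⟩
    · exfalso
      rw [← two_mul, zpow_mul, zpow_two, ← pow_two, ← hF.1.1, pow_orderOf_eq_one, one_zpow] at hj
      exact ne_one hF (conj_eq_one_iff.1 hj.symm)
    · rw [zpow_add, zpow_mul, zpow_two, ← pow_two, ← hF.1.1, pow_orderOf_eq_one, one_zpow, one_mul, zpow_one] at hj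
      exact hj.symm
  exact hnT (show n ∈ K.tG from hSC ▸ mem_inf.2 ⟨hnS, hnC⟩)

/-- Every `J(T)` is a conjugate of the candidate and is the only large elementary subgroup of `T`. -/
theorem thompson_facts (T : Sylow 2 G) :
    (∃ g : G, thompsonSubgroupOf 2 (T : Subgroup G) = K.aG.map (MulAut.conj g).toMonoidHom) ∧
      IsElementaryAbelian 2 (thompsonSubgroupOf 2 (T : Subgroup G)) ∧
      Nat.card ↥(thompsonSubgroupOf 2 (T : Subgroup G)) = 2 ^ 11 ∧
      ∀ B : Subgroup G, B ≤ (T : Subgroup G) → IsElementaryAbelian 2 B → 2 ^ 11 ≤ Nat.card ↥B →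
        B = thompsonSubgroupOf 2 (T : Subgroup G) := by
  have : Fact (Nat.Prime 2) := ⟨Nat.prime_two⟩
  obtain ⟨hle, hel, hA, -, -, huniq⟩ := K.core_facts hF
  obtain ⟨S, hS⟩ := K.exists_sylow_tG hF
  obtain ⟨g, hg⟩ := MulAction.exists_smul_eq G S T
  have hTe : (T : Subgroup G) = K.tG.map (MulAut.conj g).toMonoidHom := by
    rw [← hg, Sylow.coe_subgroup_smul, hS]; rfl
  set e : G ≃* G := MulAut.conj g
  have hXle : K.aG.map e.toMonoidHom ≤ (T : Subgroup G) := hTe ▸ map_mono hle
  have hXc : Nat.card ↥(K.aG.map e.toMonoidHom) = 2 ^ 11 := by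
    rw [card_map_of_injective e.injective]; exact hA
  have hu : ∀ B : Subgroup G, B ≤ (T : Subgroup G) → IsElementaryAbelian 2 B → 2 ^ 11 ≤ Nat.card ↥B →
      B = K.aG.map e.toMonoidHom := by
    intro B hB hBel hBc
    have hcomp : e.toMonoidHom.comp e.symm.toMonoidHom = MonoidHom.id G :=
      MonoidHom.ext fun x => e.apply_symm_apply x
    have h0 := huniq (B.map e.symm.toMonoidHom) (by
      refine (map_mono (hB.trans hTe.le)).trans ?_
      rw [map_map, show e.symm.toMonoidHom.comp e.toMonoidHom = MonoidHom.id G from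
        MonoidHom.ext fun x => e.symm_apply_apply x, map_id]) (elementary_map _ hBel)
      (by rw [card_map_of_injective e.symm.injective]; exact hBc)
    rw [← h0, map_map, hcomp, map_id]
  have hJ : thompsonSubgroupOf 2 (T : Subgroup G) = K.aG.map e.toMonoidHom :=
    thompson_eq_of_unique hXle (elementary_map _ hel) fun B hB hBel hc => hu B hB hBel (hXc ▸ hc)
  exact ⟨⟨g, hJ⟩, hJ ▸ elementary_map _ hel, hJ ▸ hXc, fun B hB hBel hc => hJ ▸ hu B hB hBel hc⟩

/-- Two large elementary subgroups in one 2-group coincide. -/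
theorem eq_of_two_group {P B B' : Subgroup G} (hP : IsPGroup 2 ↥P) (hB : B ≤ P) (hB' : B' ≤ P)
    (hel : IsElementaryAbelian 2 B) (hel' : IsElementaryAbelian 2 B')
    (hc : 2 ^ 11 ≤ Nat.card ↥B) (hc' : 2 ^ 11 ≤ Nat.card ↥B') : B = B' := by
  obtain ⟨T, hT⟩ := hP.exists_le_sylow
  obtain ⟨-, -, -, hu⟩ := K.thompson_facts hF T
  rw [hu B (hB.trans hT) hel hc, hu B' (hB'.trans hT) hel' hc']

/-- The normaliser of an `E_{2^11}` controls fusion in it. -/
theorem control_fusion {A : Subgroup G} (hel : IsElementaryAbelian 2 A) (hc : Nat.card ↥A = 2 ^ 11)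
    {a : G} (ha : a ∈ A) {g : G} (hg : g * a * g⁻¹ ∈ A) :
    ∃ m ∈ Subgroup.normalizer (A : Set G), m * a * m⁻¹ = g * a * g⁻¹ := by
  have : Fact (Nat.Prime 2) := ⟨Nat.prime_two⟩
  set D := Subgroup.centralizer ({a} : Set G) with hD
  set e : G ≃* G := MulAut.conj g⁻¹
  have hA2 : IsPGroup 2 ↥A := IsPGroup.of_card hc
  have hAD : A ≤ D := fun x hx => mem_centralizer_singleton_iff.2 (elementary_comm hel hx ha)
  have hA'D : A.map e.toMonoidHom ≤ D := by
    rintro _ ⟨x, hx, rfl⟩
    refine mem_centralizer_singleton_iff.2 ?_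
    have h := elementary_comm hel hx hg
    show g⁻¹ * x * g⁻¹⁻¹ * a = a * (g⁻¹ * x * g⁻¹⁻¹)
    calc g⁻¹ * x * g⁻¹⁻¹ * a = g⁻¹ * (x * (g * a * g⁻¹)) * g := by group
      _ = g⁻¹ * (g * a * g⁻¹ * x) * g := by rw [h]
      _ = a * (g⁻¹ * x * g⁻¹⁻¹) := by group
  obtain ⟨P, hP⟩ := (hA2.comap_subtype (H := A) (K := D)).exists_le_sylow
  obtain ⟨P', hP'⟩ := ((hA2.map e.toMonoidHom).comap_subtype (K := D)).exists_le_sylow
  obtain ⟨c, hc'⟩ := MulAction.exists_smul_eq ↥D P P'
  set f : G ≃* G := MulAut.conj (c : G)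
  set R : Subgroup G := (P' : Subgroup ↥D).map D.subtype
  have h1 : A.map e.toMonoidHom ≤ R := fun x hx => ⟨⟨x, hA'D hx⟩, hP' (mem_comap.2 hx), rfl⟩
  have h2 : A.map f.toMonoidHom ≤ R := by
    rintro _ ⟨x, hx, rfl⟩
    refine ⟨c * ⟨x, hAD hx⟩ * c⁻¹, ?_, rfl⟩
    rw [← hc', Sylow.coe_subgroup_smul]
    exact ⟨⟨x, hAD hx⟩, hP (mem_comap.2 hx), rfl⟩
  have heq := K.eq_of_two_group hF (P'.2.map D.subtype) h2 h1 (elementary_map _ hel) (elementary_map _ hel)
    (by rw [card_map_of_injective f.injective, hc]) (by rw [card_map_of_injective e.injective, hc])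
  refine ⟨g * c, mem_normalizer_iff.2 fun x => ?_, ?_⟩
  · constructor
    · intro hx
      have : f x ∈ A.map e.toMonoidHom := heq ▸ mem_map_of_mem f.toMonoidHom hx
      obtain ⟨y, hy, hyx⟩ := this
      have hyx' : g⁻¹ * y * g⁻¹⁻¹ = (c : G) * x * (c : G)⁻¹ := hyx
      rw [show g * (c : G) * x * (g * (c : G))⁻¹ = g * ((c : G) * x * (c : G)⁻¹) * g⁻¹ by group, ← hyx',
        show g * (g⁻¹ * y * g⁻¹⁻¹) * g⁻¹ = y by group]
      exact hy
    · intro hx
      have : e (g * (c : G) * x * (g * (c : G))⁻¹) ∈ A.map f.toMonoidHom :=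
        heq.symm ▸ mem_map_of_mem e.toMonoidHom hx
      obtain ⟨y, hy, hyx⟩ := this
      have hyx' : (c : G) * y * (c : G)⁻¹ = g⁻¹ * (g * (c : G) * x * (g * (c : G))⁻¹) * g⁻¹⁻¹ := hyx
      have hxy : x = y := by
        calc x = (c : G)⁻¹ * (g⁻¹ * (g * (c : G) * x * (g * (c : G))⁻¹) * g⁻¹⁻¹) * c := by group
          _ = (c : G)⁻¹ * ((c : G) * y * (c : G)⁻¹) * c := by rw [hyx']
          _ = y := by group
      exact hxy ▸ hy
  · have hca : (c : G) * a = a * c := mem_centralizer_singleton_iff.1 c.2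
    calc g * (c : G) * a * (g * (c : G))⁻¹ = g * ((c : G) * a * (c : G)⁻¹) * g⁻¹ := by group
      _ = g * a * g⁻¹ := by rw [hca, mul_inv_cancel_right]

/-- The centraliser of the candidate lies in `C(z)`. -/
theorem centralizer_aG_le : Subgroup.centralizer (K.aG : Set G) ≤ Subgroup.centralizer ({z} : Set G) :=
  fun _ hx => mem_centralizer_singleton_iff.2 (mem_centralizer_iff.1 hx z (K.core_facts hF).2.2.2.1).symm

end GoodCoord

end Cfsg.Agent.LargeFischer
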