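import Cfsg.Agent.Lib.LargeFischer.LocalR

/-!
# `C(V)/R` is the alternating group on six stars, and `|R| = 2 ^ 15`
-/

set_option autoImplicit false

namespace Cfsg.Agent.LargeFischer.Loc

open scoped commutatorElement
open Cfsg.Agent.LargeExtraspecial

variable {G : Type*} [Group G] {z : G} {Q : Subgroup (Subgroup.centralizer ({z} : Set G))} [Q.Normal]
  {K : GoodCoord z Q} [Finite G] (F : LFacts K) (Fr : Frame K)

include F Fr

theorem card_gW : Nat.card (gW F) = 2 ^ 11 := by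
  rw [gW, card_codeSub K F]
  decide +kernel

theorem card_gP : Nat.card (gP F z Fr.s) = 2 ^ 7 := by
  rw [gP_zs F Fr, card_codeSub K F]
  decide +kernel

/-- The action of `C(V)` on codes. -/
noncomputable def actC : ↥(gC F) →* Equiv.Perm Cd := K.act.comp (Subgroup.inclusion (gC_le_C F Fr))

theorem actC_eq (c : ↥(gC F)) : actC F Fr c = av K (c : G) := by
  rw [av_eq K ((mem_gC F Fr).1 c.2).1]
  rfl

theorem card_actC_ker : Nat.card (actC F Fr).ker = 2 ^ 11 := by
  rw [← card_gW F Fr]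
  refine Nat.card_congr ⟨fun c => ⟨(c.1 : G), ?_⟩, fun q => ⟨⟨q.1, ?_⟩, ?_⟩, fun _ => rfl, fun _ => rfl⟩
  · rw [gW_eq F Fr]
    refine ⟨(av_eq_one K ((mem_gC F Fr).1 c.1.2).1).1 ?_, c.1.2⟩
    rw [← actC_eq F Fr]
    exact c.2
  · exact ((gW_eq F Fr).le q.2).2
  · rw [MonoidHom.mem_ker, actC_eq F Fr]
    exact (av_eq_one K (qG_commute q.2.1)).2 q.2.1

theorem card_actC_range : Nat.card (actC F Fr).range = 5760 := by
  have hrange : (actC F Fr).range = K.I.M ⊓ MulAction.stabilizer (Equiv.Perm Cd) (85 : Cd) := by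
    ext p
    constructor
    · rintro ⟨c, rfl⟩
      rw [actC_eq F Fr]
      exact ⟨(av_fix F Fr c.2).1, (av_fix F Fr c.2).2.1⟩
    · rintro ⟨hp, h85⟩
      obtain ⟨c, hc, rfl⟩ := exists_gC F Fr hp h85
      exact ⟨⟨c, hc⟩, actC_eq F Fr _⟩
  have horb : MulAction.orbit K.I.M (85 : Cd) =
      {v : Cd | (qN v.1 == 0 && !(v.1 == 0) && !inO 0 v.1) = true} := by
    ext v
    constructor
    · rintro ⟨⟨p, hp⟩, rfl⟩
      have hH := K.I.hMH hp
      show (qN (p 85).1 == 0 && !((p 85).1 == 0) && !inO 0 (p 85).1) = true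
      have h0 : p 85 ≠ 0 := fun e =>
        absurd (p.injective (e.trans (K.I.sym p hH).add.zero.symm)) (by decide)
      have h0' : (p 85).1 ≠ 0 := fun e => h0 (Fin.ext e)
      have e1 : qN (85 : Cd).1 = 0 := by decide +kernel
      have e2 : inO 0 (85 : Cd).1 = false := by decide +kernel
      rw [(K.I.sym p hH).q, K.good.inv_O p hH, e1, e2]
      simp [h0']
    · intro hv
      simp only [Set.mem_ofPred_eq, Bool.and_eq_true, beq_iff_eq, Bool.not_eq_true',
        beq_eq_false_iff_ne] at hv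
      obtain ⟨p, hp, hp'⟩ := F.trans v hv.1.1 (fun e => hv.1.2 (congrArg Fin.val e)) hv.2
      exact ⟨⟨p, hp⟩, hp'⟩
  have h1 : Nat.card (MulAction.orbit K.I.M (85 : Cd)) * Nat.card (MulAction.stabilizer K.I.M (85 : Cd)) =
      9797760 := by
    rw [← K.I.card_M, ← Subgroup.card_mul_index (MulAction.stabilizer K.I.M (85 : Cd)),
      MulAction.index_stabilizer, mul_comm, Nat.card_coe_set_eq]
  rw [horb] at h1
  have h2 : Nat.card {v : Cd | (qN v.1 == 0 && !(v.1 == 0) && !inO 0 v.1) = true} = 1701 := card_orbit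
  rw [h2] at h1
  have h3 : Nat.card (MulAction.stabilizer K.I.M (85 : Cd)) =
      Nat.card ↥(K.I.M ⊓ MulAction.stabilizer (Equiv.Perm Cd) (85 : Cd)) :=
    Nat.card_congr ⟨fun p => ⟨p.1.1, p.1.2, p.2⟩, fun p => ⟨⟨p.1, p.2.1⟩, p.2.2⟩, fun _ => rfl,
      fun _ => rfl⟩
  rw [hrange, ← h3]
  omega

theorem card_gC : Nat.card (gC F) = 2 ^ 11 * 5760 := by
  rw [card_ker_mul_range (actC F Fr), card_actC_ker F Fr, card_actC_range F Fr]

theorem card_core_inf_gC : Nat.card ↥(coreV (qG Q) z Fr.s ⊓ gC F) = 2 ^ 11 := by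
  have hQ := hub K F
  obtain ⟨k, hk, hks⟩ := exists_move F Fr (s_mem_gV F Fr) (s_ne_one F Fr)
  have e : coreV (qG Q) z Fr.s ⊓ gC F = (gW F).map (MulAut.conj k).toMonoidHom := by
    ext a
    rw [mem_conj_iff, gW_eq F Fr]
    constructor
    · rintro ⟨h1, h2⟩
      refine ⟨?_, by simpa using conj_mem_gC F Fr (inv_mem hk) h2⟩
      have h1' : k * (k⁻¹ * a * k) * k⁻¹ ∈ coreV (qG Q) z (k * z * k⁻¹) := by
        rw [hks, show k * (k⁻¹ * a * k) * k⁻¹ = a by group]
        exact h1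
      have h := (core_conj_iff F Fr (z_mem_gV F) hQ.ne_one).1 h1'
      rwa [coreV_self hQ] at h
    · rintro ⟨h1, h2⟩
      constructor
      · have h1' : k⁻¹ * a * k ∈ coreV (qG Q) z z := by rw [coreV_self hQ]; exact h1
        have h := (core_conj_iff F Fr (k := k) (z_mem_gV F) hQ.ne_one).2 h1'
        rwa [hks, show k * (k⁻¹ * a * k) * k⁻¹ = a by group] at h
      · have := conj_mem_gC F Fr hk h2
        rwa [show k * (k⁻¹ * a * k) * k⁻¹ = a by group] at this
  rw [e, Subgroup.card_map_of_injective (MulAut.conj k).injective, card_gW F Fr]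

theorem card_gR_ge : 2 ^ 15 ≤ Nat.card (gR F) := by
  have hle := gR_le_gC F Fr
  set f := (actC F Fr).comp (Subgroup.inclusion hle)
  set B := coreV (qG Q) z Fr.s ⊓ gC F with hB
  set g := (actC F Fr).comp (Subgroup.inclusion (inf_le_right : B ≤ gC F))
  have hBR : B ≤ gR F := fun e he => core_inf_gC_le F Fr (s_mem_gV F Fr) (s_ne_one F Fr) he.1 he.2
  have hg : g.range ≤ f.range := by
    rintro _ ⟨b, rfl⟩
    exact ⟨⟨b.1, hBR b.2⟩, rfl⟩
  have hgk : Nat.card g.ker ≤ 2 ^ 7 := by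
    rw [← card_gP F Fr]
    refine Nat.card_le_card_of_injective (fun b => ⟨(b.1 : G), ?_, ?_⟩)
      (fun a b h => Subtype.ext (Subtype.ext (congrArg (fun t : ↥(gP F z Fr.s) => (t : G)) h)))
    · rw [coreV_self (hub K F)]
      refine (av_eq_one K ((mem_gC F Fr).1 b.1.2.2).1).1 ?_
      rw [← actC_eq F Fr ⟨_, b.1.2.2⟩]
      exact b.2
    · exact b.1.2.1
  have hfk : 2 ^ 11 ≤ Nat.card f.ker := by
    rw [← card_gW F Fr]
    refine Nat.card_le_card_of_injective (fun q => ⟨⟨q.1, gW_le_gR F Fr q.2⟩, ?_⟩)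
      (fun a b h => Subtype.ext (congrArg (fun t : f.ker => ((t.1 : ↥(gR F)) : G)) h))
    rw [MonoidHom.mem_ker]
    show actC F Fr ⟨q.1, _⟩ = 1
    rw [actC_eq F Fr]
    exact (av_eq_one K (qG_commute q.2.1)).2 q.2.1
  have hrange : Nat.card g.range ≤ Nat.card f.range :=
    Nat.le_of_dvd Nat.card_pos (Subgroup.card_dvd_of_le hg)
  have hBc : 2 ^ 11 = Nat.card g.ker * Nat.card g.range := by
    rw [← card_ker_mul_range g, card_core_inf_gC F Fr]
  rw [card_ker_mul_range f]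
  calc 2 ^ 15 = 2 ^ 11 * 2 ^ 4 := by norm_num
    _ ≤ Nat.card f.ker * Nat.card f.range := by
      refine Nat.mul_le_mul hfk ?_
      have : 2 ^ 7 * 2 ^ 4 ≤ 2 ^ 7 * Nat.card f.range := by
        calc 2 ^ 7 * 2 ^ 4 = 2 ^ 11 := by norm_num
          _ = Nat.card g.ker * Nat.card g.range := hBc
          _ ≤ 2 ^ 7 * Nat.card f.range := Nat.mul_le_mul hgk hrange
      exact Nat.le_of_mul_le_mul_left this (by norm_num)

theorem av_inT {c : G} (hc : c ∈ gC F) {v : Cd} (hv : inT v.1 = true) :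
    inT (av K c v).1 = true := by
  obtain ⟨a, ha, rfl⟩ := exists_code K v
  obtain ⟨hz, hs, -⟩ := (mem_gC F Fr).1 hc
  have h : a ∈ gP F z Fr.s := by rw [gP_zs F Fr]; exact ⟨ha, hv⟩
  have hk := (conj_mem_gP_iff F Fr (k := c) (z_mem_gV F) (hub K F).ne_one (s_mem_gV F Fr)
    (s_ne_one F Fr)).2 h
  rw [hz.eq, mul_inv_cancel_right, hs.eq, mul_inv_cancel_right, gP_zs F Fr] at hk
  rw [← cq_conj K hz ha]
  exact hk.2

theorem exists_pi (c : ↥(gC F)) (i : Fin 15) :
    ∃ j, inF (xo (av K (c : G) (repT i)) (repT j)).1 = true := by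
  refine exists_class (av_inT F Fr c.2 (repT_mem i).1) ?_
  rw [Bool.eq_false_iff]
  intro h
  have h' := av_inF F Fr c.2 h
  have := (av K (c : G)).injective h'
  rw [this] at h
  rw [(repT_mem i).2] at h
  exact Bool.noConfusion h

/-- The map on the fifteen classes. -/
noncomputable def piC (c : ↥(gC F)) (i : Fin 15) : Fin 15 := (exists_pi F Fr c i).choose

theorem piC_spec (c : ↥(gC F)) (i : Fin 15) :
    inF (xo (av K (c : G) (repT i)) (repT (piC F Fr c i))).1 = true := (exists_pi F Fr c i).choose_spec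

theorem piC_eq (c : ↥(gC F)) {i j : Fin 15} (h : inF (xo (av K (c : G) (repT i)) (repT j)).1 = true) :
    piC F Fr c i = j := by
  refine repT_inj _ _ ?_
  have h2 := isCodeGrp_inF.add _ _ (piC_spec F Fr c i) h
  have e : xo (xo (av K (c : G) (repT i)) (repT (piC F Fr c i))) (xo (av K (c : G) (repT i)) (repT j)) =
      xo (repT (piC F Fr c i)) (repT j) := by
    rw [xo_comm (av K (c : G) (repT i)) (repT (piC F Fr c i)), xo_assoc,
      ← xo_assoc (av K (c : G) (repT i)) (av K (c : G) (repT i)), xo_self, xo_comm 0, xo_zero]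
  rwa [e] at h2

theorem piC_mul (c d : ↥(gC F)) (i : Fin 15) : piC F Fr (c * d) i = piC F Fr c (piC F Fr d i) := by
  refine piC_eq F Fr _ ?_
  have hc := ((mem_gC F Fr).1 c.2).1
  have hd := ((mem_gC F Fr).1 d.2).1
  rw [Subgroup.coe_mul, av_mul K hc hd, Equiv.Perm.mul_apply]
  have h2 := isCodeGrp_inF.add _ _ (piC_spec F Fr d i) (piC_spec F Fr c (piC F Fr d i))
  have e1 : av K (c : G) (av K (d : G) (repT i)) =
      xo (av K (c : G) (repT (piC F Fr d i))) (xo (av K (d : G) (repT i)) (repT (piC F Fr d i))) := by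
    rw [← av_inF F Fr c.2 (piC_spec F Fr d i), ← (av_sym K hc).add, xo_comm (av K (d : G) (repT i)),
      ← xo_assoc, xo_self, xo_comm 0, xo_zero]
  rw [e1, xo_comm (av K (c : G) (repT (piC F Fr d i))), xo_assoc]
  exact h2

theorem piC_one (i : Fin 15) : piC F Fr 1 i = i :=
  piC_eq F Fr _ (by rw [OneMemClass.coe_one, av_one K, Equiv.Perm.one_apply, xo_self]; rfl)

theorem piC_injective (c : ↥(gC F)) : Function.Injective (piC F Fr c) := by
  intro i j h
  have := congrArg (piC F Fr c⁻¹) h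
  rwa [← piC_mul F Fr, ← piC_mul F Fr, inv_mul_cancel, piC_one F Fr, piC_one F Fr] at this

theorem piC_adj (c : ↥(gC F)) {i j : Fin 15} (h : adjT i j = true) :
    adjT (piC F Fr c i) (piC F Fr c j) = true := by
  obtain ⟨hM, -, -⟩ := av_fix F Fr c.2
  have hz := ((mem_gC F Fr).1 c.2).1
  set p := av K (c : G)
  have hT := fun k => (inT_perp (repT_mem k).1).2
  obtain ⟨f, hF, ei⟩ : ∃ f : Cd, inF f.1 = true ∧ p (repT i) = xo f (repT (piC F Fr c i)) :=
    ⟨_, piC_spec F Fr c i, by rw [xo_assoc, xo_self, xo_zero]⟩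
  obtain ⟨f', hF', ej⟩ : ∃ f : Cd, inF f.1 = true ∧ p (repT j) = xo f (repT (piC F Fr c j)) :=
    ⟨_, piC_spec F Fr c j, by rw [xo_assoc, xo_self, xo_zero]⟩
  have zero : ∀ a b : Cd, inF a.1 = true → inP b.1 = true → bN a.1 b.1 = 0 := by
    intro a b ha hb
    simp only [inP, Bool.and_eq_true, beq_iff_eq] at hb
    have h85 : bN (85 : Cd).1 b.1 = 0 := by rw [bN_comm]; exact hb.1
    have h170 : bN (170 : Cd).1 b.1 = 0 := by rw [bN_comm]; exact hb.2
    rcases inF_cases ha with rfl | rfl | rfl | rfl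
    · have e := bN_xo_left (85 : Cd) 85 b
      rw [xo_self] at e
      omega
    · exact h85
    · exact h170
    · rw [show (255 : Cd) = xo 85 170 by decide +kernel, bN_xo_left, h85, h170]
  simp only [adjT, beq_iff_eq] at h ⊢
  change bN (repT i).1 (wC (repT j)).1 = 1 at h
  show bN (repT (piC F Fr c i)).1 (wC (repT (piC F Fr c j))).1 = 1
  generalize piC F Fr c i = i' at ei ⊢
  generalize piC F Fr c j = j' at ej ⊢
  rw [← (av_sym K hz).bN_eq, K.I.lin p hM] at h
  change bN (p (repT i)).1 (wC (p (repT j))).1 = 1 at h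
  rw [ei, ej, isAdd_wC] at h
  have e1 := bN_xo_left f (repT i') (xo (wC f') (wC (repT j')))
  have e2 := bN_xo_left (wC f') (wC (repT j')) f
  have e3 := bN_xo_left (wC f') (wC (repT j')) (repT i')
  rw [bN_comm (xo (wC f') (wC (repT j'))).1 f.1] at e2
  rw [bN_comm (xo (wC f') (wC (repT j'))).1 (repT i').1] at e3
  have z1 := zero _ _ (inF_w hF') (inT_perp (inT_inF hF)).2
  have z2 := zero _ _ hF (inP_w (hT j'))
  rw [bN_comm] at z2
  have z3 := zero _ _ (inF_w hF') (hT i')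
  have hc := bN_comm (repT i').1 (wC (repT j')).1
  have := bN_lt (repT i').1 (wC (repT j')).1
  omega

theorem exists_sigma (c : ↥(gC F)) (k : Fin 6) :
    ∃ l, ∀ m, ∃ n, starT l n = piC F Fr c (starT k m) := by
  have h : ∀ m n, m ≠ n → adjT (piC F Fr c (starT k m)) (piC F Fr c (starT k n)) = true :=
    fun m n hmn => piC_adj F Fr c (starT_adj k m n hmn)
  obtain ⟨l, h0, h1, h2, h3, h4⟩ := star_of_clique _ _ _ _ _ (h 0 1 (by decide)) (h 0 2 (by decide))
    (h 1 2 (by decide)) (h 0 3 (by decide)) (h 1 3 (by decide)) (h 2 3 (by decide)) (h 0 4 (by decide))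
    (h 1 4 (by decide)) (h 2 4 (by decide)) (h 3 4 (by decide))
  refine ⟨l, fun m => ?_⟩
  fin_cases m
  exacts [h0, h1, h2, h3, h4]

/-- The map on the six stars. -/
noncomputable def sigC (c : ↥(gC F)) (k : Fin 6) : Fin 6 := (exists_sigma F Fr c k).choose

theorem sigC_eq (c : ↥(gC F)) {k l : Fin 6}
    (h : ∀ m, ∃ n, starT l n = piC F Fr c (starT k m)) : sigC F Fr c k = l := by
  obtain ⟨n0, e0⟩ := (exists_sigma F Fr c k).choose_spec 0
  obtain ⟨n1, e1⟩ := (exists_sigma F Fr c k).choose_spec 1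
  obtain ⟨m0, e0'⟩ := h 0
  obtain ⟨m1, e1'⟩ := h 1
  refine starT_unique _ _ n0 n1 m0 m1 (e0.trans e0'.symm) (e1.trans e1'.symm) fun hn => ?_
  rw [hn] at e0
  exact absurd (starT_inj k (piC_injective F Fr c (e0.symm.trans e1))) (by decide)

theorem sigC_mul (c d : ↥(gC F)) (k : Fin 6) : sigC F Fr (c * d) k = sigC F Fr c (sigC F Fr d k) := by
  refine sigC_eq F Fr _ fun m => ?_
  obtain ⟨n, hn⟩ := (exists_sigma F Fr d k).choose_spec m
  obtain ⟨o, ho⟩ := (exists_sigma F Fr c (sigC F Fr d k)).choose_spec n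
  exact ⟨o, by rw [piC_mul F Fr, ← hn]; exact ho⟩

theorem sigC_one (k : Fin 6) : sigC F Fr 1 k = k :=
  sigC_eq F Fr _ fun m => ⟨m, (piC_one F Fr _).symm⟩

/-- `C(V)` on the six stars. -/
noncomputable def theta : ↥(gC F) →* Equiv.Perm (Fin 6) :=
  MonoidHom.mk' (fun c => ⟨sigC F Fr c, sigC F Fr c⁻¹,
    fun k => by rw [← sigC_mul F Fr, inv_mul_cancel, sigC_one F Fr],
    fun k => by rw [← sigC_mul F Fr, mul_inv_cancel, sigC_one F Fr]⟩)
    (fun c d => Equiv.ext (sigC_mul F Fr c d))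

theorem theta_apply (c : ↥(gC F)) (k : Fin 6) : theta F Fr c k = sigC F Fr c k := rfl

theorem gR_le_ker : (gR F).subgroupOf (gC F) ≤ (theta F Fr).ker := by
  intro r hr
  rw [Subgroup.mem_subgroupOf] at hr
  have hz := ((mem_gC F Fr).1 r.2).1
  have hpi : ∀ i, piC F Fr r i = i := by
    intro i
    refine piC_eq F Fr _ ?_
    obtain ⟨a, ha, hai⟩ := exists_code K (repT i)
    have hP : a ∈ gP F z Fr.s := by
      rw [gP_zs F Fr]; exact ⟨ha, by rw [hai]; exact (repT_mem i).1⟩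
    have hm : a ∈ gR F := Subgroup.subset_closure ⟨z, z_mem_gV F, Fr.s, s_mem_gV F Fr,
      (hub K F).ne_one, s_ne_one F Fr, s_ne_z F Fr, hP⟩
    have hcomm := comm_gR F Fr hr hm
    rw [commutatorElement_def] at hcomm
    have h := hcomm.2
    rw [cq_mul K (qG_normal hz ha) (inv_mem ha), cq_conj K hz ha, hai] at h
    have hinv : cq K a⁻¹ = repT i := by
      have h' := cq_mul K ha (inv_mem ha)
      rw [mul_inv_cancel, cq_one K, hai] at h'
      have := congrArg (fun t => xo (repT i) t) h'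
      simp only [← xo_assoc, xo_self] at this
      rw [xo_zero, xo_comm 0, xo_zero] at this
      exact this.symm
    rwa [hinv] at h
  exact Equiv.ext fun k => sigC_eq F Fr _ fun m => ⟨m, (hpi _).symm⟩

theorem alternating_le_range : alternatingGroup (Fin 6) ≤ (theta F Fr).range := by
  refine closure_cT.trans ((Subgroup.closure_le _).2 ?_)
  rintro _ ⟨i, rfl⟩
  obtain ⟨p, hp, hpv⟩ := gT_mem K.I K.good i
  obtain ⟨c, hc, hcp⟩ := exists_gC F Fr hp (by rw [hpv]; exact gT_fix i)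
  refine ⟨⟨c, hc⟩, Equiv.ext fun k => sigC_eq F Fr _ fun m => ?_⟩
  obtain ⟨n, hn⟩ := gT_star i k m
  exact ⟨n, (piC_eq F Fr _ (by rw [hcp, hpv]; exact hn)).symm⟩

theorem theta_spec : (theta F Fr).range = alternatingGroup (Fin 6) ∧
    (theta F Fr).ker = (gR F).subgroupOf (gC F) ∧ Nat.card (gR F) = 2 ^ 15 := by
  have h1 := card_ker_mul_range (theta F Fr)
  rw [card_gC F Fr] at h1
  have hA : Nat.card (alternatingGroup (Fin 6)) = 360 := by
    rw [nat_card_alternatingGroup, Nat.card_eq_fintype_card, Fintype.card_fin]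
    decide
  have h2 : 360 ≤ Nat.card (theta F Fr).range := by
    rw [← hA]
    exact Nat.le_of_dvd Nat.card_pos (Subgroup.card_dvd_of_le (alternating_le_range F Fr))
  have hR : Nat.card ((gR F).subgroupOf (gC F)) = Nat.card (gR F) :=
    Nat.card_congr (Subgroup.subgroupOfEquivOfLe (gR_le_gC F Fr)).toEquiv
  have h3 : Nat.card (gR F) ≤ Nat.card (theta F Fr).ker := by
    rw [← hR]
    exact Nat.le_of_dvd Nat.card_pos (Subgroup.card_dvd_of_le (gR_le_ker F Fr))
  have h4 := card_gR_ge F Fr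
  have h5 : Nat.card (theta F Fr).ker = 2 ^ 15 ∧ Nat.card (theta F Fr).range = 360 := by
    have a : 2 ^ 15 * 360 ≤ Nat.card (theta F Fr).ker * 360 := Nat.mul_le_mul_right _ (h4.trans h3)
    have b : Nat.card (theta F Fr).ker * 360 ≤ Nat.card (theta F Fr).ker * Nat.card (theta F Fr).range :=
      Nat.mul_le_mul_left _ h2
    have e1 : Nat.card (theta F Fr).ker = 2 ^ 15 := by omega
    refine ⟨e1, ?_⟩
    rw [e1] at h1
    omega
  refine ⟨?_, ?_, le_antisymm (h3.trans h5.1.le) h4⟩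
  · exact (Subgroup.eq_of_le_of_card_ge (alternating_le_range F Fr) (by rw [h5.2, hA])).symm
  · exact (Subgroup.eq_of_le_of_card_ge (gR_le_ker F Fr) (by rw [h5.1, hR]; exact h4)).symm

end Cfsg.Agent.LargeFischer.Loc
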