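import Cfsg.Agent.Lib.LargeFischer.Interface

/-!
# Finite checks for the local subgroup at an elementary group of order eight

`inT`: the 64 codes of the intersection of two cores whose centres have codes `0` and `85`; its
fifteen classes modulo the multiples of `85`; six stars of the non-orthogonality graph on them; four
elements of `M` fixing `85`.
-/

set_option autoImplicit false

namespace Cfsg.Agent.LargeFischer

/-- Syndromes of the bits for the 64 codes. -/
def synT : List ℕ := [1, 2, 1, 4, 1, 8, 1, 14, 16, 32, 16, 48]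

/-- The 64 codes: those with trivial syndrome. -/
def inT (v : ℕ) : Bool := apL synT v == 0

/-- The multiples of `85`. -/
def inF (v : ℕ) : Bool := v == 0 || v == 85 || v == 170 || v == 255

/-- Orthogonality to `85` and to `170`. -/
def inP (v : ℕ) : Bool := (bN v 85 == 0) && (bN v 170 == 0)

/-- Representatives of the fifteen classes. -/
def repT : Fin 15 → Cd :=
  ![5, 17, 20, 1280, 1285, 1297, 1300, 2816, 2821, 2833, 2836, 3584, 3589, 3601, 3604]

/-- Non-orthogonality of classes. -/
def adjT (i j : Fin 15) : Bool := bN (repT i).1 (wN (repT j).1) == 1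

/-- The six stars. -/
def starT : Fin 6 → Fin 5 → Fin 15 :=
  ![![0, 1, 6, 10, 14], ![0, 2, 5, 9, 13], ![1, 2, 4, 8, 12], ![3, 7, 12, 13, 14], ![3, 8, 9, 10, 11],
    ![4, 5, 6, 7, 11]]

theorem inT_xo {a b : Cd} (ha : inT a.1 = true) (hb : inT b.1 = true) : inT (xo a b).1 = true := by
  simp only [inT, beq_iff_eq] at ha hb ⊢
  rw [xo_val, apL_xor, ha, hb]
  rfl

theorem inT_perp {v : Cd} (h : inT v.1 = true) : qN v.1 = 0 ∧ inP v.1 = true := by
  have key : allB (fun v => !inT v || (qN v == 0 && inP v)) 12 0 = true := by decide +kernel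
  have := forall_cd key v
  simp only [h, Bool.not_true, Bool.false_or, Bool.and_eq_true, beq_iff_eq] at this
  exact this

theorem inT_inF {v : Cd} (h : inF v.1 = true) : inT v.1 = true := by
  have key : allB (fun v => !inF v || inT v) 12 0 = true := by decide +kernel
  simpa [h] using forall_cd key v

theorem inT_w {v : Cd} (h : inT v.1 = true) (h' : inT (wC v).1 = true) : inF v.1 = true := by
  have key : allB (fun v => !(inT v && inT (wN v)) || inF v) 12 0 = true := by decide +kernel
  simpa [h, show inT (wN v.1) = true from h'] using forall_cd key v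

theorem inF_w {v : Cd} (h : inF v.1 = true) : inF (wC v).1 = true := by
  have key : allB (fun v => !inF v || inF (wN v)) 12 0 = true := by decide +kernel
  have := forall_cd key v
  simp only [h, Bool.not_true, Bool.false_or] at this
  exact this

theorem inF_cases {v : Cd} (h : inF v.1 = true) : v = 0 ∨ v = 85 ∨ v = 170 ∨ v = 255 := by
  simp only [inF, Bool.or_eq_true, beq_iff_eq] at h
  rcases h with ((h | h) | h) | h
  · exact Or.inl (Fin.ext h)
  · exact Or.inr (Or.inl (Fin.ext h))
  · exact Or.inr (Or.inr (Or.inl (Fin.ext h)))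
  · exact Or.inr (Or.inr (Or.inr (Fin.ext h)))

theorem exists_class {v : Cd} (h : inT v.1 = true) (h0 : inF v.1 = false) :
    ∃ i, inF (xo v (repT i)).1 = true := by
  have key : allB (fun v => !inT v || inF v ||
      (List.finRange 15).any (fun i => inF (v ^^^ (repT i).1))) 12 0 = true := by decide +kernel
  have := forall_cd key v
  simp only [h, h0, Bool.not_true, Bool.false_or, List.any_eq_true] at this
  obtain ⟨i, -, hi⟩ := this
  exact ⟨i, hi⟩

theorem repT_mem : ∀ i, inT (repT i).1 = true ∧ inF (repT i).1 = false := by decide +kernel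

theorem repT_inj : ∀ i j, inF (xo (repT i) (repT j)).1 = true → i = j := by decide +kernel

theorem starT_adj : ∀ k m n, m ≠ n → adjT (starT k m) (starT k n) = true := by decide +kernel

theorem starT_inj : ∀ k, Function.Injective (starT k) := by decide +kernel

theorem starT_unique : ∀ k l m n m' n', starT k m = starT l m' → starT k n = starT l n' → m ≠ n →
    k = l := by
  decide +kernel

theorem star_of_clique : ∀ a b c d e : Fin 15, adjT a b = true → adjT a c = true → adjT b c = true →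
    adjT a d = true → adjT b d = true → adjT c d = true → adjT a e = true → adjT b e = true →
    adjT c e = true → adjT d e = true →
    ∃ k, (∃ m, starT k m = a) ∧ (∃ m, starT k m = b) ∧ (∃ m, starT k m = c) ∧ (∃ m, starT k m = d) ∧
      ∃ m, starT k m = e := by
  have key : ((List.finRange 15).all fun a => (List.finRange 15).all fun b => !adjT a b ||
      (List.finRange 15).all fun c => !(adjT a c && adjT b c) ||
      (List.finRange 15).all fun d => !(adjT a d && adjT b d && adjT c d) ||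
      (List.finRange 15).all fun e => !(adjT a e && adjT b e && adjT c e && adjT d e) ||
      (List.finRange 6).any fun k => decide ((∃ m, starT k m = a) ∧ (∃ m, starT k m = b) ∧ (∃ m, starT k m = c) ∧
        (∃ m, starT k m = d) ∧ ∃ m, starT k m = e))
      = true := by decide +kernel
  intro a b c d e h1 h2 h3 h4 h5 h6 h7 h8 h9 h10
  simp only [List.all_eq_true, List.mem_finRange, forall_const, Bool.or_eq_true, Bool.not_eq_true',
    List.any_eq_true, decide_eq_true_eq, true_and] at key
  have k1 := (key a b).resolve_left (by simp [h1])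
  have k2 := (k1 c).resolve_left (by simp [h2, h3])
  have k3 := (k2 d).resolve_left (by simp [h4, h5, h6])
  exact (k3 e).resolve_left (by simp [h7, h8, h9, h10])

theorem bN_xo_left (a b c : Cd) : bN (xo a b).1 c.1 = (bN a.1 c.1 + bN b.1 c.1) % 2 := by
  have t : ∀ x y t : Fin 4, (b2 (x.1 ^^^ y.1) t.1 + b2 x.1 t.1 + b2 y.1 t.1) % 2 = 0 := by decide +kernel
  have u : ∀ i, (b2 (dig a.1 i ^^^ dig b.1 i) (dig c.1 i) + b2 (dig a.1 i) (dig c.1 i) +
      b2 (dig b.1 i) (dig c.1 i)) % 2 = 0 := fun i =>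
    t ⟨_, dig_lt a.1 i⟩ ⟨_, dig_lt b.1 i⟩ ⟨_, dig_lt c.1 i⟩
  have u0 := u 0; have u1 := u 1; have u2 := u 2; have u3 := u 3; have u4 := u 4; have u5 := u 5
  rw [bN_dig (xo a b) c, bN_dig a c, bN_dig b c]
  simp only [xo_val, dig_xor]
  omega

/-- A code orthogonal to the classes is a multiple of `85`. -/
theorem inF_of_perp {v : Cd} (h : ∀ x : Cd, inP x.1 = true → bN v.1 x.1 = 0) : inF v.1 = true := by
  have key : allB (fun v => !([5, 10, 17, 34, 65, 130, 256, 512, 1024, 2048].all (fun x => bN v x == 0)) ||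
      inF v) 12 0 = true := by decide +kernel
  have hb : ([5, 10, 17, 34, 65, 130, 256, 512, 1024, 2048].all (fun x => bN v.1 x == 0)) = true := by
    rw [List.all_eq_true]
    intro x hx
    have hx' : ∀ x ∈ [5, 10, 17, 34, 65, 130, 256, 512, 1024, 2048], x < 4096 ∧ inP x = true := by
      decide +kernel
    simpa using h ⟨x, (hx' x hx).1⟩ (hx' x hx).2
  simpa [hb] using forall_cd key v

/-- A symmetry keeping `inO 0`, fixing the common orthogonal space of `85` and `170`, is trivial. -/
theorem eq_id_of_fix_perp {p : Cd → Cd} (hs : IsSym p) (hl : IsLinC p)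
    (hO : ∀ v : Cd, inO 0 (p v).1 = inO 0 v.1) (hfix : ∀ x : Cd, inP x.1 = true → p x = x) (v : Cd) :
    p v = v := by
  set δ : Cd := xo (p 1) 1 with hδ
  have hp1 : p 1 = xo 1 δ := by rw [hδ, xo_comm (p 1) 1, ← xo_assoc, xo_self, xo_comm, xo_zero]
  have hF : inF δ.1 = true := inF_of_perp fun x hx => by
    have e := hs.bN_eq 1 x
    rw [hfix x hx, hp1] at e
    rw [bN_xo_left] at e
    have := bN_lt (1 : Cd).1 x.1; have := bN_lt δ.1 x.1
    omega
  have hone : p 1 = 1 := by
    have hq := hs.q 1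
    rw [hp1] at hq ⊢
    rcases inF_cases hF with e | e | e | e <;> rw [e] at hq ⊢
    · rfl
    · have h10 := hfix 10 (by decide +kernel)
      have hx := hO (xo 1 10)
      rw [hs.add, hp1, e, h10] at hx
      exact absurd hx (by decide +kernel)
    · exact absurd hq (by decide +kernel)
    · exact absurd hq (by decide +kernel)
  have h2 : p 2 = 2 := by
    have e : wC 1 = 2 := by decide +kernel
    rw [← e, hl, hone]
  have h3 : p 3 = 3 := by
    have e : xo 1 2 = (3 : Cd) := by decide +kernel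
    rw [← e, hs.add, hone, h2]
  have key : allB (fun v => inP v || inP (v ^^^ 1) || inP (v ^^^ 2) || inP (v ^^^ 3)) 12 0 = true := by
    decide +kernel
  have h := forall_cd key v
  simp only [Bool.or_eq_true] at h
  have hk : ∀ k : Cd, p k = k → inP (xo v k).1 = true → p v = v := by
    intro k hpk hk
    have e := hfix _ hk
    rw [hs.add, hpk] at e
    have := congrArg (fun t => xo t k) e
    rwa [xo_assoc, xo_self, xo_zero, xo_assoc, xo_self, xo_zero] at this
  rcases h with ((h | h) | h) | h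
  exacts [hfix v h, hk 1 hone h, hk 2 h2 h, hk 3 h3 h]

/-- Count of a predicate on an aligned block. -/
def cntB (f : ℕ → Bool) : ℕ → ℕ → ℕ
  | 0, b => if f b then 1 else 0
  | k + 1, b => cntB f k (2 * b) + cntB f k (2 * b + 1)

theorem cntB_spec (f : ℕ → Bool) : ∀ (k b : ℕ),
    cntB f k b = ((Finset.Ico (b * 2 ^ k) ((b + 1) * 2 ^ k)).filter (fun v => f v = true)).card := by
  intro k
  induction k with
  | zero =>
    intro b
    simp only [cntB, pow_zero, mul_one, Nat.Ico_succ_singleton, Finset.filter_singleton]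
    split_ifs <;> simp
  | succ k ih =>
    intro b
    rw [cntB, ih, ih, ← Finset.card_union_of_disjoint]
    · congr 1
      rw [← Finset.filter_union, Finset.Ico_union_Ico_eq_Ico (Nat.mul_le_mul_right _ (by omega))
        (Nat.mul_le_mul_right _ (by omega))]
      congr 2 <;> ring
    · refine Finset.disjoint_filter_filter ?_
      exact Finset.Ico_disjoint_Ico_consecutive _ _ _

theorem card_code (f : ℕ → Bool) : Nat.card {v : Cd // f v.1 = true} = cntB f 12 0 := by
  rw [cntB_spec, Nat.card_eq_fintype_card, Fintype.card_subtype]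
  refine Finset.card_bij (fun v _ => v.1) ?_ (fun a _ b _ e => Fin.ext e) ?_
  · intro v hv
    rw [Finset.mem_filter, Finset.mem_Ico]
    exact ⟨⟨by simp, by norm_num⟩, (Finset.mem_filter.1 hv).2⟩
  · intro n hn
    rw [Finset.mem_filter, Finset.mem_Ico] at hn
    refine ⟨⟨n, by have := hn.1.2; norm_num at this; omega⟩, ?_, rfl⟩
    rw [Finset.mem_filter]
    exact ⟨Finset.mem_univ _, hn.2⟩

theorem card_orbit : Nat.card {v : Cd // (qN v.1 == 0 && !(v.1 == 0) && !inO 0 v.1) = true} = 1701 :=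
  (card_code (fun v => qN v == 0 && !(v == 0) && !inO 0 v)).trans (by decide +kernel)

theorem inP_w {v : Cd} (h : inP v.1 = true) : inP (wC v).1 = true := by
  have key : allB (fun v => !inP v || inP (wN v)) 12 0 = true := by decide +kernel
  have := forall_cd key v
  simp only [h, Bool.not_true, Bool.false_or] at this
  exact this

theorem exists_split {v : Cd} (h : inP v.1 = true) :
    ∃ t : Cd, inT t.1 = true ∧ inT (xo v (wC t)).1 = true := by
  have hl : ∀ a ∈ [0, 0, 0, 5, 0, 17, 0, 20, 1280, 3584, 1280, 2816], a < 4096 := by decide +kernel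
  have key : allB (fun v => !inP v || (inT (apL [0, 0, 0, 5, 0, 17, 0, 20, 1280, 3584, 1280, 2816] v) &&
      inT (v ^^^ wN (apL [0, 0, 0, 5, 0, 17, 0, 20, 1280, 3584, 1280, 2816] v)))) 12 0 = true := by
    decide +kernel
  have h' := forall_cd key v
  simp only [h, Bool.not_true, Bool.false_or, Bool.and_eq_true] at h'
  exact ⟨linC _ hl v, h'.1, h'.2⟩

/-- Three diagonal parts. -/
def dT : Fin 3 → Fin 6 → ZMod 3 := ![![0, 2, 0, 2, 0, 2], ![0, 2, 0, 2, 1, 1], ![0, 2, 0, 2, 2, 0]]

/-- The permutation of coordinates used. -/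
def sT : Equiv.Perm (Fin 6) :=
  ⟨![1, 2, 0, 3, 4, 5], ![2, 0, 1, 3, 4, 5], by intro i; revert i; decide, by intro i; revert i; decide⟩

/-- Four maps fixing `85`. -/
def gT : Fin 4 → Cd → Cd :=
  ![monoC 0 sT, fun v => monoC (dT 0) 1 (gM 5 (monoC (-dT 0) 1 v)),
    fun v => monoC (dT 1) 1 (gM 5 (monoC (-dT 1) 1 v)),
    fun v => monoC (dT 2) 1 (gM 5 (monoC (-dT 2) 1 v))]

theorem gT_mem (I : Img) (hg : I.Good) (i : Fin 4) : ∃ p ∈ I.M, ∀ v, p v = gT i v := by
  have conj : ∀ j : Fin 3, ∃ p ∈ I.M, ∀ v, p v = monoC (dT j) 1 (gM 5 (monoC (-dT j) 1 v)) := by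
    intro j
    have hs : ∀ j : Fin 3, ∑ i, dT j i = 0 ∧ ∑ i, (-dT j) i = 0 := by decide +kernel
    obtain ⟨a, ha, ha'⟩ := I.mono (dT j) 1 (hs j).1 (by simp)
    obtain ⟨b, hb, hb'⟩ := I.mono (-dT j) 1 (hs j).2 (by simp)
    exact ⟨a * gM 5 * b, mul_mem (mul_mem ha (hg.gM_mem 5)) hb, fun v => by
      rw [Equiv.Perm.mul_apply, Equiv.Perm.mul_apply, hb', ha']⟩
  fin_cases i
  · exact I.mono 0 sT (by decide +kernel) (by decide +kernel)
  exacts [conj 0, conj 1, conj 2]

theorem gT_fix : ∀ i, gT i 85 = 85 := by decide +kernel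

theorem gT_sum : inF (gT 0 5 : Cd).1 = false ∧
    (xo (xo (gT 0 5) (gT 1 5)) (xo (gT 2 5) (gT 3 5)) = 170 ∨
     xo (xo (gT 0 5) (gT 1 5)) (xo (gT 2 5) (gT 3 5)) = 255) := by
  decide +kernel

/-- The permutations of the stars. -/
def cT : Fin 4 → Equiv.Perm (Fin 6) :=
  ![⟨![1, 2, 0, 3, 4, 5], ![2, 0, 1, 3, 4, 5], by intro i; revert i; decide, by intro i; revert i; decide⟩,
    ⟨![4, 0, 2, 3, 1, 5], ![1, 4, 2, 3, 0, 5], by intro i; revert i; decide, by intro i; revert i; decide⟩,
    ⟨![5, 0, 2, 3, 4, 1], ![1, 5, 2, 3, 4, 0], by intro i; revert i; decide, by intro i; revert i; decide⟩,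
    ⟨![3, 0, 2, 1, 4, 5], ![1, 3, 2, 0, 4, 5], by intro i; revert i; decide, by intro i; revert i; decide⟩]

theorem gT_star : ∀ (i : Fin 4) (k : Fin 6) (m : Fin 5),
    ∃ n, inF (xo (gT i (repT (starT k m))) (repT (starT (cT i k) n))).1 = true := by
  decide +kernel

/-- Products of four of the permutations and their inverses giving all three-cycles. -/
def wordT : List (Fin 9 × Fin 9 × Fin 9 × Fin 9) :=
  [(0, 0, 0, 1), (0, 0, 0, 2), (0, 0, 0, 3), (0, 0, 0, 4), (0, 0, 0, 5), (0, 0, 0, 6), (0, 0, 0, 7),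
  (0, 0, 0, 8), (0, 0, 1, 2), (0, 0, 1, 3), (0, 0, 1, 4), (0, 0, 2, 1), (0, 0, 2, 7), (0, 0, 2,
  8), (0, 0, 3, 1), (0, 0, 3, 6), (0, 0, 3, 8), (0, 0, 4, 1), (0, 0, 4, 6), (0, 0, 4, 7), (0, 0,
  5, 6), (0, 0, 5, 7), (0, 0, 5, 8), (0, 0, 6, 3), (0, 0, 6, 4), (0, 0, 6, 5), (0, 0, 7, 2), (0,
  0, 7, 4), (0, 0, 7, 5), (0, 0, 8, 2), (0, 0, 8, 3), (0, 0, 8, 5), (1, 2, 7, 5), (1, 2, 8, 5),
  (1, 3, 6, 5), (1, 3, 8, 5), (1, 4, 6, 5), (1, 4, 7, 5), (2, 7, 4, 6), (2, 8, 3, 6)]

/-- The permutations, their inverses and the identity. -/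
def genT : Fin 9 → Equiv.Perm (Fin 6) :=
  ![1, cT 0, cT 1, cT 2, cT 3, (cT 0)⁻¹, (cT 1)⁻¹, (cT 2)⁻¹, (cT 3)⁻¹]

theorem closure_cT : alternatingGroup (Fin 6) ≤ Subgroup.closure (Set.range cT) := by
  set S := Subgroup.closure (Set.range cT)
  have hg : ∀ k, genT k ∈ S := fun k => by
    have m : ∀ i, cT i ∈ S := fun i => Subgroup.subset_closure ⟨i, rfl⟩
    fin_cases k
    exacts [one_mem S, m 0, m 1, m 2, m 3, inv_mem (m 0), inv_mem (m 1), inv_mem (m 2), inv_mem (m 3)]
  have key : ∀ a b c : Fin 6, a ≠ b → a ≠ c → b ≠ c → wordT.any (fun w => decide (∀ x,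
      Equiv.swap a b (Equiv.swap b c x) = genT w.1 (genT w.2.1 (genT w.2.2.1 (genT w.2.2.2 x))))) = true := by
    decide +kernel
  rw [← Equiv.Perm.closure_three_cycles_eq_alternating, Subgroup.closure_le]
  intro σ hσ
  obtain ⟨a, ha⟩ : σ.support.Nonempty := Finset.card_pos.1 (by rw [hσ.card_support]; norm_num)
  have hnd := hσ.nodup_iff_mem_support.2 ha
  simp only [List.nodup_cons, List.mem_cons, List.not_mem_nil, or_false, not_or] at hnd
  obtain ⟨w, -, hw⟩ := List.any_eq_true.1 (key a (σ a) (σ (σ a)) hnd.1.1 hnd.1.2 hnd.2.1)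
  have e : σ = genT w.1 * (genT w.2.1 * (genT w.2.2.1 * genT w.2.2.2)) := by
    rw [hσ.eq_swap_mul_swap_iff_mem_support.2 ha]
    exact Equiv.ext fun x => of_decide_eq_true hw x
  rw [e]
  exact mul_mem (hg _) (mul_mem (hg _) (mul_mem (hg _) (hg _)))

theorem exists_bN_ne : ∃ a b : Cd, inP a.1 = true ∧ inP b.1 = true ∧ bN a.1 b.1 = 1 :=
  ⟨5, 34, by decide +kernel⟩

end Cfsg.Agent.LargeFischer
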