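import Cfsg.Agent.Lib.LargeFischer.Interface
import Cfsg.Agent.Lib.LargeFischer.OrbitData

/-!
# Orbit certificates and counting
-/

set_option autoImplicit false

namespace Cfsg.Agent.LargeFischer

/-- The fixed-point subgroup of a code. -/
def fixP (v : Cd) : Subgroup (Equiv.Perm Cd) where
  carrier := {p | p v = v}
  one_mem' := rfl
  mul_mem' := fun {p q} (hp : p v = v) (hq : q v = v) => (congrArg p hq).trans hp
  inv_mem' := fun {p} (hp : p v = v) => Equiv.Perm.inv_eq_iff_eq.2 hp.symm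

theorem mem_fixP {v : Cd} {p : Equiv.Perm Cd} : p ∈ fixP v ↔ p v = v := Iff.rfl

/-- The orbit of a code. -/
def orb (S : Subgroup (Equiv.Perm Cd)) (v : Cd) : Set Cd := {w | ∃ p ∈ S, p v = w}

theorem card_eq_orb_mul (S : Subgroup (Equiv.Perm Cd)) (v : Cd) :
    Nat.card S = Nat.card (orb S v) * Nat.card ↥(S ⊓ fixP v) := by
  classical
  have e1 : (MulAction.stabilizer S v) = (S ⊓ fixP v).subgroupOf S := by
    ext p
    simp only [MulAction.mem_stabilizer_iff, Subgroup.mem_subgroupOf, Subgroup.mem_inf, mem_fixP]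
    exact ⟨fun h => ⟨p.2, h⟩, fun h => h.2⟩
  have e2 : MulAction.orbit S v = orb S v := by
    ext w
    constructor
    · rintro ⟨p, rfl⟩; exact ⟨p.1, p.2, rfl⟩
    · rintro ⟨p, hp, rfl⟩; exact ⟨⟨p, hp⟩, rfl⟩
  rw [← Subgroup.index_mul_card (MulAction.stabilizer S v), MulAction.index_stabilizer, e2, e1,
    ← Nat.card_coe_set_eq, Nat.card_congr (Subgroup.subgroupOfEquivOfLe inf_le_left).toEquiv]

/-- One step of a forest certificate. -/
def growN (f : ℕ → ℕ → ℕ) (ng : ℕ) : List ℕ → ℕ → ℕ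
  | [], m => m
  | n :: l, m =>
    if m.testBit (n / 4096 % 4096) && (n / 16777216 < ng : Bool) &&
        (f (n / 16777216) (n / 4096 % 4096) == n % 4096) then
      growN f ng l (m ||| 1 <<< (n % 4096))
    else 0

theorem growN_spec {f : ℕ → ℕ → ℕ} {ng : ℕ} {P : ℕ → Prop} (hf : ∀ g x, g < ng → P x → P (f g x)) :
    ∀ (l : List ℕ) (m : ℕ), (∀ v, m.testBit v = true → P v) → ∀ v, (growN f ng l m).testBit v = true → P v := by
  intro l
  induction l with
  | nil => intro m hm v hv; exact hm v hv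
  | cons n l ih =>
    intro m hm v hv
    rw [growN] at hv
    split at hv
    · rename_i hc
      simp only [Bool.and_eq_true, decide_eq_true_eq, beq_iff_eq] at hc
      refine ih _ (fun w hw => ?_) v hv
      rw [Nat.testBit_or, Bool.or_eq_true] at hw
      rcases hw with hw | hw
      · exact hm w hw
      · rw [Nat.one_shiftLeft, Nat.testBit_two_pow, decide_eq_true_eq] at hw
        rw [← hw, ← hc.2]
        exact hf _ _ hc.1.2 (hm _ hc.1.1)
    · simp at hv

/-- The bit set of a predicate on an aligned block. -/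
def maskB (p : ℕ → Bool) : ℕ → ℕ → ℕ
  | 0, b => if p b then 1 <<< b else 0
  | k + 1, b => maskB p k (2 * b) ||| maskB p k (2 * b + 1)

theorem maskB_spec {p : ℕ → Bool} : ∀ (k b v : ℕ), v / 2 ^ k = b → p v = true →
    (maskB p k b).testBit v = true := by
  intro k
  induction k with
  | zero =>
    intro b v hv hp
    rw [pow_zero, Nat.div_one] at hv
    subst hv
    simp [maskB, hp, Nat.one_shiftLeft]
  | succ k ih =>
    intro b v hv hp
    have e : v / 2 ^ k / 2 = b := by rw [Nat.div_div_eq_div_mul, ← pow_succ]; exact hv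
    rw [maskB, Nat.testBit_or, Bool.or_eq_true]
    rcases Nat.mod_two_eq_zero_or_one (v / 2 ^ k) with hm | hm
    · exact Or.inl (ih _ v (by omega) hp)
    · exact Or.inr (ih _ v (by omega) hp)

/-- A forest gives transitivity on the set of a predicate. -/
theorem orb_of_forest {S : Subgroup (Equiv.Perm Cd)} {ng : ℕ} {g : Fin ng → Equiv.Perm Cd}
    {f : ℕ → ℕ → ℕ} (hg : ∀ k, g k ∈ S) (hgf : ∀ (k : Fin ng) (v : Cd), (g k v).1 = f k.1 v.1)
    {p : ℕ → Bool} {r : Cd} {l : List ℕ} (h : growN f ng l (1 <<< r.1) = maskB p 12 0) {v : Cd}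
    (hv : p v.1 = true) : v ∈ orb S r := by
  have key := growN_spec (f := f) (ng := ng) (P := fun v => ∃ w : Cd, w.1 = v ∧ w ∈ orb S r) ?_ l (1 <<< r.1) ?_
    v.1 (h ▸ maskB_spec 12 0 v.1 (Nat.div_eq_of_lt v.2) hv)
  · obtain ⟨w, hw, hwm⟩ := key
    rwa [Fin.ext hw] at hwm
  · rintro k x hk ⟨w, rfl, q, hq, hqr⟩
    exact ⟨g ⟨k, hk⟩ w, hgf _ _, g ⟨k, hk⟩ * q, S.mul_mem (hg _) hq, by rw [Equiv.Perm.mul_apply, hqr]⟩
  · intro v hv
    rw [Nat.one_shiftLeft, Nat.testBit_two_pow, decide_eq_true_eq] at hv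
    exact ⟨r, hv, 1, S.one_mem, rfl⟩

/-- The action of `gM` on codes. -/
def fM (k v : ℕ) : ℕ := apL (tI 0) (apL (tI (k + 1)) v)

theorem gM_val (k : Fin 6) (v : Cd) : (gM k v).1 = fM k.1 v.1 := rfl

/-- Five monomial generators. -/
def gD (k : Fin 5) : Equiv.Perm Cd := tP 1 * tP ⟨k.1 + 2, by omega⟩

/-- The action of `gD` on codes. -/
def fD (k v : ℕ) : ℕ := apL (tI 1) (apL (tI (k + 2)) v)

theorem gD_val (k : Fin 5) (v : Cd) : (gD k v).1 = fD k.1 v.1 := rfl

/-- Isotropic codes outside the small orbit. -/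
def inU (v : ℕ) : Bool := (v != 0) && (qN v == 0) && !inO 0 v

theorem forO_ok : growN fM 6 forO (1 <<< 5) = maskB (inO 0) 12 0 := by decide +kernel

theorem forU_ok : growN fM 6 forU (1 <<< 85) = maskB inU 12 0 := by decide +kernel

theorem forA_ok : growN fM 6 forA (1 <<< 1) = maskB (fun v => qN v == 1) 12 0 := by decide +kernel

theorem forTwo_ok : growN fD 5 forTwo (1 <<< 5) = maskB (fun v => pcN (suppN v) == 2) 12 0 := by
  decide +kernel

theorem forFour_ok : growN fD 5 forFour (1 <<< 85) = maskB (fun v => pcN (suppN v) == 4) 12 0 := by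
  decide +kernel

theorem forSix_ok :
    growN fD 5 forSixA (1 <<< 1365) = maskB (fun v => suppN v == 1365 && logN v == 0) 12 0 ∧
    growN fD 5 forSixB (1 <<< 1366) = maskB (fun v => suppN v == 1365 && logN v == 1) 12 0 ∧
    growN fD 5 forSixC (1 <<< 1367) = maskB (fun v => suppN v == 1365 && logN v == 2) 12 0 := by
  decide +kernel

end Cfsg.Agent.LargeFischer
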