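import Cfsg.Agent.Lib.LargeFischer.LocalSetup
import Cfsg.Agent.Lib.LargeFischer.Orbit
import Cfsg.Agent.Lib.LargeExtraspecial.PairStructure
import Mathlib.GroupTheory.SpecificGroups.Alternating.Simple

/-!
# The intersection of the two cores of `z` and of a conjugate with code `85`

* `inter_of_trans`: its codes are exactly those with `inT`.
-/

set_option autoImplicit false

namespace Cfsg.Agent.LargeFischer.Loc

open Cfsg.Agent.LargeExtraspecial

/-- Four conditions of orthogonality cut out the codes with `inT`. -/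
theorem inT_of_orth {v : Cd} (hq : qN v.1 = 0) (hb : bN v.1 85 = 0)
    (h1 : bN v.1 (gS (gT 0 v)).1 = 0) (h2 : bN v.1 (gT 2 (gS v)).1 = 0)
    (h3 : bN v.1 (gT 2 (gS (gT 2 (gT 2 v)))).1 = 0) (h4 : bN v.1 (gT 1 (gS v)).1 = 0) :
    inT v.1 = true := by
  have key : allB (fun v => !(qN v == 0 && bN v 85 == 0 &&
      bN v (gS (gT 0 (Fin.ofNat 4096 v))).1 == 0 && bN v (gT 2 (gS (Fin.ofNat 4096 v))).1 == 0 &&
      bN v (gT 2 (gS (gT 2 (gT 2 (Fin.ofNat 4096 v))))).1 == 0 &&
      bN v (gT 1 (gS (Fin.ofNat 4096 v))).1 == 0) || inT v) 12 0 = true := by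
    decide +kernel
  have h := forall_cd key v
  have e : Fin.ofNat 4096 v.1 = v := Fin.ext (by simp)
  simp only [e, hq, hb, h1, h2, h3, h4, beq_self_eq_true, Bool.and_true, Bool.not_true,
    Bool.false_or] at h
  exact h

/-- The relation between a map fixing `85` and a permutation of the stars. -/
def StarRel (I : Img) (w : Equiv.Perm Cd × Equiv.Perm (Fin 6)) : Prop :=
  w.1 ∈ I.M ∧ w.1 85 = 85 ∧
    ∀ k m, ∃ n, inF (xo (w.1 (repT (starT k m))) (repT (starT (w.2 k) n))).1 = true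

theorem fix_inF {I : Img} {p : Equiv.Perm Cd} (hp : p ∈ I.M) (h : p 85 = 85) {v : Cd}
    (hv : inF v.1 = true) : p v = v := by
  have hl := I.lin p hp
  have h170 : (170 : Cd) = wC 85 ∧ (255 : Cd) = wC (wC 85) := by decide +kernel
  rcases inF_cases hv with rfl | rfl | rfl | rfl
  · exact (I.sym p (I.hMH hp)).add.zero
  · exact h
  · rw [h170.1, hl, h]
  · rw [h170.2, hl, hl, h]

theorem starRel_one (I : Img) : StarRel I 1 :=
  ⟨one_mem _, rfl, fun k m => ⟨m, by simp [xo_self, inF]⟩⟩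

theorem starRel_mul {I : Img} {a b : Equiv.Perm Cd × Equiv.Perm (Fin 6)} (ha : StarRel I a)
    (hb : StarRel I b) : StarRel I (a * b) := by
  refine ⟨mul_mem ha.1 hb.1, ?_, fun k m => ?_⟩
  · show a.1 (b.1 85) = 85
    rw [hb.2.1, ha.2.1]
  obtain ⟨n, hn⟩ := hb.2.2 k m
  obtain ⟨n', hn'⟩ := ha.2.2 (b.2 k) n
  refine ⟨n', ?_⟩
  show inF (xo (a.1 (b.1 (repT (starT k m)))) (repT (starT (a.2 (b.2 k)) n'))).1 = true
  set x := b.1 (repT (starT k m))
  set y := repT (starT (b.2 k) n)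
  have e : xo (a.1 x) (a.1 y) = xo x y := by
    rw [← (I.sym _ (I.hMH ha.1)).add x y, fix_inF ha.1 ha.2.1 hn]
  have h := isCodeGrp_inF.add _ _ (e ▸ hn : inF (xo (a.1 x) (a.1 y)).1 = true) hn'
  rwa [xo_assoc, ← xo_assoc (a.1 y), xo_self, xo_comm 0, xo_zero] at h

theorem starRel_unique {I : Img} {σ : Equiv.Perm (Fin 6)} (h : StarRel I (1, σ)) : σ = 1 := by
  refine Equiv.ext fun k => ?_
  have e : ∀ m, ∃ n, starT (σ k) n = starT k m := fun m => by
    obtain ⟨n, hn⟩ := h.2.2 k m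
    exact ⟨n, (repT_inj _ _ hn).symm⟩
  obtain ⟨a, ha⟩ := e 0
  obtain ⟨b, hb⟩ := e 1
  refine starT_unique _ _ a b 0 1 ha hb fun hab => ?_
  exact absurd (starT_inj k (ha.symm.trans (hab ▸ hb))) (by decide)

/-- A normal 2-subgroup of the stabiliser of `85` has order at most 32. -/
theorem card_normal_le (I : Img) (hg : I.Good) {N : Subgroup (Equiv.Perm Cd)}
    (hle : N ≤ I.H ⊓ fixP 85) (hn : ∀ p ∈ I.H ⊓ fixP 85, ∀ n ∈ N, p * n * p⁻¹ ∈ N)
    (h2 : IsPGroup 2 N) (hcard : Nat.card ↥(I.H ⊓ fixP 85) = 11520) : Nat.card N ≤ 32 := by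
  classical
  choose P hP hPv using gT_mem I hg
  set W := Subgroup.closure (Set.range fun i => (P i, cT i))
  have hW : ∀ w ∈ W, StarRel I w := by
    intro w hw
    rw [← Subgroup.mem_toSubmonoid, Subgroup.closure_toSubmonoid_of_finite] at hw
    induction hw using Submonoid.closure_induction with
    | mem x hx =>
      obtain ⟨i, rfl⟩ := hx
      refine ⟨hP i, by rw [hPv, gT_fix], fun k m => ?_⟩
      show ∃ n, inF (xo (P i (repT (starT k m))) (repT (starT (cT i k) n))).1 = true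
      rw [hPv]
      exact gT_star i k m
    | one => exact starRel_one I
    | mul a b _ _ ha hb => exact starRel_mul ha hb
  have hker : ∀ w ∈ W, w.1 = 1 → w = 1 := fun w hw e =>
    Prod.ext e (starRel_unique (I := I) (by rw [← e]; exact hW w hw))
  let f₁ : ↥W →* Equiv.Perm Cd := (MonoidHom.fst _ _).comp W.subtype
  let f₂ : ↥W →* Equiv.Perm (Fin 6) := (MonoidHom.snd _ _).comp W.subtype
  have inj1 : Function.Injective f₁ := (injective_iff_map_eq_one _).2 fun w e =>
    Subtype.ext (hker w w.2 e)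
  have hrange : f₂.range = alternatingGroup (Fin 6) := by
    refine le_antisymm ?_ (closure_cT.trans ?_)
    · rintro σ ⟨⟨w, hw⟩, rfl⟩
      have hle' : W ≤ (alternatingGroup (Fin 6)).comap (MonoidHom.snd (Equiv.Perm Cd) _) := by
        refine (Subgroup.closure_le _).2 ?_
        rintro x ⟨i, rfl⟩
        show cT i ∈ alternatingGroup (Fin 6)
        rw [Equiv.Perm.mem_alternatingGroup]
        revert i
        decide +kernel
      exact hle' hw
    · refine (Subgroup.closure_le _).2 ?_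
      rintro x ⟨i, rfl⟩
      exact ⟨⟨_, Subgroup.subset_closure ⟨i, rfl⟩⟩, rfl⟩
  have hS : f₁.range ≤ I.H ⊓ fixP 85 := by
    rintro p ⟨⟨w, hw⟩, rfl⟩
    exact ⟨I.hMH (hW w hw).1, (hW w hw).2.1⟩
  have h360 : Nat.card ↥f₂.range = 360 := by
    rw [hrange]
    have h := two_mul_nat_card_alternatingGroup (α := Fin 6)
    rw [Nat.card_perm, Nat.card_eq_fintype_card (α := Fin 6), Fintype.card_fin] at h
    have : Nat.factorial 6 = 720 := by decide
    omega
  have key : N.comap f₁ ≤ f₂.ker := by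
    have hp : IsPGroup 2 ↥(N.comap f₁) := h2.comap_of_injective f₁ inj1
    have hp' := hp.map f₂
    have hn' : (((N.comap f₁).map f₂).subgroupOf f₂.range).Normal := by
      constructor
      rintro ⟨a, ha⟩ hmem ⟨_, c, rfl⟩
      simp only [Subgroup.mem_subgroupOf, Subgroup.coe_mul, Subgroup.coe_inv] at hmem ⊢
      obtain ⟨y, hy, rfl⟩ := hmem
      refine ⟨c * y * c⁻¹, ?_, by simp⟩
      show f₁ (c * y * c⁻¹) ∈ N
      rw [map_mul, map_mul, map_inv]
      exact hn _ (hS ⟨c, rfl⟩) _ hy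
    have : IsSimpleGroup (alternatingGroup (Fin 6)) := alternatingGroup.isSimpleGroup (by simp)
    have hsimple : IsSimpleGroup ↥f₂.range := hrange ▸ this
    rcases hn'.eq_bot_or_eq_top with e | e
    · intro w hw
      rw [MonoidHom.mem_ker]
      have : (⟨f₂ w, w, rfl⟩ : ↥f₂.range) ∈ ((N.comap f₁).map f₂).subgroupOf f₂.range := ⟨w, hw, rfl⟩
      rw [e, Subgroup.mem_bot] at this
      exact congrArg Subtype.val this
    · exfalso
      obtain ⟨n, hn⟩ := (hp'.to_le (Subgroup.subgroupOf_eq_top.1 e)).exists_card_eq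
      rw [h360] at hn
      have h9 : 9 ∣ 2 ^ n := hn ▸ by norm_num
      exact absurd ((Nat.Coprime.pow_right n (by norm_num : Nat.Coprime 9 2)).eq_one_of_dvd h9) (by norm_num)
  have hidx : 360 ≤ (N.comap f₁).index := by
    have h := Nat.le_of_dvd (Nat.pos_of_ne_zero (Subgroup.index_ne_zero_of_finite (H := N.comap f₁)))
      (Subgroup.index_dvd_of_le key)
    rwa [Subgroup.index_ker, h360] at h
  rw [Subgroup.index_comap] at hidx
  have hne : N.relIndex (I.H ⊓ fixP 85) ≠ 0 := Subgroup.index_ne_zero_of_finite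
  have hrel := hidx.trans (Subgroup.relIndex_le_of_le_right hS hne)
  have hmul := (N.subgroupOf (I.H ⊓ fixP 85)).card_mul_index
  rw [Nat.card_congr (Subgroup.subgroupOfEquivOfLe hle).toEquiv, hcard] at hmul
  change Nat.card N * N.relIndex (I.H ⊓ fixP 85) = 11520 at hmul
  nlinarith

variable {G : Type*} [Group G] {z : G} {Q : Subgroup (Subgroup.centralizer ({z} : Set G))} [Q.Normal]
  [Finite G]

omit [Q.Normal] in
theorem hub_of_setting' (hs : Cfsg.IsExtraspecialCentralizerSetting z Q 6) : Hub (qG Q) z := by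
  obtain ⟨hz, hF, hex, -, -⟩ := hs
  refine (Hub.of_setting hz (Subgroup.map_subtype_le _) (by rw [hF]) ?_).1
  exact TI.isExtraspecial_congr (Q.equivMapOfInjective _ (Subgroup.subtype_injective _)) hex

omit [Q.Normal] [Finite G] in
theorem card_qG (hs : Cfsg.IsExtraspecialCentralizerSetting z Q 6) : Nat.card (qG Q) = 2 ^ 13 := by
  rw [qG, Subgroup.card_map_of_injective (Subgroup.subtype_injective _), hs.2.2.2.1]

variable (K : GoodCoord z Q)

omit [Finite G] in
theorem card_fix85 (htr : ∀ v : Cd, qN v.1 = 0 → v ≠ 0 → inO 0 v.1 = false → ∃ p ∈ K.I.M, p 85 = v) :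
    Nat.card ↥(K.I.H ⊓ fixP 85) = 11520 := by
  have horb : MulAction.orbit K.I.H (85 : Cd) =
      {v : Cd | (qN v.1 == 0 && !(v.1 == 0) && !inO 0 v.1) = true} := by
    ext v
    constructor
    · rintro ⟨⟨p, hp⟩, rfl⟩
      show (qN (p 85).1 == 0 && !((p 85).1 == 0) && !inO 0 (p 85).1) = true
      have h0 : p 85 ≠ 0 := fun e =>
        absurd (p.injective (e.trans (K.I.sym p hp).add.zero.symm)) (by decide)
      have h0' : (p 85).1 ≠ 0 := fun e => h0 (Fin.ext e)
      have e1 : qN (85 : Cd).1 = 0 := by decide +kernel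
      have e2 : inO 0 (85 : Cd).1 = false := by decide +kernel
      rw [(K.I.sym p hp).q, K.good.inv_O p hp, e1, e2]
      simp [h0']
    · intro hv
      simp only [Set.mem_ofPred_eq, Bool.and_eq_true, beq_iff_eq, Bool.not_eq_true',
        beq_eq_false_iff_ne] at hv
      obtain ⟨p, hp, hp'⟩ := htr v hv.1.1 (fun e => hv.1.2 (congrArg Fin.val e)) hv.2
      exact ⟨⟨p, K.I.hMH hp⟩, hp'⟩
  have hH : Nat.card ↥K.I.H = 19595520 := by
    have h := (K.I.M.subgroupOf K.I.H).card_mul_index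
    rw [Nat.card_congr (Subgroup.subgroupOfEquivOfLe K.I.hMH).toEquiv, ← Subgroup.relIndex,
      K.I.index_two, K.I.card_M] at h
    omega
  have h1 : Nat.card (MulAction.orbit K.I.H (85 : Cd)) * Nat.card (MulAction.stabilizer K.I.H (85 : Cd)) =
      19595520 := by
    rw [← hH, ← Subgroup.card_mul_index (MulAction.stabilizer K.I.H (85 : Cd)),
      MulAction.index_stabilizer, mul_comm, Nat.card_coe_set_eq]
  rw [horb] at h1
  have h2 : Nat.card {v : Cd | (qN v.1 == 0 && !(v.1 == 0) && !inO 0 v.1) = true} = 1701 := card_orbit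
  rw [h2] at h1
  have h3 : Nat.card (MulAction.stabilizer K.I.H (85 : Cd)) = Nat.card ↥(K.I.H ⊓ fixP 85) :=
    Nat.card_congr ⟨fun p => ⟨p.1.1, p.1.2, p.2⟩, fun p => ⟨⟨p.1, p.2.1⟩, p.2.2⟩, fun _ => rfl,
      fun _ => rfl⟩
  omega

/-- The codes of the elements common to the cores of `z` and of a conjugate with code `85`. -/
theorem inter_of_trans (hs : Cfsg.IsExtraspecialCentralizerSetting z Q 6)
    (htr : ∀ v : Cd, qN v.1 = 0 → v ≠ 0 → inO 0 v.1 = false → ∃ p ∈ K.I.M, p 85 = v)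
    (g : G) (q : ↥Q) (hqg : ((q : Subgroup.centralizer ({z} : Set G)) : G) = g * z * g⁻¹)
    (hq85 : K.co q = 85) : ∀ v : Cd, inT v.1 = true ↔
      ∃ a : ↥Q, ((a : Subgroup.centralizer ({z} : Set G)) : G) ∈ (qG Q).map (MulAut.conj g).toMonoidHom ∧
        K.co a = v := by
  classical
  have hQ := hub_of_setting' hs
  set s := g * z * g⁻¹ with hsd
  set Q' := (qG Q).map (MulAut.conj g).toMonoidHom with hQ'd
  have sQ : s ∈ qG Q := hqg ▸ coe_mem_qG q
  have s85 : cq K s = 85 := by rw [← hqg, cq_coe, hq85]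
  have ne85 : (85 : Cd) ≠ 0 := by decide
  have szero : ∀ t ∈ qG Q, cq K t = 85 → t ≠ z := fun t ht e e' => ne85 (by
    rw [← e, (cq_zero_iff K ht).2 (Or.inr e')])
  have sne : s ≠ z := szero s sQ s85
  have hP : ∃ p₁ ∈ qG Q, ∃ p₂ ∈ qG Q, Commute p₁ s ∧ Commute p₂ s ∧ ¬ Commute p₁ p₂ := by
    obtain ⟨a, ha, ea⟩ := exists_code K 5
    obtain ⟨b, hb, eb⟩ := exists_code K 34
    have d : qN (5 : Cd).1 = 0 ∧ qN (34 : Cd).1 = 0 ∧ qN (85 : Cd).1 = 0 ∧ qN (xo (5 : Cd) 85).1 = 0 ∧
        qN (xo (34 : Cd) 85).1 = 0 ∧ qN (xo (5 : Cd) 34).1 ≠ 0 := by decide +kernel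
    have a2 : a * a = 1 := (cq_sq K ha).2 (ea ▸ d.1)
    have b2 : b * b = 1 := (cq_sq K hb).2 (eb ▸ d.2.1)
    have s2 : s * s = 1 := (cq_sq K sQ).2 (s85 ▸ d.2.2.1)
    have comm : ∀ x y : G, x * x = 1 → y * y = 1 → x * y * (x * y) = 1 → Commute x y := by
      intro x y hx hy hxy
      have ex : x⁻¹ = x := inv_eq_of_mul_eq_one_left hx
      have ey : y⁻¹ = y := inv_eq_of_mul_eq_one_left hy
      show x * y = y * x
      calc x * y = (x * y)⁻¹ := eq_inv_of_mul_eq_one_left hxy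
        _ = y * x := by rw [mul_inv_rev, ex, ey]
    refine ⟨a, ha, b, hb, comm a s a2 s2 ((cq_sq K (mul_mem ha sQ)).2 ?_),
      comm b s b2 s2 ((cq_sq K (mul_mem hb sQ)).2 ?_), fun hab => d.2.2.2.2.2 ?_⟩
    · rw [cq_mul K ha sQ, ea, s85]; exact d.2.2.2.1
    · rw [cq_mul K hb sQ, eb, s85]; exact d.2.2.2.2.1
    · rw [← ea, ← eb, ← cq_mul K ha hb]
      refine (cq_sq K (mul_mem ha hb)).1 ?_
      rw [← mul_assoc, mul_assoc a b a, ← hab.eq, ← mul_assoc, a2, one_mul, b2]
  have p : Pair (qG Q) Q' z s := Pair.of_conj hQ g sQ sne hP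
  -- the action of `C(z) ∩ C(s)`
  let E := qG Q ⊓ Q'
  have movE : ∀ c : G, Commute c z → Commute c s → ∀ e ∈ E, c * e * c⁻¹ ∈ E := fun c hcz hcs e he =>
    ⟨qG_normal hcz he.1, p.h'.normalizes c hcs e he.2⟩
  have lift : ∀ π ∈ K.I.H ⊓ fixP 85, ∃ c, Commute c z ∧ Commute c s ∧ av K c = π := by
    rintro π ⟨hπ, h85⟩
    obtain ⟨c, hc, rfl⟩ := exists_av K hπ
    have ht := qG_normal hc sQ
    have e85 : cq K (c * s * c⁻¹) = 85 := by rw [cq_conj K hc sQ, s85]; exact h85
    have hd : c * s * c⁻¹ * s⁻¹ ∈ qG Q := mul_mem ht (inv_mem sQ)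
    have h0 : cq K (c * s * c⁻¹ * s⁻¹) = 0 := by
      have h := cq_mul K hd sQ
      rw [inv_mul_cancel_right, e85, s85] at h
      have h' := congrArg (fun t => xo t (85 : Cd)) h
      simpa only [xo_assoc, xo_self, xo_zero] using h'.symm
    rcases (cq_zero_iff K hd).1 h0 with e | e
    · exact ⟨c, hc, mul_inv_eq_iff_eq_mul.1 (mul_inv_eq_one.1 e : c * s * c⁻¹ = s), rfl⟩
    · obtain ⟨r, hr, hrs⟩ := exists_flip hQ sQ (fun e => ne85 (by rw [← s85, e, cq_one K])) sne
      refine ⟨r * c, (hQ.central r hr).mul_left hc, mul_inv_eq_iff_eq_mul.1 ?_, ?_⟩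
      · calc r * c * s * (r * c)⁻¹ = r * (c * s * c⁻¹ * s⁻¹) * r⁻¹ * (r * s * r⁻¹) := by group
          _ = z * (s * z) := by rw [e, hrs, (hQ.central r hr).eq, mul_inv_cancel_right]
          _ = s := by
            rw [(hQ.central s sQ).eq, ← mul_assoc, hQ.sq, one_mul]
      · rw [av_mul K (hQ.central r hr) hc, (av_eq_one K (hQ.central r hr)).2 hr, one_mul]
  -- its normal 2-subgroup from `Q'`
  let C' := Q'.subgroupOf (Subgroup.centralizer ({z} : Set G))
  let f : ↥C' →* Equiv.Perm Cd := K.act.comp C'.subtype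
  have favv : ∀ d : ↥C', f d = av K ((d : Subgroup.centralizer ({z} : Set G)) : G) := fun d => by
    rw [av_eq K (Subgroup.mem_centralizer_singleton_iff.1 (d : Subgroup.centralizer ({z} : Set G)).2)]
    rfl
  have hN2 : IsPGroup 2 ↥f.range := by
    have h' : IsPGroup 2 ↥Q' := IsPGroup.of_card (n := 13) (by
      rw [hQ'd, Subgroup.card_map_of_injective (MulAut.conj g).injective, card_qG hs])
    have := (h'.comap_of_injective (Subgroup.centralizer ({z} : Set G)).subtype
      (Subgroup.subtype_injective _) : IsPGroup 2 ↥C').map K.act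
    rwa [show f.range = C'.map K.act by
      rw [MonoidHom.range_comp, Subgroup.range_subtype]]
  have hNle : f.range ≤ K.I.H ⊓ fixP 85 := by
    rintro π ⟨d, rfl⟩
    have hdz := Subgroup.mem_centralizer_singleton_iff.1 (d : Subgroup.centralizer ({z} : Set G)).2
    rw [favv]
    refine ⟨av_mem K hdz, ?_⟩
    show av K _ 85 = 85
    have hsc : ((d : Subgroup.centralizer ({z} : Set G)) : G) * s =
        s * ((d : Subgroup.centralizer ({z} : Set G)) : G) := (p.h'.central _ d.2).eq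
    rw [← s85, ← cq_conj K hdz sQ, hsc, mul_inv_cancel_right]
  have hNn : ∀ π ∈ K.I.H ⊓ fixP 85, ∀ n ∈ f.range, π * n * π⁻¹ ∈ f.range := by
    intro π hπ n hn
    obtain ⟨d, rfl⟩ := hn
    obtain ⟨c, hcz, hcs, rfl⟩ := lift π hπ
    rw [av_eq K hcz]
    refine ⟨⟨⟨c, memC hcz⟩ * d * ⟨c, memC hcz⟩⁻¹, ?_⟩, ?_⟩
    · show c * _ * c⁻¹ ∈ Q'
      exact p.h'.normalizes c hcs _ d.2
    · show K.act (_ * _ * _) = _
      rw [map_mul, map_mul, map_inv]
      rfl
  have hsmall := card_normal_le K.I K.good hNle hNn hN2 (card_fix85 K htr)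
  have hC' : 2 ^ 12 ≤ Nat.card ↥C' := by
    have hz' : z ∈ Q' := p.hz
    obtain ⟨r, hr, hrz⟩ := p.h'.exists_not_commute hQ.ne_one sne.symm
    have hcover : ∀ x : ↥Q', x.1 ∈ Subgroup.centralizer ({z} : Set G) ∨
        (r⁻¹ * x.1) ∈ Subgroup.centralizer ({z} : Set G) := by
      intro x
      rcases p.h'.comm x.1 x.2 z hz' with e | e
      · exact Or.inl (memC (mul_inv_eq_iff_eq_mul.1 e))
      · refine Or.inr (memC (mul_inv_eq_iff_eq_mul.1 ?_))
        have er := (p.h'.comm r hr z hz').resolve_left fun e => hrz (mul_inv_eq_iff_eq_mul.1 e).symm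
        calc r⁻¹ * x.1 * z * (r⁻¹ * x.1)⁻¹ = r⁻¹ * (x.1 * z * x.1⁻¹) * r := by group
          _ = r⁻¹ * (r * z * r⁻¹) * r := by rw [e, er]
          _ = z := by group
    let φ : ↥C' × Bool → ↥Q' := fun t => if t.2 then ⟨r * (t.1 : Subgroup.centralizer ({z} : Set G)), mul_mem hr t.1.2⟩
      else ⟨(t.1 : Subgroup.centralizer ({z} : Set G)), t.1.2⟩
    have hsur : Function.Surjective φ := by
      intro x
      rcases hcover x with h | h
      · exact ⟨(⟨⟨x, h⟩, x.2⟩, false), rfl⟩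
      · refine ⟨(⟨⟨_, h⟩, mul_mem (inv_mem hr) x.2⟩, true), Subtype.ext ?_⟩
        simp [φ]
    have h := Nat.card_le_card_of_surjective φ hsur
    rw [Nat.card_prod, Nat.card_eq_fintype_card (α := Bool), Fintype.card_bool, hQ'd,
      Subgroup.card_map_of_injective (MulAut.conj g).injective, card_qG hs] at h
    omega
  have hEcard : 128 ≤ Nat.card ↥E := by
    have hker : Nat.card ↥f.ker ≤ Nat.card ↥E := by
      refine Nat.card_le_card_of_injective (fun d => ⟨((d : ↥C') : Subgroup.centralizer ({z} : Set G)),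
        ?_, d.1.2⟩) fun a b h => ?_
      · exact (av_eq_one K (Subgroup.mem_centralizer_singleton_iff.1
          ((d : ↥C') : Subgroup.centralizer ({z} : Set G)).2)).1 (by rw [← favv]; exact d.2)
      · have h' : (((a : ↥C') : Subgroup.centralizer ({z} : Set G)) : G) =
            (((b : ↥C') : Subgroup.centralizer ({z} : Set G)) : G) :=
          congrArg (fun t : ↥E => (t : G)) h
        exact Subtype.ext (Subtype.ext (Subtype.ext h'))
    have h := card_ker_mul_range f
    nlinarith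
  -- codes of `E`
  have orth : ∀ e ∈ E, ∀ e' ∈ E, bN (cq K e).1 (cq K e').1 = 0 := by
    intro e he e' he'
    have h0 : ∀ x ∈ E, qN (cq K x).1 = 0 := fun x hx => (cq_sq K hx.1).1 (p.E_sq hx)
    have e3 := h0 _ (mul_mem he he')
    rw [cq_mul K he.1 he'.1, xo_val] at e3
    rw [bN, e3, h0 e he, h0 e' he']
  have inv : ∀ e ∈ E, ∀ π ∈ K.I.H ⊓ fixP 85, bN (cq K e).1 (π (cq K e)).1 = 0 := by
    intro e he π hπ
    obtain ⟨c, hcz, hcs, rfl⟩ := lift π hπ
    rw [← cq_conj K hcz he.1]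
    exact orth e he _ (movE c hcz hcs e he)
  have sE : s ∈ E := ⟨sQ, p.h'.mem⟩
  have hT : ∀ e ∈ E, inT (cq K e).1 = true := by
    intro e he
    choose P hP hPv using gT_mem K.I K.good
    have mS : gS ∈ K.I.H ⊓ fixP 85 := ⟨K.good.gS_mem, by
      show gS 85 = 85
      decide +kernel⟩
    have mP : ∀ i, P i ∈ K.I.H ⊓ fixP 85 := fun i => ⟨K.I.hMH (hP i), (hPv i 85).trans (gT_fix i)⟩
    have hb := orth e he s sE
    rw [s85] at hb
    refine inT_of_orth ((cq_sq K he.1).1 (p.E_sq he)) hb ?_ ?_ ?_ ?_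
    · have := inv e he _ (mul_mem mS (mP 0))
      rwa [Equiv.Perm.mul_apply, hPv] at this
    · have := inv e he _ (mul_mem (mP 2) mS)
      rwa [Equiv.Perm.mul_apply, hPv] at this
    · have := inv e he _ (mul_mem (mul_mem (mul_mem (mP 2) mS) (mP 2)) (mP 2))
      rwa [Equiv.Perm.mul_apply, Equiv.Perm.mul_apply, Equiv.Perm.mul_apply, hPv, hPv, hPv] at this
    · have := inv e he _ (mul_mem (mP 1) mS)
      rwa [Equiv.Perm.mul_apply, hPv] at this
  intro v
  constructor
  · intro hv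
    choose r hr hr' using exists_code K
    let φ : ↥E → {v : Cd // inT v.1 = true} × Bool := fun e =>
      (⟨cq K e.1, hT e.1 e.2⟩, decide (e.1 = r (cq K e.1)))
    have inj : Function.Injective φ := by
      rintro ⟨a, ha⟩ ⟨b, hb⟩ h
      have hc : cq K a = cq K b := congrArg (fun t => t.1.1) h
      have hd : decide (a = r (cq K a)) = decide (b = r (cq K b)) := congrArg Prod.snd h
      have rel : ∀ x ∈ qG Q, ∀ w, cq K x = w → x = r w ∨ x = r w * z := by
        intro x hx w hw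
        have hd : x * (r w)⁻¹ ∈ qG Q := mul_mem hx (inv_mem (hr w))
        have h' := cq_mul K hd (hr w)
        rw [inv_mul_cancel_right, hw, hr'] at h'
        have h0 : cq K (x * (r w)⁻¹) = 0 := by
          have := congrArg (fun t => xo t w) h'
          simpa only [xo_assoc, xo_self, xo_zero] using this.symm
        rcases (cq_zero_iff K hd).1 h0 with e | e
        · exact Or.inl (mul_inv_eq_one.1 e)
        · exact Or.inr (by rw [mul_inv_eq_iff_eq_mul.1 e, (hQ.central _ (hr w)).eq])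
      rw [← hc] at hd
      refine Subtype.ext ?_
      rcases rel a ha.1 _ rfl with ea | ea <;> rcases rel b hb.1 _ hc.symm with eb | eb
      · exact ea.trans eb.symm
      · have := (decide_eq_decide.1 hd).1 ea
        exact absurd (mul_eq_left.1 (eb.symm.trans this)) hQ.ne_one
      · have := (decide_eq_decide.1 hd).2 eb
        exact absurd (mul_eq_left.1 (ea.symm.trans this)) hQ.ne_one
      · exact ea.trans eb.symm
    have hc : Nat.card ({v : Cd // inT v.1 = true} × Bool) = 128 := by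
      rw [Nat.card_prod, card_code, Nat.card_eq_fintype_card (α := Bool), Fintype.card_bool]
      decide +kernel
    have bij := (Nat.bijective_iff_injective_and_card φ).2
      ⟨inj, le_antisymm (Nat.card_le_card_of_injective φ inj) (hc ▸ hEcard)⟩
    obtain ⟨⟨e, he⟩, heq⟩ := bij.2 (⟨v, hv⟩, true)
    obtain ⟨a, ha⟩ := mem_qG he.1
    refine ⟨a, ha ▸ he.2, ?_⟩
    rw [← cq_coe K a, ha]
    exact congrArg (fun t => t.1.1) heq
  · rintro ⟨a, ha, rfl⟩
    rw [← cq_coe K a]
    exact hT _ ⟨coe_mem_qG a, ha⟩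

end Cfsg.Agent.LargeFischer.Loc
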