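import Cfsg.Agent.Lib.LargeFischer.Conjugate
import Cfsg.Agent.Lib.LargeFischer.LocalInter

/-!
# The facts used for the local subgroup

* `lfacts_of_type`: `LFacts` for every good system of coordinates.
-/

set_option autoImplicit false

namespace Cfsg.Agent.LargeFischer

variable {G : Type*} [Group G] [Finite G] {z : G} {Q : Subgroup (Subgroup.centralizer ({z} : Set G))}
  [Q.Normal]

/-- The facts for the local subgroup. -/
theorem lfacts_of_type (hF : Cfsg.IsOfLargeFischerTypeAt z Q) (K : GoodCoord z Q) : LFacts K := by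
  have hM := K.good.gM_mem
  have htr : ∀ v : Cd, qN v.1 = 0 → v ≠ 0 → inO 0 v.1 = false → ∃ p ∈ K.I.M, p 85 = v :=
    fun v h1 h2 h3 => K.toCoord.transU hM v h1 h2 h3
  obtain ⟨g, ⟨hq, hgQ⟩, hne⟩ := hF.1.2.2.2.2
  exact ⟨hF.1, fun q h1 h2 => K.toCoord.isConj_iff_code (qFacts_of_type hF) hM ⟨g, ⟨_, hgQ, rfl⟩, hne⟩ q h1 h2,
    htr, Loc.inter_of_trans K hF.1 htr⟩

end Cfsg.Agent.LargeFischer
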