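import Cfsg.Agent.Lib.LargeFischer.LocalSetup
import Cfsg.Agent.Lib.LargeExtraspecial.PairStructure

/-!
# An elementary group `V` of order eight all of whose involutions are conjugate to `z`

`Frame`: an element `x` of order three acting as the scalar, and `s` with code `85`;
`V = ⟨z, s, s^x⟩`; the normaliser of `V` is transitive on pairs of involutions of `V`;
`R` is generated by the intersections of the cores of two involutions of `V`.
-/

set_option autoImplicit false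

namespace Cfsg.Agent.LargeFischer.Loc

open Cfsg.Agent.LargeExtraspecial

variable {G : Type*} [Group G] {z : G} {Q : Subgroup (Subgroup.centralizer ({z} : Set G))} [Q.Normal]

/-- A scalar of order three and a conjugate of `z` in `Q` with code `85`. -/
structure Frame (K : GoodCoord z Q) where
  x : G
  s : G
  x_comm : Commute x z
  x_three : x * x * x = 1
  x_act : ∀ v, av K x v = wC v
  s_mem : s ∈ qG Q
  s_code : cq K s = 85
  s_conj : IsConj z s
  prod : s * (x * s * x⁻¹) * (x * (x * s * x⁻¹) * x⁻¹) = 1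

theorem zmod_three_cases : ∀ k : ZMod 3, k = 0 ∨ k = 1 ∨ k = 2 := by decide

variable (K : GoodCoord z Q) [Finite G] (F : LFacts K)

include F

omit [Finite G] F in
theorem exists_three_scalar_aux {y : Equiv.Perm Cd} (hy : y ∈ K.I.M) (hc : ∀ p ∈ K.I.M, p * y = y * p) :
    ∃ k : ZMod 3, ∀ i, y (unitC 0 i) = unitC k i := by
  have hs := K.I.sym y (K.I.hMH hy)
  have hl := K.I.lin y hy
  have comm : ∀ (d : Fin 6 → ZMod 3) (σ : Equiv.Perm (Fin 6)), ∑ i, d i = 0 → Equiv.Perm.sign σ = 1 →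
      ∀ v, monoC d σ (y v) = y (monoC d σ v) := by
    intro d σ hd hσ v
    obtain ⟨p, hp, hp'⟩ := K.I.mono d σ hd hσ
    rw [← hp', ← hp', ← Equiv.Perm.mul_apply, hc p hp, Equiv.Perm.mul_apply]
  let D : Fin 6 → Fin 6 → ZMod 3 :=
    ![![0, 1, 1, 1, 1, 2], ![1, 0, 1, 1, 1, 2], ![1, 1, 0, 1, 1, 2], ![1, 1, 1, 0, 1, 2],
      ![1, 1, 1, 1, 0, 2], ![1, 1, 1, 1, 2, 0]]
  have hD : ∀ i, ∑ j, D i j = 0 ∧ monoC (D i) 1 (unitC 0 i) = unitC 0 i := by decide +kernel
  have key : ∀ i : Fin 6, allB (fun v => !(apL (monoImg (D i) 1) v == v) || (v == 0) ||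
      (v == unitN 0 i) || (v == unitN 1 i) || (v == unitN 2 i)) 12 0 = true := by decide +kernel
  have hy0 : ∀ i, ∃ k, y (unitC 0 i) = unitC k i := by
    intro i
    have e : monoC (D i) 1 (y (unitC 0 i)) = y (unitC 0 i) := by
      rw [comm _ _ (hD i).1 (by simp), (hD i).2]
    have e' : apL (monoImg (D i) 1) (y (unitC 0 i)).1 = (y (unitC 0 i)).1 := congrArg Fin.val e
    have h := forall_cd (key i) (y (unitC 0 i))
    simp only [Bool.or_eq_true, Bool.not_eq_true', beq_eq_false_iff_ne, beq_iff_eq] at h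
    rcases h with (((h | h) | h) | h) | h
    · exact absurd e' h
    · exfalso
      have h0 : unitC 0 i = 0 := y.injective ((Fin.ext h : y (unitC 0 i) = 0).trans hs.add.zero.symm)
      exact (by decide +kernel : ∀ i : Fin 6, unitC 0 i ≠ 0) i h0
    exacts [⟨0, Fin.ext h⟩, ⟨1, Fin.ext h⟩, ⟨2, Fin.ext h⟩]
  choose c hc' using hy0
  refine ⟨c 0, fun i => ?_⟩
  obtain ⟨σ, hσ, hi⟩ : ∃ σ : Equiv.Perm (Fin 6), Equiv.Perm.sign σ = 1 ∧ σ 0 = i :=
    (by decide +kernel : ∀ i : Fin 6, ∃ σ : Equiv.Perm (Fin 6), Equiv.Perm.sign σ = 1 ∧ σ 0 = i) i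
  have e := comm 0 σ (by simp) hσ (unitC 0 0)
  rw [hc', monoC_unit, monoC_unit, hi] at e
  simp only [Pi.zero_apply, zero_add] at e
  exact e.symm

theorem eq_one_of_three {x : Subgroup.centralizer ({z} : Set G)} (hxQ : x ∈ Q) (hx3 : x * x * x = 1) :
    x = 1 := by
  obtain ⟨j, hj⟩ := (F.setting.2.2.1.1.1 : IsPGroup 2 ↥Q) ⟨x, hxQ⟩
  have d1 : orderOf x ∣ 2 ^ j := orderOf_dvd_of_pow_eq_one (congrArg Subtype.val hj)
  have d2 : orderOf x ∣ 3 := orderOf_dvd_of_pow_eq_one (by rw [pow_three', hx3])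
  exact orderOf_eq_one_iff.1
    (Nat.eq_one_of_dvd_coprimes (Nat.Coprime.pow_left j (by norm_num : Nat.Coprime 2 3)) d1 d2)

/-- A subgroup of order three normal modulo `Q` is generated by an element acting as the scalar. -/
theorem exists_scalar (X : Subgroup (Subgroup.centralizer ({z} : Set G))) (hX : Nat.card X = 3)
    (hXQ : (X ⊔ Q).Normal) :
    ∃ x ∈ X, (x : G) * (x : G) * (x : G) = 1 ∧ (∀ v, av K (x : G) v = wC v) ∧
      X = Subgroup.zpowers x := by
  have : Fact (Nat.Prime 3) := ⟨Nat.prime_three⟩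
  obtain ⟨x, hxX, hx1⟩ : ∃ x ∈ X, x ≠ 1 := by
    by_contra h
    push Not at h
    rw [Subgroup.eq_bot_iff_forall X |>.2 h, Subgroup.card_bot] at hX
    omega
  have hgen : X = Subgroup.zpowers x := by
    refine (Subgroup.eq_of_le_of_card_ge (Subgroup.zpowers_le.2 hxX) ?_).symm
    rw [hX, Nat.card_zpowers]
    have h1 : orderOf x ∣ 3 := by
      have := orderOf_dvd_natCard (⟨x, hxX⟩ : X)
      rwa [hX, Subgroup.orderOf_mk] at this
    rcases (Nat.dvd_prime Nat.prime_three).1 h1 with e | e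
    · exact absurd (orderOf_eq_one_iff.1 e) hx1
    · omega
  have hx3 : x * x * x = 1 := by
    have h : (⟨x, hxX⟩ : X) ^ 3 = 1 := by rw [← hX]; exact pow_card_eq_one'
    have h' := congrArg Subtype.val h
    rwa [SubmonoidClass.coe_pow, pow_three', OneMemClass.coe_one] at h'
  set y := K.act x with hy
  have hy3 : y * y * y = 1 := by rw [hy, ← map_mul, ← map_mul, hx3, map_one]
  have hyH : y ∈ K.I.H := K.range_act ▸ ⟨x, rfl⟩
  have hyM : y ∈ K.I.M := by
    have hidx : (K.I.M.subgroupOf K.I.H).index = 2 := K.I.index_two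
    have h2 : y * y ∈ K.I.M := Subgroup.mem_subgroupOf.1
      (Subgroup.mul_self_mem_of_index_two hidx (⟨y, hyH⟩ : K.I.H))
    have : y = (y * y) * (y * y) := by
      calc y = y * (y * y * y) := by rw [hy3, mul_one]
        _ = _ := by simp only [mul_assoc]
    rw [this]; exact mul_mem h2 h2
  have hconj : ∀ p ∈ K.I.H, p * y * p⁻¹ = y ∨ p * y * p⁻¹ = y⁻¹ := by
    intro p hp
    rw [← K.range_act] at hp
    obtain ⟨h, rfl⟩ := hp
    have hm := hXQ.conj_mem x (Subgroup.mem_sup_left hxX) h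
    have hle : X ⊔ Q ≤ (Subgroup.zpowers y).comap K.act := by
      refine sup_le ?_ fun q hq => ?_
      · rw [hgen, Subgroup.zpowers_le]; exact Subgroup.mem_zpowers y
      · rw [← K.act_ker] at hq
        rw [Subgroup.mem_comap, (MonoidHom.mem_ker).1 hq]
        exact one_mem _
    have hz := hle hm
    rw [Subgroup.mem_comap, map_mul, map_mul, map_inv] at hz
    obtain ⟨n, hn⟩ := Subgroup.mem_zpowers_iff.1 hz
    have hy3' : y ^ (3 : ℤ) = 1 := by
      rw [show (3 : ℤ) = ((3 : ℕ) : ℤ) from rfl, zpow_natCast, pow_three', hy3]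
    rw [← Int.emod_add_mul_ediv n 3, zpow_add, zpow_mul, hy3', one_zpow, mul_one] at hn
    have h3 : n % 3 = 0 ∨ n % 3 = 1 ∨ n % 3 = 2 := by omega
    rcases h3 with e | e | e <;> rw [e] at hn
    · exfalso
      rw [zpow_zero] at hn
      have hy1 : y = 1 := conj_eq_one_iff.1 hn.symm
      exact hx1 (eq_one_of_three K F (by rw [← K.act_ker]; exact hy1) hx3)
    · left; rw [← hn, zpow_one]
    · right; rw [← hn]
      refine eq_inv_of_mul_eq_one_left ?_
      rw [← zpow_add_one, show (2 : ℤ) + 1 = 3 from rfl, hy3']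
  have hcent : ∀ p ∈ K.I.M, p * y = y * p := by
    have hle : ⁅K.I.M, K.I.M⁆ ≤ Subgroup.centralizer ({y} : Set (Equiv.Perm Cd)) := by
      rw [Subgroup.commutator_le]
      intro p hp q hq
      refine Subgroup.mem_centralizer_singleton_iff.2 (mul_inv_eq_iff_eq_mul.1 ?_)
      rw [commutatorElement_def]
      have inv' : ∀ r ∈ K.I.M, ∀ t, r * y * r⁻¹ = t → r * y⁻¹ * r⁻¹ = t⁻¹ := by
        intro r _ t e; rw [← e]; group
      have e1 := hconj p (K.I.hMH hp)
      have e2 := hconj q (K.I.hMH hq)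
      have e1' : p⁻¹ * y * p = y ∨ p⁻¹ * y * p = y⁻¹ := by
        simpa using hconj p⁻¹ (inv_mem (K.I.hMH hp))
      have e2' : q⁻¹ * y * q = y ∨ q⁻¹ * y * q = y⁻¹ := by
        simpa using hconj q⁻¹ (inv_mem (K.I.hMH hq))
      have conjInv : ∀ {r a b : Equiv.Perm Cd}, r * a * r⁻¹ = b → r * a⁻¹ * r⁻¹ = b⁻¹ := by
        intro r a b e; rw [← e]; group
      rw [show p * q * p⁻¹ * q⁻¹ * y * (p * q * p⁻¹ * q⁻¹)⁻¹ =
        p * (q * (p⁻¹ * (q⁻¹ * y * q) * p) * q⁻¹) * p⁻¹ by group]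
      rcases e1 with a | a <;> rcases e2 with b | b
      · have a' : p⁻¹ * y * p = y := by nth_rw 1 [← a]; group
        have b' : q⁻¹ * y * q = y := by nth_rw 1 [← b]; group
        rw [b', a', b, a]
      · have a' : p⁻¹ * y * p = y := by nth_rw 1 [← a]; group
        have b' : q⁻¹ * y * q = y⁻¹ := by
          have := conjInv b; rw [inv_inv] at this
          nth_rw 1 [← this]; group
        rw [b', show p⁻¹ * y⁻¹ * p = (p⁻¹ * y * p)⁻¹ by group, a',
          conjInv b, inv_inv, a]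
      · have a' : p⁻¹ * y * p = y⁻¹ := by
          have := conjInv a; rw [inv_inv] at this
          nth_rw 1 [← this]; group
        have b' : q⁻¹ * y * q = y := by nth_rw 1 [← b]; group
        rw [b', a', conjInv b, conjInv a, inv_inv]
      · have a' : p⁻¹ * y * p = y⁻¹ := by
          have := conjInv a; rw [inv_inv] at this
          nth_rw 1 [← this]; group
        have b' : q⁻¹ * y * q = y⁻¹ := by
          have := conjInv b; rw [inv_inv] at this
          nth_rw 1 [← this]; group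
        rw [b', show p⁻¹ * y⁻¹ * p = (p⁻¹ * y * p)⁻¹ by group, a', inv_inv, b, conjInv a, inv_inv]
    intro p hp
    rw [← K.I.perfect] at hp
    exact Subgroup.mem_centralizer_singleton_iff.1 (hle hp)
  obtain ⟨k, hk⟩ := exists_three_scalar_aux K hyM hcent
  have hmono : ∀ v, y v = monoC (fun _ => k) 1 v :=
    eq_monoC (K.I.sym y hyH).add (K.I.lin y hyM) (fun i => by rw [hk, Equiv.Perm.one_apply])
  have hval : k = 1 ∨ k = 2 := by
    rcases zmod_three_cases k with rfl | h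
    · exfalso
      have hy1 : y = 1 := Equiv.ext fun v => by rw [hmono]; exact monoC_one v
      exact hx1 (eq_one_of_three K F (by rw [← K.act_ker]; exact hy1) hx3)
    · exact h
  have hw : ∀ v, monoC (fun _ => 1) 1 v = wC v := fun v =>
    IsAdd.ext (isAdd_monoC _ _) isAdd_wC (fun j => by
      rw [bit_unit, monoC_unit, wC_unitC, Equiv.Perm.one_apply, add_comm]) v
  have hav : ∀ u : ↥(Subgroup.centralizer ({z} : Set G)), ∀ v, av K (u : G) v = K.act u v := fun u v => by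
    rw [av_eq K (Subgroup.mem_centralizer_singleton_iff.1 u.2)]
  rcases hval with rfl | rfl
  · exact ⟨x, hxX, congrArg Subtype.val hx3, fun v => by rw [hav, ← hy, hmono, hw], hgen⟩
  · refine ⟨x * x, mul_mem hxX hxX, ?_, fun v => ?_, ?_⟩
    · have : x * x * (x * x) * (x * x) = 1 := by
        calc x * x * (x * x) * (x * x) = x * x * x * (x * x * x) := by simp only [mul_assoc]
          _ = 1 := by rw [hx3, one_mul]
      exact congrArg Subtype.val this
    · rw [hav, map_mul, Equiv.Perm.mul_apply, ← hy, hmono, hmono, monoC_comp, ← hw]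
      congr 1
    · rw [hgen]
      refine le_antisymm (Subgroup.zpowers_le.2 ?_) (Subgroup.zpowers_le.2 ?_)
      · exact ⟨2, by
          show (x * x) ^ (2 : ℤ) = x
          rw [zpow_two]
          calc x * x * (x * x) = x * (x * x * x) := by simp only [mul_assoc]
            _ = x := by rw [hx3, mul_one]⟩
      · exact mul_mem (Subgroup.mem_zpowers x) (Subgroup.mem_zpowers x)

theorem exists_frame {x : G} (hxc : Commute x z) (hx3 : x * x * x = 1) (hxa : ∀ v, av K x v = wC v) :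
    ∃ Fr : Frame K, Fr.x = x := by
  have hQ := hub K F
  obtain ⟨g, ⟨hgC, hgQ⟩, hne⟩ := F.setting.2.2.2.2
  set a0 := g * z * g⁻¹ with ha0
  have ha0m : a0 ∈ qG Q := ⟨_, hgQ, rfl⟩
  have hconj : IsConj z a0 := isConj_iff.2 ⟨g, rfl⟩
  have hsq : a0 * a0 = 1 := by
    rw [ha0, show g * z * g⁻¹ * (g * z * g⁻¹) = g * (z * z) * g⁻¹ by group, zz K F]
    group
  have h1 : a0 ≠ 1 := fun e => hQ.ne_one (conj_eq_one_iff.1 e)
  have hv0 : cq K a0 ≠ 0 := fun e => ((cq_zero_iff K ha0m).1 e).elim h1 hne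
  have hq0 := (cq_sq K ha0m).1 hsq
  obtain ⟨q0, hq0'⟩ := mem_qG ha0m
  have hv : cq K a0 = K.co q0 := by rw [← hq0', cq_coe]
  have hO : inO 0 (cq K a0).1 = false := by
    rw [hv] at hv0 hq0 ⊢
    exact (F.conjQ q0 hq0 hv0).1 (hq0' ▸ hconj)
  obtain ⟨p, hp, hp85⟩ := F.trans _ hq0 hv0 hO
  obtain ⟨c, hc, rfl⟩ := exists_av K (K.I.hMH hp)
  set a := c⁻¹ * a0 * c with ha
  have ham : a ∈ qG Q := by
    have := qG_normal hc.inv_left ha0m
    rwa [inv_inv] at this
  have hacode : cq K a = 85 := by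
    have := cq_conj K hc.inv_left ha0m
    rw [inv_inv] at this
    rw [ha, this, av_inv K hc, ← hp85, Equiv.Perm.inv_def, Equiv.symm_apply_apply]
  have haconj : IsConj z a := hconj.trans (isConj_iff.2 ⟨c⁻¹, by rw [inv_inv]⟩)
  have ha1 : a ≠ 1 := fun e => by rw [e, cq_one K] at hacode; exact absurd hacode (by decide)
  have haz : a ≠ z := fun e => by rw [e, cq_z K F] at hacode; exact absurd hacode (by decide)
  set π : G → G := fun t => t * (x * t * x⁻¹) * (x * (x * t * x⁻¹) * x⁻¹) with hπ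
  have hm : ∀ t ∈ qG Q, x * t * x⁻¹ ∈ qG Q := fun t ht => qG_normal hxc ht
  have hcode : cq K (π a) = 0 := by
    rw [hπ, cq_mul K (mul_mem ham (hm _ ham)) (hm _ (hm _ ham)), cq_mul K ham (hm _ ham),
      cq_conj K hxc (hm _ ham), cq_conj K hxc ham, hxa, hxa, hacode]
    decide +kernel
  have hxz : x * z * x⁻¹ = z := by rw [hxc.eq, mul_inv_cancel_right]
  have hshift : π (a * z) = π a * z := by
    have c1 : z * (x * a * x⁻¹) = x * a * x⁻¹ * z := (hQ.central _ (hm _ ham)).eq.symm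
    simp only [hπ]
    have e1 : x * (a * z) * x⁻¹ = x * a * x⁻¹ * z := by
      calc x * (a * z) * x⁻¹ = (x * a * x⁻¹) * (x * z * x⁻¹) := by group
        _ = _ := by rw [hxz]
    have e2 : x * (x * a * x⁻¹ * z) * x⁻¹ = x * (x * a * x⁻¹) * x⁻¹ * z := by
      calc x * (x * a * x⁻¹ * z) * x⁻¹ = (x * (x * a * x⁻¹) * x⁻¹) * (x * z * x⁻¹) := by group
        _ = _ := by rw [hxz]
    rw [e1, e2]
    calc a * z * (x * a * x⁻¹ * z) * (x * (x * a * x⁻¹) * x⁻¹ * z)
        = a * (z * (x * a * x⁻¹)) * z * (x * (x * a * x⁻¹) * x⁻¹) * z := by simp only [mul_assoc]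
      _ = a * (x * a * x⁻¹) * (z * z) * (x * (x * a * x⁻¹) * x⁻¹) * z := by
          rw [c1]; simp only [mul_assoc]
      _ = _ := by rw [zz K F, mul_one]
  rcases (cq_zero_iff K (mul_mem (mul_mem ham (hm _ ham)) (hm _ (hm _ ham)))).1 hcode with e | e
  · exact ⟨⟨x, a, hxc, hx3, hxa, ham, hacode, haconj, e⟩, rfl⟩
  · obtain ⟨q, -, hq⟩ := exists_flip hQ ham ha1 haz
    refine ⟨⟨x, a * z, hxc, hx3, hxa, mul_mem ham hQ.mem, by rw [cq_mul_z K F ham, hacode],
      haconj.trans (isConj_iff.2 ⟨q, hq⟩), ?_⟩, rfl⟩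
    show π (a * z) = 1
    rw [hshift, show π a = z from e, zz K F]

variable {K}
variable (Fr : Frame K)

omit [Finite G] F in
/-- The second basic element. -/
abbrev Frame.s' : G := Fr.x * Fr.s * Fr.x⁻¹

include F

/-- The group of order eight. -/
noncomputable def gV (_F : LFacts K) : Subgroup G := codeSub K isCodeGrp_inF

theorem s'_mem : Fr.s' ∈ qG Q := qG_normal Fr.x_comm Fr.s_mem

theorem s'_code : cq K Fr.s' = 170 := by
  rw [cq_conj K Fr.x_comm Fr.s_mem, Fr.x_act, Fr.s_code]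
  decide +kernel

theorem z_mem_gV : z ∈ gV F := ⟨(hub K F).mem, by rw [cq_z K F]; rfl⟩

theorem s_mem_gV : Fr.s ∈ gV F := ⟨Fr.s_mem, by rw [Fr.s_code]; rfl⟩

theorem s'_mem_gV : Fr.s' ∈ gV F := ⟨s'_mem F Fr, by rw [s'_code F Fr]; rfl⟩

theorem card_gV : Nat.card (gV F) = 8 := by
  rw [gV, card_codeSub K F]
  decide +kernel

theorem sq_gV {a : G} (ha : a ∈ gV F) : a * a = 1 := by
  rw [cq_sq K ha.1]
  rcases inF_cases ha.2 with e | e | e | e <;> rw [e] <;> decide +kernel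

theorem commute_gV {a b : G} (ha : a ∈ gV F) (hb : b ∈ gV F) : Commute a b := by
  rw [commute_iff K F ha.1 hb.1]
  rcases inF_cases ha.2 with e | e | e | e <;> rcases inF_cases hb.2 with e' | e' | e' | e' <;>
    rw [e, e'] <;> decide +kernel

theorem s''_eq : Fr.x * Fr.s' * Fr.x⁻¹ = Fr.s * Fr.s' := by
  have h := Fr.prod
  rw [mul_eq_one_iff_inv_eq] at h
  rw [← h]
  exact inv_eq_of_mul_eq_one_right (sq_gV F (mul_mem (s_mem_gV F Fr) (s'_mem_gV F Fr)))

theorem gV_cases {a : G} (ha : a ∈ gV F) : (a = 1 ∨ a = z) ∨ (a = Fr.s ∨ a = Fr.s * z) ∨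
    (a = Fr.s' ∨ a = Fr.s' * z) ∨ (a = Fr.s * Fr.s' ∨ a = Fr.s * Fr.s' * z) := by
  rcases inF_cases ha.2 with e | e | e | e
  · exact Or.inl ((cq_zero_iff K ha.1).1 e)
  · exact Or.inr (Or.inl (rel_of_cq K F ha.1 Fr.s_mem (by rw [e, Fr.s_code])))
  · exact Or.inr (Or.inr (Or.inl (rel_of_cq K F ha.1 (s'_mem F Fr) (by rw [e, s'_code F Fr]))))
  · exact Or.inr (Or.inr (Or.inr (rel_of_cq K F ha.1 (mul_mem Fr.s_mem (s'_mem F Fr))
      (by rw [e, cq_mul K Fr.s_mem (s'_mem F Fr), Fr.s_code, s'_code F Fr]; decide +kernel))))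

theorem E_eq : qG Q ⊓ coreV (qG Q) z Fr.s = codeSub K isCodeGrp_inT := by
  have hQ := hub K F
  obtain ⟨g, hg⟩ := isConj_iff.1 Fr.s_conj
  obtain ⟨q, hq⟩ := mem_qG Fr.s_mem
  have hint := F.inter g q (hq.trans hg.symm) (by rw [← cq_coe K, hq, Fr.s_code])
  have hzc : z ∈ coreV (qG Q) z Fr.s := by
    rw [coreV_eq hQ hg]
    refine hQ.self_mem_conj g (hg.symm ▸ Fr.s_mem) ?_ ?_
    · rw [hg]; intro e
      have := Fr.s_code
      rw [e, cq_z K F] at this
      exact absurd this (by decide)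
    · refine hQ.exists_noncommuting_pair ?_ (hg.symm ▸ Fr.s_mem) ?_
      · rw [Subgroup.card_map_of_injective (Subgroup.subtype_injective _), F.setting.2.2.2.1]
        norm_num
      · rw [hg]; exact sq_gV F (s_mem_gV F Fr)
  ext a
  constructor
  · rintro ⟨ha, hac⟩
    refine ⟨ha, ?_⟩
    obtain ⟨r, rfl⟩ := mem_qG ha
    rw [coreV_eq hQ hg] at hac
    rw [cq_coe]
    exact (hint _).2 ⟨r, hac, rfl⟩
  · rintro ⟨ha, hat⟩
    refine ⟨ha, ?_⟩
    obtain ⟨r, hr, hr'⟩ := (hint _).1 hat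
    rw [coreV_eq hQ hg] at hzc ⊢
    rcases rel_of_cq K F ha (coe_mem_qG r) (by rw [cq_coe, hr']) with e | e <;> rw [e]
    exacts [hr, mul_mem hr hzc]

theorem gV_le_core_s : gV F ≤ coreV (qG Q) z Fr.s := by
  intro a ha
  have h : a ∈ qG Q ⊓ coreV (qG Q) z Fr.s := by
    rw [E_eq F Fr]
    exact ⟨ha.1, inT_inF ha.2⟩
  exact h.2

theorem mem_normalizer_gV {q : G} (hq : q ∈ qG Q) : q ∈ Subgroup.normalizer (gV F : Set G) := by
  have hQ := hub K F
  have key : ∀ q ∈ qG Q, ∀ a ∈ gV F, q * a * q⁻¹ ∈ gV F := by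
    intro q hq a ha
    rcases hQ.comm q hq a ha.1 with e | e <;> rw [e]
    exacts [ha, mul_mem ha (z_mem_gV F)]
  exact mem_normalizer_of_conj (key q hq) fun a ha => by simpa using key _ (inv_mem hq) a ha

theorem x_mem_normalizer : Fr.x ∈ Subgroup.normalizer (gV F : Set G) := by
  have key : ∀ a ∈ gV F, Fr.x * a * Fr.x⁻¹ ∈ gV F := by
    intro a ha
    refine ⟨qG_normal Fr.x_comm ha.1, ?_⟩
    rw [cq_conj K Fr.x_comm ha.1, Fr.x_act]
    exact inF_w ha.2
  refine mem_normalizer_of_conj key fun a ha => ?_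
  have hi : Fr.x⁻¹ = Fr.x * Fr.x := inv_eq_of_mul_eq_one_right (by rw [← mul_assoc]; exact Fr.x_three)
  have h := key _ (key a ha)
  rw [show Fr.x * (Fr.x * a * Fr.x⁻¹) * Fr.x⁻¹ = (Fr.x * Fr.x) * a * (Fr.x * Fr.x)⁻¹ by group, ← hi,
    inv_inv] at h
  exact h

theorem exists_rot {a : G} (ha : a ∈ gV F) (h1 : a ≠ 1) (hz : a ≠ z) :
    ∃ k ∈ Subgroup.normalizer (gV F : Set G), k * z * k⁻¹ = z ∧ k * Fr.s * k⁻¹ = a := by
  have hQ := hub K F
  have hx := x_mem_normalizer F Fr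
  have hxz : Fr.x * z * Fr.x⁻¹ = z := by rw [Fr.x_comm.eq, mul_inv_cancel_right]
  obtain ⟨m, hm, hmz, hma⟩ : ∃ m ∈ Subgroup.normalizer (gV F : Set G), m * z * m⁻¹ = z ∧
      (a = m * Fr.s * m⁻¹ ∨ a = m * Fr.s * m⁻¹ * z) := by
    rcases gV_cases F Fr ha with h | h | h | h
    · exact absurd h (by rintro (e | e) <;> [exact h1 e; exact hz e])
    · exact ⟨1, one_mem _, by simp, by simpa using h⟩
    · exact ⟨Fr.x, hx, hxz, h⟩
    · refine ⟨Fr.x * Fr.x, mul_mem hx hx, ?_, ?_⟩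
      · calc Fr.x * Fr.x * z * (Fr.x * Fr.x)⁻¹ = Fr.x * (Fr.x * z * Fr.x⁻¹) * Fr.x⁻¹ := by group
          _ = z := by rw [hxz, hxz]
      · rw [show Fr.x * Fr.x * Fr.s * (Fr.x * Fr.x)⁻¹ = Fr.x * Fr.s' * Fr.x⁻¹ by group, s''_eq F Fr]
        exact h
  rcases hma with e | e
  · exact ⟨m, hm, hmz, e.symm⟩
  · have hb : m * Fr.s * m⁻¹ ∈ gV F := (Subgroup.mem_normalizer_iff.1 hm _).1 (s_mem_gV F Fr)
    have hb1 : m * Fr.s * m⁻¹ ≠ 1 := fun e' => hz (by rw [e, e', one_mul])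
    have hbz : m * Fr.s * m⁻¹ ≠ z := fun e' => h1 (by rw [e, e', zz K F])
    obtain ⟨q, hq, hqb⟩ := exists_flip hQ hb.1 hb1 hbz
    refine ⟨q * m, mul_mem (mem_normalizer_gV F hq) hm, ?_, ?_⟩
    · calc q * m * z * (q * m)⁻¹ = q * (m * z * m⁻¹) * q⁻¹ := by group
        _ = z := by rw [hmz, (hQ.central q hq).eq, mul_inv_cancel_right]
    · rw [e, ← hqb]; group

include Fr

theorem exists_move {a : G} (ha : a ∈ gV F) (h1 : a ≠ 1) :
    ∃ k ∈ Subgroup.normalizer (gV F : Set G), k * z * k⁻¹ = a := by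
  have hQ := hub K F
  have hS := hub_coreV hQ Fr.s_conj
  by_cases hz : a = z
  · exact ⟨1, one_mem _, by simp [hz]⟩
  have hzs : z ≠ Fr.s := fun e => by
    have := Fr.s_code
    rw [← e, cq_z K F] at this
    exact absurd this (by decide)
  obtain ⟨b, hb, hbz⟩ := exists_flip hS (gV_le_core_s F Fr (z_mem_gV F)) hQ.ne_one hzs
  have hbN : b ∈ Subgroup.normalizer (gV F : Set G) := by
    have key : ∀ b ∈ coreV (qG Q) z Fr.s, ∀ v ∈ gV F, b * v * b⁻¹ ∈ gV F := by
      intro b hb v hv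
      rcases hS.comm b hb v (gV_le_core_s F Fr hv) with e | e <;> rw [e]
      exacts [hv, mul_mem hv (s_mem_gV F Fr)]
    exact mem_normalizer_of_conj (key b hb) fun v hv => by simpa using key _ (inv_mem hb) v hv
  have hsz : z * Fr.s ∈ gV F := mul_mem (z_mem_gV F) (s_mem_gV F Fr)
  have hsz1 : z * Fr.s ≠ 1 := fun e => hzs ((eq_inv_of_mul_eq_one_left e).trans
    (inv_eq_of_mul_eq_one_right (sq_gV F (s_mem_gV F Fr))))
  have hszz : z * Fr.s ≠ z := fun e => by
    have := Fr.s_code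
    rw [mul_eq_left.1 e, cq_one K] at this
    exact absurd this (by decide)
  obtain ⟨k1, hk1, k1z, k1s⟩ := exists_rot F Fr hsz hsz1 hszz
  obtain ⟨k2, hk2, k2z, k2s⟩ := exists_rot F Fr ha h1 hz
  refine ⟨k2 * k1⁻¹ * b, mul_mem (mul_mem hk2 (inv_mem hk1)) hbN, ?_⟩
  calc k2 * k1⁻¹ * b * z * (k2 * k1⁻¹ * b)⁻¹ = k2 * (k1⁻¹ * (b * z * b⁻¹) * k1) * k2⁻¹ := by group
    _ = k2 * (k1⁻¹ * (k1 * Fr.s * k1⁻¹) * k1) * k2⁻¹ := by rw [hbz, k1s]
    _ = k2 * Fr.s * k2⁻¹ := by group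
    _ = a := k2s

theorem isConj_gV {a : G} (ha : a ∈ gV F) (h1 : a ≠ 1) : IsConj z a :=
  isConj_iff.2 ((exists_move F Fr ha h1).imp fun _ h => h.2)

/-- The normaliser is transitive on pairs. -/
theorem exists_pair {a b : G} (ha : a ∈ gV F) (ha1 : a ≠ 1) (hb : b ∈ gV F) (hb1 : b ≠ 1)
    (hab : b ≠ a) :
    ∃ k ∈ Subgroup.normalizer (gV F : Set G), k * z * k⁻¹ = a ∧ k * Fr.s * k⁻¹ = b := by
  obtain ⟨k, hk, rfl⟩ := exists_move F Fr ha ha1
  have hb' : k⁻¹ * b * k ∈ gV F := by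
    simpa using (Subgroup.mem_normalizer_iff.1 (inv_mem hk) _).1 hb
  obtain ⟨m, hm, hmz, hms⟩ := exists_rot F Fr hb'
    (fun e => hb1 (by rw [show b = k * (k⁻¹ * b * k) * k⁻¹ by group, e]; group))
    (fun e => hab (by rw [show b = k * (k⁻¹ * b * k) * k⁻¹ by group, e]))
  refine ⟨k * m, mul_mem hk hm, ?_, ?_⟩
  · calc k * m * z * (k * m)⁻¹ = k * (m * z * m⁻¹) * k⁻¹ := by group
      _ = k * z * k⁻¹ := by rw [hmz]
  · calc k * m * Fr.s * (k * m)⁻¹ = k * (m * Fr.s * m⁻¹) * k⁻¹ := by group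
      _ = b := by rw [hms]; group

theorem core_conj_iff {a k e : G} (ha : a ∈ gV F) (h1 : a ≠ 1) :
    k * e * k⁻¹ ∈ coreV (qG Q) z (k * a * k⁻¹) ↔ e ∈ coreV (qG Q) z a :=
  mem_coreV_conj (hub K F) (isConj_gV F Fr ha h1) k e

theorem gV_le_core {a : G} (ha : a ∈ gV F) (h1 : a ≠ 1) : gV F ≤ coreV (qG Q) z a := by
  obtain ⟨k, hk, rfl⟩ := exists_move F Fr ha h1
  intro v hv
  have h : k⁻¹ * v * k ∈ gV F := by simpa using (Subgroup.mem_normalizer_iff.1 (inv_mem hk) _).1 hv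
  have h' : k⁻¹ * v * k ∈ coreV (qG Q) z z := by rw [coreV_self (hub K F)]; exact h.1
  have := (mem_coreV_conj (hub K F) (IsConj.refl z) k _).2 h'
  rwa [show k * (k⁻¹ * v * k) * k⁻¹ = v by group] at this

end Cfsg.Agent.LargeFischer.Loc
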