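import Cfsg.Agent.Lib.LargeFischer.LocalFrame

/-!
# A frame exists in large Fischer type
-/

set_option autoImplicit false

namespace Cfsg.Agent.LargeFischer

variable {G : Type*} [Group G] {z : G} {Q : Subgroup (Subgroup.centralizer ({z} : Set G))} [Q.Normal]

theorem exists_frame_of_type [Finite G] (hF : Cfsg.IsOfLargeFischerTypeAt z Q) (K : GoodCoord z Q)
    (F : LFacts K) : Nonempty (Loc.Frame K) := by
  obtain ⟨-, N, M, hN, -, hQN, -, hNcard, -, -⟩ := hF
  have : Fact (Nat.Prime 3) := ⟨Nat.prime_three⟩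
  obtain ⟨y, hy⟩ := exists_prime_orderOf_dvd_card' (G := N) 3 (hNcard ▸ Dvd.intro _ rfl)
  set X := Subgroup.zpowers (y : Subgroup.centralizer ({z} : Set G)) with hX
  have hXcard : Nat.card X = 3 := by rw [hX, Nat.card_zpowers, Subgroup.orderOf_coe]; exact hy
  have hNsup : X ⊔ Q = N := by
    refine Subgroup.eq_of_le_of_card_ge (sup_le (Subgroup.zpowers_le.2 y.2) hQN) ?_
    have d1 : 3 ∣ Nat.card ↥(X ⊔ Q) := hXcard ▸ Subgroup.card_dvd_of_le le_sup_left
    have d2 : Nat.card Q ∣ Nat.card ↥(X ⊔ Q) := Subgroup.card_dvd_of_le le_sup_right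
    have hco : Nat.Coprime 3 (Nat.card Q) := by
      rw [F.setting.2.2.2.1]; exact Nat.Coprime.pow_right _ (by norm_num)
    rw [hNcard]
    exact Nat.le_of_dvd Nat.card_pos (Nat.Coprime.mul_dvd_of_dvd_of_dvd hco d1 d2)
  obtain ⟨x, -, hx3, hxa, -⟩ := Loc.exists_scalar K F X hXcard (hNsup.symm ▸ hN)
  obtain ⟨Fr, -⟩ := Loc.exists_frame K F (Subgroup.mem_centralizer_singleton_iff.1 x.2) hx3 hxa
  exact ⟨Fr⟩

end Cfsg.Agent.LargeFischer
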