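import Cfsg.Agent.Lib.LargeFischer.LocalCard
import Cfsg.Agent.Lib.DihedralCent.Tools
import Cfsg.Agent.Lib.PGroup.Frattini
import Cfsg.Prelude.Def_Solvable

/-!
# The normaliser of the elementary group of order eight

`L = N(V)`, `R = O₂(L)` special of order `2 ^ 15` with centre `V`, `L/R ≅ SL(3, 2) × A₆`.
-/

set_option autoImplicit false

namespace Cfsg.Agent.LargeFischer.Loc

open scoped commutatorElement
open Cfsg.Agent.LargeExtraspecial

variable {G : Type*} [Group G] {z : G} {Q : Subgroup (Subgroup.centralizer ({z} : Set G))} [Q.Normal]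

theorem exists_third : ∀ i j : Fin 3, i ≠ j → ∃ k, k ≠ i ∧ k ≠ j ∧ ∀ l, l = i ∨ l = j ∨ l = k := by
  decide

theorem transvection_col : ∀ i j l : Fin 3, i ≠ j →
    (Matrix.transvection i j (1 : ZMod 2)).mulVec (Pi.single l 1) =
      if l = j then Pi.single j 1 + Pi.single i 1 else Pi.single l 1 := by
  intro i j l hij
  rw [Matrix.transvection, Matrix.add_mulVec, Matrix.one_mulVec]
  ext m
  simp only [Pi.add_apply, Matrix.mulVec_single_one, Matrix.col_apply, Matrix.single_apply]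
  revert i j l m
  decide

theorem single_facts : ∀ i j k : Fin 3, i ≠ j → k ≠ i → k ≠ j →
    (Pi.single j 1 : Fin 3 → ZMod 2) ≠ 0 ∧ (Pi.single j 1 : Fin 3 → ZMod 2) ≠ Pi.single i 1 ∧
    (Pi.single j 1 : Fin 3 → ZMod 2) ≠ Pi.single k 1 ∧
    (Pi.single j 1 : Fin 3 → ZMod 2) ≠ Pi.single i 1 + Pi.single k 1 ∧
    (Pi.single i 1 : Fin 3 → ZMod 2) ≠ 0 := by
  decide

theorem zmod_two_cases : ∀ u : ZMod 2, u = 0 ∨ u = 1 := by decide

theorem zmod_two_eq_one : ∀ a : ZMod 2, a ≠ 0 → a = 1 := by decide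

/-- Three commuting involutions give a map of the plane of three coordinates. -/
def iota (a b c : G) (v : Fin 3 → ZMod 2) : G := a ^ (v 0).val * (b ^ (v 1).val * c ^ (v 2).val)

theorem pow_val_add {a : G} (ha : a * a = 1) (u v : ZMod 2) :
    a ^ (u + v).val = a ^ u.val * a ^ v.val := by
  rcases (by decide +revert : u = 0 ∨ u = 1) with rfl | rfl <;>
    rcases (by decide +revert : v = 0 ∨ v = 1) with rfl | rfl <;>
    simp [ha, show (1 : ZMod 2).val = 1 from rfl, show ((1 : ZMod 2) + 1) = 0 from rfl]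

theorem iota_add {a b c : G} (ha : a * a = 1) (hb : b * b = 1) (hc : c * c = 1) (hab : Commute a b)
    (hac : Commute a c) (hbc : Commute b c) (u v : Fin 3 → ZMod 2) :
    iota a b c (u + v) = iota a b c u * iota a b c v := by
  simp only [iota, Pi.add_apply, pow_val_add ha, pow_val_add hb, pow_val_add hc]
  generalize (u 0).val = i; generalize (v 0).val = j; generalize (u 1).val = k
  generalize (v 1).val = l; generalize (u 2).val = m; generalize (v 2).val = n
  have e1 : Commute (a ^ j) (b ^ k * c ^ m) := (hab.pow_pow j k).mul_right (hac.pow_pow j m)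
  have e2 : Commute (b ^ l) (c ^ m) := hbc.pow_pow l m
  calc a ^ i * a ^ j * (b ^ k * b ^ l * (c ^ m * c ^ n))
      = a ^ i * a ^ j * (b ^ k * (b ^ l * c ^ m) * c ^ n) := by simp only [mul_assoc]
    _ = a ^ i * a ^ j * (b ^ k * (c ^ m * b ^ l) * c ^ n) := by rw [e2.eq]
    _ = a ^ i * (a ^ j * (b ^ k * c ^ m)) * (b ^ l * c ^ n) := by simp only [mul_assoc]
    _ = a ^ i * ((b ^ k * c ^ m) * a ^ j) * (b ^ l * c ^ n) := by rw [e1.eq]
    _ = a ^ i * (b ^ k * c ^ m) * (a ^ j * (b ^ l * c ^ n)) := by simp only [mul_assoc]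

variable {K : GoodCoord z Q} [Finite G] (F : LFacts K) (Fr : Frame K)

include F Fr

theorem gV_le_gR : gV F ≤ gR F := fun a ha => gW_le_gR F Fr ⟨ha.1, (inT_perp (inT_inF ha.2)).2⟩

theorem map_center_gR : (Subgroup.center ↥(gR F)).map (gR F).subtype = gV F := by
  refine le_antisymm ?_ fun a ha => ⟨⟨a, gV_le_gR F Fr ha⟩, Subgroup.mem_center_iff.2 fun r =>
    Subtype.ext ((gR_le_gC F Fr r.2) a ha).symm, rfl⟩
  rintro _ ⟨⟨c, hc⟩, hcen, rfl⟩
  show c ∈ gV F
  have hcC := gR_le_gC F Fr hc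
  have hz := ((mem_gC F Fr).1 hcC).1
  have hcomm : ∀ a ∈ gW F, Commute c a := fun a ha =>
    (congrArg Subtype.val (Subgroup.mem_center_iff.1 hcen ⟨a, gW_le_gR F Fr ha⟩)).symm
  have hfix : ∀ x : Cd, inP x.1 = true → av K c x = x := by
    intro x hx
    obtain ⟨a, ha, rfl⟩ := exists_code K x
    rw [← cq_conj K hz ha, (hcomm a ⟨ha, hx⟩).eq, mul_inv_cancel_right]
  have hM := (av_fix F Fr hcC).1
  have hone : av K c = 1 := Equiv.ext fun v =>
    eq_id_of_fix_perp (av_sym K hz) (K.I.lin _ hM) (K.good.inv_O _ (av_mem K hz)) hfix v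
  have hq := (av_eq_one K hz).1 hone
  refine ⟨hq, inF_of_perp fun x hx => ?_⟩
  obtain ⟨a, ha, rfl⟩ := exists_code K x
  exact (commute_iff K F hq ha).1 (hcomm a ⟨ha, hx⟩)

theorem commutator_gR : ⁅gR F, gR F⁆ = gV F := by
  refine le_antisymm (Subgroup.commutator_le.2 fun a ha b hb => comm_gR F Fr ha hb) fun v hv => ?_
  by_cases h1 : v = 1
  · rw [h1]; exact one_mem _
  obtain ⟨k, hk, rfl⟩ := exists_move F Fr hv h1
  obtain ⟨x, y, hx, hy, hxy⟩ := exists_bN_ne
  obtain ⟨a, ha, rfl⟩ := exists_code K x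
  obtain ⟨b, hb, rfl⟩ := exists_code K y
  have hQ := hub K F
  have e : ⁅a, b⁆ = z := by
    rw [commutatorElement_def]
    rcases hQ.comm a ha b hb with e | e
    · exfalso
      have hc : Commute a b := mul_inv_eq_iff_eq_mul.1 e
      rw [commute_iff K F ha hb, hxy] at hc
      exact one_ne_zero hc
    · rw [e, (hQ.central b hb).eq, mul_inv_cancel_right]
  have h := Subgroup.commutator_mem_commutator (conj_mem_gR F Fr hk (gW_le_gR F Fr ⟨ha, hx⟩))
    (conj_mem_gR F Fr hk (gW_le_gR F Fr ⟨hb, hy⟩))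
  rwa [show ⁅k * a * k⁻¹, k * b * k⁻¹⁆ = k * ⁅a, b⁆ * k⁻¹ by simp only [commutatorElement_def]; group,
    e] at h

theorem isSpecial_gR : Cfsg.IsSpecial 2 ↥(gR F) := by
  have : Fact (Nat.Prime 2) := ⟨Nat.prime_two⟩
  have hp : IsPGroup 2 ↥(gR F) := IsPGroup.of_card (theta_spec F Fr).2.2
  have hc : commutator ↥(gR F) = Subgroup.center ↥(gR F) :=
    Subgroup.map_injective (gR F).subtype_injective (by
      rw [Subgroup.map_subtype_commutator, map_center_gR F Fr, commutator_gR F Fr])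
  refine ⟨hp, le_antisymm (PGroup.frattini_le (p := 2) hc.le fun r => ?_)
    (hc.ge.trans (PGroup.commutator_le_frattini hp)), hc⟩
  have h : (r : G) * (r : G) ∈ (Subgroup.center ↥(gR F)).map (gR F).subtype := by
    rw [map_center_gR F Fr]; exact sq_gR F Fr r.2
  obtain ⟨w, hw, e⟩ := h
  rw [pow_two, show r * r = w from Subtype.ext e.symm]
  exact hw

/-- The coordinates on `V`. -/
def ioV (Fr : Frame K) : (Fin 3 → ZMod 2) → G := iota z Fr.s Fr.s'

theorem ioV_add (u v : Fin 3 → ZMod 2) : ioV Fr (u + v) = ioV Fr u * ioV Fr v :=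
  iota_add (zz K F) (sq_gV F (s_mem_gV F Fr)) (sq_gV F (s'_mem_gV F Fr))
    (commute_gV F (z_mem_gV F) (s_mem_gV F Fr)) (commute_gV F (z_mem_gV F) (s'_mem_gV F Fr))
    (commute_gV F (s_mem_gV F Fr) (s'_mem_gV F Fr)) u v

theorem ioV_mem (v : Fin 3 → ZMod 2) : ioV Fr v ∈ gV F :=
  mul_mem (pow_mem (z_mem_gV F) _) (mul_mem (pow_mem (s_mem_gV F Fr) _) (pow_mem (s'_mem_gV F Fr) _))

theorem ioV_bijective :
    Function.Bijective (fun v => (⟨ioV Fr v, ioV_mem F Fr v⟩ : ↥(gV F))) := by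
  have hs : Function.Surjective (fun v => (⟨ioV Fr v, ioV_mem F Fr v⟩ : ↥(gV F))) := by
    rintro ⟨a, ha⟩
    have hzs : z * Fr.s = Fr.s * z := (commute_gV F (z_mem_gV F) (s_mem_gV F Fr)).eq
    have hzs' : z * Fr.s' = Fr.s' * z := (commute_gV F (z_mem_gV F) (s'_mem_gV F Fr)).eq
    have o1 : (1 : ZMod 2).val = 1 := rfl
    rcases gV_cases F Fr ha with (e | e) | (e | e) | (e | e) | (e | e)
    · exact ⟨0, Subtype.ext (by simp [ioV, iota, e])⟩
    · exact ⟨![1, 0, 0], Subtype.ext (by simp [ioV, iota, e, o1])⟩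
    · exact ⟨![0, 1, 0], Subtype.ext (by simp [ioV, iota, e, o1])⟩
    · exact ⟨![1, 1, 0], Subtype.ext (by simp [ioV, iota, e, o1, hzs])⟩
    · exact ⟨![0, 0, 1], Subtype.ext (by simp [ioV, iota, e, o1])⟩
    · exact ⟨![1, 0, 1], Subtype.ext (by simp [ioV, iota, e, o1, hzs'])⟩
    · exact ⟨![0, 1, 1], Subtype.ext (by simp [ioV, iota, e, o1])⟩
    · refine ⟨![1, 1, 1], Subtype.ext ?_⟩
      have h := (hub K F).central _ (mul_mem Fr.s_mem (s'_mem F Fr))
      simp [ioV, iota, e, o1, h.eq]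
  refine (Nat.bijective_iff_surjective_and_card _).2 ⟨hs, ?_⟩
  rw [card_gV F, Nat.card_fun, Nat.card_fin, Nat.card_zmod]
  norm_num

/-- The coordinates as an equivalence. -/
noncomputable def eV : (Fin 3 → ZMod 2) ≃ ↥(gV F) := Equiv.ofBijective _ (ioV_bijective F Fr)

theorem ioV_inj {u v : Fin 3 → ZMod 2} (h : ioV Fr u = ioV Fr v) : u = v :=
  (ioV_bijective F Fr).1 (Subtype.ext h)

theorem ioV_zero : ioV Fr 0 = 1 := by simp [ioV, iota]

/-- Conjugation in coordinates. -/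
noncomputable def tfun (n : ↥(Subgroup.normalizer (gV F : Set G))) (v : Fin 3 → ZMod 2) : Fin 3 → ZMod 2 :=
  (eV F Fr).symm ⟨(n : G) * ioV Fr v * (n : G)⁻¹, conj_mem_gV F Fr n.2 (ioV_mem F Fr v)⟩

theorem tfun_spec (n : ↥(Subgroup.normalizer (gV F : Set G))) (v : Fin 3 → ZMod 2) :
    ioV Fr (tfun F Fr n v) = (n : G) * ioV Fr v * (n : G)⁻¹ :=
  congrArg Subtype.val ((eV F Fr).apply_symm_apply _)

/-- Conjugation as a linear map. -/
noncomputable def tlin (n : ↥(Subgroup.normalizer (gV F : Set G))) :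
    (Fin 3 → ZMod 2) →ₗ[ZMod 2] (Fin 3 → ZMod 2) :=
  (AddMonoidHom.mk' (tfun F Fr n) (fun u v => ioV_inj F Fr (by
    rw [tfun_spec F Fr, ioV_add F Fr, ioV_add F Fr, tfun_spec F Fr, tfun_spec F Fr]
    group))).toZModLinearMap 2

theorem tlin_spec (n : ↥(Subgroup.normalizer (gV F : Set G))) (v : Fin 3 → ZMod 2) :
    ioV Fr (tlin F Fr n v) = (n : G) * ioV Fr v * (n : G)⁻¹ := tfun_spec F Fr n v

/-- The matrix of conjugation. -/
noncomputable def matN (n : ↥(Subgroup.normalizer (gV F : Set G))) : Matrix (Fin 3) (Fin 3) (ZMod 2) :=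
  LinearMap.toMatrix' (tlin F Fr n)

theorem matN_mul (m n : ↥(Subgroup.normalizer (gV F : Set G))) :
    matN F Fr (m * n) = matN F Fr m * matN F Fr n := by
  rw [matN, matN, matN, ← LinearMap.toMatrix'_comp]
  congr 1
  refine LinearMap.ext fun v => ioV_inj F Fr ?_
  rw [LinearMap.comp_apply, tlin_spec F Fr, tlin_spec F Fr, tlin_spec F Fr, Subgroup.coe_mul]
  group

theorem matN_one : matN F Fr 1 = 1 := by
  rw [matN, ← LinearMap.toMatrix'_id]
  congr 1
  refine LinearMap.ext fun v => ioV_inj F Fr ?_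
  simp [tlin_spec F Fr]

theorem det_matN (n : ↥(Subgroup.normalizer (gV F : Set G))) : (matN F Fr n).det = 1 := by
  refine zmod_two_eq_one _ fun h => ?_
  have e := congrArg Matrix.det ((matN_mul F Fr n n⁻¹).symm.trans (by rw [mul_inv_cancel, matN_one F Fr]))
  rw [Matrix.det_mul, h, zero_mul, Matrix.det_one] at e
  exact zero_ne_one e

/-- The map to `SL(3, 2)`. -/
noncomputable def muN : ↥(Subgroup.normalizer (gV F : Set G)) →* Matrix.SpecialLinearGroup (Fin 3) (ZMod 2) :=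
  MonoidHom.mk' (fun n => ⟨matN F Fr n, det_matN F Fr n⟩) (fun m n => Subtype.ext (matN_mul F Fr m n))

theorem muN_ker (n : ↥(Subgroup.normalizer (gV F : Set G))) : muN F Fr n = 1 ↔ (n : G) ∈ gC F := by
  constructor
  · intro h a ha
    obtain ⟨v, hv⟩ := (ioV_bijective F Fr).2 ⟨a, ha⟩
    have hv' : ioV Fr v = a := congrArg Subtype.val hv
    have h' : LinearMap.toMatrix' (tlin F Fr n) = LinearMap.toMatrix' LinearMap.id := by
      rw [LinearMap.toMatrix'_id]; exact congrArg Subtype.val h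
    have e := tlin_spec F Fr n v
    rw [LinearMap.toMatrix'.injective h', LinearMap.id_apply, hv'] at e
    exact (eq_mul_inv_iff_mul_eq.1 e)
  · intro h
    refine Subtype.ext ?_
    show matN F Fr n = 1
    rw [matN, ← LinearMap.toMatrix'_id]
    congr 1
    refine LinearMap.ext fun v => ioV_inj F Fr ?_
    rw [tlin_spec F Fr, LinearMap.id_apply, ← h _ (ioV_mem F Fr v), mul_inv_cancel_right]

theorem core_le_normalizer {a : G} (ha : a ∈ gV F) (ha1 : a ≠ 1) :
    coreV (qG Q) z a ≤ Subgroup.normalizer (gV F : Set G) := by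
  have hub' := hub_coreV (hub K F) (isConj_gV F Fr ha ha1)
  have key : ∀ q ∈ coreV (qG Q) z a, ∀ v ∈ gV F, q * v * q⁻¹ ∈ gV F := by
    intro q hq v hv
    rcases hub'.comm q hq v (gV_le_core F Fr ha ha1 hv) with e | e <;> rw [e]
    exacts [hv, mul_mem hv ha]
  exact fun q hq => mem_normalizer_of_conj (key q hq) fun v hv => by simpa using key _ (inv_mem hq) v hv

/-- The subgroup generated by the cores of the points. -/
noncomputable def gK : Subgroup ↥(Subgroup.normalizer (gV F : Set G)) :=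
  Subgroup.closure {n | ∃ a ∈ gV F, a ≠ 1 ∧ (n : G) ∈ coreV (qG Q) z a}

theorem transvection_mem {i j : Fin 3} (hij : i ≠ j) :
    ∃ n ∈ gK F, (muN F Fr n : Matrix (Fin 3) (Fin 3) (ZMod 2)) = Matrix.transvection i j 1 := by
  obtain ⟨k, hki, hkj, hall⟩ := exists_third i j hij
  obtain ⟨n1, n2, n3, n4, n5⟩ := single_facts i j k hij hki hkj
  set a := ioV Fr (Pi.single i 1) with ha
  set b := ioV Fr (Pi.single j 1) with hb
  set c := ioV Fr (Pi.single k 1) with hc
  have ham := ioV_mem F Fr (Pi.single i 1)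
  have hbm := ioV_mem F Fr (Pi.single j 1)
  have hcm := ioV_mem F Fr (Pi.single k 1)
  have ne : ∀ {u : Fin 3 → ZMod 2}, u ≠ 0 → ioV Fr u ≠ 1 := fun hu e =>
    hu (ioV_inj F Fr (e.trans (ioV_zero F Fr).symm))
  have hub' := hub_coreV (hub K F) (isConj_gV F Fr ham (ne n5))
  have hle := gV_le_core F Fr ham (ne n5)
  obtain ⟨q, hq, hqc, hqb⟩ := exists_commute_not hub' (hle hcm) (hle hbm) (sq_gV F hcm) (ne n1)
    (fun e => n2 (ioV_inj F Fr e)) (fun e => n3 (ioV_inj F Fr e))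
    (fun e => n4 (ioV_inj F Fr (by rw [e, ioV_add F Fr])))
  refine ⟨⟨q, core_le_normalizer F Fr ham (ne n5) hq⟩,
    Subgroup.subset_closure ⟨a, ham, ne n5, hq⟩, ?_⟩
  show matN F Fr _ = _
  rw [matN, ← LinearMap.toMatrix'_toLin' (Matrix.transvection i j (1 : ZMod 2))]
  congr 1
  refine (Pi.basisFun (ZMod 2) (Fin 3)).ext fun l => ioV_inj F Fr ?_
  rw [Pi.basisFun_apply, tlin_spec F Fr, Matrix.toLin'_apply, transvection_col i j l hij]
  show q * ioV Fr (Pi.single l 1) * q⁻¹ = _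
  rcases hall l with rfl | rfl | rfl
  · rw [if_neg hij, ((hub'.central q hq)).eq, mul_inv_cancel_right]
  · rw [if_pos rfl, ioV_add F Fr, hqb]
  · rw [if_neg hkj, hqc.eq, mul_inv_cancel_right]

theorem muN_gK (A : Matrix.SpecialLinearGroup (Fin 3) (ZMod 2)) : ∃ k ∈ gK F, muN F Fr k = A := by
  have : Fact (Nat.Prime 2) := ⟨Nat.prime_two⟩
  have key : ∀ T : List (Matrix.TransvectionStruct (Fin 3) (ZMod 2)), ∃ k ∈ gK F,
      (muN F Fr k : Matrix (Fin 3) (Fin 3) (ZMod 2)) =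
        (T.map Matrix.TransvectionStruct.toMatrix).prod := by
    intro T
    induction T with
    | nil => exact ⟨1, one_mem _, by simp⟩
    | cons t T ih =>
      obtain ⟨k, hk, e⟩ := ih
      rw [List.map_cons, List.prod_cons]
      rcases zmod_two_cases t.c with hc | hc
      · refine ⟨k, hk, ?_⟩
        rw [Matrix.TransvectionStruct.toMatrix, hc, Matrix.transvection_zero, one_mul, e]
      · obtain ⟨n, hn, e'⟩ := transvection_mem F Fr t.hij
        refine ⟨n * k, mul_mem hn hk, ?_⟩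
        rw [map_mul, Matrix.SpecialLinearGroup.coe_mul, e', e, Matrix.TransvectionStruct.toMatrix, hc]
  obtain ⟨T, T', D, hA⟩ :=
    Matrix.Pivot.exists_list_transvec_mul_diagonal_mul_list_transvec (A : Matrix (Fin 3) (Fin 3) (ZMod 2))
  obtain ⟨k, hk, e⟩ := key T
  obtain ⟨k', hk', e'⟩ := key T'
  have hd := congrArg Matrix.det hA
  rw [Matrix.det_mul, Matrix.det_mul, ← e, ← e', A.2, (muN F Fr k).2, (muN F Fr k').2, one_mul, mul_one,
    Matrix.det_diagonal] at hd
  have hD : D = fun _ => 1 := funext fun i => zmod_two_eq_one _ fun h => by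
    rw [Finset.prod_eq_zero (Finset.mem_univ i) h] at hd
    exact one_ne_zero hd
  refine ⟨k * k', mul_mem hk hk', Subtype.ext ?_⟩
  rw [map_mul, Matrix.SpecialLinearGroup.coe_mul, e, e', hA, hD, Matrix.diagonal_one, mul_one]

theorem comm_gK {k : ↥(Subgroup.normalizer (gV F : Set G))} (hk : k ∈ gK F) {c : G} (hc : c ∈ gC F) :
    (k : G) * c * (k : G)⁻¹ * c⁻¹ ∈ gR F := by
  induction hk using Subgroup.closure_induction generalizing c with
  | mem k hk =>
    obtain ⟨a, ha, ha1, hka⟩ := hk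
    have hub' := hub_coreV (hub K F) (isConj_gV F Fr ha ha1)
    refine core_inf_gC_le F Fr ha ha1 ?_ (mul_mem (conj_mem_gC F Fr k.2 hc) (inv_mem hc))
    rw [show (k : G) * c * (k : G)⁻¹ * c⁻¹ = (k : G) * (c * (k : G)⁻¹ * c⁻¹) by group]
    exact mul_mem hka (hub'.normalizes c ((hc a ha).symm) _ (inv_mem hka))
  | one => simp
  | mul a b _ _ iha ihb =>
    have h := mul_mem (conj_mem_gR F Fr a.2 (ihb hc)) (iha hc)
    rw [Subgroup.coe_mul]
    rwa [show (a : G) * (b * c * (b : G)⁻¹ * c⁻¹) * (a : G)⁻¹ * ((a : G) * c * (a : G)⁻¹ * c⁻¹) =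
      (a : G) * b * c * ((a : G) * b)⁻¹ * c⁻¹ by group] at h
  | inv a _ iha =>
    have hc' : (a : G)⁻¹ * c * a ∈ gC F := by simpa using conj_mem_gC F Fr (inv_mem a.2) hc
    have h := inv_mem (iha hc')
    rwa [show ((a : G) * ((a : G)⁻¹ * c * a) * (a : G)⁻¹ * ((a : G)⁻¹ * c * a)⁻¹)⁻¹ =
      ((a⁻¹ : ↥(Subgroup.normalizer (gV F : Set G))) : G) * c *
        ((a⁻¹ : ↥(Subgroup.normalizer (gV F : Set G))) : G)⁻¹ * c⁻¹ by
      rw [Subgroup.coe_inv]; group] at h

/-- `C(V)` onto `A₆`. -/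
noncomputable def thA : ↥(gC F) →* ↥(alternatingGroup (Fin 6)) :=
  (theta F Fr).codRestrict _ (fun c => (theta_spec F Fr).1.le ⟨c, rfl⟩)

theorem thA_surjective : Function.Surjective (thA F Fr) := by
  rintro ⟨a, ha⟩
  obtain ⟨c, hc⟩ := (theta_spec F Fr).1.ge ha
  exact ⟨c, Subtype.ext hc⟩

theorem thA_eq_one (c : ↥(gC F)) : thA F Fr c = 1 ↔ (c : G) ∈ gR F := by
  rw [← Subgroup.mem_subgroupOf, ← (theta_spec F Fr).2.1, MonoidHom.mem_ker]
  exact ⟨fun h => congrArg Subtype.val h, fun h => Subtype.ext h⟩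

/-- Conjugation on `C(V)`. -/
noncomputable def cjC (n : ↥(Subgroup.normalizer (gV F : Set G))) (c : ↥(gC F)) : ↥(gC F) :=
  ⟨(n : G) * c * (n : G)⁻¹, conj_mem_gC F Fr n.2 c.2⟩

theorem cjC_gK {k : ↥(Subgroup.normalizer (gV F : Set G))} (hk : k ∈ gK F) (c : ↥(gC F)) :
    thA F Fr (cjC F Fr k c) = thA F Fr c := by
  rw [← mul_inv_eq_one, ← map_inv, ← map_mul, thA_eq_one F Fr]
  exact comm_gK F Fr hk c.2

theorem exists_inner (n : ↥(Subgroup.normalizer (gV F : Set G))) :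
    ∃ a : ↥(alternatingGroup (Fin 6)), ∀ c, thA F Fr (cjC F Fr n c) = a * thA F Fr c * a⁻¹ := by
  obtain ⟨k, hk, he⟩ := muN_gK F Fr (muN F Fr n)
  have hc0 : ((k⁻¹ * n : ↥(Subgroup.normalizer (gV F : Set G))) : G) ∈ gC F :=
    (muN_ker F Fr _).1 (by rw [map_mul, map_inv, he, inv_mul_cancel])
  refine ⟨thA F Fr ⟨_, hc0⟩, fun c => ?_⟩
  rw [← map_inv, ← map_mul, ← map_mul, ← cjC_gK F Fr hk (⟨_, hc0⟩ * c * ⟨_, hc0⟩⁻¹)]
  congr 1
  refine Subtype.ext ?_
  show (n : G) * c * (n : G)⁻¹ = (k : G) * ((k : G)⁻¹ * n * c * ((k : G)⁻¹ * n)⁻¹) * (k : G)⁻¹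
  group

theorem inner_unique {a b : ↥(alternatingGroup (Fin 6))}
    (h : ∀ c : ↥(gC F), a * thA F Fr c * a⁻¹ = b * thA F Fr c * b⁻¹) : a = b := by
  have hc : b⁻¹ * a ∈ Subgroup.center ↥(alternatingGroup (Fin 6)) := by
    refine Subgroup.mem_center_iff.2 fun w => ?_
    obtain ⟨c, rfl⟩ := thA_surjective F Fr w
    calc thA F Fr c * (b⁻¹ * a) = b⁻¹ * (b * thA F Fr c * b⁻¹) * a := by group
      _ = b⁻¹ * (a * thA F Fr c * a⁻¹) * a := by rw [h]
      _ = b⁻¹ * a * thA F Fr c := by group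
  rw [alternatingGroup.center_eq_bot (by simp), Subgroup.mem_bot] at hc
  exact (inv_mul_eq_one.1 hc).symm

/-- The inner automorphism of `A₆` induced by an element of the normaliser. -/
noncomputable def innA (n : ↥(Subgroup.normalizer (gV F : Set G))) : ↥(alternatingGroup (Fin 6)) :=
  (exists_inner F Fr n).choose

theorem innA_spec (n : ↥(Subgroup.normalizer (gV F : Set G))) (c : ↥(gC F)) :
    thA F Fr (cjC F Fr n c) = innA F Fr n * thA F Fr c * (innA F Fr n)⁻¹ :=
  (exists_inner F Fr n).choose_spec c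

theorem innA_mul (m n : ↥(Subgroup.normalizer (gV F : Set G))) :
    innA F Fr (m * n) = innA F Fr m * innA F Fr n := by
  refine inner_unique F Fr fun c => ?_
  have e : cjC F Fr (m * n) c = cjC F Fr m (cjC F Fr n c) := Subtype.ext (by
    simp only [cjC, Subgroup.coe_mul]; group)
  rw [← innA_spec F Fr, e, innA_spec F Fr, innA_spec F Fr]
  group

/-- The map with kernel `R`. -/
noncomputable def psiN : ↥(Subgroup.normalizer (gV F : Set G)) →*
    Matrix.SpecialLinearGroup (Fin 3) (ZMod 2) × ↥(alternatingGroup (Fin 6)) :=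
  (muN F Fr).prod (MonoidHom.mk' (innA F Fr) (innA_mul F Fr))

theorem innA_gC {n : ↥(Subgroup.normalizer (gV F : Set G))} (hn : (n : G) ∈ gC F) :
    innA F Fr n = thA F Fr ⟨n, hn⟩ := by
  refine inner_unique F Fr fun c => ?_
  rw [← innA_spec F Fr, ← map_inv, ← map_mul, ← map_mul]
  rfl

theorem psiN_ker : (psiN F Fr).ker = (gR F).subgroupOf (Subgroup.normalizer (gV F : Set G)) := by
  ext n
  rw [MonoidHom.mem_ker, Subgroup.mem_subgroupOf]
  constructor
  · intro h
    have h1 : muN F Fr n = 1 := congrArg Prod.fst h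
    have h2 : innA F Fr n = 1 := congrArg Prod.snd h
    have hC := (muN_ker F Fr n).1 h1
    rw [innA_gC F Fr hC] at h2
    exact (thA_eq_one F Fr ⟨n, hC⟩).1 h2
  · intro h
    have hC := gR_le_gC F Fr h
    refine Prod.ext ((muN_ker F Fr n).2 hC) ?_
    show innA F Fr n = 1
    rw [innA_gC F Fr hC]
    exact (thA_eq_one F Fr ⟨n, hC⟩).2 h

theorem psiN_surjective : Function.Surjective (psiN F Fr) := by
  rintro ⟨A, a⟩
  obtain ⟨k, hk, rfl⟩ := muN_gK F Fr A
  obtain ⟨c, rfl⟩ := thA_surjective F Fr a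
  refine ⟨k * ⟨c, gC_le_normalizer F Fr c.2⟩, ?_⟩
  have hk1 : innA F Fr k = 1 :=
    inner_unique F Fr fun d => by rw [← innA_spec F Fr, cjC_gK F Fr hk]; simp
  refine Prod.ext ?_ ?_
  · show muN F Fr (k * _) = muN F Fr k
    rw [map_mul, (muN_ker F Fr ⟨c, gC_le_normalizer F Fr c.2⟩).2 c.2, mul_one]
  · show innA F Fr (k * _) = thA F Fr c
    rw [innA_mul F Fr, hk1, one_mul, innA_gC F Fr (n := ⟨c, gC_le_normalizer F Fr c.2⟩) c.2]

theorem gR_le_normalizer : gR F ≤ Subgroup.normalizer (gV F : Set G) :=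
  (gR_le_gC F Fr).trans (gC_le_normalizer F Fr)

theorem normal_gR : ((gR F).subgroupOf (Subgroup.normalizer (gV F : Set G))).Normal := by
  rw [← psiN_ker F Fr]
  exact MonoidHom.normal_ker _

theorem pCore_normalizer :
    gR F = (Cfsg.pCore 2 ↥(Subgroup.normalizer (gV F : Set G))).map
      (Subgroup.normalizer (gV F : Set G)).subtype := by
  have : Fact (Nat.Prime 2) := ⟨Nat.prime_two⟩
  refine le_antisymm (fun r hr => ?_) ?_
  · refine ⟨⟨r, gR_le_normalizer F Fr hr⟩, ?_, rfl⟩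
    have hle : (gR F).subgroupOf (Subgroup.normalizer (gV F : Set G)) ≤
        Cfsg.pCore 2 ↥(Subgroup.normalizer (gV F : Set G)) :=
      le_sSup ⟨normal_gR F Fr, (IsPGroup.of_card (theta_spec F Fr).2.2).comap_of_injective _
        (Subgroup.subtype_injective _)⟩
    exact hle hr
  · rw [Subgroup.map_le_iff_le_comap]
    refine sSup_le ?_
    rintro N ⟨hN, hNp⟩
    have h1 : N.map (psiN F Fr) = ⊥ := by
      have hs := psiN_surjective F Fr
      have step : ∀ {H : Type} [Group H] [IsSimpleGroup H] (f : ↥(Subgroup.normalizer (gV F : Set G)) →* H),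
          Function.Surjective f → ¬ IsPGroup 2 H → N.map f = ⊥ := by
        intro H _ _ f hf hH
        rcases (Subgroup.Normal.map hN f hf).eq_bot_or_eq_top with h | h
        · exact h
        · exact absurd ((h ▸ hNp.map f : IsPGroup 2 ↥(⊤ : Subgroup H)).of_equiv Subgroup.topEquiv) hH
      have : IsSimpleGroup (Matrix.SpecialLinearGroup (Fin 3) (ZMod 2)) := DihedralCentTools.sl32.1
      have : IsSimpleGroup ↥(alternatingGroup (Fin 6)) := alternatingGroup.isSimpleGroup (by simp)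
      have no2 : ∀ {H : Type} [Group H] (p : ℕ), p.Prime → p ≠ 2 → p ∣ Nat.card H → [Finite H] →
          ¬ IsPGroup 2 H := by
        intro H _ p hp hp2 hd _ h
        obtain ⟨m, hm⟩ := IsPGroup.iff_card.1 h
        rw [hm] at hd
        exact hp2 ((Nat.prime_dvd_prime_iff_eq hp Nat.prime_two).1 (hp.dvd_of_dvd_pow hd))
      have a1 := step ((MonoidHom.fst _ _).comp (psiN F Fr)) (Prod.fst_surjective.comp hs)
        (no2 3 Nat.prime_three (by norm_num) (by rw [DihedralCentTools.sl32.2]; norm_num))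
      have a2 := step ((MonoidHom.snd _ _).comp (psiN F Fr)) (Prod.snd_surjective.comp hs)
        (no2 3 Nat.prime_three (by norm_num) (by
          rw [nat_card_alternatingGroup, Nat.card_eq_fintype_card, Fintype.card_fin]; decide))
      rw [eq_bot_iff]
      rintro _ ⟨n, hn, rfl⟩
      rw [Subgroup.mem_bot]
      refine Prod.ext ?_ ?_
      · exact (Subgroup.eq_bot_iff_forall _).1 a1 _ ⟨n, hn, rfl⟩
      · exact (Subgroup.eq_bot_iff_forall _).1 a2 _ ⟨n, hn, rfl⟩
    intro n hn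
    have : psiN F Fr n = 1 := (Subgroup.eq_bot_iff_forall _).1 h1 _ ⟨n, hn, rfl⟩
    rw [← MonoidHom.mem_ker, psiN_ker F Fr] at this
    exact this

theorem local_eight :
    ∃ V : Subgroup G, Cfsg.IsElementaryAbelian 2 V ∧ Nat.card V = 8 ∧ z ∈ V ∧
      ∃ R : Subgroup G, R = (Cfsg.pCore 2 ↥(Subgroup.normalizer (V : Set G))).map
          (Subgroup.normalizer (V : Set G)).subtype ∧
        Cfsg.IsSpecial 2 ↥R ∧ Nat.card R = 2 ^ 15 ∧ (Subgroup.center ↥R).map R.subtype = V ∧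
        ∃ _ : (R.subgroupOf (Subgroup.normalizer (V : Set G))).Normal,
          Nonempty (↥(Subgroup.normalizer (V : Set G)) ⧸ R.subgroupOf (Subgroup.normalizer (V : Set G)) ≃*
            Matrix.SpecialLinearGroup (Fin 3) (ZMod 2) × ↥(alternatingGroup (Fin 6))) := by
  refine ⟨gV F, ⟨⟨⟨fun a b => Subtype.ext (commute_gV F a.2 b.2)⟩⟩, fun a ha => ?_⟩, card_gV F,
    z_mem_gV F, gR F, pCore_normalizer F Fr, isSpecial_gR F Fr, (theta_spec F Fr).2.2,
    map_center_gR F Fr, ?_⟩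
  · rw [pow_two]; exact sq_gV F ha
  · haveI := normal_gR F Fr
    exact ⟨inferInstance, ⟨(QuotientGroup.quotientMulEquivOfEq (psiN_ker F Fr).symm).trans
      (QuotientGroup.quotientKerEquivOfSurjective _ (psiN_surjective F Fr))⟩⟩

end Cfsg.Agent.LargeFischer.Loc
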