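import Cfsg.Agent.Lib.LargeFischer.LocalX
import Cfsg.Agent.Lib.ClassicalSimple.UnitaryMatrix
import Cfsg.Prelude.Def_CaseTheorems

/-!
# The centraliser of an element acting as the scalar is `6.U4(3)`
-/

set_option autoImplicit false

namespace Cfsg.Agent.LargeFischer

open scoped commutatorElement
open Cfsg.Agent.LargeExtraspecial Loc

variable {G : Type*} [Group G] {z : G} {Q : Subgroup (Subgroup.centralizer ({z} : Set G))} [Q.Normal]

/-- The centraliser of `z`. -/
abbrev cG (z : G) : Subgroup G := Subgroup.centralizer ({z} : Set G)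

theorem centralizer_three_quasisimple [Finite G] (hF : Cfsg.IsOfLargeFischerTypeAt z Q) (K : GoodCoord z Q)
    (F : LFacts K) (X : Subgroup (Subgroup.centralizer ({z} : Set G))) (hX : Nat.card X = 3)
    (hXQ : (X ⊔ Q).Normal) :
    Cfsg.IsQuasisimple ↥(Subgroup.centralizer (X : Set (Subgroup.centralizer ({z} : Set G)))) ∧
    IsCyclic ↥(Subgroup.center ↥(Subgroup.centralizer (X : Set (Subgroup.centralizer ({z} : Set G))))) ∧
    Nat.card ↥(Subgroup.center ↥(Subgroup.centralizer (X : Set (Subgroup.centralizer ({z} : Set G))))) = 6 ∧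
    ∃ (L : Type) (_ : Field L) (_ : Fintype L), Fintype.card L = 9 ∧
      Nonempty (↥(Subgroup.centralizer (X : Set (Subgroup.centralizer ({z} : Set G)))) ⧸
        Subgroup.center ↥(Subgroup.centralizer (X : Set (Subgroup.centralizer ({z} : Set G)))) ≃*
          Cfsg.PSU 4 L 3) := by
  set C := Subgroup.centralizer (X : Set (cG z)) with hC
  obtain ⟨x, hxX, hx3, hxa, hgen⟩ := exists_scalar K F X hX hXQ
  have hxz : Commute (x : G) z := Subgroup.mem_centralizer_singleton_iff.1 x.2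
  obtain ⟨Fr, hFr⟩ := exists_frame K F hxz hx3 hxa
  have hQ := hub K F
  have hmemC : ∀ c : (cG z), c ∈ C ↔ (c : G) ∈ gX Fr := by
    intro c
    rw [mem_gX, hFr]
    constructor
    · intro h
      exact ⟨Subgroup.mem_centralizer_singleton_iff.1 c.2,
        (congrArg Subtype.val (h x hxX)).symm⟩
    · rintro ⟨-, h⟩
      have hle : X ≤ Subgroup.centralizer ({c} : Set (cG z)) := by
        rw [hgen, Subgroup.zpowers_le]
        exact Subgroup.mem_centralizer_singleton_iff.2 (Subtype.ext h.eq.symm)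
      exact fun a ha => Subgroup.mem_centralizer_singleton_iff.1 (hle ha)
  have hmap : C.map (cG z).subtype = gX Fr := by
    ext c
    constructor
    · rintro ⟨d, hd, rfl⟩; exact (hmemC d).1 hd
    · intro hc; exact ⟨⟨c, hc.1⟩, (hmemC _).2 hc, rfl⟩
  set zC : (cG z) := ⟨z, memC (Commute.refl z)⟩
  -- perfection
  have hz' : zC ∈ ⁅C, C⁆ := by
    have h := z_mem_commutator F Fr
    rw [← hmap, ← Subgroup.map_commutator] at h
    obtain ⟨d, hd, e⟩ := h
    exact (Subtype.ext e : d = zC) ▸ hd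
  have hperf : ⁅C, C⁆ = C := by
    refine le_antisymm (Subgroup.commutator_le.2 fun a ha b hb =>
      mul_mem (mul_mem (mul_mem ha hb) (inv_mem ha)) (inv_mem hb)) fun c hc => ?_
    have h := exists_commutator_cover F Fr ((hmemC c).1 hc)
    rw [← hmap, ← Subgroup.map_commutator] at h
    rcases h with ⟨d, hd, e⟩ | ⟨d, hd, e⟩
    · exact (Subtype.ext e : d = c) ▸ hd
    · have e' : d = c * zC := Subtype.ext e
      have := mul_mem hd (inv_mem hz')
      rwa [e', mul_inv_cancel_right] at this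
  have hPerfect : Group.IsPerfect ↥C := ⟨Subgroup.map_injective C.subtype_injective (by
    rw [Subgroup.map_subtype_commutator, hperf, ← MonoidHom.range_eq_map, Subgroup.range_subtype])⟩
  -- the centre
  have hxC : x ∈ C := (hmemC x).2 ((mem_gX Fr).2 ⟨hxz, by rw [hFr]⟩)
  have hzC : zC ∈ C := (hmemC zC).2 ((mem_gX Fr).2 ⟨Commute.refl z, by rw [hFr]; exact hxz.symm⟩)
  have hxcen : (⟨x, hxC⟩ : C) ∈ Subgroup.center C :=
    Subgroup.mem_center_iff.2 fun c => Subtype.ext (c.2 x hxX).symm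
  have hzcen : (⟨zC, hzC⟩ : C) ∈ Subgroup.center C := Subgroup.mem_center_iff.2 fun c =>
    Subtype.ext (Subtype.ext (Subgroup.mem_centralizer_singleton_iff.1 (c : (cG z)).2))
  set w : C := ⟨x, hxC⟩ * ⟨zC, hzC⟩ with hw
  have hwcen : w ∈ Subgroup.center C := mul_mem hxcen hzcen
  have ox : orderOf (⟨x, hxC⟩ : C) = 3 := by
    rw [Subgroup.orderOf_mk, ← hX, hgen, Nat.card_zpowers]
  have oz : orderOf (⟨zC, hzC⟩ : C) = 2 := by
    rw [Subgroup.orderOf_mk, Subgroup.orderOf_mk]
    exact F.setting.1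
  have ow : orderOf w = 6 := by
    rw [hw, Commute.orderOf_mul_eq_mul_orderOf_of_coprime (Subgroup.mem_center_iff.1 hzcen ⟨x, hxC⟩)
      (by rw [ox, oz]; norm_num), ox, oz]
  have hx4 : (⟨x, hxC⟩ : C) ∈ Subgroup.zpowers w ∧ (⟨zC, hzC⟩ : C) ∈ Subgroup.zpowers w := by
    have hc : Commute (⟨x, hxC⟩ : C) ⟨zC, hzC⟩ := Subgroup.mem_center_iff.1 hzcen _
    constructor
    · have e : w ^ 4 = ⟨x, hxC⟩ := by
        rw [hw, hc.mul_pow, pow_succ (⟨x, hxC⟩ : C) 3, show (⟨x, hxC⟩ : C) ^ 3 = 1 by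
          rw [← ox]; exact pow_orderOf_eq_one _, show (⟨zC, hzC⟩ : C) ^ 4 = 1 from
          orderOf_dvd_iff_pow_eq_one.1 (by rw [oz]; norm_num), one_mul, mul_one]
      rw [← e]; exact pow_mem (Subgroup.mem_zpowers w) 4
    · have e : w ^ 3 = ⟨zC, hzC⟩ := by
        rw [hw, hc.mul_pow, show (⟨x, hxC⟩ : C) ^ 3 = 1 by
          rw [← ox]; exact pow_orderOf_eq_one _, pow_succ (⟨zC, hzC⟩ : C) 2,
          show (⟨zC, hzC⟩ : C) ^ 2 = 1 by rw [← oz]; exact pow_orderOf_eq_one _, one_mul, one_mul]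
      rw [← e]; exact pow_mem (Subgroup.mem_zpowers w) 3
  have inW : ∀ (c : C) (k : ℕ), av K ((c : (cG z)) : G) = av K ((x : G)) ^ k → c ∈ Subgroup.zpowers w := by
    intro c k hk
    set d := (⟨x, hxC⟩ : C)⁻¹ ^ k * c with hd
    have hact : K.act (d : (cG z)) = 1 := by
      rw [hd]
      push_cast
      rw [map_mul, map_pow, map_inv]
      have e1 : K.act x = av K (x : G) := (av_eq K hxz).symm
      have e2 : K.act (c : (cG z)) = av K ((c : (cG z)) : G) :=
        (av_eq K (Subgroup.mem_centralizer_singleton_iff.1 (c : (cG z)).2)).symm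
      rw [e1, e2, hk, inv_pow, inv_mul_cancel]
    have hq : ((d : (cG z)) : G) ∈ qG Q := ⟨(d : (cG z)), by
      have h' : (d : (cG z)) ∈ K.act.ker := hact
      rwa [K.act_ker] at h', rfl⟩
    have hd1 : d ∈ Subgroup.zpowers w := by
      rcases eq_or_eq_of_gX F Fr ((hmemC _).1 d.2) hq with e | e
      · rw [show d = 1 from Subtype.ext (Subtype.ext e)]; exact one_mem _
      · rw [show d = ⟨zC, hzC⟩ from Subtype.ext (Subtype.ext e)]; exact hx4.2
    have : c = (⟨x, hxC⟩ : C) ^ k * d := by rw [hd, inv_pow, mul_inv_cancel_left]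
    rw [this]
    exact mul_mem (pow_mem hx4.1 k) hd1
  have hcenter : Subgroup.center C = Subgroup.zpowers w := by
    refine le_antisymm (fun c hc => ?_) (Subgroup.zpowers_le.2 hwcen)
    have hcg := (hmemC _).1 c.2
    have hcz := ((mem_gX Fr).1 hcg).1
    have hcM := av_gX Fr hcg
    have hcomm : ∀ p ∈ K.I.M, p * av K ((c : (cG z)) : G) = av K ((c : (cG z)) : G) * p := by
      intro p hp
      obtain ⟨d, hd, rfl⟩ := exists_gX F Fr hp
      have hdz := ((mem_gX Fr).1 hd).1
      have e := Subgroup.mem_center_iff.1 hc ⟨⟨d, hd.1⟩, (hmemC _).2 hd⟩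
      rw [← av_mul K hdz hcz, ← av_mul K hcz hdz]
      exact congrArg (fun t : C => av K ((t : (cG z)) : G)) e
    obtain ⟨k, hk⟩ := exists_three_scalar_aux K hcM hcomm
    refine inW c k.val (Equiv.ext fun v => ?_)
    have hpow : ∀ n : ℕ, ∀ i, (av K (x : G) ^ n) (unitC 0 i) = unitC (n : ZMod 3) i := by
      intro n
      induction n with
      | zero => intro i; simp
      | succ n ih =>
        intro i
        rw [pow_succ', Equiv.Perm.mul_apply, ih, hxa, wC_unitC, Nat.cast_succ]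
    have hxM : av K (x : G) ∈ K.I.M := av_gX Fr ((hmemC x).1 hxC)
    rw [eq_monoC (d := fun _ => k) (σ := 1) (av_sym K hcz).add (K.I.lin _ hcM)
        (fun i => by rw [hk, Equiv.Perm.one_apply]) v,
      eq_monoC (d := fun _ => k) (σ := 1) (K.I.sym _ (K.I.hMH (pow_mem hxM k.val))).add
        (K.I.lin _ (pow_mem hxM k.val))
        (fun i => by rw [hpow, Equiv.Perm.one_apply, ZMod.natCast_val, ZMod.cast_id]) v]
  have hcard : Nat.card (Subgroup.center C) = 6 := by rw [hcenter, Nat.card_zpowers, ow]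
  have hcyc : IsCyclic (Subgroup.center C) := by rw [hcenter]; infer_instance
  -- the quotient
  obtain ⟨-, N, M, hN, hM, hQN, hNM, hNcard, ⟨L, iF, iT, hL, ⟨e⟩⟩, hidx⟩ := hF
  have hker : ∀ t : (cG z), t ∈ Q ↔ K.act t = 1 := fun t => by rw [← MonoidHom.mem_ker, K.act_ker]
  have hMeq : K.I.M.comap K.act = M := by
    have hcomm : ⁅(⊤ : Subgroup (cG z)), ⊤⁆ ≤ M := Subgroup.Normal.quotient_commutative_iff_commutator_le.1
      (by
        have h2 : Nat.card ((cG z) ⧸ M) = 2 := by rw [← hidx]; rfl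
        have := isCyclic_of_prime_card (p := 2) h2
        exact ⟨⟨(IsCyclic.commGroup (α := (cG z) ⧸ M)).mul_comm⟩⟩)
    have hle : K.I.M.comap K.act ≤ M := by
      intro t ht
      obtain ⟨c, hc, hct⟩ := exists_gX F Fr ht
      have hcC : (⟨c, hc.1⟩ : (cG z)) ∈ C := (hmemC _).2 hc
      have hcM : (⟨c, hc.1⟩ : (cG z)) ∈ M := by
        rw [← hperf] at hcC
        exact hcomm (Subgroup.commutator_mono le_top le_top hcC)
      have hd : (⟨c, hc.1⟩ : (cG z))⁻¹ * t ∈ Q := by
        rw [hker, map_mul, map_inv, ← av_eq K ((mem_gX Fr).1 hc).1, hct, inv_mul_cancel]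
      have := mul_mem hcM (hNM (hQN hd))
      rwa [mul_inv_cancel_left] at this
    refine Subgroup.eq_of_le_of_card_ge hle ?_
    have e1 : (K.I.M.comap K.act).index = 2 := by rw [Subgroup.index_comap, K.range_act]; exact K.I.index_two
    have h1 := Subgroup.card_mul_index (K.I.M.comap K.act)
    have h2 := Subgroup.card_mul_index M
    rw [e1] at h1
    rw [hidx] at h2
    omega
  -- an element of order three of `N`
  have : Fact (Nat.Prime 3) := ⟨Nat.prime_three⟩
  obtain ⟨y, hy⟩ := exists_prime_orderOf_dvd_card' (G := N) 3 (hNcard ▸ Dvd.intro _ rfl)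
  set X' := Subgroup.zpowers (y : (cG z)) with hX'
  have oy : orderOf (y : (cG z)) = 3 := by rw [Subgroup.orderOf_coe]; exact hy
  have hX'card : Nat.card X' = 3 := by rw [hX', Nat.card_zpowers, oy]
  have hNsup : X' ⊔ Q = N := by
    refine Subgroup.eq_of_le_of_card_ge (sup_le (Subgroup.zpowers_le.2 y.2) hQN) ?_
    have d1 : 3 ∣ Nat.card ↥(X' ⊔ Q) := hX'card ▸ Subgroup.card_dvd_of_le le_sup_left
    have d2 : Nat.card Q ∣ Nat.card ↥(X' ⊔ Q) := Subgroup.card_dvd_of_le le_sup_right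
    have hco : Nat.Coprime 3 (Nat.card Q) := by
      rw [F.setting.2.2.2.1]; exact Nat.Coprime.pow_right _ (by norm_num)
    rw [hNcard]
    exact Nat.le_of_dvd Nat.card_pos (Nat.Coprime.mul_dvd_of_dvd_of_dvd hco d1 d2)
  obtain ⟨x', hx'X, -, hx'a, hx'gen⟩ := exists_scalar K F X' hX'card (hNsup.symm ▸ hN)
  have hx'x : K.act x' = K.act x := by
    rw [← av_eq K hxz, ← av_eq K (Subgroup.mem_centralizer_singleton_iff.1 x'.2)]
    exact Equiv.ext fun v => by rw [hxa, hx'a]
  have hxN : x ∈ N := by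
    have hd : x'⁻¹ * x ∈ Q := by rw [hker, map_mul, map_inv, hx'x, inv_mul_cancel]
    have := mul_mem (hNsup ▸ Subgroup.mem_sup_left hx'X : x' ∈ N) (hQN hd)
    rwa [mul_inv_cancel_left] at this
  have hNact : ∀ t ∈ N, ∃ k : ℕ, K.act t = K.act x ^ k := by
    intro t ht
    rw [← hNsup] at ht
    have hle : X' ⊔ Q ≤ (Subgroup.zpowers (K.act x)).comap K.act := by
      refine sup_le ?_ fun q hq => ?_
      · rw [hx'gen, Subgroup.zpowers_le, Subgroup.mem_comap, hx'x]
        exact Subgroup.mem_zpowers _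
      · rw [Subgroup.mem_comap, (hker q).1 hq]; exact one_mem _
    obtain ⟨k, hk⟩ := Subgroup.mem_zpowers_iff.1 (hle ht)
    refine ⟨(k % 3).toNat, ?_⟩
    have h3 : K.act x ^ (3 : ℤ) = 1 := by
      rw [show (3 : ℤ) = ((3 : ℕ) : ℤ) from rfl, zpow_natCast, ← map_pow, show x ^ 3 = 1 from
        Subtype.ext (by rw [SubmonoidClass.coe_pow, pow_three']; exact hx3), map_one]
    rw [← hk, ← zpow_natCast (K.act x) (k % 3).toNat, Int.toNat_of_nonneg (Int.emod_nonneg k (by norm_num))]
    conv_lhs => rw [← Int.emod_add_mul_ediv k 3, zpow_add, zpow_mul, h3, one_zpow, mul_one]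
  have hCM : C ≤ M := fun c hc => by
    rw [← hMeq, Subgroup.mem_comap, ← av_eq K (Subgroup.mem_centralizer_singleton_iff.1 c.2)]
    exact av_gX Fr ((hmemC c).1 hc)
  let φ : C →* M ⧸ N.subgroupOf M := (QuotientGroup.mk' _).comp (Subgroup.inclusion hCM)
  have hsurj : Function.Surjective φ := by
    intro t
    obtain ⟨m, rfl⟩ := QuotientGroup.mk'_surjective _ t
    have hm : K.act (m : (cG z)) ∈ K.I.M := hMeq.ge m.2
    obtain ⟨c, hc, hcm⟩ := exists_gX F Fr hm
    refine ⟨⟨⟨c, hc.1⟩, (hmemC _).2 hc⟩, (QuotientGroup.eq).2 ?_⟩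
    rw [Subgroup.mem_subgroupOf]
    refine hQN ((hker _).2 ?_)
    push_cast
    rw [map_mul, map_inv, ← hcm, av_eq K ((mem_gX Fr).1 hc).1]
    exact inv_mul_cancel _
  have hphi : φ.ker = Subgroup.center C := by
    ext c
    rw [MonoidHom.mem_ker]
    show QuotientGroup.mk (Subgroup.inclusion hCM c) = 1 ↔ _
    rw [QuotientGroup.eq_one_iff, Subgroup.mem_subgroupOf]
    constructor
    · intro h
      obtain ⟨k, hk⟩ := hNact _ h
      rw [hcenter]
      refine inW c k ?_
      rw [av_eq K (Subgroup.mem_centralizer_singleton_iff.1 (c : (cG z)).2), av_eq K hxz]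
      exact hk
    · intro h
      rw [hcenter] at h
      have hzN : zC ∈ N := hQN ((hker _).2 (by
        rw [← av_eq K (Commute.refl z)]; exact (av_eq_one K (Commute.refl z)).2 hQ.mem))
      have hle : Subgroup.zpowers w ≤ N.comap C.subtype := Subgroup.zpowers_le.2 (mul_mem hxN hzN)
      exact hle h
  let iso : C ⧸ Subgroup.center C ≃* Cfsg.PSU 4 L 3 :=
    ((QuotientGroup.quotientMulEquivOfEq hphi.symm).trans
      (QuotientGroup.quotientKerEquivOfSurjective φ hsurj)).trans e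
  have hsimp : IsSimpleGroup (Cfsg.PSU 4 L 3) :=
    ClassicalSimple.PSU_isSimpleGroup (n := 4) (q := 3) (by rw [hL]; norm_num) (by norm_num) (by norm_num)
  exact ⟨⟨hPerfect, iso.isSimpleGroup⟩, hcyc, hcard, L, iF, iT, hL, ⟨iso⟩⟩

end Cfsg.Agent.LargeFischer
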