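import Cfsg.Agent.Lib.LargeFischer.LocalFrame

/-!
# The subgroup `R` generated by the intersections of two cores; the centraliser of `V`
-/

set_option autoImplicit false

namespace Cfsg.Agent.LargeFischer.Loc

open scoped commutatorElement
open Cfsg.Agent.LargeExtraspecial

variable {G : Type*} [Group G] {z : G} {Q : Subgroup (Subgroup.centralizer ({z} : Set G))} [Q.Normal]
  {K : GoodCoord z Q} [Finite G] (F : LFacts K)

include F

/-- The intersection of the cores of two points. -/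
noncomputable def gP (_F : LFacts K) (a b : G) : Subgroup G := coreV (qG Q) z a ⊓ coreV (qG Q) z b

/-- The centraliser of `V`. -/
noncomputable def gC : Subgroup G := Subgroup.centralizer (gV F : Set G)

/-- The generators of `R`. -/
def gensR : Set G :=
  {e | ∃ a ∈ gV F, ∃ b ∈ gV F, a ≠ 1 ∧ b ≠ 1 ∧ b ≠ a ∧ e ∈ gP F a b}

/-- The subgroup generated by the intersections. -/
noncomputable def gR : Subgroup G := Subgroup.closure (gensR F)

/-- The elements of `Q` centralising `V`. -/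
noncomputable def gW (_F : LFacts K) : Subgroup G := codeSub K isCodeGrp_inP

theorem gP_comm (a b : G) : gP F a b = gP F b a := inf_comm ..

variable (Fr : Frame K)

include Fr

theorem conj_mem_gV {k a : G} (hk : k ∈ Subgroup.normalizer (gV F : Set G)) (ha : a ∈ gV F) :
    k * a * k⁻¹ ∈ gV F := (Subgroup.mem_normalizer_iff.1 hk a).1 ha

theorem conj_mem_gP_iff {k a b e : G} (ha : a ∈ gV F) (ha1 : a ≠ 1) (hb : b ∈ gV F) (hb1 : b ≠ 1) :
    k * e * k⁻¹ ∈ gP F (k * a * k⁻¹) (k * b * k⁻¹) ↔ e ∈ gP F a b :=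
  and_congr (core_conj_iff F Fr ha ha1) (core_conj_iff F Fr hb hb1)

theorem gP_zs : gP F z Fr.s = codeSub K isCodeGrp_inT := by
  rw [gP, coreV_self (hub K F)]
  exact E_eq F Fr

theorem s_ne_one : Fr.s ≠ 1 := fun e => by
  have := Fr.s_code
  rw [e, cq_one K] at this
  exact absurd this (by decide)

theorem s_ne_z : Fr.s ≠ z := fun e => by
  have := Fr.s_code
  rw [e, cq_z K F] at this
  exact absurd this (by decide)

theorem s'_ne_one : Fr.s' ≠ 1 := fun e => by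
  have := s'_code F Fr
  rw [e, cq_one K] at this
  exact absurd this (by decide)

theorem s'_ne_z : Fr.s' ≠ z := fun e => by
  have := s'_code F Fr
  rw [e, cq_z K F] at this
  exact absurd this (by decide)

theorem s'_ne_s : Fr.s' ≠ Fr.s := fun e => by
  have := s'_code F Fr
  rw [e, Fr.s_code] at this
  exact absurd this (by decide)

theorem gP_zs_third {e : G} (he : e ∈ gP F z Fr.s) : e ∈ coreV (qG Q) z (Fr.s * z) := by
  have hQ := hub K F
  obtain ⟨q, hq, hqs⟩ := exists_flip hQ Fr.s_mem (s_ne_one F Fr) (s_ne_z F Fr)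
  rw [gP_zs F Fr] at he
  have hm : q⁻¹ * e * q ∈ codeSub K isCodeGrp_inT := by
    refine ⟨mul_mem (mul_mem (inv_mem hq) he.1) hq, ?_⟩
    have e' : cq K (q⁻¹ * e * q) = cq K e := by
      rcases hQ.comm q⁻¹ (inv_mem hq) e he.1 with h | h <;> rw [inv_inv] at h <;> rw [h]
      exact cq_mul_z K F he.1
    rw [e']; exact he.2
  rw [← gP_zs F Fr] at hm
  have := (core_conj_iff F Fr (k := q) (s_mem_gV F Fr) (s_ne_one F Fr)).2 hm.2
  rwa [hqs, show q * (q⁻¹ * e * q) * q⁻¹ = e by group] at this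

theorem gP_third {a b e : G} (ha : a ∈ gV F) (ha1 : a ≠ 1) (hb : b ∈ gV F) (hb1 : b ≠ 1) (hab : b ≠ a)
    (he : e ∈ gP F a b) : e ∈ coreV (qG Q) z (b * a) := by
  obtain ⟨k, hk, rfl, rfl⟩ := exists_pair F Fr ha ha1 hb hb1 hab
  have h : k⁻¹ * e * k ∈ gP F z Fr.s := by
    rw [← conj_mem_gP_iff F Fr (k := k) (z_mem_gV F) (hub K F).ne_one (s_mem_gV F Fr) (s_ne_one F Fr),
      show k * (k⁻¹ * e * k) * k⁻¹ = e by group]
    exact he
  have h3 := gP_zs_third F Fr h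
  have hne : Fr.s * z ≠ 1 := fun e' => s_ne_z F Fr
    ((eq_inv_of_mul_eq_one_left e').trans (hub K F).inv_z)
  have := (core_conj_iff F Fr (k := k) (mul_mem (s_mem_gV F Fr) (z_mem_gV F)) hne).2 h3
  rwa [show k * (k⁻¹ * e * k) * k⁻¹ = e by group,
    show k * (Fr.s * z) * k⁻¹ = k * Fr.s * k⁻¹ * (k * z * k⁻¹) by group] at this

theorem mem_gC {c : G} : c ∈ gC F ↔ Commute c z ∧ Commute c Fr.s ∧ Commute c Fr.s' := by
  constructor
  · intro h
    exact ⟨(h z (z_mem_gV F)).symm, (h Fr.s (s_mem_gV F Fr)).symm, (h Fr.s' (s'_mem_gV F Fr)).symm⟩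
  · rintro ⟨hz, hs, hs'⟩ a ha
    suffices h : Commute c a from h.symm.eq
    rcases gV_cases F Fr ha with (rfl | rfl) | (rfl | rfl) | (rfl | rfl) | (rfl | rfl)
    exacts [Commute.one_right c, hz, hs, hs.mul_right hz, hs', hs'.mul_right hz, hs.mul_right hs',
      (hs.mul_right hs').mul_right hz]

theorem gW_eq : gW F = qG Q ⊓ gC F := by
  have key : ∀ a : G, a ∈ qG Q →
      ((Commute a Fr.s ∧ Commute a Fr.s') ↔ inP (cq K a).1 = true) := fun a ha => by
    rw [commute_iff K F ha Fr.s_mem, commute_iff K F ha (s'_mem F Fr), Fr.s_code, s'_code F Fr]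
    simp [inP]
  ext a
  constructor
  · rintro ⟨ha, hP⟩
    exact ⟨ha, (mem_gC F Fr).2 ⟨qG_commute ha, (key a ha).2 hP⟩⟩
  · rintro ⟨ha, hc⟩
    exact ⟨ha, (key a ha).1 ((mem_gC F Fr).1 hc).2⟩

theorem conj_mem_gC {k c : G} (hk : k ∈ Subgroup.normalizer (gV F : Set G)) (hc : c ∈ gC F) :
    k * c * k⁻¹ ∈ gC F := by
  intro a ha
  have h : k⁻¹ * a * k ∈ gV F := by simpa using conj_mem_gV F Fr (inv_mem hk) ha
  have := congrArg (fun t => k * t * k⁻¹) (hc _ h)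
  calc a * (k * c * k⁻¹) = k * (k⁻¹ * a * k * c) * k⁻¹ := by group
    _ = k * (c * (k⁻¹ * a * k)) * k⁻¹ := this
    _ = k * c * k⁻¹ * a := by group

theorem gP_le_gC {a b : G} (ha : a ∈ gV F) (ha1 : a ≠ 1) (hb : b ∈ gV F) (hb1 : b ≠ 1) (hab : b ≠ a) :
    gP F a b ≤ gC F := by
  obtain ⟨k, hk, rfl, rfl⟩ := exists_pair F Fr ha ha1 hb hb1 hab
  intro e he
  have h : k⁻¹ * e * k ∈ gP F z Fr.s := by
    rw [← conj_mem_gP_iff F Fr (k := k) (z_mem_gV F) (hub K F).ne_one (s_mem_gV F Fr) (s_ne_one F Fr),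
      show k * (k⁻¹ * e * k) * k⁻¹ = e by group]
    exact he
  rw [gP_zs F Fr] at h
  have h' : k⁻¹ * e * k ∈ gW F := ⟨h.1, (inT_perp h.2).2⟩
  rw [gW_eq F Fr] at h'
  have := conj_mem_gC F Fr hk h'.2
  rwa [show k * (k⁻¹ * e * k) * k⁻¹ = e by group] at this

theorem sq_gP {a b e : G} (ha : a ∈ gV F) (ha1 : a ≠ 1) (hb : b ∈ gV F) (hb1 : b ≠ 1) (hab : b ≠ a)
    (he : e ∈ gP F a b) : e * e = 1 := by
  have h1 := (hub_coreV (hub K F) (isConj_gV F Fr ha ha1)).sq_cases e he.1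
  have h2 := (hub_coreV (hub K F) (isConj_gV F Fr hb hb1)).sq_cases e he.2
  rcases h1 with h1 | h1
  · exact h1
  rcases h2 with h2 | h2
  · exact h2
  · exact absurd (h2.symm.trans h1) hab

theorem comm_gensR {e f : G} (he : e ∈ gensR F) (hf : f ∈ gensR F) : ⁅e, f⁆ ∈ gV F := by
  obtain ⟨a, ha, b, hb, ha1, hb1, hab, hea, heb⟩ := he
  obtain ⟨c, hc, d, hd, hc1, hd1, hcd, hfc, hfd⟩ := hf
  obtain ⟨k, hk, rfl, rfl⟩ := exists_pair F Fr ha ha1 hb hb1 hab
  have hQ := hub K F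
  have bring : ∀ {t : G}, t ∈ gV F → k⁻¹ * t * k ∈ gV F := fun ht => by
    simpa using conj_mem_gV F Fr (inv_mem hk) ht
  have hP : k * Fr.s * k⁻¹ * (k * z * k⁻¹) = k * (Fr.s * z) * k⁻¹ := by group
  have hw : ∃ w ∈ gV F, e ∈ coreV (qG Q) z w ∧ f ∈ coreV (qG Q) z w ∧ w ≠ 1 := by
    have e3 := gP_third F Fr ha ha1 hb hb1 hab ⟨hea, heb⟩
    have f3 := gP_third F Fr hc hc1 hd hd1 hcd ⟨hfc, hfd⟩
    have line : ∀ t ∈ gV F, t ≠ 1 → (cq K (k⁻¹ * t * k) = 0 ∨ cq K (k⁻¹ * t * k) = 85) →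
        e ∈ coreV (qG Q) z t := by
      intro t ht ht1 h
      have ht' := bring ht
      have hne : k⁻¹ * t * k ≠ 1 := fun h' => ht1 (by
        calc t = k * (k⁻¹ * t * k) * k⁻¹ := by group
          _ = 1 := by rw [h']; group)
      have back : ∀ u, k⁻¹ * t * k = u → t = k * u * k⁻¹ := fun u h' => by rw [← h']; group
      rcases h with h | h
      · rw [back z (((cq_zero_iff K ht'.1).1 h).resolve_left hne)]; exact hea
      · rcases rel_of_cq K F ht'.1 Fr.s_mem (h.trans Fr.s_code.symm) with h' | h' <;> rw [back _ h']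
        · exact heb
        · rw [← hP]; exact e3
    by_cases h1 : cq K (k⁻¹ * c * k) = 0 ∨ cq K (k⁻¹ * c * k) = 85
    · exact ⟨c, hc, line c hc hc1 h1, hfc, hc1⟩
    by_cases h2 : cq K (k⁻¹ * d * k) = 0 ∨ cq K (k⁻¹ * d * k) = 85
    · exact ⟨d, hd, line d hd hd1 h2, hfd, hd1⟩
    have hdc1 : d * c ≠ 1 := fun h => hcd (by
      rw [← mul_left_inj c, h, sq_gV F hc])
    refine ⟨d * c, mul_mem hd hc, line _ (mul_mem hd hc) hdc1 ?_, f3, hdc1⟩
    rw [show k⁻¹ * (d * c) * k = k⁻¹ * d * k * (k⁻¹ * c * k) by group,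
      cq_mul K (bring hd).1 (bring hc).1]
    rcases inF_cases (bring hc).2 with x1 | x1 | x1 | x1 <;>
      rcases inF_cases (bring hd).2 with x2 | x2 | x2 | x2 <;> simp [x1, x2] at h1 h2 ⊢ <;> decide +kernel
  obtain ⟨w, hw, hew, hfw, hw1⟩ := hw
  rw [commutatorElement_def]
  rcases (hub_coreV hQ (isConj_gV F Fr hw hw1)).comm e hew f hfw with h | h <;> rw [h]
  · simp
  · rw [((hub_coreV hQ (isConj_gV F Fr hw hw1)).central f hfw).eq, mul_inv_cancel_right]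
    exact hw

theorem gR_le_gC : gR F ≤ gC F := by
  rw [gR, Subgroup.closure_le]
  rintro e ⟨a, ha, b, hb, ha1, hb1, hab, he⟩
  exact gP_le_gC F Fr ha ha1 hb hb1 hab he

theorem gC_le_normalizer : gC F ≤ Subgroup.normalizer (gV F : Set G) := by
  intro c hc
  refine mem_normalizer_of_conj (fun w hw => ?_) fun w hw => ?_
  · rwa [← hc w hw, mul_inv_cancel_right]
  · rwa [mul_assoc, hc w hw, inv_mul_cancel_left]

theorem comm_gR {a b : G} (ha : a ∈ gR F) (hb : b ∈ gR F) : ⁅a, b⁆ ∈ gV F :=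
  commutator_mem_of_closure
    (fun e he => gC_le_normalizer F Fr (gR_le_gC F Fr (Subgroup.subset_closure he)))
    (fun _ he _ hf => comm_gensR F Fr he hf) ha hb

theorem sq_gR {r : G} (hr : r ∈ gR F) : r * r ∈ gV F := by
  suffices h : r ∈ gR F ∧ r * r ∈ gV F from h.2
  induction hr using Subgroup.closure_induction with
  | mem e he =>
    refine ⟨Subgroup.subset_closure he, ?_⟩
    obtain ⟨a, ha, b, hb, ha1, hb1, hab, he⟩ := he
    rw [sq_gP F Fr ha ha1 hb hb1 hab he]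
    exact one_mem _
  | one => simp
  | mul a b _ _ ha hb =>
    refine ⟨mul_mem ha.1 hb.1, ?_⟩
    have e : a * b * (a * b) = a * a * (⁅a⁻¹, b⁆ * (b * b)) := by
      simp only [commutatorElement_def]; group
    rw [e]
    exact mul_mem ha.2 (mul_mem (comm_gR F Fr (inv_mem ha.1) hb.1) hb.2)
  | inv a _ ha => exact ⟨inv_mem ha.1, by rw [← mul_inv_rev]; exact inv_mem ha.2⟩

theorem conj_mem_gR {k r : G} (hk : k ∈ Subgroup.normalizer (gV F : Set G)) (hr : r ∈ gR F) :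
    k * r * k⁻¹ ∈ gR F := by
  have hle : gR F ≤ (gR F).comap (MulAut.conj k).toMonoidHom := by
    rw [gR, Subgroup.closure_le]
    rintro e ⟨a, ha, b, hb, ha1, hb1, hab, he⟩
    refine Subgroup.subset_closure ⟨k * a * k⁻¹, conj_mem_gV F Fr hk ha, k * b * k⁻¹,
      conj_mem_gV F Fr hk hb, fun h => ha1 (conj_eq_one_iff.1 h), fun h => hb1 (conj_eq_one_iff.1 h),
      fun h => hab (mul_left_cancel (mul_right_cancel h)), ?_⟩
    exact (conj_mem_gP_iff F Fr ha ha1 hb hb1).2 he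
  exact hle hr

theorem split_gW {q : G} (hq : q ∈ gW F) :
    ∃ e ∈ gP F z Fr.s, ∃ f ∈ gP F z Fr.s', q = e * f := by
  have hQ := hub K F
  obtain ⟨t, ht, ht'⟩ := exists_split hq.2
  obtain ⟨a, ha, hat⟩ := exists_code K t
  have hf : Fr.x * a * Fr.x⁻¹ ∈ gP F z Fr.s' := by
    have hm : a ∈ gP F z Fr.s := by rw [gP_zs F Fr]; exact ⟨ha, by rw [hat]; exact ht⟩
    have := (conj_mem_gP_iff F Fr (k := Fr.x) (z_mem_gV F) hQ.ne_one (s_mem_gV F Fr) (s_ne_one F Fr)).2 hm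
    rwa [show Fr.x * z * Fr.x⁻¹ = z by rw [Fr.x_comm.eq, mul_inv_cancel_right]] at this
  refine ⟨q * (Fr.x * a * Fr.x⁻¹)⁻¹, ?_, _, hf, by rw [inv_mul_cancel_right]⟩
  have hxa := qG_normal (Q := Q) Fr.x_comm ha
  rw [gP_zs F Fr]
  refine ⟨mul_mem hq.1 (inv_mem hxa), ?_⟩
  have h := cq_mul K (mul_mem hq.1 (inv_mem hxa)) hxa
  rw [inv_mul_cancel_right, cq_conj K Fr.x_comm ha, Fr.x_act, hat] at h
  have h2 := congrArg (fun v => xo v (wC t)) h
  simp only [xo_assoc, xo_self, xo_zero] at h2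
  rw [← h2]; exact ht'

theorem gW_le_gR : gW F ≤ gR F := by
  intro q hq
  obtain ⟨e, he, f, hf, rfl⟩ := split_gW F Fr hq
  refine mul_mem (Subgroup.subset_closure ⟨z, z_mem_gV F, Fr.s, s_mem_gV F Fr, (hub K F).ne_one,
    s_ne_one F Fr, s_ne_z F Fr, he⟩) (Subgroup.subset_closure ⟨z, z_mem_gV F, Fr.s', s'_mem_gV F Fr,
    (hub K F).ne_one, s'_ne_one F Fr, s'_ne_z F Fr, hf⟩)

theorem core_inf_gC_le {a e : G} (ha : a ∈ gV F) (ha1 : a ≠ 1) (he : e ∈ coreV (qG Q) z a)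
    (hc : e ∈ gC F) : e ∈ gR F := by
  obtain ⟨k, hk, rfl⟩ := exists_move F Fr ha ha1
  have h1 : k⁻¹ * e * k ∈ gW F := by
    rw [gW_eq F Fr]
    refine ⟨?_, by simpa using conj_mem_gC F Fr (inv_mem hk) hc⟩
    have he' : k * (k⁻¹ * e * k) * k⁻¹ ∈ coreV (qG Q) z (k * z * k⁻¹) := by
      rw [show k * (k⁻¹ * e * k) * k⁻¹ = e by group]
      exact he
    have h := (core_conj_iff F Fr (z_mem_gV F) (hub K F).ne_one).1 he'
    rwa [coreV_self (hub K F)] at h
  have := conj_mem_gR F Fr hk (gW_le_gR F Fr h1)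
  rwa [show k * (k⁻¹ * e * k) * k⁻¹ = e by group] at this

theorem av_fix {c : G} (hc : c ∈ gC F) :
    av K c ∈ K.I.M ∧ av K c 85 = 85 ∧ av K c 170 = 170 := by
  obtain ⟨hz, hs, hs'⟩ := (mem_gC F Fr).1 hc
  have e1 : av K c 85 = 85 := by
    rw [← Fr.s_code, ← cq_conj K hz Fr.s_mem, hs.eq, mul_inv_cancel_right]
  have e2 : av K c 170 = 170 := by
    rw [← s'_code F Fr, ← cq_conj K hz (s'_mem F Fr), hs'.eq, mul_inv_cancel_right]
  refine ⟨lin_of_commute K (av_mem K hz) (v := 85) (by decide) ?_, e1, e2⟩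
  rw [e1, show wC (85 : Cd) = 170 by decide +kernel, e2]

theorem av_inF {c : G} (hc : c ∈ gC F) {v : Cd} (hv : inF v.1 = true) : av K c v = v := by
  obtain ⟨-, e1, e2⟩ := av_fix F Fr hc
  have hz := ((mem_gC F Fr).1 hc).1
  rcases inF_cases hv with rfl | rfl | rfl | rfl
  · exact (av_sym K hz).add.zero
  · exact e1
  · exact e2
  · rw [show (255 : Cd) = xo 85 170 by decide +kernel, (av_sym K hz).add, e1, e2]

/-- Every element of `M` fixing `85` is induced by `C(V)`. -/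
theorem exists_gC {p : Equiv.Perm Cd} (hp : p ∈ K.I.M) (h85 : p 85 = 85) :
    ∃ c ∈ gC F, av K c = p := by
  have h170 : p 170 = 170 := by
    rw [show (170 : Cd) = wC 85 by decide +kernel, K.I.lin p hp, h85]
  obtain ⟨c, hc, hp', e1, e2⟩ := exists_lift_two K F (K.I.hMH hp) Fr.s_mem (s'_mem F Fr) Fr.s_mem
    (s'_mem F Fr) (by rw [Fr.s_code, h85]) (by rw [s'_code F Fr, h170]) (sq_gV F (s_mem_gV F Fr))
    (sq_gV F (s'_mem_gV F Fr)) (by rw [Fr.s_code]; decide) (by rw [s'_code F Fr]; decide)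
    (by rw [Fr.s_code, s'_code F Fr]; decide)
  exact ⟨c, (mem_gC F Fr).2 ⟨hc, mul_inv_eq_iff_eq_mul.1 e1, mul_inv_eq_iff_eq_mul.1 e2⟩, hp'⟩

theorem gC_le_C : gC F ≤ Subgroup.centralizer ({z} : Set G) :=
  fun _ hc => memC ((mem_gC F Fr).1 hc).1

end Cfsg.Agent.LargeFischer.Loc
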