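import Cfsg.Agent.Lib.LargeFischer.LocalCode
import Cfsg.Agent.Lib.LargeFischer.LocalHub
import Cfsg.Agent.Lib.LargeFischer.Conjugate
import Cfsg.Agent.Lib.TI.Extraspecial

/-!
# The coordinates on elements of `G`; subgroups of `Q` cut out by codes

`LFacts`: what is used about the conjugates of `z` in `Q`.
-/

set_option autoImplicit false

namespace Cfsg.Agent.LargeFischer

open Cfsg.Agent.LargeExtraspecial

variable {G : Type*} [Group G] {z : G} {Q : Subgroup (Subgroup.centralizer ({z} : Set G))} [Q.Normal]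

/-- The facts on the conjugates of `z` in `Q` used for the local subgroup. -/
structure LFacts (K : GoodCoord z Q) : Prop where
  setting : Cfsg.IsExtraspecialCentralizerSetting z Q 6
  conjQ : ∀ q : ↥Q, qN (K.co q).1 = 0 → K.co q ≠ 0 →
    (IsConj z ((q : Subgroup.centralizer ({z} : Set G)) : G) ↔ inO 0 (K.co q).1 = false)
  trans : ∀ v : Cd, qN v.1 = 0 → v ≠ 0 → inO 0 v.1 = false → ∃ p ∈ K.I.M, p 85 = v
  inter : ∀ (g : G) (q : ↥Q), ((q : Subgroup.centralizer ({z} : Set G)) : G) = g * z * g⁻¹ →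
    K.co q = 85 → ∀ v : Cd, inT v.1 = true ↔
      ∃ a : ↥Q, ((a : Subgroup.centralizer ({z} : Set G)) : G) ∈ (qG Q).map (MulAut.conj g).toMonoidHom ∧
        K.co a = v

theorem card_ker_mul_range {A B : Type*} [Group A] [Group B] (f : A →* B) :
    Nat.card A = Nat.card f.ker * Nat.card f.range := by
  rw [← Subgroup.card_mul_index f.ker, Subgroup.index_ker]

namespace Loc

variable (K : GoodCoord z Q)

open Classical in
/-- The code of an element of `Q`. -/
noncomputable def cq (a : G) : Cd :=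
  if h : ∃ q : ↥Q, ((q : Subgroup.centralizer ({z} : Set G)) : G) = a then K.co h.choose else 0

open Classical in
/-- The action of an element of `C(z)`. -/
noncomputable def av (c : G) : Equiv.Perm Cd :=
  if h : c ∈ Subgroup.centralizer ({z} : Set G) then K.act ⟨c, h⟩ else 1

theorem mem_qG {a : G} (ha : a ∈ qG Q) : ∃ q : ↥Q, ((q : Subgroup.centralizer ({z} : Set G)) : G) = a := by
  obtain ⟨c, hc, rfl⟩ := ha
  exact ⟨⟨c, hc⟩, rfl⟩

theorem coe_mem_qG (q : ↥Q) : ((q : Subgroup.centralizer ({z} : Set G)) : G) ∈ qG Q := ⟨q, q.2, rfl⟩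

theorem cq_coe (q : ↥Q) : cq K ((q : Subgroup.centralizer ({z} : Set G)) : G) = K.co q := by
  have h : ∃ r : ↥Q, ((r : Subgroup.centralizer ({z} : Set G)) : G) =
      ((q : Subgroup.centralizer ({z} : Set G)) : G) := ⟨q, rfl⟩
  rw [cq, dif_pos h, Subtype.ext (Subtype.ext h.choose_spec) (a1 := h.choose) (a2 := q)]

theorem memC {c : G} (hc : Commute c z) : c ∈ Subgroup.centralizer ({z} : Set G) :=
  Subgroup.mem_centralizer_singleton_iff.2 hc.eq

theorem av_eq {c : G} (hc : Commute c z) : av K c = K.act ⟨c, memC hc⟩ := by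
  rw [av, dif_pos (memC hc)]

theorem cq_mul {a b : G} (ha : a ∈ qG Q) (hb : b ∈ qG Q) : cq K (a * b) = xo (cq K a) (cq K b) := by
  obtain ⟨p, rfl⟩ := mem_qG ha
  obtain ⟨q, rfl⟩ := mem_qG hb
  rw [← Subgroup.coe_mul, ← Subgroup.coe_mul, cq_coe, cq_coe, cq_coe, K.co_mul]

theorem cq_zero_iff {a : G} (ha : a ∈ qG Q) : cq K a = 0 ↔ a = 1 ∨ a = z := by
  obtain ⟨p, rfl⟩ := mem_qG ha
  rw [cq_coe, K.co_eq_zero]

theorem cq_sq {a : G} (ha : a ∈ qG Q) : a * a = 1 ↔ qN (cq K a).1 = 0 := by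
  obtain ⟨p, rfl⟩ := mem_qG ha
  rw [cq_coe, K.co_sq]

theorem exists_code (v : Cd) : ∃ a ∈ qG Q, cq K a = v := by
  obtain ⟨q, rfl⟩ := K.co_surjective v
  exact ⟨_, coe_mem_qG q, cq_coe K q⟩

theorem qG_commute {a : G} (ha : a ∈ qG Q) : Commute a z := by
  obtain ⟨c, -, rfl⟩ := ha
  exact Subgroup.mem_centralizer_singleton_iff.1 c.2

theorem qG_normal {c a : G} (hc : Commute c z) (ha : a ∈ qG Q) : c * a * c⁻¹ ∈ qG Q := by
  obtain ⟨q, hq, rfl⟩ := ha
  exact ⟨⟨c, memC hc⟩ * q * ⟨c, memC hc⟩⁻¹, (inferInstance : Q.Normal).conj_mem q hq _, rfl⟩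

theorem cq_conj {c a : G} (hc : Commute c z) (ha : a ∈ qG Q) :
    cq K (c * a * c⁻¹) = av K c (cq K a) := by
  obtain ⟨q, rfl⟩ := mem_qG ha
  rw [av_eq K hc, cq_coe, K.act_co, ← cq_coe K]
  rfl

theorem av_mul {c d : G} (hc : Commute c z) (hd : Commute d z) : av K (c * d) = av K c * av K d := by
  rw [av_eq K hc, av_eq K hd, av_eq K (hc.mul_left hd), ← map_mul]
  rfl

theorem av_eq_one {c : G} (hc : Commute c z) : av K c = 1 ↔ c ∈ qG Q := by
  rw [av_eq K hc, ← MonoidHom.mem_ker, K.act_ker]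
  exact ⟨fun h => ⟨_, h, rfl⟩, fun ⟨d, hd, e⟩ => (Subtype.ext e : d = ⟨c, memC hc⟩) ▸ hd⟩

theorem av_one : av K (1 : G) = 1 := (av_eq_one K (Commute.one_left z)).2 (one_mem _)

theorem av_inv {c : G} (hc : Commute c z) : av K c⁻¹ = (av K c)⁻¹ := by
  refine eq_inv_of_mul_eq_one_left ?_
  rw [← av_mul K hc.inv_left hc, inv_mul_cancel, av_one]

theorem av_mem {c : G} (hc : Commute c z) : av K c ∈ K.I.H := by
  rw [av_eq K hc, ← K.range_act]
  exact ⟨_, rfl⟩

theorem av_sym {c : G} (hc : Commute c z) : IsSym (av K c) := K.I.sym _ (av_mem K hc)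

theorem exists_av {p : Equiv.Perm Cd} (hp : p ∈ K.I.H) : ∃ c, Commute c z ∧ av K c = p := by
  rw [← K.range_act] at hp
  obtain ⟨⟨c, hc⟩, rfl⟩ := hp
  exact ⟨c, Subgroup.mem_centralizer_singleton_iff.1 hc,
    av_eq K (Subgroup.mem_centralizer_singleton_iff.1 hc)⟩

/-- Not both linear and semilinear. -/
theorem lin_of_commute {p : Equiv.Perm Cd} (hp : p ∈ K.I.H) {v : Cd} (hv : v ≠ 0)
    (hc : p (wC v) = wC (p v)) : p ∈ K.I.M := by
  by_contra h
  have e := K.good.anti p hp h v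
  rw [hc] at e
  have hpv : p v ≠ 0 := fun e0 => hv (p.injective (e0.trans (K.I.sym p hp).add.zero.symm))
  apply hpv
  have key : allB (fun v => !(wN (wN v) == wN v) || v == 0) 12 0 = true := by decide +kernel
  have h := forall_cd key (p v)
  have e' : wN (wN (p v).1) = wN (p v).1 := (congrArg Fin.val e).symm
  exact Fin.ext (by simpa [e'] using h)

theorem av_w {c : G} (hc : Commute c z) (hM : av K c ∈ K.I.M) (v : Cd) :
    av K c (wC v) = wC (av K c v) := K.I.lin _ hM v

variable [Finite G] (F : LFacts K)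

include F

theorem hub : Hub (qG Q) z := by
  obtain ⟨hz, hF, hex, -, -⟩ := F.setting
  refine (Hub.of_setting hz (Subgroup.map_subtype_le _) (by rw [hF]) ?_).1
  exact TI.isExtraspecial_congr (Q.equivMapOfInjective _ (Subgroup.subtype_injective _)) hex

omit [Finite G] in
theorem zz : z * z = 1 := by
  rw [← pow_two, ← F.setting.1]
  exact pow_orderOf_eq_one z

theorem rel_of_cq {a b : G} (ha : a ∈ qG Q) (hb : b ∈ qG Q) (e : cq K a = cq K b) :
    a = b ∨ a = b * z := by
  have hbi : b⁻¹ ∈ qG Q := inv_mem hb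
  have h := cq_mul K hb (mul_mem hbi ha)
  rw [← mul_assoc, mul_inv_cancel, one_mul, e] at h
  have h0 : cq K (b⁻¹ * a) = 0 := by
    have := congrArg (fun t => xo (cq K b) t) h
    simp only [← xo_assoc, xo_self] at this
    rw [xo_comm 0, xo_zero] at this
    exact this.symm
  rcases (cq_zero_iff K (mul_mem hbi ha)).1 h0 with e | e
  · exact Or.inl (inv_mul_eq_one.1 e).symm
  · exact Or.inr (inv_mul_eq_iff_eq_mul.1 e)

theorem cq_z : cq K z = 0 := (cq_zero_iff K (hub K F).mem).2 (Or.inr rfl)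

omit [Finite G] F in
theorem cq_one : cq K (1 : G) = 0 := (cq_zero_iff K (one_mem _)).2 (Or.inl rfl)

theorem cq_mul_z {a : G} (ha : a ∈ qG Q) : cq K (a * z) = cq K a := by
  rw [cq_mul K ha (hub K F).mem, cq_z K F, xo_zero]

theorem commute_iff {a b : G} (ha : a ∈ qG Q) (hb : b ∈ qG Q) :
    Commute a b ↔ bN (cq K a).1 (cq K b).1 = 0 := by
  have hQ := hub K F
  have hz := zz K F
  have hv : (cq K (a * b)).1 = (cq K a).1 ^^^ (cq K b).1 := by rw [cq_mul K ha hb, xo_val]
  have sq2 : ∀ t : G, t ∈ qG Q → (t * t = 1 ∧ qN (cq K t).1 = 0) ∨ (t * t = z ∧ qN (cq K t).1 = 1) := by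
    intro t ht
    by_cases h : t * t = 1
    · exact Or.inl ⟨h, (cq_sq K ht).1 h⟩
    · refine Or.inr ⟨(hQ.sq_cases t ht).resolve_left h, ?_⟩
      have h1 : qN (cq K t).1 ≠ 0 := fun e => h ((cq_sq K ht).2 e)
      have h2 : qN (cq K t).1 < 2 := Nat.mod_lt _ (by norm_num)
      omega
  have hab := mul_mem ha hb
  have hz1 := hQ.ne_one
  simp only [bN, ← hv]
  rcases hQ.comm b hb a ha with e | e
  · have hc : b * a = a * b := mul_inv_eq_iff_eq_mul.1 e
    simp only [show Commute a b from hc.symm, true_iff]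
    have e2 : a * b * (a * b) = a * a * (b * b) := by
      calc a * b * (a * b) = a * (b * a) * b := by group
        _ = a * a * (b * b) := by rw [hc]; group
    rcases sq2 a ha with ⟨a2, qa⟩ | ⟨a2, qa⟩ <;> rcases sq2 b hb with ⟨b2, qb⟩ | ⟨b2, qb⟩ <;>
      rw [a2, b2] at e2 <;> simp only [one_mul, mul_one, hz] at e2 <;>
      rcases sq2 _ hab with ⟨ab2, qab⟩ | ⟨ab2, qab⟩ <;> rw [ab2] at e2 <;>
      first
        | omega
        | exact absurd e2 hz1
        | exact absurd e2.symm hz1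
  · have hc : b * a = a * z * b := mul_inv_eq_iff_eq_mul.1 e
    have hn : ¬ Commute a b := fun h => hz1 (by
      rw [← h.eq, mul_assoc a z b, (hQ.central b hb).eq.symm, ← mul_assoc] at hc
      exact (mul_eq_left (a := a * b)).1 hc.symm)
    simp only [hn, false_iff]
    have hzc : z * (b * b) = b * b * z := ((hQ.central b hb).mul_left (hQ.central b hb)).eq.symm
    have e2 : a * b * (a * b) = a * a * (b * b) * z := by
      calc a * b * (a * b) = a * (b * a) * b := by group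
        _ = a * a * (z * (b * b)) := by rw [hc]; group
        _ = a * a * (b * b) * z := by rw [hzc]; group
    rcases sq2 a ha with ⟨a2, qa⟩ | ⟨a2, qa⟩ <;> rcases sq2 b hb with ⟨b2, qb⟩ | ⟨b2, qb⟩ <;>
      rw [a2, b2] at e2 <;> simp only [one_mul, mul_one, hz] at e2 <;>
      rcases sq2 _ hab with ⟨ab2, qab⟩ | ⟨ab2, qab⟩ <;> rw [ab2] at e2 <;>
      first
        | omega
        | exact absurd e2 hz1
        | exact absurd e2.symm hz1

/-- An element of `C(z)` with a given action, moving two given elements as prescribed. -/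
theorem exists_lift_two {p : Equiv.Perm Cd} (hp : p ∈ K.I.H) {a b a' b' : G} (ha : a ∈ qG Q)
    (hb : b ∈ qG Q) (ha' : a' ∈ qG Q) (hb' : b' ∈ qG Q) (ea : p (cq K a) = cq K a')
    (eb : p (cq K b) = cq K b') (a2 : a' * a' = 1) (b2 : b' * b' = 1) (h1 : cq K a' ≠ 0)
    (h2 : cq K b' ≠ 0) (h3 : cq K a' ≠ cq K b') :
    ∃ c, Commute c z ∧ av K c = p ∧ c * a * c⁻¹ = a' ∧ c * b * c⁻¹ = b' := by
  obtain ⟨c, hc, rfl⟩ := exists_av K hp
  have hQ := hub K F
  have ra := rel_of_cq K F ha' (qG_normal hc ha) (by rw [cq_conj K hc ha, ea])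
  have rb := rel_of_cq K F hb' (qG_normal hc hb) (by rw [cq_conj K hc hb, eb])
  have m1 := qG_normal hc ha
  have m2 := qG_normal hc hb
  have e1 : cq K (c * a * c⁻¹) = cq K a' := by rw [cq_conj K hc ha, ea]
  have e2 : cq K (c * b * c⁻¹) = cq K b' := by rw [cq_conj K hc hb, eb]
  have s1 : c * a * c⁻¹ * (c * a * c⁻¹) = 1 := (cq_sq K m1).2 (by rw [e1]; exact (cq_sq K ha').1 a2)
  have s2 : c * b * c⁻¹ * (c * b * c⁻¹) = 1 := (cq_sq K m2).2 (by rw [e2]; exact (cq_sq K hb').1 b2)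
  obtain ⟨q, hq, q1, q2⟩ := exists_fix_two hQ m1 m2 s1 s2
    (fun e => h1 (by rw [← e1, e, cq_one K]))
    (fun e => h1 (by rw [← e1, e, cq_z K F]))
    (fun e => h2 (by rw [← e2, e, cq_one K]))
    (fun e => h2 (by rw [← e2, e, cq_z K F]))
    (fun e => h3 (by rw [← e1, ← e2, e]))
    (fun e => h3 (by rw [← e1, ← e2, e, cq_mul K hQ.mem m1, cq_z K F, xo_comm, xo_zero]))
    ra rb
  refine ⟨q * c, (hQ.central q hq).mul_left hc, ?_, ?_, ?_⟩
  · rw [av_mul K (hQ.central q hq) hc, (av_eq_one K (hQ.central q hq)).2 hq, one_mul]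
  · rw [← q1]; group
  · rw [← q2]; group

end Loc

/-- Codes closed under sums. -/
structure IsCodeGrp (f : ℕ → Bool) : Prop where
  zero : f 0 = true
  add : ∀ a b : Cd, f a.1 = true → f b.1 = true → f (xo a b).1 = true

theorem isCodeGrp_inT : IsCodeGrp inT := ⟨by decide +kernel, fun _ _ => inT_xo⟩

theorem isCodeGrp_inF : IsCodeGrp inF := by
  refine ⟨rfl, fun a b ha hb => ?_⟩
  rcases inF_cases ha with rfl | rfl | rfl | rfl <;> rcases inF_cases hb with rfl | rfl | rfl | rfl <;>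
    decide +kernel

theorem isCodeGrp_inP : IsCodeGrp inP := by
  refine ⟨by decide +kernel, fun a b ha hb => ?_⟩
  simp only [inP, Bool.and_eq_true, beq_iff_eq] at ha hb ⊢
  have e1 := bN_xo_left a b 85
  have e2 := bN_xo_left a b 170
  simp only [show ((85 : Cd) : ℕ) = 85 from rfl, show ((170 : Cd) : ℕ) = 170 from rfl] at e1 e2
  omega

namespace Loc

variable (K : GoodCoord z Q)

/-- The elements of `Q` with code in a code group. -/
noncomputable def codeSub {f : ℕ → Bool} (hf : IsCodeGrp f) : Subgroup G :=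
  have : ∀ {a b : G}, a ∈ {x | x ∈ qG Q ∧ f (cq K x).1 = true} → b ∈ {x | x ∈ qG Q ∧ f (cq K x).1 = true} →
      a * b ∈ {x | x ∈ qG Q ∧ f (cq K x).1 = true} := fun {a b} ha hb =>
    ⟨mul_mem ha.1 hb.1, by rw [cq_mul K ha.1 hb.1]; exact hf.add _ _ ha.2 hb.2⟩
  { carrier := {x | x ∈ qG Q ∧ f (cq K x).1 = true}
    mul_mem' := this
    one_mem' := ⟨one_mem _, by rw [cq_one K]; exact hf.zero⟩
    inv_mem' := fun {a} ha => ⟨inv_mem ha.1, by
      have h := cq_mul K ha.1 (inv_mem ha.1)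
      rw [mul_inv_cancel, cq_one K] at h
      have := congrArg (fun t => xo (cq K a) t) h
      simp only [← xo_assoc, xo_self] at this
      rw [xo_zero, xo_comm 0, xo_zero] at this
      rw [← this]; exact ha.2⟩ }

variable [Finite G] (F : LFacts K)

theorem mem_codeSub {f : ℕ → Bool} {hf : IsCodeGrp f} {x : G} :
    x ∈ codeSub K hf ↔ x ∈ qG Q ∧ f (cq K x).1 = true := Iff.rfl

include F in
theorem card_codeSub {f : ℕ → Bool} (hf : IsCodeGrp f) :
    Nat.card (codeSub K hf) = 2 * cntB f 12 0 := by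
  have hQ := hub K F
  choose r hr hr' using exists_code K
  classical
  let e : {v : Cd // f v.1 = true} × Bool → codeSub K hf := fun p =>
    if p.2 then ⟨r p.1.1 * z, mul_mem (hr _) hQ.mem, by rw [cq_mul_z K F (hr _), hr']; exact p.1.2⟩
    else ⟨r p.1.1, hr _, by rw [hr']; exact p.1.2⟩
  have hb : Function.Bijective e := by
    constructor
    · rintro ⟨v, s⟩ ⟨w, t⟩ h
      have h' := congrArg Subtype.val h
      have hvw : v = w := Subtype.ext (by
        have := congrArg (cq K) h'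
        cases s <;> cases t <;> simpa [e, cq_mul_z K F (hr _), hr'] using this)
      subst hvw
      cases s <;> cases t <;> simp only [e, if_pos, if_neg, Bool.false_eq_true, ↓reduceIte] at h' ⊢
      · exact absurd (mul_eq_left.1 h'.symm) hQ.ne_one
      · exact absurd (mul_eq_left.1 h') hQ.ne_one
    · rintro ⟨a, ha, hfa⟩
      rcases rel_of_cq K F ha (hr (cq K a)) (hr' _).symm with h | h
      · exact ⟨(⟨cq K a, hfa⟩, false), Subtype.ext h.symm⟩
      · exact ⟨(⟨cq K a, hfa⟩, true), Subtype.ext h.symm⟩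
  rw [← Nat.card_congr (Equiv.ofBijective e hb), Nat.card_prod, card_code, Nat.card_eq_fintype_card,
    Fintype.card_bool, mul_comm]

end Loc

end Cfsg.Agent.LargeFischer
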