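import Cfsg.Agent.Lib.U43Mult.Arith
import Cfsg.Prelude.Def_Classical

/-!
An elementary abelian subgroup of order 81 of `PSU₄(3)` over the explicit field, with three
normalising elements and the finite certificates about their action.
-/

set_option autoImplicit false
set_option maxRecDepth 20000

namespace Cfsg.Agent.LargeFischer.LocalU43

open Matrix
open Cfsg.Agent.U43Mult (K dec mat mulF trF conjF oneF eqF ent eq_of_eqF mat_mulF mat_trF mat_oneF)

/-- The space of dimension four over the field with three elements. -/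
abbrev V4 : Type := ZMod 3 × ZMod 3 × ZMod 3 × ZMod 3

/-- The basis. -/
def bas : Fin 4 → V4 := ![(1, 0, 0, 0), (0, 1, 0, 0), (0, 0, 1, 0), (0, 0, 0, 1)]

theorem eq_sum_bas : ∀ v : V4,
    v = v.1.val • bas 0 + v.2.1.val • bas 1 + v.2.2.1.val • bas 2 + v.2.2.2.val • bas 3 := by
  decide +kernel

/-- The action of the three normalising elements. -/
def act : Fin 3 → V4 → V4 :=
  ![fun v => (v.1 + v.2.1 + 2 * v.2.2.2, v.2.1, v.2.2.1, v.2.1 + v.2.2.2),
    fun v => (v.1 + v.2.1 + v.2.2.1, v.2.1, 2 * v.2.1 + v.2.2.1, v.2.2.2),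
    fun v => (v.2.1, v.1, v.2.2.1, 2 * v.2.2.2)]

theorem act_order : ∀ j : Fin 3, ∀ v : V4, (act j)^[![3, 3, 2] j] v = v := by decide +kernel

theorem act_injective (j : Fin 3) (v w : V4) (h : act j v = act j w) : v = w := by
  rw [← act_order j v, ← act_order j w]
  fin_cases j <;> simp [Function.iterate_succ_apply] at h ⊢ <;> rw [h]

theorem act_bijective (j : Fin 3) : Function.Bijective (act j) :=
  Finite.injective_iff_bijective.1 (act_injective j)

theorem act_add (j : Fin 3) (v w : V4) : act j (v + w) = act j v + act j w := by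
  fin_cases j <;> simp [act, Prod.ext_iff] <;> ring_nf <;> simp

theorem act_fixed : ∀ v : V4, (∀ j, act j v = v) → v = 0 := by decide +kernel

/-- The pairing with a functional. -/
def dot (a v : V4) : ZMod 3 := a.1 * v.1 + a.2.1 * v.2.1 + a.2.2.1 * v.2.2.1 + a.2.2.2 * v.2.2.2

theorem dot_zero (a : V4) : dot a 0 = 0 := by simp [dot]

theorem dot_add (a v w : V4) : dot a (v + w) = dot a v + dot a w := by simp [dot]; ring

theorem dot_smul (a : V4) (t : ZMod 3) (w : V4) : dot a (t • w) = t * dot a w := by simp [dot]; ring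

/-- An alternating form from six coefficients. -/
def form (c : ZMod 3 × ZMod 3 × ZMod 3 × ZMod 3 × ZMod 3 × ZMod 3) (v w : V4) : ZMod 3 :=
  c.1 * (v.1 * w.2.1 - v.2.1 * w.1) + c.2.1 * (v.1 * w.2.2.1 - v.2.2.1 * w.1) +
    c.2.2.1 * (v.1 * w.2.2.2 - v.2.2.2 * w.1) + c.2.2.2.1 * (v.2.1 * w.2.2.1 - v.2.2.1 * w.2.1) +
    c.2.2.2.2.1 * (v.2.1 * w.2.2.2 - v.2.2.2 * w.2.1) +
    c.2.2.2.2.2 * (v.2.2.1 * w.2.2.2 - v.2.2.2 * w.2.2.1)

theorem no_form : ∀ c : ZMod 3 × ZMod 3 × ZMod 3 × ZMod 3 × ZMod 3 × ZMod 3,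
    (∀ j : Fin 3, ∀ l k : Fin 4,
      form c (act j (bas l)) (act j (bas k)) = form c (bas l) (bas k)) → c = 0 := by decide +kernel

theorem no_functional : ∀ a : V4,
    (∀ j : Fin 3, ∀ l : Fin 4, dot a (act j (bas l)) = dot a (bas l)) → a = 0 := by decide +kernel

/-- The map of a word. -/
def evalW (w : List (Fin 3)) (v : V4) : V4 := w.foldr act v

theorem evalW_add (W : List (Fin 3)) (v w : V4) : evalW W (v + w) = evalW W v + evalW W w := by
  induction W with
  | nil => rfl
  | cons j W ih =>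
    show act j (evalW W (v + w)) = act j (evalW W v) + act j (evalW W w)
    rw [ih, act_add]

/-- Two additive maps that agree on the basis are equal. -/
theorem ext_bas {M : Type*} [AddCancelMonoid M] {f g : V4 → M} (hf : ∀ v w, f (v + w) = f v + f w)
    (hg : ∀ v w, g (v + w) = g v + g w) (h : ∀ l, f (bas l) = g (bas l)) (v : V4) : f v = g v := by
  let F : V4 →+ M := ⟨⟨f, add_left_cancel (a := f 0) (by rw [← hf, add_zero, add_zero])⟩, hf⟩
  let G : V4 →+ M := ⟨⟨g, add_left_cancel (a := g 0) (by rw [← hg, add_zero, add_zero])⟩, hg⟩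
  show F v = G v
  rw [eq_sum_bas v]
  simp only [map_add, map_nsmul]
  simp only [show ∀ l, F (bas l) = G (bas l) from h]

/-- Words for a group of order five. -/
def words5 : List (List (Fin 3)) := [[], [1,1,0,0,2], [1,2,1,0,2,1,1,0], [2,1,0], [2,1,0,2,1,0]]

/-- Words for a group of order eight. -/
def words8 : List (List (Fin 3)) :=
  [[], [1,1,2,1,1], [1,2,1], [1,2,1,1,2,1], [1,2,1,2], [2], [2,1,2,1], [2,1,2,1,1,2,1]]

/-- Words for a group of order nine. -/
def words9 : List (List (Fin 3)) := [[], [0], [0,0], [1], [1,0], [1,0,0], [1,1], [1,1,0], [1,1,0,0]]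

/-- Words moving each hyperplane to at least seven. -/
def orbW : List (List (Fin 3)) :=
  [[], [0,1,2], [2,0,1], [0,0], [1,2,1], [2,1,1,2], [0,0,1,1], [2,0,2,1], [1,2,0], [0,2,0], [0,0,2,0]]

/-- The certificate for a list of words. -/
def GroupWords (W : List (List (Fin 3))) : Prop :=
  [] ∈ W ∧ (∀ x ∈ W, ∀ y ∈ W, ∃ z ∈ W, ∀ l : Fin 4, evalW x (evalW y (bas l)) = evalW z (bas l)) ∧
    (W.map fun w => (List.finRange 4).map fun l => evalW w (bas l)).Nodup

theorem GroupWords.mul {W : List (List (Fin 3))} (h : GroupWords W) {x y : List (Fin 3)}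
    (hx : x ∈ W) (hy : y ∈ W) : ∃ z ∈ W, ∀ v : V4, evalW x (evalW y v) = evalW z v := by
  obtain ⟨z, hz, e⟩ := h.2.1 x hx y hy
  exact ⟨z, hz, ext_bas (fun v w => by rw [evalW_add, evalW_add]) (evalW_add z) e⟩

theorem words5_group : GroupWords words5 := by unfold GroupWords; decide +kernel

theorem words8_group : GroupWords words8 := by unfold GroupWords; decide +kernel

theorem words9_group : GroupWords words9 := by unfold GroupWords; decide +kernel

/-- First nonzero coordinate one. -/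
def IsLine (a : V4) : Prop :=
  a.1 = 1 ∨ a.1 = 0 ∧ (a.2.1 = 1 ∨ a.2.1 = 0 ∧ (a.2.2.1 = 1 ∨ a.2.2.1 = 0 ∧ a.2.2.2 = 1))

instance : DecidablePred IsLine := fun a => inferInstanceAs (Decidable (_ ∨ _))

/-- One functional for each hyperplane. -/
def lines : Finset V4 := Finset.univ.filter IsLine

theorem lines_count : lines.card % 2 = 0 := by decide +kernel

theorem lines_through : ∀ v : V4,
    (lines.filter fun a => dot a v = 0).card % 2 = if v = 0 then 0 else 1 := by decide +kernel

theorem hyperplane_odd : ∀ a ∈ lines,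
    (Finset.univ.filter fun v : V4 => dot a v = 0).card % 2 = 1 := by decide +kernel

theorem lines_pair : ∀ a ∈ lines, ∀ b ∈ lines, a ≠ b → ∃ w : V4, dot b w = 0 ∧ dot a w = 1 := by
  decide +kernel

theorem line_one : ∀ a ∈ lines, ∃ c : V4, dot a c = 1 := by decide +kernel

/-- The line of a functional. -/
def normLine (b : V4) : V4 := if IsLine b then b else 2 • b

theorem normLine_spec : ∀ b : V4, b ≠ 0 → normLine b ∈ lines := by decide +kernel

/-- The word of the inverse element. -/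
def invWord (w : List (Fin 3)) : List (Fin 3) :=
  w.reverse.flatMap fun j => if j = 2 then [j] else [j, j]

theorem invWord_spec : ∀ w ∈ orbW, ∀ l : Fin 4, evalW (invWord w) (evalW w (bas l)) = bas l := by
  decide +kernel

/-- The image of a functional under an element. -/
def pull (a : V4) (w : List (Fin 3)) : V4 :=
  (dot a (evalW w (bas 0)), dot a (evalW w (bas 1)), dot a (evalW w (bas 2)), dot a (evalW w (bas 3)))

theorem dot_pull (a : V4) (w : List (Fin 3)) (u : V4) : dot (pull a w) u = dot a (evalW w u) :=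
  ext_bas (f := dot (pull a w)) (g := fun u => dot a (evalW w u)) (dot_add _)
    (fun v v' => by rw [evalW_add, dot_add])
    (fun l => by fin_cases l <;> simp [dot, pull, bas]) u

theorem pulled_card : ∀ a ∈ lines,
    7 ≤ (orbW.map fun w => normLine (pull a (invWord w))).toFinset.card := by decide +kernel

theorem lines_orbit {a : V4} (ha : a ∈ lines) : 7 ≤ (lines.filter fun b =>
    ∃ w ∈ orbW, ∀ v : V4, dot b (evalW w v) = 0 → dot a v = 0).card := by
  refine (pulled_card a ha).trans (Finset.card_le_card fun b hb => ?_)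
  obtain ⟨w, hw, rfl⟩ := List.mem_map.1 (List.mem_toFinset.1 hb)
  have key : ∀ v, dot (pull a (invWord w)) (evalW w v) = dot a v := fun v => by
    rw [dot_pull, ext_bas (f := fun v => evalW (invWord w) (evalW w v)) (g := fun v => v)
      (fun v v' => by rw [evalW_add, evalW_add]) (fun _ _ => rfl) (invWord_spec w hw) v]
  have hne : pull a (invWord w) ≠ 0 := fun h => by
    obtain ⟨c, hc⟩ := line_one a ha
    have := key c
    rw [h, hc] at this
    simp [dot] at this
  refine Finset.mem_filter.2 ⟨normLine_spec _ hne, w, hw, fun v hv => ?_⟩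
  rw [← key v]
  unfold normLine at hv
  split_ifs at hv with h
  · exact hv
  · simpa [dot, ← mul_add, mul_assoc, two_nsmul, ← two_mul, show (2 : ZMod 3) ≠ 0 by decide] using hv

/-- The four nilpotent parts. -/
def nilp : Fin 4 → ℕ :=
  ![0x650043, 0x6500430000000000, 0x18005224007100, 0x65004365004300]

/-- The table of an element of the subgroup. -/
def eF (v : V4) (i j : ℕ) : ℕ :=
  U43Mult.add (oneF i j)
    (U43Mult.add (U43Mult.add (U43Mult.mul v.1.val (ent (nilp 0) i j)) (U43Mult.mul v.2.1.val (ent (nilp 1) i j)))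
      (U43Mult.add (U43Mult.mul v.2.2.1.val (ent (nilp 2) i j)) (U43Mult.mul v.2.2.2.val (ent (nilp 3) i j))))

/-- The table of a normalising element. -/
def mF (k : Fin 3) : ℕ → ℕ → ℕ :=
  ent (![0x1018017128107201, 0x1065018667104601, 0x20000210000100] k)

/-- Laplace expansion. -/
def det4 (A : Matrix (Fin 4) (Fin 4) K) : K :=
  A 0 0 * (A 1 1 * (A 2 2 * A 3 3 - A 2 3 * A 3 2) - A 1 2 * (A 2 1 * A 3 3 - A 2 3 * A 3 1) +
      A 1 3 * (A 2 1 * A 3 2 - A 2 2 * A 3 1)) -
    A 0 1 * (A 1 0 * (A 2 2 * A 3 3 - A 2 3 * A 3 2) - A 1 2 * (A 2 0 * A 3 3 - A 2 3 * A 3 0) +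
      A 1 3 * (A 2 0 * A 3 2 - A 2 2 * A 3 0)) +
    A 0 2 * (A 1 0 * (A 2 1 * A 3 3 - A 2 3 * A 3 1) - A 1 1 * (A 2 0 * A 3 3 - A 2 3 * A 3 0) +
      A 1 3 * (A 2 0 * A 3 1 - A 2 1 * A 3 0)) -
    A 0 3 * (A 1 0 * (A 2 1 * A 3 2 - A 2 2 * A 3 1) - A 1 1 * (A 2 0 * A 3 2 - A 2 2 * A 3 0) +
      A 1 2 * (A 2 0 * A 3 1 - A 2 1 * A 3 0))

/-- Determinant one and unitary. -/
def Special (f : ℕ → ℕ → ℕ) : Prop :=
  det4 (mat f) = 1 ∧ eqF (mulF (trF f) (conjF f)) oneF = true

theorem eF_special : ∀ v : V4, Special (eF v) := by unfold Special; decide +kernel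

theorem mF_special : ∀ k : Fin 3, Special (mF k) := by unfold Special; decide +kernel

theorem add_pow_three : ∀ a b : K, (a + b) ^ 3 = a ^ 3 + b ^ 3 := by decide +kernel

/-- A certified table as an element of `SU₄(3)`. -/
def mkSU (f : ℕ → ℕ → ℕ) (h : Special f) : Cfsg.SU 4 K 3 :=
  ⟨⟨mat f, (U43Mult.det_four _).trans h.1⟩, by
    intro u v
    have e0 := eq_of_eqF h.2
    rw [mat_mulF, mat_trF, mat_oneF] at e0
    have hc : mat (conjF f) = Matrix.of fun i j => mat f i j ^ 3 := by
      ext1 i j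
      exact U43Mult.dec_conj _
    have e : (mat (conjF f))ᵀ * mat f = 1 := by
      have := congrArg Matrix.transpose e0
      rwa [Matrix.transpose_mul, Matrix.transpose_transpose, Matrix.transpose_one] at this
    show Cfsg.hermForm 4 K 3 (mat f *ᵥ u) (mat f *ᵥ v) = Cfsg.hermForm 4 K 3 u v
    show (mat f *ᵥ u) ⬝ᵥ (fun i => (mat f *ᵥ v) i ^ 3) = u ⬝ᵥ fun i => v i ^ 3
    have hv : (fun i => (mat f *ᵥ v) i ^ 3) = mat (conjF f) *ᵥ fun i => v i ^ 3 := by
      rw [hc]
      funext i
      simp [Matrix.mulVec, dotProduct, Fin.sum_univ_four, add_pow_three, mul_pow]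
    rw [hv, Matrix.dotProduct_mulVec, ← Matrix.mulVec_transpose, Matrix.mulVec_mulVec, e,
      Matrix.one_mulVec]⟩

/-- An element of the subgroup. -/
def eS (v : V4) : Cfsg.SU 4 K 3 := mkSU (eF v) (eF_special v)

/-- A normalising element. -/
def mS (k : Fin 3) : Cfsg.SU 4 K 3 := mkSU (mF k) (mF_special k)

theorem eF_zero : eqF (eF 0) oneF = true := by decide +kernel

theorem eF_add : ∀ v : V4, ∀ l : Fin 4, eqF (mulF (eF v) (eF (bas l))) (eF (v + bas l)) = true := by
  decide +kernel

theorem eF_conj : ∀ k : Fin 3, ∀ v : V4,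
    eqF (mulF (mF k) (eF v)) (mulF (eF (act k v)) (mF k)) = true := by decide +kernel

theorem eF_inj : ∀ v : V4, eqF (eF v) oneF = true → v = 0 := by decide +kernel

theorem eF_lt (v : V4) (i j : ℕ) : eF v i j < 9 := by
  have h : ∀ a b : Fin 9, U43Mult.add a b < 9 := by decide +kernel
  have e : ∀ a b, U43Mult.add a b < 9 := fun a b => by
    simpa [U43Mult.add, Nat.mod_mod] using
      h ⟨a % 9, Nat.mod_lt _ (by norm_num)⟩ ⟨b % 9, Nat.mod_lt _ (by norm_num)⟩
  exact e _ _

theorem oneF_lt (i j : ℕ) : oneF i j < 9 := by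
  unfold U43Mult.oneF
  split_ifs <;> norm_num

theorem eS_zero : eS 0 = 1 :=
  Subtype.ext (Subtype.ext ((eq_of_eqF eF_zero).trans mat_oneF))

theorem eS_add_bas (v : V4) (l : Fin 4) : eS (v + bas l) = eS v * eS (bas l) :=
  Subtype.ext (Subtype.ext ((eq_of_eqF (eF_add v l)).symm.trans (mat_mulF _ _)))

theorem eS_conj (k : Fin 3) (v : V4) : mS k * eS v = eS (act k v) * mS k :=
  Subtype.ext (Subtype.ext
    ((mat_mulF _ _).symm.trans ((eq_of_eqF (eF_conj k v)).trans (mat_mulF _ _))))

theorem eS_add (v w : V4) : eS (v + w) = eS v * eS w := by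
  have hb : ∀ l : Fin 4, ∀ n : ℕ, ∀ u : V4, eS (u + n • bas l) = eS u * eS (n • bas l) := by
    intro l n
    induction n with
    | zero => intro u; simp [eS_zero]
    | succ n ih =>
      intro u
      rw [succ_nsmul, ← add_assoc, eS_add_bas, eS_add_bas, ih, mul_assoc]
  rw [eq_sum_bas w]
  simp only [← add_assoc]
  rw [hb 3, hb 2, hb 1, hb 0, hb 3, hb 2, hb 1]
  simp only [mul_assoc]

end Cfsg.Agent.LargeFischer.LocalU43
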