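import Cfsg.Agent.Lib.LargeFischer.LocalR

/-!
# The centraliser of the scalar element is perfect

`z_mem_commutator`: otherwise the intersection `P` of the cores of `s` and `s^x` would have, modulo
`⟨s, s^x⟩`, a hyperplane without `z` invariant under `C(V)`, and four images of one code exclude that.
-/

set_option autoImplicit false

namespace Cfsg.Agent.LargeFischer.Loc

open scoped commutatorElement
open Cfsg.Agent.LargeExtraspecial

variable {G : Type*} [Group G] {z : G} {Q : Subgroup (Subgroup.centralizer ({z} : Set G))} [Q.Normal]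
  {K : GoodCoord z Q} [Finite G] (F : LFacts K) (Fr : Frame K)

omit [Finite G] in
theorem rot_facts {x a b : G} (ha : a * a = 1) (hb : b * b = 1) (hab : Commute a b)
    (h1 : x * a * x⁻¹ = b) (h2 : x * b * x⁻¹ = a * b) :
    (x * (x * a * x⁻¹) * x⁻¹ * (x * a * x⁻¹) * a = 1) ∧
      (x * (x * b * x⁻¹) * x⁻¹ * (x * b * x⁻¹) * b = 1) ∧
      (x * (x * (a * b) * x⁻¹) * x⁻¹ * (x * (a * b) * x⁻¹) * (a * b) = 1) ∧
      (x * (a * b) * x⁻¹ = b * (a * b)) ∧ (x * a * x⁻¹ = a * b * a) := by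
  have h3 : x * (a * b) * x⁻¹ = a := by
    calc x * (a * b) * x⁻¹ = x * a * x⁻¹ * (x * b * x⁻¹) := by group
      _ = b * (b * a) := by rw [h1, h2, hab.eq]
      _ = a := by rw [← mul_assoc, hb, one_mul]
  refine ⟨?_, ?_, ?_, ?_, ?_⟩
  · rw [h1, h2, mul_assoc a b b, hb, mul_one, ha]
  · rw [h2, h3, ← mul_assoc a a b, ha, one_mul, hb]
  · rw [h3, h1, hab.eq, ← mul_assoc, mul_assoc b a b, hab.eq, ← mul_assoc b b a, hb, one_mul, ha]
  · rw [h3, hab.eq, ← mul_assoc, hb, one_mul]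
  · rw [h1, hab.eq, mul_assoc, ha, mul_one]

omit [Finite G] in
theorem four_mul {a b : G} (ha : a * a = 1) (hb : b * b = 1) (hab : Commute a b) :
    ∀ p q : G, (p = 1 ∨ p = a ∨ p = b ∨ p = a * b) → (q = 1 ∨ q = a ∨ q = b ∨ q = a * b) →
      (p * q = 1 ∨ p * q = a ∨ p * q = b ∨ p * q = a * b) := by
  have e3 : b * a = a * b := hab.eq.symm
  have a1 : ∀ t, a * (a * t) = t := fun t => by rw [← mul_assoc, ha, one_mul]
  have a2 : ∀ t, b * (b * t) = t := fun t => by rw [← mul_assoc, hb, one_mul]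
  have a3 : ∀ t, b * (a * t) = a * (b * t) := fun t => by rw [← mul_assoc, e3, mul_assoc]
  rintro p q (rfl | rfl | rfl | rfl) (rfl | rfl | rfl | rfl) <;>
    simp [mul_assoc, ha, hb, e3, a1, a2, a3]

omit [Finite G] in
/-- The centraliser of `z` and `x`. -/
noncomputable def gX (Fr : Frame K) : Subgroup G :=
  Subgroup.centralizer ({z} : Set G) ⊓ Subgroup.centralizer ({Fr.x} : Set G)

omit [Finite G] in
theorem mem_gX {c : G} : c ∈ gX Fr ↔ Commute c z ∧ Commute c Fr.x :=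
  and_congr Subgroup.mem_centralizer_singleton_iff Subgroup.mem_centralizer_singleton_iff

omit [Finite G] in
theorem av_gX {c : G} (hc : c ∈ gX Fr) : av K c ∈ K.I.M := by
  obtain ⟨hz, hx⟩ := (mem_gX Fr).1 hc
  refine lin_of_commute K (av_mem K hz) (v := 85) (by decide) ?_
  rw [← Fr.x_act, ← Fr.x_act, ← Equiv.Perm.mul_apply, ← Equiv.Perm.mul_apply, ← av_mul K hz Fr.x_comm,
    ← av_mul K Fr.x_comm hz, hx.eq]

include F

theorem eq_or_eq_of_gX {c : G} (hc : c ∈ gX Fr) (hq : c ∈ qG Q) : c = 1 ∨ c = z := by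
  obtain ⟨-, hx⟩ := (mem_gX Fr).1 hc
  refine (cq_zero_iff K hq).1 ?_
  have h : cq K (Fr.x * c * Fr.x⁻¹) = cq K c := by rw [← hx.eq, mul_inv_cancel_right]
  rw [cq_conj K Fr.x_comm hq, Fr.x_act] at h
  have key : allB (fun v => !(wN v == v) || v == 0) 12 0 = true := by decide +kernel
  have h' : wN (cq K c).1 = (cq K c).1 := congrArg Fin.val h
  exact Fin.ext (by simpa [h'] using forall_cd key (cq K c))

/-- Correction of an element acting linearly to one centralising `x`. -/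
theorem exists_corr {h : G} (hh : Commute h z) (hM : av K h ∈ K.I.M) :
    ∃ q ∈ qG Q, h * Fr.x * h⁻¹ * Fr.x⁻¹ ∈ qG Q ∧
      cq K q = wC (cq K (h * Fr.x * h⁻¹ * Fr.x⁻¹)) ∧ q⁻¹ * h ∈ gX Fr := by
  have hQ := hub K F
  have hxi : Commute Fr.x⁻¹ z := Fr.x_comm.inv_left
  have hxh : Commute (h * Fr.x * h⁻¹) z := (hh.mul_left Fr.x_comm).mul_left hh.inv_left
  set a := h * Fr.x * h⁻¹ * Fr.x⁻¹ with ha
  have ham : a ∈ qG Q := by
    rw [ha, ← av_eq_one K (hxh.mul_left hxi), av_mul K hxh hxi, av_mul K (hh.mul_left Fr.x_comm) hh.inv_left,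
      av_mul K hh Fr.x_comm, av_inv K hh, av_inv K Fr.x_comm]
    have e : av K h * av K Fr.x = av K Fr.x * av K h := Equiv.ext fun v => by
      rw [Equiv.Perm.mul_apply, Equiv.Perm.mul_apply, Fr.x_act, Fr.x_act, K.I.lin _ hM]
    rw [e]
    group
  obtain ⟨q, hq, hqc⟩ := exists_code K (wC (cq K a))
  refine ⟨q, hq, ham, hqc, ?_⟩
  have hqz := hQ.central q hq
  set b := q * Fr.x * q⁻¹ * Fr.x⁻¹ with hb
  have hxq : Fr.x * q⁻¹ * Fr.x⁻¹ ∈ qG Q := qG_normal Fr.x_comm (inv_mem hq)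
  have hbm : b ∈ qG Q := by
    rw [hb, show q * Fr.x * q⁻¹ * Fr.x⁻¹ = q * (Fr.x * q⁻¹ * Fr.x⁻¹) by group]
    exact mul_mem hq hxq
  have hqi : cq K q⁻¹ = cq K q := by
    have h' := cq_mul K hq (inv_mem hq)
    rw [mul_inv_cancel, cq_one K] at h'
    have := congrArg (fun t => xo (cq K q) t) h'
    simp only [← xo_assoc, xo_self] at this
    rw [xo_zero, xo_comm 0, xo_zero] at this
    exact this.symm
  have hbc : cq K b = cq K a := by
    rw [hb, show q * Fr.x * q⁻¹ * Fr.x⁻¹ = q * (Fr.x * q⁻¹ * Fr.x⁻¹) by group, cq_mul K hq hxq,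
      cq_conj K Fr.x_comm (inv_mem hq), hqi, Fr.x_act, hqc]
    generalize cq K a = v
    have key : allB (fun v => wN v ^^^ wN (wN v) == v) 12 0 = true := by decide +kernel
    exact Fin.ext (by simpa [xo_val, wC] using forall_cd key v)
  have e : b = a := by
    rcases rel_of_cq K F hbm ham hbc with e | e
    · exact e
    exfalso
    have h1 : q * Fr.x * q⁻¹ = h * Fr.x * h⁻¹ * z := by
      calc q * Fr.x * q⁻¹ = b * Fr.x := by rw [hb]; group
        _ = a * (z * Fr.x) := by rw [e, mul_assoc]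
        _ = a * (Fr.x * z) := by rw [← Fr.x_comm.eq]
        _ = h * Fr.x * h⁻¹ * z := by rw [ha]; group
    have h2 : (q * Fr.x * q⁻¹) * (q * Fr.x * q⁻¹) * (q * Fr.x * q⁻¹) = 1 := by
      rw [show (q * Fr.x * q⁻¹) * (q * Fr.x * q⁻¹) * (q * Fr.x * q⁻¹) =
        q * (Fr.x * Fr.x * Fr.x) * q⁻¹ by group, Fr.x_three]
      group
    have h3 : (h * Fr.x * h⁻¹) * (h * Fr.x * h⁻¹) * (h * Fr.x * h⁻¹) = 1 := by
      rw [show (h * Fr.x * h⁻¹) * (h * Fr.x * h⁻¹) * (h * Fr.x * h⁻¹) =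
        h * (Fr.x * Fr.x * Fr.x) * h⁻¹ by group, Fr.x_three]
      group
    rw [h1] at h2
    have c : z * (h * Fr.x * h⁻¹) = h * Fr.x * h⁻¹ * z := hxh.eq.symm
    generalize h * Fr.x * h⁻¹ = y at h2 h3 c
    have : y * z * (y * z) * (y * z) = y * y * y * (z * z * z) := by
      calc y * z * (y * z) * (y * z) = y * (z * y) * z * y * z := by group
        _ = y * y * (z * z * y) * z := by rw [c]; group
        _ = y * y * y * (z * z * z) := by rw [mul_assoc z z y, c, ← mul_assoc z y z, c]; group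
    rw [this, h3, one_mul, zz K F, one_mul] at h2
    exact hQ.ne_one h2
  refine (mem_gX Fr).2 ⟨hqz.inv_left.mul_left hh, mul_inv_eq_iff_eq_mul.1 ?_⟩
  have e' : q * Fr.x * q⁻¹ = h * Fr.x * h⁻¹ := mul_right_cancel (b := Fr.x⁻¹) e
  rw [show q⁻¹ * h * Fr.x * (q⁻¹ * h)⁻¹ = q⁻¹ * (h * Fr.x * h⁻¹) * q by group, ← e']
  group

theorem exists_gX {p : Equiv.Perm Cd} (hp : p ∈ K.I.M) : ∃ c ∈ gX Fr, av K c = p := by
  obtain ⟨h, hh, rfl⟩ := exists_av K (K.I.hMH hp)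
  obtain ⟨q, hq, -, -, hc⟩ := exists_corr F Fr hh hp
  have hqz := (hub K F).central q hq
  refine ⟨_, hc, ?_⟩
  rw [av_mul K hqz.inv_left hh, (av_eq_one K hqz.inv_left).2 (inv_mem hq), one_mul]

theorem exists_commutator_cover {c : G} (hc : c ∈ gX Fr) :
    c ∈ ⁅gX Fr, gX Fr⁆ ∨ c * z ∈ ⁅gX Fr, gX Fr⁆ := by
  set D : Subgroup G := ⁅gX Fr, gX Fr⁆
  have hD : D ≤ gX Fr := Subgroup.commutator_le.2 fun a ha b hb =>
    mul_mem (mul_mem (mul_mem ha hb) (inv_mem ha)) (inv_mem hb)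
  set S := (D.subgroupOf (Subgroup.centralizer ({z} : Set G))).map K.act
  have hS : K.I.M ≤ S := by
    rw [← K.I.perfect, Subgroup.commutator_le]
    intro p hp q hq
    obtain ⟨a, ha, rfl⟩ := exists_gX F Fr hp
    obtain ⟨b, hb, rfl⟩ := exists_gX F Fr hq
    rw [av_eq K ((mem_gX Fr).1 ha).1, av_eq K ((mem_gX Fr).1 hb).1, ← map_commutatorElement]
    exact ⟨_, Subgroup.mem_subgroupOf.2 (Subgroup.commutator_mem_commutator ha hb), rfl⟩
  obtain ⟨d, hd, hdc⟩ := hS (av_gX Fr hc)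
  rw [SetLike.mem_coe, Subgroup.mem_subgroupOf] at hd
  obtain ⟨hdz, -⟩ := (mem_gX Fr).1 (hD hd)
  have hcz := ((mem_gX Fr).1 hc).1
  have hone : (d : G)⁻¹ * c ∈ qG Q := by
    rw [← av_eq_one K (hdz.inv_left.mul_left hcz), av_mul K hdz.inv_left hcz, av_inv K hdz,
      ← hdc, av_eq K hdz, inv_mul_cancel]
  rcases eq_or_eq_of_gX F Fr (mul_mem (inv_mem (hD hd)) hc) hone with e | e
  · exact Or.inl (inv_mul_eq_one.1 e ▸ hd)
  · refine Or.inr ?_
    rw [inv_mul_eq_iff_eq_mul.1 e, mul_assoc, zz K F, mul_one]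
    exact hd

theorem conj_x_gP {p : G} (hp : p ∈ gP F Fr.s Fr.s') : Fr.x * p * Fr.x⁻¹ ∈ gP F Fr.s Fr.s' := by
  have hs := s_mem_gV F Fr
  have hs' := s'_mem_gV F Fr
  have h := (conj_mem_gP_iff F Fr (k := Fr.x) hs (s_ne_one F Fr) hs' (s'_ne_one F Fr)).2 hp
  rw [show Fr.x * Fr.s * Fr.x⁻¹ = Fr.s' from rfl, s''_eq F Fr] at h
  have hne : Fr.s * Fr.s' ≠ 1 := fun e => s'_ne_s F Fr
    ((eq_inv_of_mul_eq_one_right e).trans (inv_eq_of_mul_eq_one_right (sq_gV F hs)))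
  have hne' : Fr.s * Fr.s' ≠ Fr.s' := fun e => s_ne_one F Fr (mul_eq_right.1 e)
  have h3 := gP_third F Fr hs' (s'_ne_one F Fr) (mul_mem hs hs') hne hne' h
  rw [mul_assoc, sq_gV F hs', mul_one] at h3
  exact ⟨h3, h.1⟩

/-- Every element of the intersection is, up to `⟨s, s^x⟩`, centralised by `x`. -/
theorem exists_fix {p : G} (hp : p ∈ gP F Fr.s Fr.s') :
    ∃ m : G, (m = 1 ∨ m = Fr.s ∨ m = Fr.s' ∨ m = Fr.s * Fr.s') ∧ p * m ∈ gX Fr := by
  have hQ := hub K F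
  have hs := s_mem_gV F Fr
  have hs' := s'_mem_gV F Fr
  have hss : Commute Fr.s Fr.s' := commute_gV F hs hs'
  have hpC : p ∈ gC F := gP_le_gC F Fr hs (s_ne_one F Fr) hs' (s'_ne_one F Fr) (s'_ne_s F Fr) hp
  obtain ⟨hpz, hps, hps'⟩ := (mem_gC F Fr).1 hpC
  set v := Fr.x * p * Fr.x⁻¹ * p⁻¹ with hv
  have hvP : v ∈ gP F Fr.s Fr.s' := mul_mem (conj_x_gP F Fr hp) (inv_mem hp)
  have hxp : Commute (Fr.x * p * Fr.x⁻¹) z := (Fr.x_comm.mul_left hpz).mul_left Fr.x_comm.inv_left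
  have hvQ : v ∈ qG Q := by
    rw [hv, ← av_eq_one K (hxp.mul_left hpz.inv_left), av_mul K hxp hpz.inv_left,
      av_mul K (Fr.x_comm.mul_left hpz) Fr.x_comm.inv_left, av_mul K Fr.x_comm hpz, av_inv K hpz,
      av_inv K Fr.x_comm]
    have e : av K Fr.x * av K p = av K p * av K Fr.x := Equiv.ext fun t => by
      rw [Equiv.Perm.mul_apply, Equiv.Perm.mul_apply, Fr.x_act, Fr.x_act,
        K.I.lin _ (av_fix F Fr hpC).1]
    rw [e]
    group
  have hvz : v ∈ coreV (qG Q) z z := by rw [coreV_self hQ]; exact hvQ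
  have hv1 : v ∈ gP F z Fr.s := ⟨hvz, hvP.1⟩
  have hv2 : v ∈ gP F z Fr.s' := ⟨hvz, hvP.2⟩
  have hv3 : Fr.x⁻¹ * v * Fr.x ∈ gP F z Fr.s := by
    rw [← conj_mem_gP_iff F Fr (k := Fr.x) (z_mem_gV F) hQ.ne_one hs (s_ne_one F Fr),
      show Fr.x * z * Fr.x⁻¹ = z by rw [Fr.x_comm.eq, mul_inv_cancel_right],
      show Fr.x * (Fr.x⁻¹ * v * Fr.x) * Fr.x⁻¹ = v by group]
    exact hv2
  rw [gP_zs F Fr] at hv1 hv3
  have hvV : v ∈ gV F := by
    have e : cq K v = wC (cq K (Fr.x⁻¹ * v * Fr.x)) := by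
      rw [← Fr.x_act, ← cq_conj K Fr.x_comm hv3.1]
      congr 1
      group
    refine ⟨hvQ, ?_⟩
    rw [e]
    exact inF_w (inT_w hv3.2 (by rw [← e]; exact hv1.2))
  set π : G → G := fun t => Fr.x * (Fr.x * t * Fr.x⁻¹) * Fr.x⁻¹ * (Fr.x * t * Fr.x⁻¹) * t with hπ
  have hπv : π v = 1 := by
    have e : π v = (Fr.x * Fr.x * Fr.x) * p * (Fr.x * Fr.x * Fr.x)⁻¹ * p⁻¹ := by
      simp only [hπ, hv]; group
    rw [e, Fr.x_three]; group
  have hxz : Fr.x * z * Fr.x⁻¹ = z := by rw [Fr.x_comm.eq, mul_inv_cancel_right]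
  obtain ⟨p1, p2, p3, r3, r1⟩ :=
    rot_facts (sq_gV F hs) (sq_gV F hs') hss (rfl : Fr.x * Fr.s * Fr.x⁻¹ = Fr.s') (s''_eq F Fr)
  have shift : ∀ t ∈ gV F, π (t * z) = π t * z := by
    intro t ht
    have m1 := conj_mem_gV F Fr (x_mem_normalizer F Fr) ht
    have c0 := (hQ.central _ ht.1)
    have c1 := (hQ.central _ m1.1)
    simp only [hπ]
    have e1 : Fr.x * (t * z) * Fr.x⁻¹ = Fr.x * t * Fr.x⁻¹ * z := by
      calc Fr.x * (t * z) * Fr.x⁻¹ = Fr.x * t * Fr.x⁻¹ * (Fr.x * z * Fr.x⁻¹) := by group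
        _ = _ := by rw [hxz]
    have e2 : Fr.x * (Fr.x * t * Fr.x⁻¹ * z) * Fr.x⁻¹ = Fr.x * (Fr.x * t * Fr.x⁻¹) * Fr.x⁻¹ * z := by
      calc Fr.x * (Fr.x * t * Fr.x⁻¹ * z) * Fr.x⁻¹ =
          Fr.x * (Fr.x * t * Fr.x⁻¹) * Fr.x⁻¹ * (Fr.x * z * Fr.x⁻¹) := by group
        _ = _ := by rw [hxz]
    rw [e1, e2]
    generalize Fr.x * (Fr.x * t * Fr.x⁻¹) * Fr.x⁻¹ = A
    generalize Fr.x * t * Fr.x⁻¹ = B at c1
    calc A * z * (B * z) * (t * z) = A * (z * B) * (z * t) * z := by group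
      _ = A * (B * z) * (t * z) * z := by rw [← c1.eq, ← c0.eq]
      _ = A * B * (z * t) * (z * z) := by group
      _ = _ := by rw [← c0.eq, zz K F, mul_one]; group
  have bad : ∀ t, v = t → π t = z → False := fun t e h => hQ.ne_one (by rw [← h, ← e, hπv])
  have hone : π 1 = 1 := by simp [hπ]
  obtain ⟨m, hm, hmv⟩ : ∃ m : G, (m = 1 ∨ m = Fr.s ∨ m = Fr.s' ∨ m = Fr.s * Fr.s') ∧
      Fr.x * m * Fr.x⁻¹ = v * m := by
    rcases gV_cases F Fr hvV with (e | e) | (e | e) | (e | e) | (e | e)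
    · exact ⟨1, Or.inl rfl, by simp [e]⟩
    · refine (bad (1 * z) (by rw [one_mul]; exact e) ?_).elim
      rw [shift 1 (one_mem _), hone, one_mul]
    · exact ⟨Fr.s', Or.inr (Or.inr (Or.inl rfl)), by rw [e]; exact s''_eq F Fr⟩
    · exact (bad _ e (by rw [shift _ hs]; simp only [hπ, p1, one_mul])).elim
    · refine ⟨Fr.s * Fr.s', Or.inr (Or.inr (Or.inr rfl)), ?_⟩
      rw [e]; exact r3
    · exact (bad _ e (by rw [shift _ hs']; simp only [hπ, p2, one_mul])).elim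
    · refine ⟨Fr.s, Or.inr (Or.inl rfl), ?_⟩
      rw [e]; exact r1
    · exact (bad _ e (by rw [shift _ (mul_mem hs hs')]; simp only [hπ, p3, one_mul])).elim
  refine ⟨m, hm, ?_⟩
  have hmV : m ∈ gV F := by
    rcases hm with rfl | rfl | rfl | rfl
    exacts [one_mem _, hs, hs', mul_mem hs hs']
  have hpv : Commute p v := (hpC v hvV).symm
  refine (mem_gX Fr).2 ⟨hpz.mul_left (hQ.central m hmV.1), (mul_inv_eq_iff_eq_mul.1 ?_).symm⟩
  calc Fr.x * (p * m) * Fr.x⁻¹ = v * p * (Fr.x * m * Fr.x⁻¹) := by rw [hv]; group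
    _ = v * p * v * m := by rw [hmv]; group
    _ = p * (v * v) * m := by rw [← hpv.eq]; group
    _ = p * m := by rw [sq_gV F hvV, mul_one]

/-- The derived group of `C(z, x)` contains `z`. -/
theorem z_mem_commutator : z ∈ ⁅gX Fr, gX Fr⁆ := by
  by_contra hno
  set D : Subgroup G := ⁅gX Fr, gX Fr⁆ with hDdef
  have hD : D ≤ gX Fr := Subgroup.commutator_le.2 fun a ha b hb =>
    mul_mem (mul_mem (mul_mem ha hb) (inv_mem ha)) (inv_mem hb)
  have hQ := hub K F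
  have hs := s_mem_gV F Fr
  have hs' := s'_mem_gV F Fr
  let isL : G → Prop := fun m => m = 1 ∨ m = Fr.s ∨ m = Fr.s' ∨ m = Fr.s * Fr.s'
  have LV : ∀ m, isL m → m ∈ gV F := by
    rintro m (rfl | rfl | rfl | rfl)
    exacts [one_mem _, hs, hs', mul_mem hs hs']
  have hss : Commute Fr.s Fr.s' := commute_gV F hs hs'
  have Lmul : ∀ a b, isL a → isL b → isL (a * b) := four_mul (sq_gV F hs) (sq_gV F hs') hss
  let inB : G → Prop := fun p => p ∈ gP F Fr.s Fr.s' ∧ ∃ m, isL m ∧ p * m ∈ D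
  have hPC : ∀ p ∈ gP F Fr.s Fr.s', p ∈ gC F := fun p hp =>
    gP_le_gC F Fr hs (s_ne_one F Fr) hs' (s'_ne_one F Fr) (s'_ne_s F Fr) hp
  have hLP : ∀ m, isL m → m ∈ gP F Fr.s Fr.s' := fun m hm =>
    ⟨gV_le_core F Fr hs (s_ne_one F Fr) (LV m hm), gV_le_core F Fr hs' (s'_ne_one F Fr) (LV m hm)⟩
  have hzP : z ∈ gP F Fr.s Fr.s' :=
    ⟨gV_le_core F Fr hs (s_ne_one F Fr) (z_mem_gV F), gV_le_core F Fr hs' (s'_ne_one F Fr) (z_mem_gV F)⟩
  have Bmul : ∀ p q, inB p → inB q → inB (p * q) := by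
    rintro p q ⟨hp, a, ha, hpa⟩ ⟨hq, b, hb, hqb⟩
    refine ⟨mul_mem hp hq, a * b, Lmul a b ha hb, ?_⟩
    have c : Commute q a := (hPC q hq a (LV a ha)).symm
    rw [show p * q * (a * b) = p * (q * a) * b by group, c.eq]
    simpa [mul_assoc] using mul_mem hpa hqb
  have BL : ∀ m, isL m → inB m := fun m hm =>
    ⟨hLP m hm, m, hm, by rw [sq_gV F (LV m hm)]; exact one_mem _⟩
  have Bz : ¬ inB z := by
    rintro ⟨-, m, hm, hzm⟩
    obtain ⟨-, hx⟩ := (mem_gX Fr).1 (hD hzm)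
    have hm' : Commute Fr.x m := by
      have := (Fr.x_comm.mul_right (hx.symm : Commute Fr.x (z * m)))
      rwa [← mul_assoc, zz K F, one_mul] at this
    rcases hm with rfl | rfl | rfl | rfl
    · rw [mul_one] at hzm; exact hno hzm
    · exact s'_ne_s F Fr (by
        show Fr.x * Fr.s * Fr.x⁻¹ = Fr.s
        rw [hm'.eq, mul_inv_cancel_right])
    · have e := s''_eq F Fr
      rw [hm'.eq, mul_inv_cancel_right] at e
      exact s_ne_one F Fr (mul_eq_right.1 e.symm)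
    · have e := (rot_facts (sq_gV F hs) (sq_gV F hs') hss (rfl : Fr.x * Fr.s * Fr.x⁻¹ = Fr.s')
        (s''_eq F Fr)).2.2.2.1
      rw [hm'.eq, mul_inv_cancel_right] at e
      exact s'_ne_one F Fr (mul_eq_right.1 e.symm)
  have Bdich : ∀ p ∈ gP F Fr.s Fr.s', inB p ∨ inB (p * z) := by
    intro p hp
    obtain ⟨m, hm, hpm⟩ := exists_fix F Fr hp
    rcases exists_commutator_cover F Fr hpm with h | h
    · exact Or.inl ⟨hp, m, hm, h⟩
    · refine Or.inr ⟨mul_mem hp hzP, m, hm, ?_⟩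
      rwa [mul_assoc p z m, ← (hQ.central m (LV m hm).1).eq, ← mul_assoc]
  have Binv : ∀ c ∈ gC F, ∀ p, inB p → inB (c * p * c⁻¹) := by
    intro c hc p ⟨hp, m, hm, hpm⟩
    obtain ⟨hcz, -, -⟩ := (mem_gC F Fr).1 hc
    obtain ⟨q, hq, ha, hqc, hc'⟩ := exists_corr F Fr hcz (av_fix F Fr hc).1
    have hqW : q ∈ gW F := by
      refine ⟨hq, ?_⟩
      rw [hqc]
      refine inP_w ?_
      have : c * Fr.x * c⁻¹ * Fr.x⁻¹ ∈ gW F := by
        rw [gW_eq F Fr]
        refine ⟨ha, ?_⟩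
        have := conj_mem_gC F Fr (x_mem_normalizer F Fr) (inv_mem hc)
        rw [show c * Fr.x * c⁻¹ * Fr.x⁻¹ = c * (Fr.x * c⁻¹ * Fr.x⁻¹) by group]
        exact mul_mem hc this
      exact this.2
    have hqC : q ∈ gC F := by rw [gW_eq F Fr] at hqW; exact hqW.2
    set c' := q⁻¹ * c with hc'def
    have hc'C : c' ∈ gC F := mul_mem (inv_mem hqC) hc
    have hfix : ∀ t ∈ gV F, c' * t * c'⁻¹ = t := fun t ht => by
      rw [← hc'C t ht, mul_inv_cancel_right]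
    have hp' : c' * p * c'⁻¹ ∈ gP F Fr.s Fr.s' := by
      have := (conj_mem_gP_iff F Fr (k := c') hs (s_ne_one F Fr) hs' (s'_ne_one F Fr)).2 hp
      rwa [hfix _ hs, hfix _ hs'] at this
    have hB' : inB (c' * p * c'⁻¹) := by
      refine ⟨hp', m, hm, ?_⟩
      have : c' * (p * m) * c'⁻¹ ∈ D := by
        have hle : D ≤ D.comap (MulAut.conj c').toMonoidHom := by
          rw [hDdef, Subgroup.commutator_le]
          intro a ha b hb
          rw [Subgroup.mem_comap, map_commutatorElement]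
          exact Subgroup.commutator_mem_commutator (mul_mem (mul_mem hc' ha) (inv_mem hc'))
            (mul_mem (mul_mem hc' hb) (inv_mem hc'))
        exact hle hpm
      rwa [show c' * (p * m) * c'⁻¹ = c' * p * c'⁻¹ * (c' * m * c'⁻¹) by group, hfix _ (LV m hm)] at this
    obtain ⟨e, he, f, hf, rfl⟩ := split_gW F Fr hqW
    have move : ∀ {a r : G}, a ∈ gV F → a ≠ 1 → isL a → r ∈ coreV (qG Q) z a → ∀ t, inB t →
        t ∈ coreV (qG Q) z a → inB (r * t * r⁻¹) := by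
      intro a r ha ha1 haL hr t ht htc
      rcases (hub_coreV hQ (isConj_gV F Fr ha ha1)).comm r hr t htc with h | h <;> rw [h]
      exacts [ht, Bmul _ _ ht (BL a haL)]
    have h1 := move hs' (s'_ne_one F Fr) (Or.inr (Or.inr (Or.inl rfl))) hf.2 _ hB' hp'.2
    have h2 := move hs (s_ne_one F Fr) (Or.inr (Or.inl rfl)) he.2 _ h1 h1.1.1
    rwa [show e * (f * (c' * p * c'⁻¹) * f⁻¹) * e⁻¹ = c * p * c⁻¹ by rw [hc'def]; group] at h2
  obtain ⟨k, hk, hkz, hks⟩ := exists_pair F Fr hs (s_ne_one F Fr) hs' (s'_ne_one F Fr) (s'_ne_s F Fr)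
  have hki := inv_mem hk
  set z0 := k⁻¹ * z * k with hz0
  have hz0V : z0 ∈ gV F := by simpa [hz0] using conj_mem_gV F Fr hki (z_mem_gV F)
  have hz0k : k * z0 * k⁻¹ = z := by rw [hz0]; group
  let good : G → Prop := fun a => a ∈ gP F z Fr.s ∧ inB (k * a * k⁻¹)
  have toP : ∀ a ∈ gP F z Fr.s, k * a * k⁻¹ ∈ gP F Fr.s Fr.s' := by
    intro a ha
    have := (conj_mem_gP_iff F Fr (k := k) (z_mem_gV F) hQ.ne_one hs (s_ne_one F Fr)).2 ha
    rwa [hkz, hks] at this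
  have gmul : ∀ a b, good a → good b → good (a * b) := by
    rintro a b ⟨ha, ha'⟩ ⟨hb, hb'⟩
    refine ⟨mul_mem ha hb, ?_⟩
    rw [show k * (a * b) * k⁻¹ = k * a * k⁻¹ * (k * b * k⁻¹) by group]
    exact Bmul _ _ ha' hb'
  have VP : gV F ≤ gP F z Fr.s := fun t ht =>
    ⟨gV_le_core F Fr (z_mem_gV F) hQ.ne_one ht, gV_le_core F Fr hs (s_ne_one F Fr) ht⟩
  have gs : good Fr.s := ⟨VP hs, by rw [hks]; exact BL _ (Or.inr (Or.inr (Or.inl rfl)))⟩
  have gz : good z := ⟨VP (z_mem_gV F), by rw [hkz]; exact BL _ (Or.inr (Or.inl rfl))⟩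
  have gz0 : ¬ good z0 := fun h => Bz (hz0k ▸ h.2)
  have hc0 : cq K z0 = 170 ∨ cq K z0 = 255 := by
    rcases inF_cases hz0V.2 with e | e | e | e
    · exfalso
      rcases (cq_zero_iff K hz0V.1).1 e with h | h
      · exact hQ.ne_one (by rw [← hz0k, h]; group)
      · exact gz0 (h ▸ gz)
    · exfalso
      rcases rel_of_cq K F hz0V.1 Fr.s_mem (e.trans Fr.s_code.symm) with h | h
      · exact gz0 (h ▸ gs)
      · exact gz0 (h ▸ gmul _ _ gs gz)
    exacts [Or.inl e, Or.inr e]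
  obtain ⟨a, ha, hat⟩ := exists_code K 5
  have haP : a ∈ gP F z Fr.s := by
    rw [gP_zs F Fr]; exact ⟨ha, by rw [hat]; decide +kernel⟩
  obtain ⟨b, hb, hbc⟩ : ∃ b, good b ∧ (cq K b = 5 ∨ cq K b = xo 5 (cq K z0)) := by
    rcases Bdich _ (toP a haP) with h | h
    · exact ⟨a, ⟨haP, h⟩, Or.inl hat⟩
    · refine ⟨a * z0, ⟨mul_mem haP (VP hz0V), ?_⟩, Or.inr (by rw [cq_mul K ha hz0V.1, hat])⟩
      rw [show k * (a * z0) * k⁻¹ = k * a * k⁻¹ * (k * z0 * k⁻¹) by group, hz0k]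
      exact h
  have img : ∀ i, ∃ e, good e ∧ cq K e = gT i (cq K b) := by
    intro i
    obtain ⟨p, hp, hpv⟩ := gT_mem K.I K.good i
    obtain ⟨c, hc, hcp⟩ := exists_gC F Fr hp (by rw [hpv]; exact gT_fix i)
    obtain ⟨hcz, -, -⟩ := (mem_gC F Fr).1 hc
    have hbq : b ∈ qG Q := by rw [← coreV_self hQ]; exact hb.1.1
    refine ⟨c * b * c⁻¹, ⟨?_, ?_⟩, by rw [cq_conj K hcz hbq, hcp, hpv]⟩
    · have := (conj_mem_gP_iff F Fr (k := c) (z_mem_gV F) hQ.ne_one hs (s_ne_one F Fr)).2 hb.1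
      rwa [← hc z (z_mem_gV F), mul_inv_cancel_right, ← hc Fr.s hs, mul_inv_cancel_right] at this
    · rw [show k * (c * b * c⁻¹) * k⁻¹ = (k * c * k⁻¹) * (k * b * k⁻¹) * (k * c * k⁻¹)⁻¹ by group]
      exact Binv _ (conj_mem_gC F Fr hk hc) _ hb.2
  obtain ⟨e0, g0, c0⟩ := img 0
  obtain ⟨e1, g1, c1⟩ := img 1
  obtain ⟨e2, g2, c2⟩ := img 2
  obtain ⟨e3, g3, c3⟩ := img 3
  have mq : ∀ {e}, good e → e ∈ qG Q := fun he => by rw [← coreV_self hQ]; exact he.1.1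
  have gt := gmul _ _ (gmul _ _ g0 g1) (gmul _ _ g2 g3)
  have hsum : cq K (e0 * e1 * (e2 * e3)) = 170 ∨ cq K (e0 * e1 * (e2 * e3)) = 255 := by
    rw [cq_mul K (mul_mem (mq g0) (mq g1)) (mul_mem (mq g2) (mq g3)), cq_mul K (mq g0) (mq g1),
      cq_mul K (mq g2) (mq g3), c0, c1, c2, c3]
    have fixed : ∀ i v, v = (170 : Cd) ∨ v = 255 → gT i v = v := by
      have key : ∀ i, gT i 170 = 170 ∧ gT i 255 = 255 := by decide +kernel
      rintro i v (rfl | rfl)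
      exacts [(key i).1, (key i).2]
    have hadd : ∀ i, IsAdd (gT i) := by
      intro i
      obtain ⟨p, hp, hpv⟩ := gT_mem K.I K.good i
      intro u w
      rw [← hpv, ← hpv, ← hpv]
      exact (K.I.sym p (K.I.hMH hp)).add u w
    rcases hbc with e | e <;> rw [e]
    · exact gT_sum.2
    · rw [hadd, hadd, hadd, hadd, fixed _ _ hc0, fixed _ _ hc0, fixed _ _ hc0, fixed _ _ hc0]
      have h := gT_sum.2
      generalize gT 0 5 = t0 at h ⊢
      generalize gT 1 5 = t1 at h ⊢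
      generalize gT 2 5 = t2 at h ⊢
      generalize gT 3 5 = t3 at h ⊢
      generalize cq K z0 = u
      have e' : xo (xo (xo t0 u) (xo t1 u)) (xo (xo t2 u) (xo t3 u)) = xo (xo t0 t1) (xo t2 t3) := by
        refine Fin.ext ?_
        simp only [xo_val]
        apply Nat.eq_of_testBit_eq
        intro j
        simp only [Nat.testBit_xor]
        cases t0.1.testBit j <;> cases t1.1.testBit j <;> cases t2.1.testBit j <;>
          cases t3.1.testBit j <;> cases u.1.testBit j <;> rfl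
      rw [e']; exact h
  set t := e0 * e1 * (e2 * e3)
  have htq : t ∈ qG Q := mq gt
  have hcode : cq K t = cq K z0 ∨ cq K t = cq K (z0 * Fr.s) := by
    rw [cq_mul K hz0V.1 Fr.s_mem, Fr.s_code]
    rcases hsum with a | a <;> rcases hc0 with b' | b' <;> rw [a, b'] <;> decide +kernel
  have cs : ∀ {u : G}, u ∈ gV F → Commute u Fr.s := fun hu => commute_gV F hu hs
  rcases hcode with e | e
  · rcases rel_of_cq K F hz0V.1 htq e.symm with h | h
    · exact gz0 (h ▸ gt)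
    · exact gz0 (h ▸ gmul _ _ gt gz)
  · have hm : z0 * Fr.s ∈ gV F := mul_mem hz0V hs
    have h2 : z0 = z0 * Fr.s * Fr.s := by rw [mul_assoc, sq_gV F hs, mul_one]
    rcases rel_of_cq K F hm.1 htq e.symm with h | h <;> rw [h] at h2
    · exact gz0 (h2 ▸ gmul _ _ gt gs)
    · exact gz0 (h2 ▸ gmul _ _ (gmul _ _ gt gz) gs)

end Cfsg.Agent.LargeFischer.Loc
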