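import Cfsg.Agent.Lib.LargeFischer.GoodExists

/-!
# Large Fischer type: good coordinates

`exists_at_code`: good coordinates (`exists_goodCoord`) may be moved so that a given conjugate of `z` in `Q` has code 85; `stab_image`: the image of the
centraliser of an element of `Q` is the stabiliser of its code.
-/

set_option autoImplicit false

namespace Cfsg.Agent.LargeFischer

open Subgroup LargeExtraspecial

variable {G : Type*} [Group G] {z : G} {Q : Subgroup (centralizer ({z} : Set G))} [Q.Normal]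

/-- Good coordinates changed by an element of the image. -/
noncomputable def GoodCoord.twist (C : GoodCoord z Q) (p : Equiv.Perm Cd) (hp : p ∈ C.I.H) : GoodCoord z Q where
  toCoord := C.toCoord.twist p hp
  good := C.good

theorem GoodCoord.twist_co (C : GoodCoord z Q) (p : Equiv.Perm Cd) (hp : p ∈ C.I.H) (a : Q) :
    (C.twist p hp).co a = p (C.co a) := rfl

/-- A conjugate of `z` in `Q` may be given the code 85. -/
theorem GoodCoord.exists_at_code [Finite G] (C : GoodCoord z Q) (F : QFacts z Q) {g : G} {a : Q}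
    (ha : ((a : centralizer ({z} : Set G)) : G) = g * z * g⁻¹) (hne : g * z * g⁻¹ ≠ z) :
    ∃ D : GoodCoord z Q, D.co a = 85 := by
  have hU := C.code_conj F ha C.good.gM_mem hne
  simp only [inU, Bool.and_eq_true, Bool.not_eq_true', bne_iff_ne, beq_iff_eq] at hU
  obtain ⟨p, hp, hp85⟩ := C.transU _ hU.1.2 (fun e => hU.1.1 (congrArg Fin.val e)) hU.2
  refine ⟨C.twist p⁻¹ (C.I.H.inv_mem (C.I.hMH hp)), ?_⟩
  rw [GoodCoord.twist_co, ← hp85]
  exact p.symm_apply_apply 85

/-- An involution of `Q` that is not a conjugate of `z` may be given the code 5. -/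
theorem GoodCoord.exists_at_five [Finite G] (C : GoodCoord z Q) (hF : Cfsg.IsOfLargeFischerTypeAt z Q) {a : Q}
    (hq : qN (C.co a).1 = 0) (h0 : C.co a ≠ 0) (hnc : ¬ IsConj z ((a : centralizer ({z} : Set G)) : G)) :
    ∃ D : GoodCoord z Q, D.co a = 5 := by
  have hO : inO 0 (C.co a).1 = true := by
    by_contra h
    rw [Bool.not_eq_true] at h
    exact hnc ((C.isConj_iff hF a hq h0).2 h)
  obtain ⟨p, hp, hp5⟩ := orb_of_forest C.good.gM_mem gM_val (r := (5 : Cd)) forO_ok hO
  refine ⟨C.twist p⁻¹ (C.I.H.inv_mem (C.I.hMH hp)), ?_⟩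
  rw [GoodCoord.twist_co, ← hp5]
  exact p.symm_apply_apply 5

/-- At a conjugate of `z` with code 85 the image is `E32` and the intersection has order `2 ^ 7`. -/
theorem GoodCoord.image_eq [Finite G] (C : GoodCoord z Q) (F : QFacts z Q) {g : G} {a : Q}
    (ha : ((a : centralizer ({z} : Set G)) : G) = g * z * g⁻¹) (hne : g * z * g⁻¹ ≠ z) (h85 : C.co a = 85) :
    C.imgE g = E32 ∧ Nat.card (interG Q g) = 2 ^ 7 := by
  have hS : gS ∈ C.I.H := C.good.gS_mem
  have hle : C.imgE g ≤ E32 := le_E32 C.good.inv_O C.good.gM_mem hS _ (h85 ▸ C.imgE_le F ha) (C.imgE_two F)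
    (h85 ▸ C.imgE_normalized F ha hne)
  have h1 : Nat.card (C.imgE g) ≤ 32 := card_E32 ▸ Subgroup.card_le_of_le hle
  have h2 := C.card_mul_imgE F (g := g) (ha ▸ C.val_mem a) hne
  have h3 := F.card_interG_le (g := g) hne
  refine ⟨eq_of_le_of_card_ge hle ?_, le_antisymm h3 ?_⟩
  · rw [card_E32]; nlinarith
  · nlinarith

namespace Coord

variable (C : Coord z Q)

/-- The action of `C(z) / Q`. -/
noncomputable def actQ : centralizer ({z} : Set G) ⧸ Q →* Equiv.Perm Cd :=
  QuotientGroup.lift Q C.act C.act_ker.symm.le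

theorem actQ_injective : Function.Injective C.actQ := by
  refine (injective_iff_map_eq_one _).2 fun x hx => ?_
  obtain ⟨h, rfl⟩ := QuotientGroup.mk_surjective x
  rw [QuotientGroup.eq_one_iff, ← C.act_ker]
  exact hx

theorem map_actQ (S : Subgroup (centralizer ({z} : Set G))) :
    (S.map (QuotientGroup.mk' Q)).map C.actQ = S.map C.act := by
  rw [map_map]
  rfl

/-- The stabiliser of a code is the image of a centraliser. -/
theorem stab_image (F : QFacts z Q) {a : Q} (h1 : ((a : centralizer ({z} : Set G)) : G) ≠ 1)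
    (hz : ((a : centralizer ({z} : Set G)) : G) ≠ z) :
    ((centralizer ({z} : Set G) ⊓ centralizer ({((a : centralizer ({z} : Set G)) : G)} : Set G)).subgroupOf
      (centralizer ({z} : Set G))).map C.act = C.I.H ⊓ fixP (C.co a) := by
  refine le_antisymm ?_ ?_
  · rintro _ ⟨h, hh, rfl⟩
    refine ⟨C.act_mem h, C.act_conj ?_⟩
    exact mul_inv_eq_iff_eq_mul.2 (mem_centralizer_singleton_iff.1 hh.2)
  · intro p hp
    obtain ⟨h, hh⟩ := C.exists_act hp.1
    obtain ⟨h', e, hc⟩ := C.exists_conj F (a := a) (b := a) (h := h) h1 hz (by rw [hh]; exact hp.2)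
    refine ⟨h', ⟨h'.2, mem_centralizer_singleton_iff.2 (mul_inv_eq_iff_eq_mul.1 hc)⟩, ?_⟩
    rw [e, hh]

/-- The stabiliser of a code is the image of the stabiliser of a coset of the centre. -/
theorem stab_image' (F : QFacts z Q) {a : Q} {S : Subgroup (centralizer ({z} : Set G))}
    (hS : ∀ h : centralizer ({z} : Set G), h ∈ S ↔ (h * a * h⁻¹ = (a : centralizer ({z} : Set G)) ∨
      ((h * a * h⁻¹ : centralizer ({z} : Set G)) : G) = ((a : centralizer ({z} : Set G)) : G) * z)) :
    S.map C.act = C.I.H ⊓ fixP (C.co a) := by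
  refine le_antisymm ?_ ?_
  · rintro _ ⟨h, hh, rfl⟩
    refine ⟨C.act_mem h, ?_⟩
    show C.act h (C.co a) = C.co a
    rw [C.act_co]
    rcases (hS h).1 hh with e | e
    · exact congrArg C.co (Subtype.ext e)
    · obtain ⟨r, hr, hrz⟩ := F.hub.mem
      have e' : (⟨h * a * h⁻¹, (inferInstance : Q.Normal).conj_mem _ a.2 h⟩ : Q) = a * ⟨r, hr⟩ :=
        Subtype.ext (Subtype.ext (by
          show _ = ((a : centralizer ({z} : Set G)) : G) * (r : G)
          rw [show (r : G) = z from hrz]; exact e))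
      rw [e', C.co_mul, (C.co_eq_zero ⟨r, hr⟩).2 (Or.inr hrz), xo_zero]
  · intro p hp
    obtain ⟨h, rfl⟩ := C.exists_act hp.1
    refine ⟨h, (hS h).2 ?_, rfl⟩
    have e : C.act h (C.co a) = C.co a := hp.2
    rw [C.act_co] at e
    rcases C.co_cases e.symm with e' | e'
    · exact Or.inl (Subtype.ext e')
    · exact Or.inr e'

end Coord

/-- **S5443.** -/
theorem stabilizer_iso [Finite G] (hF : Cfsg.IsOfLargeFischerTypeAt z Q)
    (t : centralizer ({z} : Set G)) (htQ : t ∈ Q) (ht2 : orderOf t = 2) (ht : ¬ IsConj z (t : G))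
    (S : Subgroup (centralizer ({z} : Set G)))
    (hS : ∀ h : centralizer ({z} : Set G), h ∈ S ↔
      (h * t * h⁻¹ = t ∨ ((h * t * h⁻¹ : centralizer ({z} : Set G)) : G) = t * z)) :
    Nonempty (↥(S.map (QuotientGroup.mk' Q)) ≃*
      Cfsg.isometryGroup (ZMod 2) (Cfsg.quadFormMinus 2 (ZMod 2) 1 1)) := by
  have F := qFacts_of_type hF
  obtain ⟨C⟩ := exists_goodCoord hF
  have h1 : (t : G) ≠ 1 := fun e => by
    rw [show t = 1 from Subtype.ext e, orderOf_one] at ht2
    omega
  have hz : (t : G) ≠ z := fun e => ht (e.symm ▸ IsConj.refl z)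
  have h0 : C.co ⟨t, htQ⟩ ≠ 0 := fun e => by
    rcases (C.co_eq_zero _).1 e with e' | e'
    exacts [h1 e', hz e']
  have hsq : (t : G) * (t : G) = 1 := by
    have := congrArg Subtype.val (ht2 ▸ pow_orderOf_eq_one t)
    rwa [pow_two] at this
  obtain ⟨D, hD⟩ := C.exists_at_five hF (a := ⟨t, htQ⟩) ((C.co_sq _).1 hsq) h0 ht
  obtain ⟨e⟩ := stab_five_iso D.I D.good
  have hmap := D.stab_image' F (a := ⟨t, htQ⟩) hS
  rw [← D.map_actQ, hD] at hmap
  exact ⟨(((S.map (QuotientGroup.mk' Q)).equivMapOfInjective D.actQ D.actQ_injective).trans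
    (MulEquiv.subgroupCongr hmap)).trans e⟩

end Cfsg.Agent.LargeFischer
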