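import Cfsg.Agent.Lib.LargeFischer.MaxData

/-!
# Machine checks for the six tetrads and fifteen cosets
-/

set_option autoImplicit false
set_option maxRecDepth 100000

namespace Cfsg.Agent.LargeFischer

/-- The `k`-th code of a tetrad. -/
def cN3 (i : Fin 6) (k : Fin 3) : ℕ := mxC.getD (3 * i.1 + k.1) 0

/-- The index of the coset of two tetrads. -/
def prN (i j : Fin 6) : ℕ := mxR.getD (6 * i.1 + j.1) 0

/-- The images of the bits under the involution of two tetrads. -/
def apP (i j : Fin 6) : List ℕ := syI (syA.getD (prN i j) 0)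

/-- The span of two codes. -/
def spanTwo (a b : ℕ) : List ℕ := [0, a, b, a ^^^ b]

/-- The span of the codes of two tetrads. -/
def imgL (i j : Fin 6) : List ℕ :=
  (spanTwo (cN3 i 0) (cN3 i 1)).flatMap fun a => (spanTwo (cN3 j 0) (cN3 j 1)).map (a ^^^ ·)

/-- The six codes dual to the basis, spanned. -/
def dualL : List ℕ := mxD.foldr (fun b s => s ++ s.map (b ^^^ ·)) [0]

/-- The action of a normalising word on the tetrads. -/
def mxP (t : Fin 2) (i : Fin 6) : Fin 6 :=
  ⟨(mxPi.getD t.1 []).getD i.1 0 % 6, Nat.mod_lt _ (by norm_num)⟩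

theorem mx_prN : (∀ i j : Fin 6, prN i j < 15 ∧ prN i j = prN j i) ∧
    (∀ r : Fin 15, ∃ i j : Fin 6, i < j ∧ prN i j = r.1) ∧
    ∀ i j k l : Fin 6, i < j → k < l → prN i j = prN k l → i = k ∧ j = l := by
  decide +kernel

theorem mx_cN : (∀ i : Fin 6, cN3 i 0 ^^^ cN3 i 1 = cN3 i 2) ∧ mxC.Nodup ∧
    (∀ (i : Fin 6) (k : Fin 3), cN3 i k < 4096 ∧ syWm.testBit (cN3 i k) = true ∧
      inO 0 (cN3 i k) = true ∧ cN3 i k ≠ 0) := by
  decide +kernel

theorem mx_W_inO : syWl.all (fun w => !inO 0 w || mxC.contains w) = true := by decide +kernel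

theorem mx_two : ∀ i j : Fin 6, i ≠ j → ∀ k k' : Fin 3, inO 0 (cN3 i k ^^^ cN3 j k') = false := by
  decide +kernel

theorem mx_img_symm : ∀ i j : Fin 6, (imgL i j).all (fun w => (imgL j i).contains w) = true := by
  decide +kernel

theorem mx_img_parts : ∀ i j : Fin 6, i < j →
    (∀ a : Fin 64, (imgL i j).contains (apL (apP i j) a.1 ^^^ a.1) = true ∧
      (imgL i j).contains (apL (apP i j) (64 * a.1) ^^^ 64 * a.1) = true) ∧
    (imgL i j).all (fun a => (imgL i j).all fun b => (imgL i j).contains (a ^^^ b)) = true := by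
  decide +kernel

theorem mx_split : allB (fun v => v % 64 ^^^ 64 * (v / 64) == v) 12 0 = true := by decide +kernel

theorem mx_img {i j : Fin 6} (h : i < j) (v : Cd) :
    (imgL i j).contains (apL (apP i j) v.1 ^^^ v.1) = true := by
  obtain ⟨hp, hc⟩ := mx_img_parts i j h
  have e := beq_iff_eq.1 (forall_cd mx_split v)
  have h1 := (hp ⟨v.1 % 64, Nat.mod_lt _ (by norm_num)⟩).1
  have h2 := (hp ⟨v.1 / 64, by omega⟩).2
  have h3 := List.all_eq_true.1 (List.all_eq_true.1 hc _ (List.contains_iff_mem.1 h1)) _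
    (List.contains_iff_mem.1 h2)
  dsimp only at h3
  convert h3 using 2
  conv_lhs => rw [← e, apL_xor]
  ac_rfl

theorem mx_fix_of_perp : ∀ i j : Fin 6, i < j →
    allB (fun v => bN (cN3 i 0) v != 0 || bN (cN3 i 1) v != 0 || bN (cN3 j 0) v != 0 ||
      bN (cN3 j 1) v != 0 || apL (apP i j) v == v) 12 0 = true := by
  decide +kernel

theorem mx_perp_fix : (List.range 15).all (fun r =>
    apL (syI (syA.getD r 0)) (mxF.getD (2 * r) 0) == mxF.getD (2 * r) 0 &&
      apL (syI (syA.getD r 0)) (mxF.getD (2 * r + 1) 0) == mxF.getD (2 * r + 1) 0 &&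
      decide (mxF.getD (2 * r) 0 < 4096) && decide (mxF.getD (2 * r + 1) 0 < 4096)) = true ∧
    ∀ i j : Fin 6, i < j → syWl.all (fun w => bN w (mxF.getD (2 * prN i j) 0) != 0 ||
      bN w (mxF.getD (2 * prN i j + 1) 0) != 0 || (imgL i j).contains w) = true := by
  decide +kernel

theorem mx_pre : ∀ i j : Fin 6, i ≠ j → ∀ k : Fin 3,
    mxV.getD (18 * i.1 + 3 * j.1 + k.1) 0 < 4096 ∧
    apL (apP i j) (mxV.getD (18 * i.1 + 3 * j.1 + k.1) 0) ^^^ mxV.getD (18 * i.1 + 3 * j.1 + k.1) 0 =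
      cN3 i k ∧
    (∀ k' : Fin 3, bN (cN3 i k') (mxV.getD (18 * i.1 + 3 * j.1 + k.1) 0) = (if k' = k then 0 else 1)) ∧
    ∀ k' : Fin 3, bN (cN3 j k') (mxV.getD (18 * i.1 + 3 * j.1 + k.1) 0) = 0 := by
  decide +kernel

theorem mx_mul : ∀ i j k : Fin 6, i ≠ j → j ≠ k → i ≠ k →
    cmpL (apP i j) (apP j k) = apP i k := by
  decide +kernel

theorem mx_meet : ∀ i j k : Fin 6, i ≠ j → j ≠ k → i ≠ k →
    (imgL i j).all (fun w => !(imgL j k).contains w ||
      (spanTwo (cN3 j 0) (cN3 j 1)).contains w) = true := by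
  decide +kernel

theorem mx_common : ∀ i j k : Fin 6, i ≠ j → j ≠ k → i ≠ k → ∀ l : Fin 3,
    (mxY.getD (6 * i.1 + j.1) []).getD (3 * k.1 + l.1) 0 < 4096 ∧
    apL (apP i j) ((mxY.getD (6 * i.1 + j.1) []).getD (3 * k.1 + l.1) 0) ^^^
      (mxY.getD (6 * i.1 + j.1) []).getD (3 * k.1 + l.1) 0 = cN3 i l ∧
    apL (apP i k) ((mxY.getD (6 * i.1 + j.1) []).getD (3 * k.1 + l.1) 0) ^^^
      (mxY.getD (6 * i.1 + j.1) []).getD (3 * k.1 + l.1) 0 = cN3 i l ∧
    apL (apP j k) ((mxY.getD (6 * i.1 + j.1) []).getD (3 * k.1 + l.1) 0) =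
      (mxY.getD (6 * i.1 + j.1) []).getD (3 * k.1 + l.1) 0 := by
  decide +kernel

theorem mx_in_img : ∀ i j l : Fin 6, j ≠ l → ∀ k : Fin 3,
    (imgL j l).contains (cN3 i k) = true → i = j ∨ i = l := by
  decide +kernel

/-- The six functionals of three tetrads. -/
def funcTriple (i j k : Fin 6) (v : ℕ) : ℕ :=
  bN (cN3 i 0) v + 2 * bN (cN3 i 1) v + 4 * bN (cN3 j 0) v + 8 * bN (cN3 j 1) v +
    16 * bN (cN3 k 0) v + 32 * bN (cN3 k 1) v

/-- The bit set of a list. -/
def mxMask (l : List ℕ) : ℕ := l.foldr (fun a m => 2 ^ a ||| m) 0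

theorem mxMask_bit : ∀ (l : List ℕ) (v : ℕ), (mxMask l).testBit v = true → v ∈ l := by
  intro l
  induction l with
  | nil => intro v; simp [mxMask]
  | cons a l ih =>
    intro v hv
    rw [mxMask, List.foldr_cons, Nat.testBit_or, Bool.or_eq_true, Nat.testBit_two_pow, decide_eq_true_eq] at hv
    rcases hv with rfl | hv
    · exact List.mem_cons_self ..
    · exact List.mem_cons_of_mem _ (ih v hv)

theorem mx_dual_mask : dualL.all (fun v => decide (v < 4096)) = true ∧
    ∀ i j k : Fin 6, i ≠ j → j ≠ k → i ≠ k →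
      mxMask (dualL.map (funcTriple i j k)) = 2 ^ 64 - 1 := by
  decide +kernel

theorem mx_dual {i j k : Fin 6} (h : i ≠ j) (h' : j ≠ k) (h'' : i ≠ k) {n : ℕ} (hn : n < 64) :
    ∃ v : Cd, funcTriple i j k v.1 = n := by
  have hb : (mxMask (dualL.map (funcTriple i j k))).testBit n = true := by
    rw [mx_dual_mask.2 i j k h h' h'', Nat.testBit_two_pow_sub_one]
    exact decide_eq_true hn
  obtain ⟨v, hv, hvn⟩ := List.mem_map.1 (mxMask_bit _ _ hb)
  exact ⟨⟨v, of_decide_eq_true (List.all_eq_true.1 mx_dual_mask.1 v hv)⟩, hvn⟩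

theorem mx_perm : ∀ t : Fin 2, ∀ i j : Fin 6, i ≠ j →
    mxP t i ≠ mxP t j ∧ syNext t (prN i j) = prN (mxP t i) (mxP t j) := by
  decide +kernel

/-- The code of a triple. -/
def mxCode (p : Fin 6 × Fin 6 × Fin 6) : ℕ := 36 * p.1.1 + 6 * p.2.1.1 + p.2.2.1

/-- The triple of a code. -/
def mxTri (n : ℕ) : Fin 6 × Fin 6 × Fin 6 := (Fin.ofNat 6 (n / 36), Fin.ofNat 6 (n / 6), Fin.ofNat 6 n)

/-- The action of a normalising word on triples. -/
def mxP3 (t : Fin 2) (p : Fin 6 × Fin 6 × Fin 6) : Fin 6 × Fin 6 × Fin 6 :=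
  (mxP t p.1, mxP t p.2.1, mxP t p.2.2)

/-- One round of growth of a set of triples. -/
def mxGrow : List ℕ → ℕ → ℕ
  | [], m => m
  | n :: l, m => mxGrow l (if m.testBit n then
      m ||| 2 ^ mxCode (mxP3 0 (mxTri n)) ||| 2 ^ mxCode (mxP3 1 (mxTri n)) else m)

/-- Several rounds. -/
def mxRounds : ℕ → ℕ
  | 0 => 2 ^ mxCode (0, 1, 2)
  | n + 1 => mxGrow (List.range 216) (mxRounds n)

theorem mx_rounds : ∀ i j k : Fin 6, i ≠ j → j ≠ k → i ≠ k →
    (mxRounds 19).testBit (mxCode (i, j, k)) = true := by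
  decide +kernel

theorem mx_tri : ∀ p : Fin 6 × Fin 6 × Fin 6, mxTri (mxCode p) = p := by decide +kernel

/-- All triples of distinct tetrads form one orbit. -/
theorem mx_reach {P : Fin 6 × Fin 6 × Fin 6 → Prop} (hP : ∀ t p, P p → P (mxP3 t p))
    (h0 : P (0, 1, 2)) {i j k : Fin 6} (h : i ≠ j) (h' : j ≠ k) (h'' : i ≠ k) : P (i, j, k) := by
  have hstep : ∀ (l : List ℕ) (m : ℕ), (∀ n, m.testBit n = true → P (mxTri n)) →
      ∀ n, (mxGrow l m).testBit n = true → P (mxTri n) := by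
    intro l
    induction l with
    | nil => intro m hm n hn; exact hm n hn
    | cons a l ih =>
      intro m hm
      rw [mxGrow]
      refine ih _ ?_
      intro n hn
      split at hn
      · rename_i ha
        simp only [Nat.testBit_or, Bool.or_eq_true, Nat.testBit_two_pow, decide_eq_true_eq] at hn
        rcases hn with (hn | rfl) | rfl
        · exact hm n hn
        · rw [mx_tri]; exact hP 0 _ (hm a ha)
        · rw [mx_tri]; exact hP 1 _ (hm a ha)
      · exact hm n hn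
  have hall : ∀ r n, (mxRounds r).testBit n = true → P (mxTri n) := by
    intro r
    induction r with
    | zero =>
      intro n hn
      rw [mxRounds, Nat.testBit_two_pow, decide_eq_true_eq] at hn
      rw [← hn, mx_tri]; exact h0
    | succ r ih =>
      intro n hn
      exact hstep _ _ ih n hn
  have := hall 19 _ (mx_rounds i j k h h' h'')
  rwa [mx_tri] at this

end Cfsg.Agent.LargeFischer
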