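import Cfsg.Agent.Lib.LargeFischer.JStab
import Cfsg.Agent.Lib.LargeFischer.MaxCheck

/-!
# Commutators of the large elementary subgroup with `Q`

`cm t q = t q t⁻¹ q⁻¹` for `t` in the candidate; its code is `p v + v` for the image `p` of `t` and the
code `v` of `q`.  `sg e = z ^ e` records commutators inside `Q`.
-/

set_option autoImplicit false

namespace Cfsg.Agent.LargeFischer

open Subgroup

/-! ## Codes -/

theorem bN_add_right (a b c : Cd) : bN a.1 (xo b c).1 = (bN a.1 b.1 + bN a.1 c.1) % 2 := by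
  rw [bN_comm, bN_add_left, bN_comm b.1, bN_comm c.1]

theorem xor_zero_right (a b : Cd) (h : xo a b = 0) : a = b := by
  rw [← xo_zero b, ← h, ← xo_assoc, xo_comm b, xo_assoc, xo_self, xo_zero]

/-- The `k`-th code of a tetrad. -/
def cC (i : Fin 6) (k : Fin 3) : Cd := ⟨cN3 i k % 4096, Nat.mod_lt _ (by norm_num)⟩

theorem cC_val (i : Fin 6) (k : Fin 3) : (cC i k).1 = cN3 i k :=
  Nat.mod_eq_of_lt (mx_cN.2.2 i k).1

theorem cC_two (i : Fin 6) : xo (cC i 0) (cC i 1) = cC i 2 :=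
  Fin.ext (by rw [xo_val, cC_val, cC_val, cC_val]; exact mx_cN.1 i)

theorem cC_syV (i : Fin 6) (k : Fin 3) : cC i k ∈ syV := by
  show syWm.testBit (cC i k).1 = true
  rw [cC_val]; exact (mx_cN.2.2 i k).2.1

theorem cC_small (i : Fin 6) (k : Fin 3) : inSmall (cC i k).1 = true := by
  rw [inSmall, cC_val, (mx_cN.2.2 i k).2.1, (mx_cN.2.2 i k).2.2.1]; rfl

theorem cC_inj {i j : Fin 6} {k l : Fin 3} (h : cC i k = cC j l) : i = j ∧ k = l := by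
  have e : cN3 i k = cN3 j l := by rw [← cC_val, h, cC_val]
  have hlen : mxC.length = 18 := rfl
  have hi : 3 * i.1 + k.1 < mxC.length := by omega
  have hj : 3 * j.1 + l.1 < mxC.length := by omega
  rw [cN3, cN3, List.getD_eq_getElem _ _ hi, List.getD_eq_getElem _ _ hj] at e
  have := (mx_cN.2.1.getElem_inj_iff).1 e
  exact ⟨Fin.ext (by omega), Fin.ext (by omega)⟩

theorem exists_cC {v : Cd} (h : inSmall v.1 = true) : ∃ i k, cC i k = v := by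
  rw [inSmall, Bool.and_eq_true] at h
  have hm := List.all_eq_true.1 mx_W_inO _ (mem_syVl (v := v) h.1)
  rw [h.2, Bool.not_true, Bool.false_or, List.contains_iff_mem] at hm
  obtain ⟨n, hn, hne⟩ := List.getElem_of_mem hm
  have hlen : mxC.length = 18 := rfl
  refine ⟨⟨n / 3, by omega⟩, ⟨n % 3, Nat.mod_lt _ (by norm_num)⟩, Fin.ext ?_⟩
  rw [cC_val, cN3, List.getD_eq_getElem _ _ (by show 3 * (n / 3) + n % 3 < _; omega), ← hne]
  congr 1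
  show 3 * (n / 3) + n % 3 = n
  omega

/-- The permutation of two tetrads. -/
noncomputable def pP (i j : Fin 6) : Equiv.Perm Cd := aP (prN i j)

theorem pP_symm (i j : Fin 6) : pP i j = pP j i := by rw [pP, pP, (mx_prN.1 i j).2]

theorem pP_mem (i j : Fin 6) : pP i j ∈ syA2 := aP_mem (mx_prN.1 i j).1

theorem pP_permOf (i j : Fin 6) : PermOf (apP i j) (pP i j) := (eI_spec (syA_lt (mx_prN.1 i j).1).1).2

theorem pP_mul {i j k : Fin 6} (h : i ≠ j) (h' : j ≠ k) (h'' : i ≠ k) : pP i j * pP j k = pP i k :=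
  PermOf.eq ((mx_mul i j k h h' h'') ▸ (pP_permOf i j).mul (pP_permOf j k)) (pP_permOf i k)

theorem pP_inj {i j u v : Fin 6} (hij : i ≠ j) (huv : u ≠ v) (h : pP i j = pP u v) :
    (i = u ∧ j = v) ∨ (i = v ∧ j = u) := by
  have e := aP_inj (mx_prN.1 i j).1 (mx_prN.1 u v).1 h
  rcases lt_or_gt_of_ne hij with a | a <;> rcases lt_or_gt_of_ne huv with b | b
  · exact Or.inl (mx_prN.2.2 i j u v a b e)
  · exact Or.inr (mx_prN.2.2 i j v u a b (by rw [e, (mx_prN.1 u v).2]))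
  · obtain ⟨h1, h2⟩ := mx_prN.2.2 j i u v a b (by rw [← e, (mx_prN.1 i j).2])
    exact Or.inr ⟨h2, h1⟩
  · obtain ⟨h1, h2⟩ := mx_prN.2.2 j i v u a b (by rw [← (mx_prN.1 i j).2, e, (mx_prN.1 u v).2])
    exact Or.inl ⟨h2, h1⟩

theorem exists_pP {p : Equiv.Perm Cd} (hp : p ∈ syA2) (h1 : p ≠ 1) : ∃ i j, i ≠ j ∧ p = pP i j := by
  rcases mem_syA2_cases hp with h | ⟨r, hr, rfl⟩
  · exact absurd h h1
  · obtain ⟨i, j, hij, e⟩ := mx_prN.2.1 ⟨r, hr⟩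
    exact ⟨i, j, hij.ne, by rw [pP, e]⟩

/-! ## In coordinates -/

variable {G : Type*} [Group G] {z : G} {Q : Subgroup (Subgroup.centralizer ({z} : Set G))} [Q.Normal]

set_option quotPrecheck false in
local notation "Γ" => ↥(Subgroup.centralizer ({z} : Set G))

/-- Powers of the central element. -/
def sg (e : ℕ) : Γ := zIn z ^ e

theorem sg_comm (e : ℕ) (a : Γ) : a * sg e = sg e * a := Commute.pow_right (zIn_comm a) e

theorem sg_add (a b : ℕ) : (sg (a + b) : Γ) = sg a * sg b := pow_add _ a b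

theorem sg_zero : (sg 0 : Γ) = 1 := pow_zero _

theorem sg_one : (sg 1 : Γ) = zIn z := pow_one _

namespace GoodCoord

variable (K : GoodCoord z Q)

/-- The commutator with `q`. -/
def cm (_K : GoodCoord z Q) (t : Γ) (q : ↥Q) : ↥Q :=
  ⟨t * (q : Γ) * t⁻¹ * (q : Γ)⁻¹, Q.mul_mem ((inferInstance : Q.Normal).conj_mem _ q.2 t) (Q.inv_mem q.2)⟩

theorem cm_val (t : Γ) (q : ↥Q) : ((K.cm t q : ↥Q) : Γ) = t * (q : Γ) * t⁻¹ * (q : Γ)⁻¹ := rfl

include K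

theorem co_cm (t : Γ) (q : ↥Q) : K.co (K.cm t q) = xo (K.act t (K.co q)) (K.co q) := by
  rw [K.act_co, show K.cm t q = ⟨t * (q : Γ) * t⁻¹, (inferInstance : Q.Normal).conj_mem _ q.2 t⟩ * q⁻¹ from rfl,
    K.co_mul, K.co_inv]

theorem cm_eq_one {t : Γ} {q : ↥Q} : ((K.cm t q : ↥Q) : Γ) = 1 ↔ t * (q : Γ) = (q : Γ) * t := by
  rw [K.cm_val, mul_inv_eq_one, mul_inv_eq_iff_eq_mul]

variable [Finite G] (hF : IsOfLargeFischerTypeAt z Q)
include hF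

theorem z_sq : zIn z * zIn z = (1 : Γ) :=
  Subtype.ext (show z * z = 1 by rw [← pow_two, ← hF.1.1, pow_orderOf_eq_one])

theorem sg_mod (e : ℕ) : (sg e : Γ) = sg (e % 2) :=
  pow_eq_pow_mod e (by rw [pow_two]; exact K.z_sq hF)

theorem sg_eq_one {e : ℕ} : (sg e : Γ) = 1 ↔ e % 2 = 0 := by
  rw [K.sg_mod hF]
  rcases Nat.mod_two_eq_zero_or_one e with h | h <;> rw [h]
  · simp [sg_zero]
  · rw [sg_one]
    have hz := GoodCoord.ne_one (z := z) hF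
    exact ⟨fun h' => absurd (congrArg Subtype.val h') hz, fun h' => absurd h' (by norm_num)⟩

theorem sg_inj {a b : ℕ} (h : (sg a : Γ) = sg b) : a % 2 = b % 2 := by
  have : (sg (a + b) : Γ) = 1 := by
    rw [sg_add, h, ← sg_add, K.sg_eq_one hF]; omega
  rw [K.sg_eq_one hF] at this
  omega

theorem sq_Q (a : ↥Q) : (a : Γ) * (a : Γ) = sg (qN (K.co a).1) := by
  have h0 : K.co (a * a) = 0 := by rw [K.co_mul, xo_self]
  have hq : qN (K.co a).1 < 2 := Nat.mod_lt _ (by norm_num)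
  by_cases h : qN (K.co a).1 = 0
  · rw [h, sg_zero]
    exact Subtype.ext ((K.co_sq a).2 h)
  · rw [show qN (K.co a).1 = 1 by omega, sg_one]
    exact Subtype.ext (((K.co_eq_zero _).1 h0).resolve_left fun e => h ((K.co_sq a).1 e))

/-- Commutation in `Q`. -/
theorem comm_Q (a b : ↥Q) : (a : Γ) * (b : Γ) = sg (bN (K.co a).1 (K.co b).1) * ((b : Γ) * (a : Γ)) := by
  obtain ⟨e, he⟩ : ∃ e, (a : Γ) * (b : Γ) = sg e * ((b : Γ) * (a : Γ)) := by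
    have h0 : K.co (a * b) = K.co (b * a) := by rw [K.co_mul, K.co_mul, xo_comm]
    rcases (K.co_eq_iff _ _).1 h0 with h | h
    · exact ⟨0, by rw [sg_zero, one_mul]; exact h⟩
    · exact ⟨1, by rw [sg_one, ← zIn_comm]; exact h⟩
  refine he.trans (congrArg (· * _) ?_)
  have h1 := K.sq_Q hF (a * b)
  rw [Subgroup.coe_mul, show ((a : Γ) * (b : Γ)) * ((a : Γ) * (b : Γ)) = ((a : Γ) * (b : Γ)) * (sg e * ((b : Γ) * (a : Γ))) by rw [← he]] at h1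
  have h2 : (a : Γ) * (b : Γ) * (sg e * ((b : Γ) * (a : Γ))) = sg e * ((a : Γ) * ((b : Γ) * (b : Γ)) * (a : Γ)) := by
    rw [← mul_assoc _ (sg e), sg_comm e ((a : Γ) * (b : Γ))]; group
  rw [h2, K.sq_Q hF b, sg_comm _ (a : Γ), mul_assoc, K.sq_Q hF a, ← sg_add, ← sg_add, K.co_mul] at h1
  have h3 := K.sg_inj hF h1
  rw [K.sg_mod hF]
  conv_rhs => rw [K.sg_mod hF]
  rw [bN, ← xo_val]
  congr 1
  omega

theorem conj_Q (a b : ↥Q) : (a : Γ) * (b : Γ) * (a : Γ)⁻¹ = sg (bN (K.co a).1 (K.co b).1) * (b : Γ) := by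
  rw [K.comm_Q hF a b]; group

theorem sq_aT {a : Γ} (ha : a ∈ K.aT) : a * a = 1 := by
  obtain ⟨-, hel, -⟩ := K.toCoord.sylow_core K.good hF.1.2.2.1 hF.1.2.2.2.1 (ne_one hF)
  rw [← pow_two]; exact hel.2 a ha

theorem inv_aT {a : Γ} (ha : a ∈ K.aT) : a⁻¹ = a := inv_eq_of_mul_eq_one_right (K.sq_aT hF ha)

theorem comm_aT {a b : Γ} (ha : a ∈ K.aT) (hb : b ∈ K.aT) : a * b = b * a := by
  calc a * b = (a * b)⁻¹ := (K.inv_aT hF (K.aT.mul_mem ha hb)).symm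
    _ = b * a := by rw [mul_inv_rev, K.inv_aT hF ha, K.inv_aT hF hb]

theorem sg_mem_aT (e : ℕ) : (sg e : Γ) ∈ K.aT := by
  refine K.aT.pow_mem (K.wT_le_aT ⟨K.zIn_mem hF.1.2.2.2.1, ?_⟩) e
  rw [show K.co ⟨zIn z, K.zIn_mem hF.1.2.2.2.1⟩ = 0 from (K.co_eq_zero _).2 (Or.inr rfl)]
  exact syV_zero

theorem act_sg (e : ℕ) : K.act (sg e : Γ) = 1 :=
  (K.mem_Q_iff _).1 (Q.pow_mem (K.zIn_mem hF.1.2.2.2.1) e)

/-- `Q` normalises `A`. -/
theorem conj_mem_aT (r : ↥Q) {t : Γ} (ht : t ∈ K.aT) : (r : Γ) * t * (r : Γ)⁻¹ ∈ K.aT := by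
  have h1 : K.act (r : Γ) = 1 := (K.mem_Q_iff _).1 r.2
  refine K.toCoord.aT_conj (fun p hp => ?_) (fun v hv => ?_) ht
  · rw [h1]; simpa using hp
  · rw [h1]; simpa using hv

theorem act_conj_Q (r : ↥Q) (t : Γ) : K.act ((r : Γ) * t * (r : Γ)⁻¹) = K.act t := by
  rw [map_mul, map_mul, map_inv, (K.mem_Q_iff _).1 r.2]; simp

theorem act_syA2 {t : Γ} (ht : t ∈ K.aT) : K.act t ∈ syA2 := (mem_inf.1 ht).1

theorem cm_mem_wT {t : Γ} (ht : t ∈ K.aT) (q : ↥Q) : ((K.cm t q : ↥Q) : Γ) ∈ K.wT := by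
  rw [← K.aT_inf_Q]
  refine mem_inf.2 ⟨?_, (K.cm t q).2⟩
  rw [K.cm_val, show t * (q : Γ) * t⁻¹ * (q : Γ)⁻¹ = t * ((q : Γ) * t⁻¹ * (q : Γ)⁻¹) by group]
  exact K.aT.mul_mem ht (K.conj_mem_aT hF q (K.aT.inv_mem ht))

theorem cm_mem_aT {t : Γ} (ht : t ∈ K.aT) (q : ↥Q) : ((K.cm t q : ↥Q) : Γ) ∈ K.aT :=
  K.wT_le_aT (K.cm_mem_wT hF ht q)

theorem conj_eq {t : Γ} (ht : t ∈ K.aT) (q : ↥Q) :
    (q : Γ) * t * (q : Γ)⁻¹ = ((K.cm t q : ↥Q) : Γ) * t := by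
  have h1 : ((K.cm t q : ↥Q) : Γ) = t * ((q : Γ) * t * (q : Γ)⁻¹) := by
    rw [K.cm_val, K.inv_aT hF ht]; group
  rw [h1, K.comm_aT hF ht (K.conj_mem_aT hF q ht), mul_assoc ((q : Γ) * t * (q : Γ)⁻¹) t t, K.sq_aT hF ht,
    mul_one]

theorem cm_mul {a b : Γ} (ha : a ∈ K.aT) (hb : b ∈ K.aT) (q : ↥Q) :
    ((K.cm (a * b) q : ↥Q) : Γ) = ((K.cm a q : ↥Q) : Γ) * ((K.cm b q : ↥Q) : Γ) := by
  have h : ((K.cm (a * b) q : ↥Q) : Γ) = a * ((K.cm b q : ↥Q) : Γ) * a⁻¹ * ((K.cm a q : ↥Q) : Γ) := by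
    simp only [K.cm_val]; group
  rw [h, K.comm_aT hF ha (K.cm_mem_aT hF hb q), mul_inv_cancel_right]
  exact K.comm_aT hF (K.cm_mem_aT hF hb q) (K.cm_mem_aT hF ha q)

theorem cm_mul_right (t : Γ) (q r : ↥Q) : ((K.cm t (q * r) : ↥Q) : Γ) =
    sg (bN (K.co q).1 (K.co (K.cm t r)).1) * (((K.cm t q : ↥Q) : Γ) * ((K.cm t r : ↥Q) : Γ)) := by
  have h : ((K.cm t (q * r) : ↥Q) : Γ) =
      ((K.cm t q : ↥Q) : Γ) * ((q : Γ) * ((K.cm t r : ↥Q) : Γ) * (q : Γ)⁻¹) := by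
    simp only [K.cm_val, Subgroup.coe_mul]; group
  rw [h, K.conj_Q hF, ← mul_assoc, sg_comm, mul_assoc]

theorem cm_Q (w q : ↥Q) : ((K.cm (w : Γ) q : ↥Q) : Γ) = sg (bN (K.co w).1 (K.co q).1) := by
  rw [K.cm_val, K.conj_Q hF, mul_inv_cancel_right]

theorem cm_conj {t : Γ} (ht : t ∈ K.aT) (r q : ↥Q) :
    ((K.cm ((r : Γ) * t * (r : Γ)⁻¹) q : ↥Q) : Γ) =
      sg (bN (K.co (K.cm t r)).1 (K.co q).1) * ((K.cm t q : ↥Q) : Γ) := by
  rw [K.conj_eq hF ht, K.cm_mul hF (K.cm_mem_aT hF ht r) ht, K.cm_Q hF]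

theorem isSym_aT {t : Γ} : IsSym (K.act t) := K.I.sym _ (K.range_act ▸ MonoidHom.mem_range.2 ⟨t, rfl⟩)

theorem act_sq {t : Γ} (ht : t ∈ K.aT) (v : Cd) : K.act t (K.act t v) = v := by
  rw [← Equiv.Perm.mul_apply, syA2_sq (K.act_syA2 hF ht)]; rfl

theorem bN_cm {t : Γ} (ht : t ∈ K.aT) (r q : ↥Q) :
    bN (K.co (K.cm t r)).1 (K.co q).1 = bN (K.co r).1 (K.co (K.cm t q)).1 := by
  have hs : ∀ a b : Cd, bN (K.act t a).1 (K.act t b).1 = bN a.1 b.1 := fun a b => by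
    rw [bN, bN, ← xo_val, ← (K.isSym_aT hF).add, ← xo_val]
    simp only [(K.isSym_aT hF).q]
  have key : bN (K.act t (K.co r)).1 (K.co q).1 = bN (K.co r).1 (K.act t (K.co q)).1 := by
    rw [← hs (K.act t (K.co r)), K.act_sq hF ht]
  rw [K.co_cm, K.co_cm, bN_add_left, bN_add_right, key]

end GoodCoord

end Cfsg.Agent.LargeFischer
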