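import Cfsg.Agent.Lib.LargeFischer.MaxCosets

/-!
# The two classes of involutions in `A`

`A` has 1771 conjugates of `z` and 276 other involutions, 16 in each coset outside `Q`; there `Q` is
transitive and a fixed code commutes (`fix_comm`).
-/

set_option autoImplicit false

namespace Cfsg.Agent.LargeFischer

open Subgroup

theorem count_primes : ∀ k : Fin 9, k.1 ≠ 7 →
    ∃ p ∈ [13, 331, 571, 811, 1051, 1291, 1531, 2011], p ∣ 91 + 15 * (16 * k.1) := by
  decide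

theorem pow_two_mod : ∀ p ∈ [13, 331, 571, 811, 1051, 1291, 1531, 2011], ∀ k : Fin 11,
    2 ^ k.1 % p ≠ 2 ^ 11 % p := by
  decide +kernel

theorem primes_prime : ∀ p ∈ [13, 331, 571, 811, 1051, 1291, 1531, 2011], Nat.Prime p := by
  intro p hp
  simp only [List.mem_cons, List.not_mem_nil, or_false] at hp
  rcases hp with rfl | rfl | rfl | rfl | rfl | rfl | rfl | rfl <;> norm_num

variable {G : Type*} [Group G] {z : G} {Q : Subgroup (Subgroup.centralizer ({z} : Set G))} [Q.Normal]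

set_option quotPrecheck false in
local notation "Γ" => ↥(Subgroup.centralizer ({z} : Set G))

namespace GoodCoord

variable (K : GoodCoord z Q)

/-- The conjugates of `z` in `A`. -/
def zA : Set G := {x | x ∈ K.aG ∧ IsConj z x}

variable [Finite G] (hF : IsOfLargeFischerTypeAt z Q)
include hF

theorem zA_eq : K.zA = ((↑) : Γ → G) '' K.zC := by
  ext x
  constructor
  · rintro ⟨⟨a, ha, rfl⟩, hc⟩
    exact ⟨a, ⟨ha, hc⟩, rfl⟩
  · rintro ⟨a, ⟨ha, hc⟩, rfl⟩
    exact ⟨⟨a, ha, rfl⟩, hc⟩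

/-- `|N(A)|` is the number of conjugates of `z` in `A` times `|N(A) ∩ C(z)|`. -/
theorem card_norm : Nat.card ↥(Subgroup.normalizer (K.aG : Set G)) = K.zC.ncard * (2 ^ 11 * 138240) := by
  have hS : ∀ m ∈ Subgroup.normalizer (K.aG : Set G), ∀ s ∈ K.zA, m * s * m⁻¹ ∈ K.zA := fun m hm s hs =>
    ⟨(mem_normalizer_iff.1 hm s).1 hs.1, hs.2.trans (isConj_iff.2 ⟨m, rfl⟩)⟩
  let := conjOn _ K.zA hS
  obtain ⟨-, hel, hA, hzA, -⟩ := K.core_facts hF
  let x : ↥K.zA := ⟨z, hzA, IsConj.refl z⟩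
  have horb : MulAction.orbit ↥(Subgroup.normalizer (K.aG : Set G)) x = Set.univ := by
    refine Set.eq_univ_of_forall fun y => ?_
    obtain ⟨c, hc⟩ := isConj_iff.1 y.2.2
    obtain ⟨m, hm, hme⟩ := K.control_fusion hF hel hA hzA (g := c) (by rw [hc]; exact y.2.1)
    exact ⟨⟨m, hm⟩, Subtype.ext (hme.trans hc)⟩
  have hst : MulAction.stabilizer ↥(Subgroup.normalizer (K.aG : Set G)) x =
      (Subgroup.normalizer (K.aG : Set G) ⊓ Subgroup.centralizer ({z} : Set G)).subgroupOf _ := by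
    ext m
    rw [MulAction.mem_stabilizer_iff, mem_subgroupOf, mem_inf, and_iff_right m.2,
      mem_centralizer_singleton_iff, ← mul_inv_eq_iff_eq_mul]
    exact ⟨fun e => congrArg Subtype.val e, fun e => Subtype.ext e⟩
  have hz : K.zA.ncard = K.zC.ncard := by rw [K.zA_eq hF, Set.ncard_image_of_injective _ Subtype.val_injective]
  rw [← Subgroup.index_mul_card (MulAction.stabilizer ↥(Subgroup.normalizer (K.aG : Set G)) x),
    MulAction.index_stabilizer, horb, Set.ncard_univ, Nat.card_coe_set_eq, hz, hst,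
    Nat.card_congr (subgroupOfEquivOfLe inf_le_left).toEquiv, K.card_normalizer_aG hF]

/-- An element of odd prime order normalising `A` fixes `2 ^ k` of its points, `k < 11`. -/
theorem exists_mod {p : ℕ} (hp : p.Prime) (hp2 : p ≠ 2)
    (hd : p ∣ Nat.card ↥(Subgroup.normalizer (K.aG : Set G))) :
    ∃ k : Fin 11, 2 ^ k.1 % p = 2 ^ 11 % p := by
  classical
  have := Fact.mk hp
  obtain ⟨m, hm⟩ := exists_prime_orderOf_dvd_card' p hd
  obtain ⟨-, hel, hA, -⟩ := K.core_facts hF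
  have hS : ∀ n ∈ Subgroup.normalizer (K.aG : Set G), ∀ s ∈ (K.aG : Set G), n * s * n⁻¹ ∈ (K.aG : Set G) :=
    fun n hn s hs => (mem_normalizer_iff.1 hn s).1 hs
  let := conjOn _ (K.aG : Set G) hS
  have : Fintype ↥(K.aG : Set G) := Fintype.ofFinite _
  let σ : Equiv.Perm ↥(K.aG : Set G) := MulAction.toPermHom _ _ m
  have hσ : σ ^ p ^ 1 = 1 := by
    rw [pow_one, show σ ^ p = MulAction.toPermHom _ _ (m ^ p) from (map_pow _ m p).symm, ← hm,
      pow_orderOf_eq_one, map_one]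
  have h := Equiv.Perm.card_compl_support_modEq hσ
  have hfix : σ.supportᶜ.card = Nat.card ↥(K.aG ⊓ Subgroup.centralizer ({(m : G)} : Set G)) := by
    rw [← Nat.card_eq_finsetCard]
    refine Nat.card_congr
      { toFun := fun s => ⟨s.1.1, s.1.2, mem_centralizer_singleton_iff.2 ?_⟩
        invFun := fun s => ⟨⟨s.1, s.2.1⟩, ?_⟩
        left_inv := fun s => rfl
        right_inv := fun s => rfl }
    · have hs := Finset.mem_compl.1 s.2
      rw [Equiv.Perm.mem_support, not_not] at hs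
      have hs' : (m : G) * s.1.1 * (m : G)⁻¹ = s.1.1 := congrArg Subtype.val hs
      exact (mul_inv_eq_iff_eq_mul.1 hs').symm
    · rw [Finset.mem_compl, Equiv.Perm.mem_support, not_not]
      exact Subtype.ext (mul_inv_eq_iff_eq_mul.2 (mem_centralizer_singleton_iff.1 s.2.2).symm :
        (m : G) * s.1 * (m : G)⁻¹ = s.1)
  obtain ⟨k, hk11, hk⟩ := (Nat.dvd_prime_pow Nat.prime_two).1
    (hA ▸ card_dvd_of_le (inf_le_left : K.aG ⊓ Subgroup.centralizer ({(m : G)} : Set G) ≤ K.aG))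
  have hlt : k < 11 := by
    refine lt_of_le_of_ne hk11 fun e => ?_
    subst e
    have hall := eq_of_le_of_card_ge (inf_le_left : K.aG ⊓ Subgroup.centralizer ({(m : G)} : Set G) ≤ K.aG)
      (by rw [hk, hA])
    have hmA : (m : G) ∈ K.aG := (K.centralizer_aG hF).le (mem_centralizer_iff.2 fun a ha =>
      mem_centralizer_singleton_iff.1 (hall.symm ▸ ha : a ∈ K.aG ⊓ Subgroup.centralizer ({(m : G)} : Set G)).2)
    have hd2 : orderOf (m : G) ∣ 2 := orderOf_dvd_of_pow_eq_one (hel.2 _ hmA)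
    rw [orderOf_coe, hm] at hd2
    exact hp2 ((Nat.prime_dvd_prime_iff_eq hp Nat.prime_two).1 hd2)
  refine ⟨⟨k, hlt⟩, ?_⟩
  rw [hfix, hk, ← Nat.card_eq_fintype_card, show Nat.card ↥(K.aG : Set G) = 2 ^ 11 from hA] at h
  exact h

/-- The two counts. -/
theorem counts : Nat.card ↥(Subgroup.normalizer (K.aG : Set G)) = 1771 * (2 ^ 11 * 138240) ∧
    ∀ p ∈ syA2, p ≠ 1 → (K.tS ∩ {t | K.act t = p}).ncard = 16 := by
  obtain ⟨k, hk, hall, hz⟩ := K.card_zC hF
  have hN := K.card_norm hF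
  have hk7 : k = 7 := by
    by_contra hne
    obtain ⟨p, hp, hpd⟩ := count_primes ⟨k, by omega⟩ hne
    obtain ⟨j, hj⟩ := K.exists_mod hF (primes_prime p hp) (by rintro rfl; simp at hp)
      (hN ▸ hz ▸ hpd.mul_right _)
    exact pow_two_mod p hp j hj
  subst hk7
  refine ⟨by rw [hN, hz], fun p hp hne => ?_⟩
  have e : K.tS ∩ {t | K.act t = p} = K.cosP p \ (K.zC ∩ {t | K.act t = p}) := by
    ext t
    constructor
    · rintro ⟨⟨hA, -, hn⟩, ht⟩
      exact ⟨⟨hA, ht⟩, fun h => hn h.1.2⟩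
    · rintro ⟨⟨hA, ht⟩, hn⟩
      exact ⟨⟨hA, fun h1 => hne (by rw [← ht, h1, map_one]), fun hc => hn ⟨⟨hA, hc⟩, ht⟩⟩, ht⟩
  have hsub : K.zC ∩ {t | K.act t = p} ⊆ K.cosP p := fun t ht => ⟨ht.1.1, ht.2⟩
  rw [e, Set.ncard_sdiff hsub, K.ncard_cos hF hp, hall p hp hne]

variable {i j : Fin 6}

theorem exists_tS (hij : i ≠ j) : ∃ t ∈ K.tS, K.act t = pP i j := by
  have hne : pP i j ≠ 1 := aP_ne_one (mx_prN.1 i j).1
  obtain ⟨t, ht⟩ := Set.nonempty_of_ncard_ne_zero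
    (show (K.tS ∩ {t | K.act t = pP i j}).ncard ≠ 0 by rw [(K.counts hF).2 _ (pP_mem i j) hne]; norm_num)
  exact ⟨t, ht.1, ht.2⟩

/-- Outside `Q`, a fixed code commutes; `Q` is transitive on each coset. -/
theorem coset_facts (hij : i ≠ j) {t : Γ} (ht : t ∈ K.tS) (hp : K.act t = pP i j) :
    (∀ q : ↥Q, K.act t (K.co q) = K.co q → ((K.cm t q : ↥Q) : Γ) = 1) ∧
      ∀ s ∈ K.tS, K.act s = pP i j → ∃ q : ↥Q, (q : Γ) * t * (q : Γ)⁻¹ = s := by
  obtain ⟨f, hf, hall⟩ := K.exists_sixteen hF hij hp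
  have hconj : ∀ q : ↥Q, (q : Γ) * t * (q : Γ)⁻¹ ∈ K.tS ∩ {s | K.act s = pP i j} := fun q =>
    ⟨K.conj_tS (K.conjQ_norm hF q) ht, (K.act_conj_Q hF q t).trans hp⟩
  have hg : Function.Injective fun n => (f n : Γ) * t * (f n : Γ)⁻¹ := fun a b e => by
    simp only [K.conj_eq hF ht.1] at e
    exact hf (congrArg K.co (Subtype.ext (mul_right_cancel e)))
  have hrange : Set.range (fun n => (f n : Γ) * t * (f n : Γ)⁻¹) = K.tS ∩ {s | K.act s = pP i j} := by
    refine Set.eq_of_subset_of_ncard_le (Set.range_subset_iff.2 fun n => hconj _) ?_ (Set.toFinite _)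
    rw [Set.ncard_range_of_injective hg, Nat.card_fin,
      (K.counts hF).2 _ (pP_mem i j) (aP_ne_one (mx_prN.1 i j).1)]
  refine ⟨fun q hq => ?_, fun s hs hsp => ?_⟩
  · have h0 : K.co (K.cm t q) = 0 := by rw [K.co_cm, hq, xo_self]
    obtain ⟨n, hn⟩ : (q : Γ) * t * (q : Γ)⁻¹ ∈ Set.range fun n => (f n : Γ) * t * (f n : Γ)⁻¹ := by
      rw [hrange]; exact hconj q
    obtain ⟨n', hn'⟩ : t ∈ Set.range fun n => (f n : Γ) * t * (f n : Γ)⁻¹ := by
      rw [hrange]; exact ⟨ht, hp⟩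
    simp only [K.conj_eq hF ht.1] at hn hn'
    have e1 : K.cm t (f n) = K.cm t q := Subtype.ext (mul_right_cancel hn)
    have e2 : ((K.cm t (f n') : ↥Q) : Γ) = 1 := mul_eq_right.1 hn'
    have e3 : K.co (K.cm t (f n')) = 0 := (K.co_eq_zero _).2 (Or.inl (congrArg Subtype.val e2))
    have hnn : n = n' := hf (by show K.co (K.cm t (f n)) = K.co (K.cm t (f n')); rw [e3, e1, h0])
    rw [← e1, hnn, e2]
  · obtain ⟨n, hn⟩ : s ∈ Set.range fun n => (f n : Γ) * t * (f n : Γ)⁻¹ := by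
      rw [hrange]; exact ⟨hs, hsp⟩
    exact ⟨f n, hn⟩

theorem sg_not_tS (hij : i ≠ j) {t : Γ} (ht : t ∈ K.tS) (hp : K.act t = pP i j) :
    t * zIn z ∉ K.tS := by
  intro hs
  obtain ⟨hfix, htr⟩ := K.coset_facts hF hij ht hp
  have hz : K.act (zIn z : Γ) = 1 := (K.mem_Q_iff _).1 (K.zIn_mem hF.1.2.2.2.1)
  obtain ⟨q, hq⟩ := htr _ hs (by rw [map_mul, hz, mul_one, hp])
  rw [K.conj_eq hF ht.1, zIn_comm] at hq
  have hcm := mul_right_cancel hq
  have h0 : K.co (K.cm t q) = 0 := (K.co_eq_zero _).2 (Or.inr (congrArg Subtype.val hcm))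
  rw [K.co_cm] at h0
  rw [hfix q (xor_zero_right _ _ h0)] at hcm
  exact ne_one hF (congrArg Subtype.val hcm.symm)

omit hF in
theorem exists_fixed_pair (hij : i ≠ j) : ∃ f₁ f₂ : Cd, pP i j f₁ = f₁ ∧ pP i j f₂ = f₂ ∧
    ∀ w ∈ syV, bN w.1 f₁.1 = 0 → bN w.1 f₂.1 = 0 → w.1 ∈ imgL i j := by
  obtain ⟨hr, hperp⟩ := mx_perp_fix
  have main : ∀ a b : Fin 6, a < b → ∃ f₁ f₂ : Cd, pP a b f₁ = f₁ ∧ pP a b f₂ = f₂ ∧
      ∀ w ∈ syV, bN w.1 f₁.1 = 0 → bN w.1 f₂.1 = 0 → w.1 ∈ imgL a b := by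
    intro a b hab
    have h := List.all_eq_true.1 hr _ (List.mem_range.2 (mx_prN.1 a b).1)
    simp only [Bool.and_eq_true, decide_eq_true_eq, beq_iff_eq] at h
    obtain ⟨⟨⟨h1, h2⟩, l1⟩, l2⟩ := h
    refine ⟨⟨_, l1⟩, ⟨_, l2⟩, Fin.ext ((pP_permOf a b _).trans h1), Fin.ext ((pP_permOf a b _).trans h2),
      fun w hw b1 b2 => ?_⟩
    have := List.all_eq_true.1 (hperp a b hab) _ (mem_syVl hw)
    simp only [Bool.or_eq_true, bne_iff_ne] at this
    rcases this with (h | h) | h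
    exacts [absurd b1 h, absurd b2 h, List.contains_iff_mem.1 h]
  rcases lt_or_gt_of_ne hij with a | a
  · exact main i j a
  · obtain ⟨f₁, f₂, e1, e2, h⟩ := main j i a
    exact ⟨f₁, f₂, by rw [pP_symm]; exact e1, by rw [pP_symm]; exact e2,
      fun w hw b1 b2 => imgL_swap (h w hw b1 b2)⟩

/-- An element of the coset commuting with the fixed codes is an element of `tS` up to `z`. -/
theorem exists_tS_of_fix (hij : i ≠ j) {u : Γ} (hu : u ∈ K.aT) (hp : K.act u = pP i j)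
    (hfix : ∀ q : ↥Q, pP i j (K.co q) = K.co q → ((K.cm u q : ↥Q) : Γ) = 1) :
    ∃ s ∈ K.tS, K.act s = pP i j ∧ (u = s ∨ u = s * zIn z) := by
  obtain ⟨t, ht, htp⟩ := K.exists_tS hF hij
  obtain ⟨hfixt, -⟩ := K.coset_facts hF hij ht htp
  have hwA : u * t ∈ K.aT := K.aT.mul_mem hu ht.1
  have hwW : u * t ∈ K.wT := K.aT_inf_Q ▸ mem_inf.2 ⟨hwA, (K.mem_Q_iff _).2 (by
    rw [map_mul, hp, htp]; exact syA2_sq (pP_mem i j))⟩
  obtain ⟨hwQ, hwV⟩ := hwW
  obtain ⟨f₁, f₂, e1, e2, hperp⟩ := exists_fixed_pair (hij := hij)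
  have hb : ∀ f : Cd, pP i j f = f → bN (K.co ⟨u * t, hwQ⟩).1 f.1 = 0 := by
    intro f hf
    obtain ⟨q, rfl⟩ := K.co_surjective f
    have h1 := hfix q hf
    have h2 := hfixt q (by rw [htp]; exact hf)
    have h3 := K.cm_mul hF hu ht.1 q
    rw [h1, h2, one_mul] at h3
    have h4 := K.cm_Q hF ⟨u * t, hwQ⟩ q
    rw [h3] at h4
    have := (K.sg_eq_one hF).1 h4.symm
    have := bN_lt (K.co ⟨u * t, hwQ⟩).1 (K.co q).1
    omega
  obtain ⟨q, hq⟩ := K.exists_cm_code hF hij htp (hperp _ hwV (hb _ e1) (hb _ e2))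
  have hu' : u = u * t * t := by rw [mul_assoc, K.sq_aT hF ht.1, mul_one]
  refine ⟨(q : Γ) * t * (q : Γ)⁻¹, K.conj_tS (K.conjQ_norm hF q) ht, (K.act_conj_Q hF q t).trans htp, ?_⟩
  rw [K.conj_eq hF ht.1]
  rcases (K.co_eq_iff ⟨u * t, hwQ⟩ (K.cm t q)).1 hq.symm with h | h
  · left
    rw [← show u * t = ((K.cm t q : ↥Q) : Γ) from h]
    exact hu'
  · right
    calc u = u * t * t := hu'
      _ = ((K.cm t q : ↥Q) : Γ) * zIn z * t := by rw [show u * t = ((K.cm t q : ↥Q) : Γ) * zIn z from h]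
      _ = ((K.cm t q : ↥Q) : Γ) * t * zIn z := by rw [mul_assoc, ← zIn_comm, ← mul_assoc]

/-- The involutions of `A ∩ Q` outside the class of `z`. -/
theorem tS_inQ {a : ↥Q} : (a : Γ) ∈ K.tS ↔ inSmall (K.co a).1 = true := by
  constructor
  · rintro ⟨hA, h1, hn⟩
    have hW : (a : Γ) ∈ K.wT := K.aT_inf_Q ▸ mem_inf.2 ⟨hA, a.2⟩
    have hV : K.co a ∈ syV := hW.2
    rw [K.isConj_wT_iff hF hV, not_or] at hn
    have h0 : K.co a ≠ 0 := fun e => ((K.co_eq_zero a).1 e).elim (fun h => h1 (Subtype.ext h))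
      fun h => hn.1 (Subtype.ext h)
    have h0' : (K.co a).1 ≠ 0 := fun e => h0 (Fin.ext e)
    have hV' : syWm.testBit (K.co a).1 = true := hV
    have hn2 := hn.2
    simp only [inBig, inSmall, hV', Bool.true_and, bne_iff_ne, ne_eq, h0', not_false_eq_true, Bool.and_eq_true,
      decide_true] at hn2 ⊢
    simpa using hn2
  · intro h
    rw [inSmall, Bool.and_eq_true] at h
    have h0 : K.co a ≠ 0 := fun e => by rw [e] at h; exact absurd h.2 (by decide +kernel)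
    refine ⟨K.wT_le_aT ⟨a.2, h.1⟩, fun e => h0 ((K.co_eq_zero a).2 (Or.inl (congrArg Subtype.val e))), ?_⟩
    rw [K.isConj_wT_iff hF h.1]
    rintro (e | e)
    · exact h0 ((K.co_eq_zero a).2 (Or.inr (congrArg Subtype.val e)))
    · simp [inBig, h.2] at e

end GoodCoord

end Cfsg.Agent.LargeFischer
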