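import Cfsg.Agent.Lib.LargeFischer.MaxBasic
import Cfsg.Agent.Lib.LargeFischer.Conjugate

/-!
# The fifteen cosets of `A ∩ Q` in `A` and the conjugates of `z` in them

The conjugates of `z` in `A ∩ Q` are 91; in each of the fifteen other cosets there are `16 k`, with the
same `k`.
-/

set_option autoImplicit false
set_option maxRecDepth 100000

namespace Cfsg.Agent.LargeFischer

open Subgroup

/-- Conjugation by a group normalising a set. -/
@[reducible] def conjOn {G : Type*} [Group G] (N : Subgroup G) (S : Set G)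
    (h : ∀ m ∈ N, ∀ s ∈ S, m * s * m⁻¹ ∈ S) : MulAction ↥N ↥S where
  smul m s := ⟨(m : G) * s * (m : G)⁻¹, h m m.2 s s.2⟩
  one_smul s := Subtype.ext (show ((1 : ↥N) : G) * (s : G) * ((1 : ↥N) : G)⁻¹ = s by simp)
  mul_smul m n s := Subtype.ext (show ((m * n : ↥N) : G) * (s : G) * ((m * n : ↥N) : G)⁻¹ =
    (m : G) * ((n : G) * s * (n : G)⁻¹) * (m : G)⁻¹ by rw [Subgroup.coe_mul]; group)

/-- Orbits of a 2-group all of length at least 16 make 16 divide the size. -/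
theorem sixteen_dvd {P X : Type*} [Group P] [Finite P] [Finite X] [MulAction P X] (hP : IsPGroup 2 P)
    (h : ∀ x : X, 16 ≤ Nat.card (MulAction.orbit P x)) : 16 ∣ Nat.card X := by
  classical
  have : Fintype X := Fintype.ofFinite X
  have : Fact (Nat.Prime 2) := ⟨Nat.prime_two⟩
  rw [Nat.card_congr (MulAction.selfEquivSigmaOrbits P X), Nat.card_sigma]
  refine Finset.dvd_sum fun ω _ => ?_
  obtain ⟨n, hn⟩ := hP.card_orbit ω.out
  have hx := h ω.out
  rw [hn] at hx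
  have : 4 ≤ n := by
    by_contra hlt
    interval_cases n <;> norm_num at hx
  have hdvd : (2 : ℕ) ^ 4 ∣ 2 ^ n := pow_dvd_pow 2 this
  rw [hn]
  exact hdvd

theorem imgL_nodup : ∀ i j : Fin 6, i ≠ j →
    (imgL i j).Nodup ∧ (imgL i j).length = 16 ∧ (imgL i j).all (fun w => decide (w < 4096)) = true := by
  decide +kernel

/-- The image space, as codes. -/
def imgC (i j : Fin 6) (n : Fin 16) : Cd := ⟨(imgL i j).getD n.1 0 % 4096, Nat.mod_lt _ (by norm_num)⟩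

theorem imgC_spec {i j : Fin 6} (h : i ≠ j) :
    (∀ n, (imgC i j n).1 ∈ imgL i j) ∧ Function.Injective (imgC i j) := by
  obtain ⟨hnd, hlen, hlt⟩ := imgL_nodup i j h
  have e : ∀ n : Fin 16, (imgC i j n).1 = (imgL i j)[n.1]'(hlen.symm ▸ n.2) := fun n => by
    show (imgL i j).getD n.1 0 % 4096 = _
    rw [List.getD_eq_getElem _ _ (hlen.symm ▸ n.2)]
    exact Nat.mod_eq_of_lt (of_decide_eq_true (List.all_eq_true.1 hlt _ (List.getElem_mem _)))
  refine ⟨fun n => e n ▸ List.getElem_mem _, fun n n' he => Fin.ext ?_⟩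
  have h' := congrArg Fin.val he
  rw [e, e] at h'
  exact hnd.getElem_inj_iff.1 h'

theorem imgL_swap {i j : Fin 6} {w : ℕ} (h : w ∈ imgL i j) : w ∈ imgL j i :=
  List.contains_iff_mem.1 (List.all_eq_true.1 (mx_img_symm i j) w h)

variable {G : Type*} [Group G] {z : G} {Q : Subgroup (Subgroup.centralizer ({z} : Set G))} [Q.Normal]

set_option quotPrecheck false in
local notation "Γ" => ↥(Subgroup.centralizer ({z} : Set G))

namespace GoodCoord

variable (K : GoodCoord z Q)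

/-- The conjugates of `z` in `A`, inside `C(z)`. -/
def zC : Set Γ := {t | t ∈ K.aT ∧ IsConj z (t : G)}

/-- The other involutions of `A`. -/
def tS : Set Γ := {t | t ∈ K.aT ∧ t ≠ 1 ∧ ¬ IsConj z (t : G)}

/-- The coset with a given image. -/
def cosP (p : Equiv.Perm Cd) : Set Γ := {t | t ∈ K.aT ∧ K.act t = p}

theorem tS_le {t : Γ} (ht : t ∈ K.tS) : t ∈ K.aT := ht.1

include K

theorem mem_aG_iff (a : Γ) : (a : G) ∈ K.aG ↔ a ∈ K.aT :=
  Subgroup.mem_map_iff_mem (Subgroup.centralizer ({z} : Set G)).subtype_injective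

theorem norm_conj_iff {h : Γ} (hh : (h : G) ∈ Subgroup.normalizer (K.aG : Set G)) (a : Γ) :
    h * a * h⁻¹ ∈ K.aT ↔ a ∈ K.aT := by
  rw [← K.mem_aG_iff, ← K.mem_aG_iff a]
  exact (mem_normalizer_iff.1 hh _).symm

omit K [Q.Normal] in
theorem isConj_conj_iff (h t : Γ) : IsConj z ((h * t * h⁻¹ : Γ) : G) ↔ IsConj z (t : G) := by
  have hc : IsConj (t : G) ((h * t * h⁻¹ : Γ) : G) := isConj_iff.2 ⟨(h : G), rfl⟩
  exact ⟨fun e => e.trans hc.symm, fun e => e.trans hc⟩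

theorem conj_tS {h : Γ} (hh : (h : G) ∈ Subgroup.normalizer (K.aG : Set G)) {t : Γ} (ht : t ∈ K.tS) :
    h * t * h⁻¹ ∈ K.tS :=
  ⟨(K.norm_conj_iff hh t).2 ht.1, fun e => ht.2.1 (conj_eq_one_iff.1 e),
    fun e => ht.2.2 ((isConj_conj_iff h t).1 e)⟩

variable [Finite G] (hF : IsOfLargeFischerTypeAt z Q)
include hF

theorem cases_aT {t : Γ} (ht : t ∈ K.aT) :
    (t ∈ K.wT ∧ K.act t = 1) ∨ ∃ i j, i ≠ j ∧ K.act t = pP i j := by
  by_cases h : K.act t = 1
  · exact Or.inl ⟨K.aT_inf_Q ▸ mem_inf.2 ⟨ht, (K.mem_Q_iff t).2 h⟩, h⟩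
  · obtain ⟨i, j, hij, e⟩ := exists_pP (K.act_syA2 hF ht) h
    exact Or.inr ⟨i, j, hij, e⟩

theorem conjQ_norm (r : ↥Q) : ((r : Γ) : G) ∈ Subgroup.normalizer (K.aG : Set G) :=
  (K.conj_aG_iff hF _).2 fun v => by rw [(K.mem_Q_iff _).1 r.2]; rfl

theorem conj_cos (r : ↥Q) {p : Equiv.Perm Cd} {t : Γ} (ht : t ∈ K.cosP p) :
    (r : Γ) * t * (r : Γ)⁻¹ ∈ K.cosP p :=
  ⟨K.conj_mem_aT hF r ht.1, (K.act_conj_Q hF r t).trans ht.2⟩

theorem isConj_wT_iff {a : ↥Q} (ha : K.co a ∈ syV) :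
    IsConj z ((a : Γ) : G) ↔ (a : Γ) = zIn z ∨ inBig (K.co a).1 = true := by
  have hsyV : syWm.testBit (K.co a).1 = true := ha
  by_cases h0 : K.co a = 0
  · have hbig : inBig (K.co a).1 = false := by rw [h0]; exact count_big.2.2.2.2
    rw [hbig, Bool.false_eq_true, or_false]
    rcases (K.co_eq_zero a).1 h0 with e | e
    · rw [e]
      refine iff_of_false (fun hc => ne_one hF ?_) fun hh => ne_one hF ?_
      · exact (isConj_one_left.1 hc)
      · rw [← e, hh]; rfl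
    · rw [e]
      exact iff_of_true (IsConj.refl z) (Subtype.ext e)
  · obtain ⟨g, ⟨hq, hgQ⟩, hne⟩ := hF.1.2.2.2.2
    rw [K.toCoord.isConj_iff_code (qFacts_of_type hF) K.good.gM_mem ⟨g, ⟨_, hgQ, rfl⟩, hne⟩ a (syV_q ha) h0]
    have h1 : (a : Γ) ≠ zIn z := fun e => h0 ((K.co_eq_zero a).2 (Or.inr (congrArg Subtype.val e)))
    have h2 : (K.co a).1 ≠ 0 := fun e => h0 (Fin.ext e)
    simp [inBig, hsyV, h1, h2]

theorem card_zC_one : (K.zC ∩ {t | K.act t = 1}).ncard = 91 := by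
  classical
  let rep : Cd → ↥Q := fun v => (K.co_surjective v).choose
  have hrep : ∀ v, K.co (rep v) = v := fun v => (K.co_surjective v).choose_spec
  let f : Option ({v : Cd // inBig v.1 = true} × Fin 2) → Γ :=
    fun o => o.elim (zIn z) fun x => (rep x.1.1 : Γ) * sg x.2.1
  have hzQ : zIn z ∈ Q := K.zIn_mem hF.1.2.2.2.1
  have hcoz : ∀ (a : ↥Q) (e : ℕ) (h : (a : Γ) * (sg e : Γ) ∈ Q), K.co ⟨(a : Γ) * (sg e : Γ), h⟩ = K.co a := by
    intro a e h
    rw [K.co_eq_iff]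
    rcases Nat.mod_two_eq_zero_or_one e with he | he
    · left; show (a : Γ) * (sg e : Γ) = a; rw [K.sg_mod hF, he, sg_zero, mul_one]
    · right; show (a : Γ) * (sg e : Γ) = (a : Γ) * zIn z; rw [K.sg_mod hF, he, sg_one]
  have hinj : Function.Injective f := by
    rintro (_ | ⟨⟨v, hv⟩, a⟩) (_ | ⟨⟨w, hw⟩, b⟩) e
    · rfl
    · exfalso
      have h : (rep w : Γ) * sg b.1 ∈ Q := by rw [show (rep w : Γ) * sg b.1 = zIn z from e.symm]; exact hzQ
      have hcode : K.co ⟨(rep w : Γ) * sg b.1, h⟩ = 0 :=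
        (K.co_eq_zero _).2 (Or.inr (congrArg Subtype.val e.symm))
      rw [hcoz, hrep] at hcode
      rw [hcode] at hw; simp [count_big.2.2.2.2] at hw
    · exfalso
      have h : (rep v : Γ) * sg a.1 ∈ Q := by rw [show (rep v : Γ) * sg a.1 = zIn z from e]; exact hzQ
      have hcode : K.co ⟨(rep v : Γ) * sg a.1, h⟩ = 0 :=
        (K.co_eq_zero _).2 (Or.inr (congrArg Subtype.val e))
      rw [hcoz, hrep] at hcode
      rw [hcode] at hv; simp [count_big.2.2.2.2] at hv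
    · have e' : (rep v : Γ) * sg a.1 = (rep w : Γ) * sg b.1 := e
      have h : (rep v : Γ) * sg a.1 ∈ Q := Q.mul_mem (rep v).2 (Q.pow_mem hzQ _)
      have hvw : v = w := by
        rw [← hrep v, ← hcoz (rep v) a.1 h, ← hrep w, ← hcoz (rep w) b.1 (e' ▸ h)]
        exact congrArg K.co (Subtype.ext e')
      subst hvw
      have := K.sg_inj hF (mul_left_cancel e')
      have hab : a = b := Fin.ext (by omega)
      subst hab; rfl
  have hrange : Set.range f = K.zC ∩ {t | K.act t = 1} := by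
    ext t
    constructor
    · rintro ⟨_ | ⟨⟨v, hv⟩, a⟩, rfl⟩
      · refine ⟨⟨?_, IsConj.refl z⟩, (K.mem_Q_iff _).1 hzQ⟩
        have := K.sg_mem_aT hF 1
        rwa [sg_one] at this
      · have h : (rep v : Γ) * sg a.1 ∈ Q := Q.mul_mem (rep v).2 (Q.pow_mem hzQ _)
        have hV : K.co ⟨(rep v : Γ) * sg a.1, h⟩ ∈ syV := by
          rw [hcoz, hrep]
          rw [inBig, Bool.and_eq_true, Bool.and_eq_true] at hv
          exact hv.1.1
        refine ⟨⟨K.wT_le_aT ⟨h, hV⟩, ?_⟩, (K.mem_Q_iff _).1 h⟩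
        refine (K.isConj_wT_iff hF hV).2 (Or.inr ?_)
        rw [hcoz, hrep]; exact hv
    · rintro ⟨⟨htA, htc⟩, ht1⟩
      obtain ⟨htQ, htV⟩ : t ∈ K.wT := K.aT_inf_Q ▸ mem_inf.2 ⟨htA, (K.mem_Q_iff t).2 ht1⟩
      rcases (K.isConj_wT_iff hF htV).1 htc with e | e
      · exact ⟨none, e.symm⟩
      · rcases (K.co_eq_iff ⟨t, htQ⟩ (rep (K.co ⟨t, htQ⟩))).1 (hrep _).symm with h | h
        · exact ⟨some (⟨_, e⟩, 0), by
            show (rep _ : Γ) * sg 0 = t
            rw [sg_zero, mul_one]; exact h.symm⟩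
        · exact ⟨some (⟨_, e⟩, 1), by
            show (rep _ : Γ) * sg 1 = t
            rw [sg_one]; exact h.symm⟩
  rw [← hrange, Set.ncard_range_of_injective hinj, Nat.card_eq_fintype_card, Fintype.card_option,
    Fintype.card_prod, Fintype.card_fin, ← Nat.card_eq_fintype_card, card_cd inBig, count_big.1]

theorem exists_cos {p : Equiv.Perm Cd} (hp : p ∈ syA2) : ∃ t, t ∈ K.cosP p := by
  rw [← (K.card_aT K.good hF.1.2.2.2.1 (ne_one hF)).2] at hp
  obtain ⟨t, ht, rfl⟩ := mem_map.1 hp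
  exact ⟨t, ht, rfl⟩

theorem ncard_cos {p : Equiv.Perm Cd} (hp : p ∈ syA2) : (K.cosP p).ncard = 128 := by
  obtain ⟨t, ht, htp⟩ := K.exists_cos hF hp
  have e : K.cosP p = (t * ·) '' (K.wT : Set Γ) := by
    ext s
    constructor
    · rintro ⟨hs, hsp⟩
      refine ⟨t⁻¹ * s, ?_, mul_inv_cancel_left t s⟩
      rw [SetLike.mem_coe, ← K.aT_inf_Q]
      exact mem_inf.2 ⟨K.aT.mul_mem (K.aT.inv_mem ht) hs,
        (K.mem_Q_iff _).2 (by rw [map_mul, map_inv, htp, hsp, inv_mul_cancel])⟩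
    · rintro ⟨w, hw, rfl⟩
      exact ⟨K.aT.mul_mem ht (K.wT_le_aT hw),
        by rw [map_mul, (K.mem_Q_iff w).1 hw.1, htp, mul_one]⟩
  rw [e, Set.ncard_image_of_injective _ (mul_right_injective t), ← Nat.card_coe_set_eq]
  exact K.card_wT hF.1.2.2.2.1 (ne_one hF)

variable {i j : Fin 6}

theorem img_sub (hij : i ≠ j) {t : Γ} (hp : K.act t = pP i j) (q : ↥Q) :
    (K.co (K.cm t q)).1 ∈ imgL i j := by
  have h : ∀ a b : Fin 6, a < b → pP a b = pP i j → (K.co (K.cm t q)).1 ∈ imgL a b := by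
    intro a b hab e
    rw [K.co_cm, hp, ← e, xo_val, pP_permOf a b]
    exact List.contains_iff_mem.1 (mx_img hab _)
  rcases lt_or_gt_of_ne hij with a | a
  · exact h i j a rfl
  · exact imgL_swap (h j i a (pP_symm j i))

theorem exists_cm_code (hij : i ≠ j) {t : Γ} (hp : K.act t = pP i j) {w : Cd} (hw : w.1 ∈ imgL i j) :
    ∃ q : ↥Q, K.co (K.cm t q) = w := by
  have hadd : ∀ a b : Cd, (∃ q, K.co (K.cm t q) = a) → (∃ q, K.co (K.cm t q) = b) →
      ∃ q, K.co (K.cm t q) = xo a b := by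
    rintro a b ⟨q, rfl⟩ ⟨r, rfl⟩
    refine ⟨q * r, ?_⟩
    rw [K.co_cm, K.co_cm, K.co_cm, K.co_mul, (K.isSym_aT hF (t := t)).add]
    refine Fin.ext ?_
    simp only [xo_val]
    ac_rfl
  have hzero : ∃ q : ↥Q, K.co (K.cm t q) = 0 :=
    ⟨1, by rw [K.co_cm, K.co_one, (K.isSym_aT hF (t := t)).add.zero, xo_self]⟩
  have hgen : ∀ a b : Fin 6, a ≠ b → pP a b = pP i j → ∀ k, ∃ q, K.co (K.cm t q) = cC a k := by
    intro a b hab e k
    obtain ⟨h1, h2, -⟩ := mx_pre a b hab k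
    obtain ⟨q, hq⟩ := K.co_surjective ⟨_, h1⟩
    refine ⟨q, Fin.ext ?_⟩
    rw [K.co_cm, hp, ← e, xo_val, pP_permOf a b, hq, cC_val]
    exact h2
  have hspan : ∀ a b : Fin 6, a ≠ b → pP a b = pP i j → ∀ x ∈ spanTwo (cN3 a 0) (cN3 a 1),
      ∃ v : Cd, v.1 = x ∧ ∃ q, K.co (K.cm t q) = v := by
    intro a b hab e x hx
    simp only [spanTwo, List.mem_cons, List.not_mem_nil, or_false] at hx
    rcases hx with rfl | rfl | rfl | rfl
    · exact ⟨0, rfl, hzero⟩
    · exact ⟨_, cC_val a 0, hgen a b hab e 0⟩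
    · exact ⟨_, cC_val a 1, hgen a b hab e 1⟩
    · exact ⟨_, (cC_val a 2).trans (mx_cN.1 a).symm, hgen a b hab e 2⟩
  rw [imgL, List.mem_flatMap] at hw
  obtain ⟨x, hx, hw⟩ := hw
  obtain ⟨y, hy, hxy⟩ := List.mem_map.1 hw
  obtain ⟨u, hu, hu'⟩ := hspan i j hij rfl x hx
  obtain ⟨v, hv, hv'⟩ := hspan j i hij.symm (pP_symm j i) y hy
  obtain ⟨q, hq⟩ := hadd u v hu' hv'
  exact ⟨q, hq.trans (Fin.ext (by rw [xo_val, hu, hv, hxy]))⟩

/-- Sixteen conjugates under `Q` with different codes. -/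
theorem exists_sixteen (hij : i ≠ j) {t : Γ} (hp : K.act t = pP i j) :
    ∃ f : Fin 16 → ↥Q, Function.Injective (fun n => K.co (K.cm t (f n))) ∧
      ∀ q : ↥Q, ∃ n, K.co (K.cm t (f n)) = K.co (K.cm t q) := by
  choose f hf using fun n => K.exists_cm_code hF hij hp (w := imgC i j n) ((imgC_spec hij).1 n)
  refine ⟨f, fun a b e => (imgC_spec hij).2 (by simpa only [hf] using e), fun q => ?_⟩
  obtain ⟨n, hn, he⟩ := List.getElem_of_mem (K.img_sub hF hij hp q)
  obtain ⟨-, hlen, hlt⟩ := imgL_nodup i j hij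
  refine ⟨⟨n, hlen ▸ hn⟩, (hf _).trans (Fin.ext ?_)⟩
  show (imgL i j).getD n 0 % 4096 = _
  rw [List.getD_eq_getElem _ _ hn, he]
  exact Nat.mod_eq_of_lt (K.co _).2

theorem sixteen_dvd_zR (hij : i ≠ j) : 16 ∣ (K.zC ∩ {t | K.act t = pP i j}).ncard := by
  set S := K.zC ∩ {t | K.act t = pP i j}
  have hS : ∀ r ∈ Q, ∀ s ∈ S, r * s * r⁻¹ ∈ S := fun r hr s hs =>
    ⟨⟨(K.conj_cos hF ⟨r, hr⟩ (p := pP i j) ⟨hs.1.1, hs.2⟩).1, (isConj_conj_iff r s).2 hs.1.2⟩,
      (K.conj_cos hF ⟨r, hr⟩ (p := pP i j) ⟨hs.1.1, hs.2⟩).2⟩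
  let := conjOn Q S hS
  rw [← Nat.card_coe_set_eq]
  refine sixteen_dvd (P := ↥Q) (IsPGroup.of_card hF.1.2.2.2.1) fun t => ?_
  obtain ⟨f, hf, -⟩ := K.exists_sixteen hF hij t.2.2
  calc 16 = Nat.card (Fin 16) := (Nat.card_fin 16).symm
    _ ≤ _ := Nat.card_le_card_of_injective (fun n => (⟨f n • t, f n, rfl⟩ : MulAction.orbit ↥Q t)) fun a b e => by
        have e' : (f a : Γ) * t.1 * (f a : Γ)⁻¹ = (f b : Γ) * t.1 * (f b : Γ)⁻¹ :=
          congrArg (fun x => x.1.1) e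
        rw [K.conj_eq hF t.2.1.1, K.conj_eq hF t.2.1.1] at e'
        exact hf (congrArg K.co (Subtype.ext (mul_right_cancel e')))

theorem zR_edge (u : Fin 2) {r : ℕ} (hr : r < 15) :
    (K.zC ∩ {t | K.act t = aP (syNext u r)}).ncard = (K.zC ∩ {t | K.act t = aP r}).ncard := by
  obtain ⟨h, hh⟩ := K.exists_act (syU_mem K.good u)
  have hnorm : (h : G) ∈ Subgroup.normalizer (K.aG : Set G) := by
    refine (K.conj_aG_iff hF h).2 fun v => ?_
    rw [hh]
    refine ⟨fun hv => ?_, fun hv => (syU_syV u hv).1⟩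
    have := (syU_syV u hv).2
    rwa [perm_inv_apply] at this
  have hcw : (syU' u) * aP r * (syU' u)⁻¹ = aP (syNext u r) := (syU_conj u hr).2
  rw [← Set.ncard_image_of_injective (K.zC ∩ {t | K.act t = aP r}) (MulAut.conj h).injective]
  congr 1
  ext s
  constructor
  · rintro ⟨⟨hs, hsc⟩, hsp⟩
    refine ⟨h⁻¹ * s * h, ⟨⟨?_, ?_⟩, ?_⟩, ?_⟩
    · rw [← K.norm_conj_iff hnorm]; convert hs using 1; group
    · rw [← isConj_conj_iff h]; convert hsc using 3; group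
    · show K.act (h⁻¹ * s * h) = aP r
      have hsp' : K.act s = aP (syNext u r) := hsp
      rw [map_mul, map_mul, map_inv, hh, hsp', ← hcw]; group
    · show h * (h⁻¹ * s * h) * h⁻¹ = s
      group
  · rintro ⟨t, ⟨⟨ht, htc⟩, htp⟩, rfl⟩
    refine ⟨⟨(K.norm_conj_iff hnorm t).2 ht, (isConj_conj_iff h t).2 htc⟩, ?_⟩
    show K.act (h * t * h⁻¹) = _
    have htp' : K.act t = aP r := htp
    rw [map_mul, map_mul, map_inv, hh, htp', hcw]

theorem zR_const {r : ℕ} (hr : r < 15) :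
    (K.zC ∩ {t | K.act t = aP r}).ncard = (K.zC ∩ {t | K.act t = aP 0}).ncard := by
  suffices H : ∀ l : List (ℕ × ℕ × ℕ), (∀ e ∈ l, e ∈ syO) → ∀ S : Finset ℕ,
      (∀ r ∈ S, (K.zC ∩ {t | K.act t = aP r}).ncard = (K.zC ∩ {t | K.act t = aP 0}).ncard) →
      ∀ r ∈ l.foldl (fun S e => if e.2.1 ∈ S then insert e.2.2 S else S) S,
        (K.zC ∩ {t | K.act t = aP r}).ncard = (K.zC ∩ {t | K.act t = aP 0}).ncard by
    have hfull : ∀ r : Fin 15, r.1 ∈ syO.foldl (fun S e => if e.2.1 ∈ S then insert e.2.2 S else S)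
        ({0} : Finset ℕ) := by decide +kernel
    exact H syO (fun e he => he) {0} (fun s hs => by rw [Finset.mem_singleton.1 hs]) r (hfull ⟨r, hr⟩)
  intro l
  induction l with
  | nil => intro _ S hS r hr; exact hS r hr
  | cons e l ih =>
    intro hl S hS
    rw [List.foldl_cons]
    refine ih (fun x hx => hl x (List.mem_cons_of_mem _ hx)) _ fun r hr => ?_
    split at hr
    · rename_i hin
      rcases Finset.mem_insert.1 hr with rfl | hr
      · have h := List.all_eq_true.1 sy_orbit_ok.2 e (hl e (List.mem_cons_self ..))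
        simp only [Bool.and_eq_true, decide_eq_true_eq, beq_iff_eq] at h
        rw [← hS _ hin, ← K.zR_edge hF ⟨e.1, h.1.1⟩ h.1.2, syNext, h.2]
      · exact hS r hr
    · exact hS r hr

theorem card_zC : ∃ k ≤ 8, (∀ p ∈ syA2, p ≠ 1 → (K.zC ∩ {t | K.act t = p}).ncard = 16 * k) ∧
    K.zC.ncard = 91 + 15 * (16 * k) := by
  classical
  obtain ⟨i, j, hij, e⟩ := exists_pP (aP_mem (r := 0) (by norm_num)) (aP_ne_one (by norm_num))
  obtain ⟨k, hk⟩ := K.sixteen_dvd_zR hF hij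
  rw [← e] at hk
  have hle : (K.zC ∩ {t | K.act t = aP 0}).ncard ≤ 128 :=
    (K.ncard_cos hF (aP_mem (r := 0) (by norm_num))) ▸ Set.ncard_le_ncard (fun t ht => ⟨ht.1.1, ht.2⟩)
      (Set.toFinite _)
  have hall : ∀ p ∈ syA2, p ≠ 1 → (K.zC ∩ {t | K.act t = p}).ncard = 16 * k := fun p hp hne => by
    rcases mem_syA2_cases hp with h | ⟨r, hr, rfl⟩
    · exact absurd h hne
    · rw [K.zR_const hF hr, hk]
  refine ⟨k, by omega, hall, ?_⟩
  have : Fintype Γ := Fintype.ofFinite _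
  have hfib : ∀ p, (K.zC.toFinset.filter fun t => K.act t = p).card = (K.zC ∩ {t | K.act t = p}).ncard := fun p => by
    rw [← Set.ncard_coe_finset]; congr 1; ext t; simp
  have hnot : (1 : Equiv.Perm Cd) ∉ (Finset.range 15).image aP := fun h => by
    obtain ⟨r, hr, h'⟩ := Finset.mem_image.1 h
    exact aP_ne_one (Finset.mem_range.1 hr) h'
  rw [Set.ncard_eq_toFinset_card' K.zC, Finset.card_eq_sum_card_fiberwise
    (f := K.act) (t := insert 1 ((Finset.range 15).image aP)) fun t ht => by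
      rcases mem_syA2_cases (K.act_syA2 hF (Set.mem_toFinset.1 ht).1) with h | ⟨r, hr, h⟩
      · simp [h]
      · exact Finset.mem_insert_of_mem (Finset.mem_image.2 ⟨r, Finset.mem_range.2 hr, h.symm⟩)]
  rw [Finset.sum_insert hnot, hfib, K.card_zC_one hF, Finset.sum_image fun a ha b hb h =>
      aP_inj (Finset.mem_range.1 ha) (Finset.mem_range.1 hb) h,
    Finset.sum_congr rfl fun r hr => (hfib _).trans
      (hall _ (aP_mem (Finset.mem_range.1 hr)) (aP_ne_one (Finset.mem_range.1 hr)))]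
  simp

end GoodCoord

end Cfsg.Agent.LargeFischer
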