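import Cfsg.Agent.Lib.LargeFischer.MaxTransitive
import Cfsg.Agent.Lib.LargeFischer.Duads
import Cfsg.Agent.Lib.LargeFischer.GoodExists
import Cfsg.Agent.Lib.Mathieu.Trans

/-!
# The normaliser of the Thompson subgroup in large Fischer type

`max_facts`: for `A = J(T)` the involutions outside the class of `z` are labelled by the pairs of 24
points, `C(A) = A`, `|N(A)| = 2^11 |M24|`, `N(A)` controls fusion in `A` and is transitive on those
involutions.  `normalizer_hom`, `pair_iso`: the quotient and the stabiliser of a pair.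
-/

set_option autoImplicit false

namespace Cfsg.Agent.LargeFischer

open Subgroup
open scoped Pointwise

/-- The involutions of `A` outside the class of `z`. -/
def otherSet {G : Type*} [Group G] (z : G) (A : Subgroup G) : Set G := {x | x ∈ A ∧ x ≠ 1 ∧ ¬ IsConj z x}

/-- The facts about a conjugate of the candidate. -/
structure MaxFacts {G : Type*} [Group G] (z : G) (A : Subgroup G) : Prop where
  elem : Cfsg.IsElementaryAbelian 2 A
  card : Nat.card ↥A = 2 ^ 11
  duads : ∃ d, IsDuads A (otherSet z A) d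
  card_norm : Nat.card ↥(Subgroup.normalizer (A : Set G)) = 2 ^ 11 * 244823040
  cent : Subgroup.centralizer (A : Set G) ≤ A
  fusion : ∀ a ∈ A, ∀ g : G, g * a * g⁻¹ ∈ A →
    ∃ m ∈ Subgroup.normalizer (A : Set G), m * a * m⁻¹ = g * a * g⁻¹
  central : ∃ a ∈ A, a ≠ 1 ∧ IsConj z a
  other : ∀ a ∈ otherSet z A, ∀ b ∈ otherSet z A, ∃ m ∈ Subgroup.normalizer (A : Set G), m * a * m⁻¹ = b

namespace GoodCoord

variable {G : Type*} [Group G] {z : G} {Q : Subgroup (Subgroup.centralizer ({z} : Set G))} [Q.Normal]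
  (K : GoodCoord z Q) [Finite G] (hF : Cfsg.IsOfLargeFischerTypeAt z Q)
include K hF

theorem maxFacts_aG : MaxFacts z K.aG := by
  classical
  obtain ⟨-, hel, hA, hz, -⟩ := K.core_facts hF
  let e : Fin 24 ≃ Pt := (Fintype.equivFinOfCardEq (by decide +kernel : Fintype.card Pt = 24)).symm
  have hne : ∀ {x y : Fin 24}, x ≠ y → e x ≠ e y := fun h h' => h (e.injective h')
  refine
    { elem := hel
      card := hA
      duads := ⟨fun x y => ((K.dd (e x) (e y) : ↥(Subgroup.centralizer ({z} : Set G))) : G), ?_⟩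
      card_norm := by rw [(K.counts hF).1]; norm_num
      cent := (K.centralizer_aG hF).le
      fusion := fun a ha g hg => K.control_fusion hF hel hA ha hg
      central := ⟨z, hz, ne_one hF, IsConj.refl z⟩
      other := fun a ha b hb => K.trans_tA hF ha hb }
  exact
    { card := hA
      sq := fun a ha => by rw [← pow_two]; exact hel.2 a ha
      sub := fun t ht => ht.1
      one_notMem := fun h => h.2.1 rfl
      mem := fun x y h => (K.mem_tA_iff hF).2 (K.dd_mem hF (hne h))
      symm := fun x y h => congrArg Subtype.val (K.dd_symm hF (hne h))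
      inj := fun x y u v h h' heq => by
        rcases K.dd_inj hF (hne h) (hne h') (Subtype.ext heq) with ⟨p, q⟩ | ⟨p, q⟩
        · rw [e.injective p, e.injective q]
        · rw [e.injective p, e.injective q, Finset.pair_comm]
      surj := fun t ht => by
        obtain ⟨c, hc, rfl⟩ := ht.1
        obtain ⟨x, y, h, hd⟩ := K.dd_surj hF ((K.mem_tA_iff hF).1 ht)
        refine ⟨e.symm x, e.symm y, fun q => h (e.symm.injective q), ?_⟩
        simp only [Equiv.apply_symm_apply, hd]; rfl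
      tri := fun x y w h h' h'' => congrArg Subtype.val (K.tri hF (hne h) (hne h') (hne h''))
      disj := fun x y u v h1 h2 h3 h4 h5 h6 hin =>
        K.disj hF (hne h1) (hne h2) (hne h3) (hne h4) (hne h5) (hne h6) ((K.mem_tA_iff hF).1 hin) }

end GoodCoord

/-- The facts pass to conjugates. -/
theorem MaxFacts.map {G : Type*} [Group G] {z : G} {A : Subgroup G} (D : MaxFacts z A) (g : G) :
    MaxFacts z (A.map (MulAut.conj g).toMonoidHom) := by
  set f : G ≃* G := MulAut.conj g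
  have hc : ∀ x, IsConj z (f x) ↔ IsConj z x := fun x => by
    have h : IsConj x (f x) := isConj_iff.2 ⟨g, rfl⟩
    exact ⟨fun h' => h'.trans h.symm, fun h' => h'.trans h⟩
  have hmem : ∀ {x}, f x ∈ A.map f.toMonoidHom ↔ x ∈ A := fun {x} =>
    Subgroup.mem_map_iff_mem (f := f.toMonoidHom) f.injective
  have hN : Subgroup.normalizer ((A.map f.toMonoidHom : Subgroup G) : Set G) =
      (Subgroup.normalizer (A : Set G)).map f.toMonoidHom := (Subgroup.map_equiv_normalizer_eq A f).symm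
  have hT : ∀ x, f x ∈ otherSet z (A.map f.toMonoidHom) ↔ x ∈ otherSet z A := fun x => by
    show (f x ∈ A.map f.toMonoidHom ∧ f x ≠ 1 ∧ ¬ IsConj z (f x)) ↔ _
    rw [hmem, map_ne_one_iff f f.injective, hc]; rfl
  have hlift : ∀ x ∈ A.map f.toMonoidHom, ∃ y ∈ A, f y = x := fun x hx => Subgroup.mem_map.1 hx
  refine ⟨elementary_map _ D.elem, by rw [card_map_of_injective f.injective, D.card], ?_, ?_, ?_, ?_, ?_, ?_⟩
  · obtain ⟨d, h⟩ := D.duads
    refine ⟨fun x y => f (d x y), ?_⟩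
    exact
      { card := by rw [card_map_of_injective f.injective, D.card]
        sq := fun a ha => by
          obtain ⟨y, hy, rfl⟩ := hlift a ha
          rw [← map_mul, h.sq y hy, map_one]
        sub := fun t ht => ht.1
        one_notMem := fun h1 => h1.2.1 rfl
        mem := fun x y hne => (hT _).2 (h.mem x y hne)
        symm := fun x y hne => congrArg f (h.symm x y hne)
        inj := fun x y u v h1 h2 he => h.inj x y u v h1 h2 (f.injective he)
        surj := fun t ht => by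
          obtain ⟨s, hs, rfl⟩ := hlift t ht.1
          obtain ⟨x, y, hne, rfl⟩ := h.surj s ((hT s).1 ht)
          exact ⟨x, y, hne, rfl⟩
        tri := fun x y w h1 h2 h3 => by rw [← map_mul, h.tri x y w h1 h2 h3]
        disj := fun x y u v h1 h2 h3 h4 h5 h6 hin => h.disj x y u v h1 h2 h3 h4 h5 h6
          ((hT _).1 (by rw [map_mul]; exact hin)) }
  · rw [hN, card_map_of_injective f.injective, D.card_norm]
  · intro x hx
    obtain ⟨y, rfl⟩ := f.surjective x
    refine hmem.2 (D.cent (mem_centralizer_iff.2 fun a ha => f.injective ?_))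
    rw [map_mul, map_mul]
    exact mem_centralizer_iff.1 hx _ (hmem.2 ha)
  · intro a ha k hk
    obtain ⟨b, hb, rfl⟩ := hlift a ha
    obtain ⟨k, rfl⟩ := f.surjective k
    rw [← map_inv, ← map_mul, ← map_mul] at hk
    obtain ⟨m, hm, hme⟩ := D.fusion b hb k (hmem.1 hk)
    refine ⟨f m, hN.symm ▸ mem_map_of_mem f.toMonoidHom hm, ?_⟩
    rw [← map_inv, ← map_mul, ← map_mul, hme, map_mul, map_mul, map_inv]
  · obtain ⟨a, ha, h1, h2⟩ := D.central
    exact ⟨f a, hmem.2 ha, (map_ne_one_iff f f.injective).2 h1, (hc a).2 h2⟩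
  · intro a ha b hb
    obtain ⟨a, -, rfl⟩ := hlift a ha.1
    obtain ⟨b, -, rfl⟩ := hlift b hb.1
    obtain ⟨m, hm, hme⟩ := D.other a ((hT a).1 ha) b ((hT b).1 hb)
    exact ⟨f m, hN.symm ▸ mem_map_of_mem f.toMonoidHom hm, by rw [← map_inv, ← map_mul, ← map_mul, hme]⟩

/-- The facts for every Thompson subgroup. -/
theorem max_facts {G : Type*} [Group G] [Finite G] {z : G} {Q : Subgroup (Subgroup.centralizer ({z} : Set G))}
    [Q.Normal] (hF : Cfsg.IsOfLargeFischerTypeAt z Q) (T : Sylow 2 G) :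
    MaxFacts z (Cfsg.thompsonSubgroupOf 2 (T : Subgroup G)) := by
  obtain ⟨K⟩ := exists_goodCoord hF
  obtain ⟨g, hg⟩ := (K.thompson_facts hF T).1
  rw [hg]
  exact (K.maxFacts_aG hF).map g

namespace MaxFacts

variable {G : Type*} [Group G] [Finite G] {z : G} {A : Subgroup G} (D : MaxFacts z A)
include D

theorem exists_other : ∃ a ∈ A, a ≠ 1 ∧ ¬ IsConj z a := by
  obtain ⟨d, h⟩ := D.duads
  exact ⟨d 0 1, h.mem 0 1 (by decide)⟩

/-- The action of `N(A)` on the 24 points. -/
theorem normalizer_hom : ∃ ψ : ↥(Subgroup.normalizer (A : Set G)) →* ↥Cfsg.M24,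
    ψ.ker = A.subgroupOf _ ∧ Function.Surjective ψ ∧
    ∀ t ∈ otherSet z A, ∃ p q : Cfsg.GolayPt, p ≠ q ∧ ∀ m : ↥(Subgroup.normalizer (A : Set G)),
      ((ψ m : Equiv.Perm Cfsg.GolayPt) ∈
        MulAction.stabilizer (Equiv.Perm Cfsg.GolayPt) ({p, q} : Set Cfsg.GolayPt)) ↔
      (m : G) * t * (m : G)⁻¹ = t := by
  obtain ⟨d, h⟩ := D.duads
  have hN : ∀ m ∈ Subgroup.normalizer (A : Set G), ∀ t ∈ otherSet z A, m * t * m⁻¹ ∈ otherSet z A :=
    fun m hm t ht => ⟨(mem_normalizer_iff.1 hm t).1 ht.1, fun e => ht.2.1 (conj_eq_one_iff.1 e),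
      fun e => ht.2.2 (e.trans (IsConj.symm (isConj_iff.2 ⟨m, rfl⟩)))⟩
  obtain ⟨ψ, hker, hpair⟩ := h.exists_hom hN
  have hk : ψ.ker = A.subgroupOf _ := by
    ext m
    rw [MonoidHom.mem_ker, hker, mem_subgroupOf]
    refine ⟨fun hall => D.cent (mem_centralizer_iff.2 fun a ha => ?_), fun hm t ht => ?_⟩
    · have hle : Subgroup.closure (otherSet z A) ≤ Subgroup.centralizer ({(m : G)} : Set G) :=
        (closure_le _).2 fun t ht => mem_centralizer_singleton_iff.2 (mul_inv_eq_iff_eq_mul.1 (hall t ht)).symm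
      exact mem_centralizer_singleton_iff.1 (hle (h.le_closure ha))
    · rw [mul_inv_eq_iff_eq_mul]; exact h.comm hm ht.1
  refine ⟨ψ, hk, ?_, hpair⟩
  have hcard := ψ.ker.card_mul_index
  rw [Subgroup.index_ker, hk, Nat.card_congr (subgroupOfEquivOfLe Subgroup.le_normalizer).toEquiv, D.card,
    D.card_norm] at hcard
  have htop : ψ.range = ⊤ := Subgroup.eq_top_of_card_eq _ (by rw [Mathieu.card_M24]; omega)
  exact MonoidHom.range_eq_top.1 htop

/-- The stabiliser of an involution outside the class of `z`. -/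
theorem pair_iso {t : G} (ht : t ∈ otherSet z A) :
    ∃ _ : (A.subgroupOf (Subgroup.normalizer (A : Set G) ⊓ Subgroup.centralizer ({t} : Set G))).Normal,
      Nonempty (↥(Subgroup.normalizer (A : Set G) ⊓ Subgroup.centralizer ({t} : Set G)) ⧸
        A.subgroupOf (Subgroup.normalizer (A : Set G) ⊓ Subgroup.centralizer ({t} : Set G)) ≃*
        ↥(Cfsg.M24 ⊓ MulAction.stabilizer (Equiv.Perm Cfsg.GolayPt)
          ({none, some 0} : Set Cfsg.GolayPt))) := by
  obtain ⟨ψ, hker, hsur, hpair⟩ := D.normalizer_hom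
  obtain ⟨p, q, hpq, hiff⟩ := hpair t ht
  obtain ⟨g, hg, hgp, hgq⟩ := Mathieu.M24_exists_map_pair hpq
    (show (none : Cfsg.GolayPt) ≠ some 0 from Option.some_ne_none _ |>.symm)
  set S := MulAction.stabilizer (Equiv.Perm Cfsg.GolayPt) ({none, some 0} : Set Cfsg.GolayPt)
  have hgs : g • ({p, q} : Set Cfsg.GolayPt) = {none, some 0} := by
    rw [← Set.image_smul, Set.image_pair]; show ({g p, g q} : Set Cfsg.GolayPt) = _; rw [hgp, hgq]
  have hconj : ∀ σ : Equiv.Perm Cfsg.GolayPt, g * σ * g⁻¹ ∈ S ↔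
      σ ∈ MulAction.stabilizer (Equiv.Perm Cfsg.GolayPt) ({p, q} : Set Cfsg.GolayPt) := fun σ => by
    simp only [S, MulAction.mem_stabilizer_iff, ← hgs, ← mul_smul]
    rw [inv_mul_cancel_right, mul_smul, smul_left_cancel_iff]
  set H := Subgroup.normalizer (A : Set G) ⊓ Subgroup.centralizer ({t} : Set G)
  have hfix : ∀ m : ↥(Subgroup.normalizer (A : Set G)), (m : G) ∈ H ↔ (m : G) * t * (m : G)⁻¹ = t := fun m => by
    rw [mem_inf, and_iff_right m.2, mem_centralizer_singleton_iff, mul_inv_eq_iff_eq_mul]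
  let φ : ↥H →* ↥(Cfsg.M24 ⊓ S) := MonoidHom.codRestrict
    ((MulAut.conj g).toMonoidHom.comp (Cfsg.M24.subtype.comp (ψ.comp (Subgroup.inclusion inf_le_left))))
    (Cfsg.M24 ⊓ S) (fun m => by
      refine Subgroup.mem_inf.2
        ⟨Cfsg.M24.mul_mem (Cfsg.M24.mul_mem hg (ψ _).2) (Cfsg.M24.inv_mem hg), (hconj _).2 ((hiff _).2 ?_)⟩
      exact (hfix ⟨m.1, m.2.1⟩).1 m.2)
  have hφk : φ.ker = A.subgroupOf H := by
    ext m
    rw [MonoidHom.mem_ker, mem_subgroupOf]
    have h1 : φ m = 1 ↔ ψ (Subgroup.inclusion inf_le_left m) = 1 := by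
      refine ⟨fun e => Subtype.ext ?_, fun e => Subtype.ext ?_⟩
      · have e' : g * (ψ (Subgroup.inclusion inf_le_left m) : Equiv.Perm Cfsg.GolayPt) * g⁻¹ = 1 :=
          congrArg Subtype.val e
        exact conj_eq_one_iff.1 e'
      · show g * (ψ (Subgroup.inclusion inf_le_left m) : Equiv.Perm Cfsg.GolayPt) * g⁻¹ = 1
        rw [e]; simp
    rw [h1, ← MonoidHom.mem_ker, hker]; rfl
  have hφs : Function.Surjective φ := by
    rintro ⟨σ, hσM, hσS⟩
    obtain ⟨m, hm⟩ := hsur ⟨g⁻¹ * σ * g, Cfsg.M24.mul_mem (Cfsg.M24.mul_mem (Cfsg.M24.inv_mem hg) hσM) hg⟩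
    have hm' : (ψ m : Equiv.Perm Cfsg.GolayPt) = g⁻¹ * σ * g := congrArg Subtype.val hm
    have hH : (m : G) ∈ H := (hfix m).2 ((hiff m).1 ((hconj _).1 (by
      rw [hm', show g * (g⁻¹ * σ * g) * g⁻¹ = σ by group]; exact hσS)))
    refine ⟨⟨m, hH⟩, Subtype.ext ?_⟩
    show g * (ψ m : Equiv.Perm Cfsg.GolayPt) * g⁻¹ = σ
    rw [hm']; group
  have hn : φ.ker.Normal := inferInstance
  rw [hφk] at hn
  exact ⟨hn,
    ⟨(QuotientGroup.quotientMulEquivOfEq hφk.symm).trans (QuotientGroup.quotientKerEquivOfSurjective φ hφs)⟩⟩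

end MaxFacts

end Cfsg.Agent.LargeFischer
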