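import Cfsg.Agent.Lib.LargeFischer.MaxClasses

/-!
# Twenty-four points

A point is a tetrad with two bits; these choose the lifts of the three codes of the tetrad.  Every
involution of `A` outside the class of `z` is `dd x y` for one unordered pair of points.
-/

set_option autoImplicit false

namespace Cfsg.Agent.LargeFischer

open Subgroup

/-- The points: a tetrad and two bits. -/
abbrev Pt : Type := Fin 6 × Bool × Bool

/-- The bit of a point at the `k`-th code of its tetrad. -/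
def bitP (x : Pt) (k : Fin 3) : ℕ :=
  if k = 0 then x.2.1.toNat else if k = 1 then x.2.2.toNat else x.2.1.toNat + x.2.2.toNat + 1

/-- The code at which two points of a tetrad agree. -/
def comK (x y : Pt) : Fin 3 := if x.2.1 = y.2.1 then 0 else if x.2.2 = y.2.2 then 1 else 2

theorem comK_spec : ∀ a b c d : Bool, (a, b) ≠ (c, d) → ∀ i j : Fin 6,
    bitP (i, a, b) (comK (i, a, b) (j, c, d)) % 2 = bitP (j, c, d) (comK (i, a, b) (j, c, d)) % 2 ∧
      ∀ k : Fin 3, bitP (i, a, b) k % 2 = bitP (j, c, d) k % 2 → k = comK (i, a, b) (j, c, d) := by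
  decide +kernel

theorem pair_unique : ∀ a b c d e f g h : Bool, (a, b) ≠ (c, d) → (e, f) ≠ (g, h) → ∀ k : Fin 3,
    k = comK (0, a, b) (0, c, d) → k = comK (0, e, f) (0, g, h) →
    bitP (0, a, b) k % 2 = bitP (0, e, f) k % 2 →
    ((a, b) = (e, f) ∧ (c, d) = (g, h)) ∨ ((a, b) = (g, h) ∧ (c, d) = (e, f)) := by
  decide +kernel

theorem exists_pair : ∀ (k : Fin 3) (e : Fin 2), ∃ a b c d : Bool, (a, b) ≠ (c, d) ∧
    comK (0, a, b) (0, c, d) = k ∧ bitP (0, a, b) k % 2 = e.1 := by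
  decide +kernel

theorem exists_third : ∀ i j : Fin 6, ∃ k : Fin 6, k ≠ i ∧ k ≠ j := by decide +kernel

theorem xor_toNat : ∀ (s : Bool) (b : Fin 2), (xor s (decide (b.1 = 1))).toNat = (s.toNat + b.1) % 2 := by
  decide

theorem bN_zero_right (a : Cd) : bN a.1 (0 : Cd).1 = 0 := by
  have h := bN_add_right a 0 0
  have := bN_lt a.1 (0 : Cd).1
  rw [xo_self] at h
  omega

theorem comK_pt {x y : Pt} (hne : x ≠ y) (h : x.1 = y.1) :
    bitP x (comK x y) % 2 = bitP y (comK x y) % 2 ∧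
      ∀ k, bitP x k % 2 = bitP y k % 2 → k = comK x y := by
  obtain ⟨i, a, b⟩ := x
  obtain ⟨j, c, d⟩ := y
  exact comK_spec a b c d (fun e => hne (Prod.ext h e)) i j

theorem fix_of_perp {i j : Fin 6} (hij : i ≠ j) {v : Cd} (h0 : bN (cC i 0).1 v.1 = 0)
    (h1 : bN (cC i 1).1 v.1 = 0) (h2 : bN (cC j 0).1 v.1 = 0) (h3 : bN (cC j 1).1 v.1 = 0) :
    pP i j v = v := by
  simp only [cC_val] at h0 h1 h2 h3
  have main : ∀ a b : Fin 6, a < b → bN (cN3 a 0) v.1 = 0 → bN (cN3 a 1) v.1 = 0 →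
      bN (cN3 b 0) v.1 = 0 → bN (cN3 b 1) v.1 = 0 → pP a b v = v := by
    intro a b hab e0 e1 e2 e3
    have h := forall_cd (mx_fix_of_perp a b hab) v
    simp only [e0, e1, e2, e3, bne_self_eq_false, Bool.false_or, beq_iff_eq] at h
    exact Fin.ext ((pP_permOf a b v).trans h)
  rcases lt_or_gt_of_ne hij with a | a
  · exact main i j a h0 h1 h2 h3
  · rw [pP_symm]; exact main j i a h2 h3 h0 h1

variable {G : Type*} [Group G] {z : G} {Q : Subgroup (Subgroup.centralizer ({z} : Set G))} [Q.Normal]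

set_option quotPrecheck false in
local notation "Γ" => ↥(Subgroup.centralizer ({z} : Set G))

namespace GoodCoord

variable (K : GoodCoord z Q)

/-- A chosen lift of a code. -/
noncomputable def rep (v : Cd) : ↥Q := (K.co_surjective v).choose

theorem co_rep (v : Cd) : K.co (K.rep v) = v := (K.co_surjective v).choose_spec

/-- Lifts of the codes of a tetrad, the third the product of the first two. -/
noncomputable def lft (i : Fin 6) (k : Fin 3) : ↥Q :=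
  if k = 2 then K.rep (cC i 0) * K.rep (cC i 1) else K.rep (cC i k)

theorem co_lft (i : Fin 6) (k : Fin 3) : K.co (K.lft i k) = cC i k := by
  unfold lft
  split
  · subst k; rw [K.co_mul, co_rep, co_rep, cC_two]
  · rw [co_rep]

/-- The involution of `A ∩ Q` at a point and a code. -/
noncomputable def star (x : Pt) (k : Fin 3) : Γ := (K.lft x.1 k : Γ) * sg (bitP x k)

/-- The point moved by `r`. -/
def sh (r : ↥Q) (x : Pt) : Pt :=
  (x.1, xor x.2.1 (decide (bN (K.co r).1 (cC x.1 0).1 = 1)),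
    xor x.2.2 (decide (bN (K.co r).1 (cC x.1 1).1 = 1)))

/-- `t` is attached to the point. -/
def Att (t : Γ) (x : Pt) : Prop :=
  ∀ (k : Fin 3) (q : ↥Q), K.co (K.cm t q) = cC x.1 k → ((K.cm t q : ↥Q) : Γ) = K.star x k

open Classical in
/-- The involution of a pair of points. -/
noncomputable def dd (x y : Pt) : Γ :=
  if x.1 = y.1 then K.star x (comK x y)
  else Classical.epsilon fun t => t ∈ K.tS ∧ K.act t = pP x.1 y.1 ∧ K.Att t x ∧ K.Att t y

theorem sh_inj (r : ↥Q) : Function.Injective (K.sh r) := by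
  rintro ⟨i, a, b⟩ ⟨j, c, d⟩ h
  simp only [sh, Prod.mk.injEq] at h
  obtain ⟨rfl, h1, h2⟩ := h
  simp only [Bool.xor_right_inj, Bool.xor_left_inj] at h1 h2
  rw [h1, h2]

theorem bitP_sh (r : ↥Q) (x : Pt) (k : Fin 3) :
    bitP (K.sh r x) k % 2 = (bitP x k + bN (K.co r).1 (cC x.1 k).1) % 2 := by
  have h0 : (K.sh r x).2.1.toNat = _ := xor_toNat x.2.1 ⟨bN (K.co r).1 (cC x.1 0).1, bN_lt _ _⟩
  have h1 : (K.sh r x).2.2.toNat = _ := xor_toNat x.2.2 ⟨bN (K.co r).1 (cC x.1 1).1, bN_lt _ _⟩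
  have h2 := bN_add_right (K.co r) (cC x.1 0) (cC x.1 1)
  rw [cC_two] at h2
  fin_cases k <;> simp [bitP, h0, h1, h2] <;> omega

variable [Finite G] (hF : IsOfLargeFischerTypeAt z Q)
include K hF

theorem sg_congr {a b : ℕ} (h : a % 2 = b % 2) : (sg a : Γ) = sg b := by
  rw [K.sg_mod hF, h, ← K.sg_mod hF]

theorem co_mul_sg (a : ↥Q) (e : ℕ) (h : (a : Γ) * (sg e : Γ) ∈ Q) :
    K.co ⟨(a : Γ) * (sg e : Γ), h⟩ = K.co a := by
  rw [K.co_eq_iff]
  rcases Nat.mod_two_eq_zero_or_one e with he | he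
  · left; show (a : Γ) * (sg e : Γ) = a; rw [K.sg_mod hF, he, sg_zero, mul_one]
  · right; show (a : Γ) * (sg e : Γ) = (a : Γ) * zIn z; rw [K.sg_mod hF, he, sg_one]

theorem star_mem_Q (x : Pt) (k : Fin 3) : K.star x k ∈ Q :=
  Q.mul_mem (K.lft x.1 k).2 (Q.pow_mem (K.zIn_mem hF.1.2.2.2.1) _)

theorem co_star (x : Pt) (k : Fin 3) : K.co ⟨K.star x k, K.star_mem_Q hF x k⟩ = cC x.1 k :=
  (K.co_mul_sg hF _ _ _).trans (K.co_lft _ _)

theorem star_mem (x : Pt) (k : Fin 3) : K.star x k ∈ K.tS :=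
  (K.tS_inQ hF (a := ⟨K.star x k, K.star_mem_Q hF x k⟩)).2 (by rw [K.co_star hF]; exact cC_small _ _)

theorem act_star (x : Pt) (k : Fin 3) : K.act (K.star x k) = 1 := (K.mem_Q_iff _).1 (K.star_mem_Q hF x k)

theorem star_eq {x y : Pt} {k l : Fin 3} (h : K.star x k = K.star y l) :
    x.1 = y.1 ∧ k = l ∧ bitP x k % 2 = bitP y l % 2 := by
  have e : cC x.1 k = cC y.1 l := by
    rw [← K.co_star hF x k, ← K.co_star hF y l]
    exact congrArg K.co (Subtype.ext h)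
  obtain ⟨h1, h2⟩ := cC_inj e
  subst h2
  refine ⟨h1, rfl, K.sg_inj hF ?_⟩
  unfold star at h
  rw [h1] at h
  exact mul_left_cancel h

theorem star_congr {x y : Pt} {k : Fin 3} (h1 : x.1 = y.1) (h : bitP x k % 2 = bitP y k % 2) :
    K.star x k = K.star y k := by
  unfold star
  rw [h1, K.sg_congr hF h]

theorem lft_mem (i : Fin 6) (k : Fin 3) : (K.lft i k : Γ) ∈ K.aT :=
  K.wT_le_aT ⟨(K.lft i k).2, by rw [show (⟨_, (K.lft i k).2⟩ : ↥Q) = K.lft i k from rfl, co_lft]; exact cC_syV _ _⟩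

theorem lft_mul {i : Fin 6} {a b c : Fin 3} (hab : a ≠ b) (hbc : b ≠ c) (hac : a ≠ c) :
    (K.lft i a : Γ) * (K.lft i b : Γ) = (K.lft i c : Γ) := by
  have h2 : (K.lft i 2 : Γ) = (K.lft i 0 : Γ) * (K.lft i 1 : Γ) := rfl
  have hc : ∀ k l, (K.lft i k : Γ) * (K.lft i l : Γ) = (K.lft i l : Γ) * (K.lft i k : Γ) := fun k l =>
    K.comm_aT hF (K.lft_mem hF i k) (K.lft_mem hF i l)
  have hs : ∀ k, (K.lft i k : Γ) * (K.lft i k : Γ) = 1 := fun k => K.sq_aT hF (K.lft_mem hF i k)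
  have h01 := h2.symm
  have h02 : (K.lft i 0 : Γ) * (K.lft i 2 : Γ) = (K.lft i 1 : Γ) := by rw [h2, ← mul_assoc, hs, one_mul]
  have h12 : (K.lft i 1 : Γ) * (K.lft i 2 : Γ) = (K.lft i 0 : Γ) := by
    rw [h2, hc 0 1, ← mul_assoc, hs, one_mul]
  fin_cases a <;> fin_cases b <;> fin_cases c <;>
    first
      | exact absurd rfl hab
      | exact absurd rfl hbc
      | exact absurd rfl hac
      | exact h01
      | exact h02
      | exact h12
      | exact (hc _ _).trans h01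
      | exact (hc _ _).trans h02
      | exact (hc _ _).trans h12

theorem star_mul {x y : Pt} (h : x.1 = y.1) {a b c : Fin 3} (hab : a ≠ b) (hbc : b ≠ c) (hac : a ≠ c) :
    K.star x a * K.star y b = (K.lft x.1 c : Γ) * sg (bitP x a + bitP y b) := by
  rw [← K.lft_mul hF hab hbc hac, sg_add, star, star, ← h]
  rw [mul_assoc (K.lft x.1 a : Γ) (sg (bitP x a)), ← mul_assoc (sg (bitP x a) : Γ),
    ← sg_comm (bitP x a) (K.lft x.1 b : Γ)]
  group

theorem conj_star (r : ↥Q) (x : Pt) (k : Fin 3) :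
    (r : Γ) * K.star x k * (r : Γ)⁻¹ = K.star (K.sh r x) k := by
  have h := K.conj_Q hF r ⟨K.star x k, K.star_mem_Q hF x k⟩
  rw [K.co_star hF] at h
  refine h.trans ?_
  show sg _ * ((K.lft x.1 k : Γ) * sg (bitP x k)) = (K.lft x.1 k : Γ) * sg (bitP (K.sh r x) k)
  rw [← mul_assoc, ← sg_comm, mul_assoc, ← sg_add]
  congr 1
  refine K.sg_congr hF ?_
  rw [K.bitP_sh]
  omega

variable {i j : Fin 6}

theorem exists_pre {t : Γ} (hij : i ≠ j) (hp : K.act t = pP i j) (k : Fin 3) :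
    ∃ q : ↥Q, K.co (K.cm t q) = cC i k ∧
      (∀ k', bN (cC i k').1 (K.co q).1 = if k' = k then 0 else 1) ∧
      ∀ k', bN (cC j k').1 (K.co q).1 = 0 := by
  obtain ⟨h1, h2, h3, h4⟩ := mx_pre i j hij k
  obtain ⟨q, hq⟩ := K.co_surjective ⟨_, h1⟩
  refine ⟨q, Fin.ext ?_, fun k' => ?_, fun k' => ?_⟩
  · rw [K.co_cm, hp, xo_val, pP_permOf i j, hq, cC_val]; exact h2
  · rw [cC_val, hq]; exact h3 k'
  · rw [cC_val, hq]; exact h4 k'

theorem cm_congr {t : Γ} (hij : i ≠ j) (ht : t ∈ K.tS) (hp : K.act t = pP i j) {q q' : ↥Q}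
    (h : K.co (K.cm t q) = K.co (K.cm t q')) : K.cm t q = K.cm t q' := by
  have hadd := (K.isSym_aT hF (t := t)).add
  have hf : K.act t (K.co (q⁻¹ * q')) = K.co (q⁻¹ * q') := by
    rw [K.co_cm, K.co_cm] at h
    rw [K.co_mul, K.co_inv, hadd]
    refine xor_zero_right _ _ ?_
    have h' := congrArg Fin.val h
    simp only [xo_val] at h'
    refine Fin.ext ?_
    simp only [xo_val]
    calc (K.act t (K.co q)).1 ^^^ (K.act t (K.co q')).1 ^^^ ((K.co q).1 ^^^ (K.co q').1)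
        = ((K.act t (K.co q)).1 ^^^ (K.co q).1) ^^^ ((K.act t (K.co q')).1 ^^^ (K.co q').1) := by ac_rfl
      _ = 0 := by rw [h', Nat.xor_self]
  have h1 := (K.coset_facts hF hij ht hp).1 _ hf
  have h2 : K.co (K.cm t (q⁻¹ * q')) = 0 := (K.co_eq_zero _).2 (Or.inl (congrArg Subtype.val h1))
  have h3 := K.cm_mul_right hF t q (q⁻¹ * q')
  rw [mul_inv_cancel_left, h1, mul_one, h2, bN_zero_right, sg_zero, one_mul] at h3
  exact Subtype.ext h3.symm

theorem att_of_witness {t : Γ} (hij : i ≠ j) (ht : t ∈ K.tS) (hp : K.act t = pP i j) (x : Pt)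
    (h : ∀ k, ∃ q, K.co (K.cm t q) = cC x.1 k ∧ ((K.cm t q : ↥Q) : Γ) = K.star x k) : K.Att t x := by
  intro k q hq
  obtain ⟨q', hq', he⟩ := h k
  rw [K.cm_congr hF hij ht hp (hq.trans hq'.symm), he]

theorem exists_att {t : Γ} (hij : i ≠ j) (ht : t ∈ K.tS) (hp : K.act t = pP i j) : ∃ x, x.1 = i ∧ K.Att t x := by
  have hA := ht.1
  obtain ⟨q0, h0, hb0, -⟩ := K.exists_pre hF hij hp 0
  obtain ⟨q1, h1, -, -⟩ := K.exists_pre hF hij hp 1
  have hval : ∀ (q : ↥Q) (k : Fin 3), K.co (K.cm t q) = cC i k → ∃ e : Bool,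
      ((K.cm t q : ↥Q) : Γ) = (K.lft i k : Γ) * sg e.toNat := fun q k hq => by
    rcases (K.co_eq_iff _ _).1 (hq.trans (K.co_lft i k).symm) with h | h
    · exact ⟨false, by rw [h]; simp [sg_zero]⟩
    · exact ⟨true, by rw [h]; simp [sg_one]⟩
  obtain ⟨e0, he0⟩ := hval q0 0 h0
  obtain ⟨e1, he1⟩ := hval q1 1 h1
  refine ⟨(i, e0, e1), rfl, K.att_of_witness hF hij ht hp _ fun k => ?_⟩
  fin_cases k
  · exact ⟨q0, h0, he0⟩
  · exact ⟨q1, h1, he1⟩
  · have hco : K.co (K.cm t (q0 * q1)) = cC i 2 := by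
      rw [← cC_two, ← h0, ← h1, K.co_cm, K.co_cm, K.co_cm, K.co_mul, (K.isSym_aT hF (t := t)).add]
      refine Fin.ext ?_
      simp only [xo_val]
      ac_rfl
    refine ⟨q0 * q1, hco, ?_⟩
    have hb : bN (K.co q0).1 (cC i 1).1 = 1 := by rw [bN_comm, hb0]; rfl
    rw [K.cm_mul_right hF, h1, hb, he0, he1]
    show sg 1 * ((K.lft i 0 : Γ) * sg e0.toNat * ((K.lft i 1 : Γ) * sg e1.toNat)) =
      (K.lft i 0 : Γ) * (K.lft i 1 : Γ) * sg (e0.toNat + e1.toNat + 1)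
    rw [sg_add, sg_add, ← sg_comm 1, mul_assoc (K.lft i 0 : Γ) (sg e0.toNat), ← mul_assoc (sg e0.toNat : Γ),
      ← sg_comm e0.toNat (K.lft i 1 : Γ)]
    group

theorem att_unique {t : Γ} (hij : i ≠ j) (hp : K.act t = pP i j) {x y : Pt} (hx : x.1 = i)
    (hy : y.1 = i) (ax : K.Att t x) (ay : K.Att t y) : x = y := by
  obtain ⟨i', a, b⟩ := x
  obtain ⟨i'', c, d⟩ := y
  simp only at hx hy
  subst hx hy
  obtain ⟨q0, h0, -, -⟩ := K.exists_pre hF hij hp 0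
  obtain ⟨q1, h1, -, -⟩ := K.exists_pre hF hij hp 1
  have e0 := (K.star_eq hF ((ax 0 q0 h0).symm.trans (ay 0 q0 h0))).2.2
  have e1 := (K.star_eq hF ((ax 1 q1 h1).symm.trans (ay 1 q1 h1))).2.2
  simp only [bitP, show (1 : Fin 3) ≠ 0 by decide, if_true, if_false] at e0 e1
  cases a <;> cases b <;> cases c <;> cases d <;> simp_all

theorem att_conj {t : Γ} (ht : t ∈ K.aT) (r : ↥Q) {x : Pt} (ax : K.Att t x) :
    K.Att ((r : Γ) * t * (r : Γ)⁻¹) (K.sh r x) := by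
  intro k q hq
  have hc : K.co (K.cm t q) = cC x.1 k := by
    have h : K.co (K.cm ((r : Γ) * t * (r : Γ)⁻¹) q) = K.co (K.cm t q) := by
      rw [K.co_cm, K.co_cm, K.act_conj_Q hF]
    rw [← h]; exact hq
  rw [K.cm_conj hF ht, K.bN_cm hF ht, hc, ax k q hc]
  show sg _ * ((K.lft x.1 k : Γ) * sg (bitP x k)) = (K.lft x.1 k : Γ) * sg (bitP (K.sh r x) k)
  rw [← mul_assoc, ← sg_comm, mul_assoc, ← sg_add]
  congr 1
  refine K.sg_congr hF ?_
  rw [K.bitP_sh]
  omega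

theorem eq_of_att {t : Γ} (hij : i ≠ j) {s : Γ} (ht : t ∈ K.tS) (hp : K.act t = pP i j) (hs : s ∈ K.tS)
    (hsp : K.act s = pP i j) {x y : Pt} (hx : x.1 = i) (hy : y.1 = j) (ax : K.Att t x) (ay : K.Att t y)
    (bx : K.Att s x) (by' : K.Att s y) : t = s := by
  obtain ⟨hfix, htr⟩ := K.coset_facts hF hij ht hp
  obtain ⟨r, rfl⟩ := htr s hs hsp
  have e1 := K.att_unique hF hij hsp (x := K.sh r x) hx hx (K.att_conj hF ht.1 r ax) bx
  have e2 := K.att_unique hF hij.symm (hsp.trans (pP_symm i j)) (x := K.sh r y) hy hy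
    (K.att_conj hF ht.1 r ay) by'
  have hb : ∀ (p : Pt) (k : Fin 3), K.sh r p = p → bN (cC p.1 k).1 (K.co r).1 = 0 := fun p k e => by
    have h := K.bitP_sh r p k
    rw [e] at h
    rw [bN_comm]
    have := bN_lt (K.co r).1 (cC p.1 k).1
    omega
  have hf : pP i j (K.co r) = K.co r := fix_of_perp hij (hx ▸ hb x 0 e1) (hx ▸ hb x 1 e1) (hy ▸ hb y 0 e2)
    (hy ▸ hb y 1 e2)
  have hc := hfix r (by rw [hp]; exact hf)
  rw [K.conj_eq hF ht.1, hc, one_mul]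

theorem exists_of_points {x y : Pt} (h : x.1 ≠ y.1) :
    ∃ t ∈ K.tS, K.act t = pP x.1 y.1 ∧ K.Att t x ∧ K.Att t y := by
  obtain ⟨t, ht, hp⟩ := K.exists_tS hF h
  obtain ⟨⟨i0, a, b⟩, hi0, ax⟩ := K.exists_att hF h ht hp
  obtain ⟨⟨j0, c, d⟩, hj0, ay⟩ := K.exists_att hF h.symm ht (hp.trans (pP_symm _ _))
  obtain ⟨i, s0, s1⟩ := x
  obtain ⟨j, u0, u1⟩ := y
  simp only at hi0 hj0 h
  subst hi0 hj0
  obtain ⟨k, hki, hkj⟩ := exists_third i0 j0
  obtain ⟨v, hv⟩ := mx_dual (k := k) h hkj.symm hki.symm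
    (n := (xor a s0).toNat + 2 * (xor b s1).toNat + 4 * (xor c u0).toNat + 8 * (xor d u1).toNat) (by
      have := Bool.toNat_le (xor a s0); have := Bool.toNat_le (xor b s1)
      have := Bool.toNat_le (xor c u0); have := Bool.toNat_le (xor d u1)
      omega)
  obtain ⟨r, rfl⟩ := K.co_surjective v
  have := bN_lt (cN3 i0 0) (K.co r).1
  have := bN_lt (cN3 i0 1) (K.co r).1
  have := bN_lt (cN3 j0 0) (K.co r).1
  have := bN_lt (cN3 j0 1) (K.co r).1
  have := bN_lt (cN3 k 0) (K.co r).1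
  have := bN_lt (cN3 k 1) (K.co r).1
  have := Bool.toNat_le (xor a s0); have := Bool.toNat_le (xor b s1)
  have := Bool.toNat_le (xor c u0); have := Bool.toNat_le (xor d u1)
  unfold funcTriple at hv
  have b0 : bN (cN3 i0 0) (K.co r).1 = (xor a s0).toNat := by omega
  have b1 : bN (cN3 i0 1) (K.co r).1 = (xor b s1).toNat := by omega
  have b2 : bN (cN3 j0 0) (K.co r).1 = (xor c u0).toNat := by omega
  have b3 : bN (cN3 j0 1) (K.co r).1 = (xor d u1).toNat := by omega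
  have key : ∀ p q : Bool, xor p (decide ((xor p q).toNat = 1)) = q := by decide
  have ex : K.sh r (i0, a, b) = (i0, s0, s1) := by
    simp only [sh, bN_comm (K.co r).1, cC_val, b0, b1, key]
  have ey : K.sh r (j0, c, d) = (j0, u0, u1) := by
    simp only [sh, bN_comm (K.co r).1, cC_val, b2, b3, key]
  exact ⟨(r : Γ) * t * (r : Γ)⁻¹, K.conj_tS (K.conjQ_norm hF r) ht, (K.act_conj_Q hF r t).trans hp,
    ex ▸ K.att_conj hF ht.1 r ax, ey ▸ K.att_conj hF ht.1 r ay⟩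

theorem dd_spec {x y : Pt} (h : x.1 ≠ y.1) : K.dd x y ∈ K.tS ∧ K.act (K.dd x y) = pP x.1 y.1 ∧
    K.Att (K.dd x y) x ∧ K.Att (K.dd x y) y := by
  obtain ⟨t, ht⟩ := K.exists_of_points hF h
  unfold dd
  rw [if_neg h]
  exact Classical.epsilon_spec (p := fun t => t ∈ K.tS ∧ K.act t = pP x.1 y.1 ∧ K.Att t x ∧ K.Att t y)
    ⟨t, ht⟩

theorem dd_eq {t : Γ} {x y : Pt} (h : x.1 ≠ y.1) (ht : t ∈ K.tS) (hp : K.act t = pP x.1 y.1)
    (ax : K.Att t x) (ay : K.Att t y) : K.dd x y = t := by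
  obtain ⟨h1, h2, h3, h4⟩ := K.dd_spec hF h
  exact K.eq_of_att hF h h1 h2 ht hp rfl rfl h3 h4 ax ay

theorem dd_same {x y : Pt} (h : x.1 = y.1) : K.dd x y = K.star x (comK x y) := by
  unfold dd; rw [if_pos h]

theorem dd_mem {x y : Pt} (hne : x ≠ y) : K.dd x y ∈ K.tS := by
  by_cases h : x.1 = y.1
  · rw [K.dd_same hF h]; exact K.star_mem hF _ _
  · exact (K.dd_spec hF h).1

theorem dd_symm {x y : Pt} (hne : x ≠ y) : K.dd y x = K.dd x y := by
  by_cases h : x.1 = y.1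
  · obtain ⟨h1, -⟩ := comK_pt hne h
    obtain ⟨-, h2⟩ := comK_pt hne.symm h.symm
    rw [K.dd_same hF h, K.dd_same hF h.symm, ← h2 _ h1.symm, K.star_congr hF h.symm h1.symm]
  · obtain ⟨a1, a2, a3, a4⟩ := K.dd_spec hF h
    exact K.dd_eq hF (Ne.symm h) a1 (a2.trans (pP_symm _ _)) a4 a3

theorem dd_inj {x y u v : Pt} (hxy : x ≠ y) (huv : u ≠ v) (h : K.dd x y = K.dd u v) :
    (x = u ∧ y = v) ∨ (x = v ∧ y = u) := by
  have hone : ∀ a b : Fin 6, pP a b ≠ 1 := fun a b => aP_ne_one (mx_prN.1 a b).1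
  by_cases h1 : x.1 = y.1
  · by_cases h2 : u.1 = v.1
    · rw [K.dd_same hF h1, K.dd_same hF h2] at h
      obtain ⟨e1, e2, e3⟩ := K.star_eq hF h
      obtain ⟨i, a, b⟩ := x
      obtain ⟨i', c, d⟩ := y
      obtain ⟨k, e, f⟩ := u
      obtain ⟨k', g, l⟩ := v
      simp only at h1 h2 e1
      subst h1 h2 e1
      have := pair_unique a b c d e f g l (fun q => hxy (by rw [q])) (fun q => huv (by rw [q]))
        (comK (i, a, b) (i, c, d)) rfl e2 (by rw [e2] at e3 ⊢; exact e3)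
      rcases this with ⟨p, q⟩ | ⟨p, q⟩
      · exact Or.inl ⟨Prod.ext rfl p, Prod.ext rfl q⟩
      · exact Or.inr ⟨Prod.ext rfl p, Prod.ext rfl q⟩
    · exfalso
      refine hone u.1 v.1 ?_
      rw [← (K.dd_spec hF h2).2.1, ← h, K.dd_same hF h1, K.act_star hF]
  · obtain ⟨a1, a2, a3, a4⟩ := K.dd_spec hF h1
    by_cases h2 : u.1 = v.1
    · exfalso
      refine hone x.1 y.1 ?_
      rw [← a2, h, K.dd_same hF h2, K.act_star hF]
    · obtain ⟨-, b2, b3, b4⟩ := K.dd_spec hF h2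
      rw [← h] at b2 b3 b4
      rcases pP_inj h1 h2 (a2.symm.trans b2) with ⟨p, q⟩ | ⟨p, q⟩
      · exact Or.inl ⟨K.att_unique hF h1 a2 rfl p.symm a3 b3,
          K.att_unique hF (Ne.symm h1) (a2.trans (pP_symm _ _)) rfl q.symm a4 b4⟩
      · exact Or.inr ⟨K.att_unique hF h1 a2 rfl p.symm a3 b4,
          K.att_unique hF (Ne.symm h1) (a2.trans (pP_symm _ _)) rfl q.symm a4 b3⟩

theorem dd_surj {s : Γ} (hs : s ∈ K.tS) : ∃ x y, x ≠ y ∧ K.dd x y = s := by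
  rcases K.cases_aT hF hs.1 with ⟨hW, -⟩ | ⟨i, j, hij, hp⟩
  · obtain ⟨hQ, -⟩ := id hW
    obtain ⟨i, k, hk⟩ := exists_cC ((K.tS_inQ hF (a := ⟨s, hQ⟩)).1 hs)
    obtain ⟨e, he⟩ : ∃ e : Fin 2, s = (K.lft i k : Γ) * sg e.1 := by
      rcases (K.co_eq_iff _ _).1 (hk.symm.trans (K.co_lft i k).symm) with h | h
      · exact ⟨0, h.trans (by simp [sg_zero])⟩
      · exact ⟨1, h.trans (by simp [sg_one])⟩
    obtain ⟨a, b, c, d, hne, hc, hb⟩ := exists_pair k e
    have hb' : bitP (i, a, b) k % 2 = e.1 := hb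
    have hc' : comK (i, a, b) (i, c, d) = k := hc
    refine ⟨(i, a, b), (i, c, d), fun q => hne (congrArg Prod.snd q), ?_⟩
    rw [K.dd_same hF (x := (i, a, b)) (y := (i, c, d)) rfl, hc', he, star, K.sg_congr hF (b := e.1) (by rw [hb', Nat.mod_eq_of_lt e.2])]
  · obtain ⟨x, hx, ax⟩ := K.exists_att hF hij hs hp
    obtain ⟨y, hy, ay⟩ := K.exists_att hF hij.symm hs (hp.trans (pP_symm i j))
    subst hx hy
    exact ⟨x, y, fun q => hij (congrArg Prod.fst q), K.dd_eq hF hij hs hp ax ay⟩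

theorem conj_dd (r : ↥Q) {x y : Pt} (hne : x ≠ y) :
    (r : Γ) * K.dd x y * (r : Γ)⁻¹ = K.dd (K.sh r x) (K.sh r y) := by
  by_cases h : x.1 = y.1
  · obtain ⟨h1, -⟩ := comK_pt hne h
    obtain ⟨-, h2⟩ := comK_pt (fun e => hne (K.sh_inj r e)) (x := K.sh r x) (y := K.sh r y) h
    rw [K.dd_same hF h, K.dd_same hF (x := K.sh r x) (y := K.sh r y) h, K.conj_star hF, ← h2 (comK x y)]
    rw [K.bitP_sh, K.bitP_sh, ← h]
    omega
  · obtain ⟨a1, a2, a3, a4⟩ := K.dd_spec hF h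
    exact (K.dd_eq hF (x := K.sh r x) (y := K.sh r y) h (K.conj_tS (K.conjQ_norm hF r) a1)
      ((K.act_conj_Q hF r _).trans a2) (K.att_conj hF a1.1 r a3) (K.att_conj hF a1.1 r a4)).symm

end GoodCoord

end Cfsg.Agent.LargeFischer
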