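import Cfsg.Agent.Lib.LargeFischer.MaxTriangles

/-!
# One class of noncentral involutions in `A`

`N(A)` is transitive on the 276 involutions of `A` outside the class of `z` (`trans_tA`); disjoint pairs
of points multiply outside that class (`disj`).
-/

set_option autoImplicit false
set_option maxRecDepth 100000

namespace Cfsg.Agent.LargeFischer

open Subgroup

theorem four_bits : ∀ p q r s : Bool × Bool, p ≠ q → r ≠ s → r ≠ p → r ≠ q → s ≠ p → s ≠ q →
    comK ((0 : Fin 6), r) ((0 : Fin 6), s) = comK ((0 : Fin 6), p) ((0 : Fin 6), q) := by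
  decide +kernel

theorem two_bits : ∀ p q r : Bool × Bool, p ≠ q →
    bitP ((0 : Fin 6), r) (comK ((0 : Fin 6), p) ((0 : Fin 6), q)) % 2 =
      bitP ((0 : Fin 6), p) (comK ((0 : Fin 6), p) ((0 : Fin 6), q)) % 2 → r = p ∨ r = q := by
  decide +kernel

theorem inSmall_zero : inSmall 0 = false := by decide +kernel

variable {G : Type*} [Group G] {z : G} {Q : Subgroup (Subgroup.centralizer ({z} : Set G))} [Q.Normal]

set_option quotPrecheck false in
local notation "Γ" => ↥(Subgroup.centralizer ({z} : Set G))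

namespace GoodCoord

variable (K : GoodCoord z Q) [Finite G] (hF : IsOfLargeFischerTypeAt z Q)
include K hF

theorem exists_flip (i : Fin 6) (k : Fin 3) : ∃ r : ↥Q, bN (K.co r).1 (cC i k).1 = 1 := by
  obtain ⟨j, hj, -⟩ := exists_third i i
  obtain ⟨h1, -, h3, -⟩ := mx_pre i j hj.symm (k + 1)
  obtain ⟨r, hr⟩ := K.co_surjective ⟨_, h1⟩
  refine ⟨r, ?_⟩
  rw [bN_comm, cC_val, hr, h3 k, if_neg]
  exact (by decide : ∀ k : Fin 3, ¬ k = k + 1) k

theorem trans_inner {a b : ↥Q} (ha : (a : Γ) ∈ K.tS) (hb : (b : Γ) ∈ K.tS) :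
    ∃ h : Γ, (h : G) ∈ Subgroup.normalizer (K.aG : Set G) ∧ h * (a : Γ) * h⁻¹ = (b : Γ) := by
  have mem : ∀ {c : ↥Q}, (c : Γ) ∈ K.tS → ∃ p ∈ stV K.I, p 5 = K.co c := fun {c} hc => by
    have h5 : K.co c ∈ orb (stV K.I) 5 := by
      rw [orb_stV_small K.good]; exact (K.tS_inQ hF).1 hc
    exact h5
  obtain ⟨p, hp, hpa⟩ := mem ha
  obtain ⟨q, hq, hqb⟩ := mem hb
  have hpq := (stV K.I).mul_mem hq ((stV K.I).inv_mem hp)
  obtain ⟨h, hh⟩ := K.exists_act (mem_stV.1 hpq).1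
  have hnorm : (h : G) ∈ Subgroup.normalizer (K.aG : Set G) :=
    (K.conj_aG_iff hF h).2 fun v => by rw [hh]; exact (mem_stV.1 hpq).2 v
  have hco : K.co ⟨h * (a : Γ) * h⁻¹, (inferInstance : Q.Normal).conj_mem _ a.2 h⟩ = K.co b := by
    rw [← K.act_co, hh, ← hpa, Equiv.Perm.mul_apply, perm_inv_apply, hqb]
  rcases (K.co_eq_iff _ _).1 hco with e | e
  · exact ⟨h, hnorm, e⟩
  obtain ⟨i, k, hk⟩ := exists_cC ((K.tS_inQ hF).1 hb)
  obtain ⟨r, hr⟩ := K.exists_flip hF i k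
  refine ⟨(r : Γ) * h, ?_, ?_⟩
  · rw [Subgroup.coe_mul]; exact Subgroup.mul_mem _ (K.conjQ_norm hF r) hnorm
  have e' : h * (a : Γ) * h⁻¹ = (b : Γ) * zIn z := e
  calc (r : Γ) * h * (a : Γ) * ((r : Γ) * h)⁻¹ = (r : Γ) * (h * (a : Γ) * h⁻¹) * (r : Γ)⁻¹ := by group
    _ = ((r : Γ) * (b : Γ) * (r : Γ)⁻¹) * ((r : Γ) * zIn z * (r : Γ)⁻¹) := by rw [e']; group
    _ = (b : Γ) := by
      rw [K.conj_Q hF, ← hk, hr, sg_one, zIn_comm (r : Γ), mul_inv_cancel_right, ← zIn_comm (b : Γ),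
        mul_assoc, K.z_sq hF, mul_one]

theorem reach_cos {r : ℕ} (hr : r < 15) :
    ∃ h : Γ, (h : G) ∈ Subgroup.normalizer (K.aG : Set G) ∧ K.act h * aP 0 * (K.act h)⁻¹ = aP r := by
  suffices H : ∀ l : List (ℕ × ℕ × ℕ), (∀ e ∈ l, e ∈ syO) → ∀ S : Finset ℕ,
      (∀ r ∈ S, ∃ h : Γ, (h : G) ∈ Subgroup.normalizer (K.aG : Set G) ∧ K.act h * aP 0 * (K.act h)⁻¹ = aP r) →
      ∀ r ∈ l.foldl (fun S e => if e.2.1 ∈ S then insert e.2.2 S else S) S,
        ∃ h : Γ, (h : G) ∈ Subgroup.normalizer (K.aG : Set G) ∧ K.act h * aP 0 * (K.act h)⁻¹ = aP r by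
    have hfull : ∀ r : Fin 15, r.1 ∈ syO.foldl (fun S e => if e.2.1 ∈ S then insert e.2.2 S else S)
        ({0} : Finset ℕ) := by decide +kernel
    refine H syO (fun e he => he) {0} (fun s hs => ⟨1, Subgroup.one_mem _, ?_⟩) r (hfull ⟨r, hr⟩)
    rw [Finset.mem_singleton.1 hs, map_one]; group
  intro l
  induction l with
  | nil => intro _ S hS r hr; exact hS r hr
  | cons e l ih =>
    intro hl S hS
    rw [List.foldl_cons]
    refine ih (fun x hx => hl x (List.mem_cons_of_mem _ hx)) _ fun r hr => ?_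
    split at hr
    · rename_i hin
      rcases Finset.mem_insert.1 hr with rfl | hr
      · have h := List.all_eq_true.1 sy_orbit_ok.2 e (hl e (List.mem_cons_self ..))
        simp only [Bool.and_eq_true, decide_eq_true_eq, beq_iff_eq] at h
        obtain ⟨g, hg, hge⟩ := hS _ hin
        set u : Fin 2 := ⟨e.1, h.1.1⟩
        obtain ⟨c, hc⟩ := K.exists_act (syU_mem K.good u)
        refine ⟨c * g, ?_, ?_⟩
        · rw [Subgroup.coe_mul]
          refine Subgroup.mul_mem _ ((K.conj_aG_iff hF c).2 fun v => ?_) hg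
          rw [hc]
          refine ⟨fun hv => ?_, fun hv => (syU_syV u hv).1⟩
          have := (syU_syV u hv).2
          rwa [perm_inv_apply] at this
        · rw [map_mul, hc, mul_inv_rev, ← h.2]
          show syU' u * K.act g * aP 0 * ((K.act g)⁻¹ * (syU' u)⁻¹) = aP (syNext u e.2.1)
          rw [← (syU_conj u h.1.2).2, ← hge]; group
      · exact hS r hr
    · exact hS r hr

theorem trans_outer {s t : Γ} (hs : s ∈ K.tS) (ht : t ∈ K.tS) (hs1 : K.act s ≠ 1) (ht1 : K.act t ≠ 1) :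
    ∃ m ∈ Subgroup.normalizer (K.aG : Set G), m * (s : G) * m⁻¹ = (t : G) := by
  have base : ∀ {u : Γ}, u ∈ K.tS → K.act u ≠ 1 → ∃ h : Γ, (h : G) ∈ Subgroup.normalizer (K.aG : Set G) ∧
      K.act (h * u * h⁻¹) = aP 0 := fun {u} hu hu1 => by
    rcases mem_syA2_cases (K.act_syA2 hF hu.1) with e | ⟨r, hr, e⟩
    · exact absurd e hu1
    obtain ⟨h, hh, hhe⟩ := K.reach_cos hF hr
    refine ⟨h⁻¹, by rw [Subgroup.coe_inv]; exact Subgroup.inv_mem _ hh, ?_⟩
    rw [inv_inv, map_mul, map_mul, map_inv, e, ← hhe]; group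
  obtain ⟨g, hg, hgs⟩ := base hs hs1
  obtain ⟨c, hc, hct⟩ := base ht ht1
  obtain ⟨i, j, hij, e⟩ := exists_pP (aP_mem (r := 0) (by norm_num)) (aP_ne_one (by norm_num))
  rw [e] at hgs hct
  obtain ⟨q, hq⟩ := (K.coset_facts hF hij (K.conj_tS hg hs) hgs).2 _ (K.conj_tS hc ht) hct
  refine ⟨(c : G)⁻¹ * ((q : Γ) : G) * (g : G),
    Subgroup.mul_mem _ (Subgroup.mul_mem _ (Subgroup.inv_mem _ hc) (K.conjQ_norm hF q)) hg, ?_⟩
  have hq' : ((q : Γ) : G) * ((g : G) * (s : G) * (g : G)⁻¹) * ((q : Γ) : G)⁻¹ = (c : G) * (t : G) * (c : G)⁻¹ :=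
    congrArg Subtype.val hq
  calc _ = (c : G)⁻¹ * (((q : Γ) : G) * ((g : G) * (s : G) * (g : G)⁻¹) * ((q : Γ) : G)⁻¹) * (c : G) := by group
    _ = (t : G) := by rw [hq']; group

theorem exists_mixing : ∃ a : ↥Q, (a : Γ) ∈ K.tS ∧ ∃ m ∈ Subgroup.normalizer (K.aG : Set G),
    ∃ o : Γ, o ∈ K.tS ∧ K.act o ≠ 1 ∧ m * ((a : Γ) : G) * m⁻¹ = (o : G) := by
  classical
  by_contra hno
  push Not at hno
  set x : Pt := (0, false, false)
  have hin : ∀ (m : G), m ∈ Subgroup.normalizer (K.aG : Set G) → ∀ k, m * (K.star x k : G) * m⁻¹ ∈ qG Q := by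
    intro m hm k
    have hT := K.conj_tA hm ((K.mem_tA_iff hF).2 (K.star_mem hF x k))
    obtain ⟨o, ho, hoe⟩ := hT.1
    refine ⟨o, (K.mem_Q_iff o).2 ?_, hoe⟩
    by_contra h1
    exact hno ⟨_, K.star_mem_Q hF x k⟩ (K.star_mem hF x k) m hm o
      ((K.mem_tA_iff hF).1 (by rw [show (o : G) = _ from hoe]; exact hT)) h1 hoe.symm
  have hprod : K.star x 0 * K.star x 1 * K.star x 2 = zIn z := by
    have e2 : K.star x 2 = (K.lft x.1 2 : Γ) * sg 1 := rfl
    rw [K.star_mul hF (x := x) (y := x) rfl (a := 0) (b := 1) (c := 2) (by decide) (by decide) (by decide),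
      show bitP x 0 + bitP x 1 = 0 from rfl, sg_zero, mul_one, e2, ← mul_assoc,
      K.sq_aT hF (K.lft_mem hF _ _), one_mul, sg_one]
  -- a conjugate of `z` outside `Q`
  have h01 : (0 : Fin 6) ≠ 1 := by decide
  obtain ⟨s, hsA, hsc, hsp⟩ : ∃ s : Γ, s ∈ K.aT ∧ IsConj z (s : G) ∧ K.act s = pP 0 1 := by
    have hlt : (K.tS ∩ {t | K.act t = pP 0 1}).ncard < (K.cosP (pP 0 1)).ncard := by
      rw [(K.counts hF).2 _ (pP_mem 0 1) (aP_ne_one (mx_prN.1 0 1).1), K.ncard_cos hF (pP_mem 0 1)]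
      norm_num
    obtain ⟨s, hs, hsn⟩ := Set.exists_mem_notMem_of_ncard_lt_ncard hlt
    refine ⟨s, hs.1, ?_, hs.2⟩
    by_contra hc
    exact hsn ⟨⟨hs.1, fun e => aP_ne_one (mx_prN.1 0 1).1 (by
      show pP 0 1 = 1; rw [← hs.2, e, map_one]), hc⟩, hs.2⟩
  obtain ⟨-, hel, hA, hzG, -⟩ := K.core_facts hF
  obtain ⟨c, hc⟩ := isConj_iff.1 hsc
  obtain ⟨m, hm, hme⟩ := K.control_fusion hF hel hA hzG (g := c) (by rw [hc]; exact (K.mem_aG_iff s).2 hsA)
  have hz : (zIn z : G) = z := rfl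
  have hQ : (s : G) ∈ qG Q := by
    have e1 : (s : G) = m * (zIn z : G) * m⁻¹ := (hme.trans hc).symm
    rw [e1, show (zIn z : G) = (K.star x 0 : G) * (K.star x 1 : G) * (K.star x 2 : G) from
      (congrArg Subtype.val hprod).symm,
      show m * ((K.star x 0 : G) * (K.star x 1 : G) * (K.star x 2 : G)) * m⁻¹ =
        (m * (K.star x 0 : G) * m⁻¹) * (m * (K.star x 1 : G) * m⁻¹) * (m * (K.star x 2 : G) * m⁻¹) by group]
    exact mul_mem (mul_mem (hin m hm 0) (hin m hm 1)) (hin m hm 2)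
  obtain ⟨o, ho, hoe⟩ := hQ
  rw [show o = s from Subtype.ext hoe] at ho
  exact aP_ne_one (mx_prN.1 0 1).1 (hsp.symm.trans ((K.mem_Q_iff s).1 ho))

/-- `N(A)` is transitive on the involutions outside the class of `z`. -/
theorem trans_tA {a b : G} (ha : a ∈ K.tA) (hb : b ∈ K.tA) :
    ∃ m ∈ Subgroup.normalizer (K.aG : Set G), m * a * m⁻¹ = b := by
  obtain ⟨a0, ha0, m0, hm0, o, ho, ho1, hoe⟩ := K.exists_mixing hF
  have toBase : ∀ x ∈ K.tA, ∃ m ∈ Subgroup.normalizer (K.aG : Set G), m * ((a0 : Γ) : G) * m⁻¹ = x := by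
    intro x hx
    obtain ⟨c, hc, rfl⟩ := hx.1
    have hcS : c ∈ K.tS := (K.mem_tA_iff hF).1 hx
    by_cases h1 : K.act c = 1
    · obtain ⟨h, hh, hhe⟩ := K.trans_inner hF (b := ⟨c, (K.mem_Q_iff c).2 h1⟩) ha0 hcS
      exact ⟨h, hh, congrArg Subtype.val hhe⟩
    · obtain ⟨m, hm, hme⟩ := K.trans_outer hF ho hcS ho1 h1
      refine ⟨m * m0, Subgroup.mul_mem _ hm hm0, ?_⟩
      show _ = (c : G)
      rw [← hme, ← hoe]; group
  obtain ⟨m, hm, hma⟩ := toBase a ha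
  obtain ⟨n, hn, hnb⟩ := toBase b hb
  refine ⟨n * m⁻¹, Subgroup.mul_mem _ hn (Subgroup.inv_mem _ hm), ?_⟩
  rw [← hma, ← hnb]; group

theorem adj_mem {x y : Pt} (hxy : x ≠ y) {p q : Pt} (hp : p = x ∨ p = y) (hqx : q ≠ x) (hqy : q ≠ y) :
    K.dd p q * K.dd x y ∈ K.tS := by
  rcases hp with rfl | rfl
  · rw [← K.dd_symm hF hqx.symm, K.tri hF hqx hxy hqy]
    exact K.dd_mem hF hqy
  · rw [← K.dd_symm hF hqy.symm, ← K.dd_symm hF hxy, K.tri hF hqy hxy.symm hqx]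
    exact K.dd_mem hF hqx

/-- At a pair inside a tetrad only adjacent pairs multiply into the class. -/
theorem near_base {a b x y : Pt} (hxy : x ≠ y) (h : x.1 = y.1) (hab : a ≠ b)
    (hax : a ≠ x) (hay : a ≠ y) (hbx : b ≠ x) (hby : b ≠ y) : K.dd a b * K.dd x y ∉ K.tS := by
  intro hin
  obtain ⟨i, p⟩ := x
  obtain ⟨i', q⟩ := y
  simp only at h
  subst h
  have hpq : p ≠ q := fun e => hxy (by rw [e])
  set k0 := comK (i, p) (i, q)
  have hd : K.dd (i, p) (i, q) = K.star (i, p) k0 := K.dd_same hF rfl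
  rw [hd] at hin
  by_cases h1 : a.1 = b.1
  · obtain ⟨j, r⟩ := a
    obtain ⟨j', s⟩ := b
    simp only at h1
    subst h1
    rw [K.dd_same hF (x := (j, r)) (y := (j, s)) rfl] at hin
    have hQ := Q.mul_mem (K.star_mem_Q hF (j, r) (comK (j, r) (j, s))) (K.star_mem_Q hF (i, p) k0)
    have hsmall := (K.tS_inQ hF (a := ⟨_, hQ⟩)).1 hin
    rw [show (⟨_, hQ⟩ : ↥Q) = ⟨_, K.star_mem_Q hF (j, r) (comK (j, r) (j, s))⟩ * ⟨_, K.star_mem_Q hF (i, p) k0⟩
      from rfl, K.co_mul, K.co_star hF, K.co_star hF, xo_val] at hsmall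
    by_cases hji : j = i
    · subst hji
      have e : comK (j, r) (j, s) = comK (j, p) (j, q) := four_bits p q r s hpq
        (fun e => hab (by rw [e])) (fun e => hax (by rw [e])) (fun e => hay (by rw [e]))
        (fun e => hbx (by rw [e])) (fun e => hby (by rw [e]))
      rw [e, Nat.xor_self, inSmall_zero] at hsmall
      exact absurd hsmall Bool.false_ne_true
    · rw [cC_val, cC_val] at hsmall
      simp only [inSmall, Bool.and_eq_true] at hsmall
      rw [mx_two j i hji] at hsmall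
      exact absurd hsmall.2 Bool.false_ne_true
  · obtain ⟨hu, hup, hua, hub⟩ := K.dd_spec hF h1
    have hdA := (K.star_mem hF (i, p) k0).1
    obtain ⟨q', hq'⟩ := (K.coset_facts hF h1 hu hup).2 _ hin
      (by rw [map_mul, hup, K.act_star hF, mul_one])
    rw [K.conj_eq hF hu.1, K.comm_aT hF hu.1 hdA] at hq'
    have hcm := mul_right_cancel hq'
    have hcode : K.co (K.cm (K.dd a b) q') = cC i k0 := by
      rw [← K.co_star hF (i, p) k0]
      exact congrArg K.co (Subtype.ext hcm)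
    have himg := K.img_sub hF h1 hup q'
    rw [hcode, cC_val] at himg
    have share : ∀ c : Pt, K.Att (K.dd a b) c → c.1 = i → c ≠ (i, p) → c ≠ (i, q) → False := by
      intro c hc hci hcp hcq
      obtain ⟨i', r⟩ := c
      simp only at hci
      subst hci
      have := (K.star_eq hF ((hc k0 q' hcode).symm.trans hcm)).2.2
      rcases two_bits p q r hpq this with rfl | rfl
      exacts [hcp rfl, hcq rfl]
    rcases mx_in_img i a.1 b.1 h1 k0 (List.contains_iff_mem.2 himg) with e | e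
    · exact share a hua e.symm hax hay
    · exact share b hub e.symm hbx hby

/-- Disjoint pairs multiply out of the class. -/
theorem disj {x y u v : Pt} (hxy : x ≠ y) (hxu : x ≠ u) (hxv : x ≠ v) (hyu : y ≠ u) (hyv : y ≠ v)
    (huv : u ≠ v) : K.dd x y * K.dd u v ∉ K.tS := by
  classical
  have hcard : ∀ {p q : Pt}, p ≠ q → (((({p, q} : Finset Pt) ×ˢ ({p, q} : Finset Pt)ᶜ)).image
      fun w => ((K.dd w.1 w.2 : Γ) : G)).card = 44 ∧
      (↑(((({p, q} : Finset Pt) ×ˢ ({p, q} : Finset Pt)ᶜ)).image fun w => ((K.dd w.1 w.2 : Γ) : G)) : Set G) ⊆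
        {t | t ∈ K.tA ∧ t * (K.dd p q : G) ∈ K.tA} := by
    intro p q hpq
    have hm : ∀ w ∈ (({p, q} : Finset Pt) ×ˢ ({p, q} : Finset Pt)ᶜ),
        (w.1 = p ∨ w.1 = q) ∧ w.2 ≠ p ∧ w.2 ≠ q ∧ w.1 ≠ w.2 := fun w hw => by
      simp only [Finset.mem_product, Finset.mem_insert, Finset.mem_singleton, Finset.mem_compl, not_or] at hw
      refine ⟨hw.1, hw.2.1, hw.2.2, fun e => ?_⟩
      rcases hw.1 with h | h
      exacts [hw.2.1 (e.symm.trans h), hw.2.2 (e.symm.trans h)]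
    constructor
    · rw [Finset.card_image_of_injOn, Finset.card_product, Finset.card_pair hpq, Finset.card_compl,
        Finset.card_pair hpq]
      · decide
      intro w hw w' hw' e
      obtain ⟨h1, h2, h3, h4⟩ := hm w hw
      obtain ⟨h1', h2', h3', h4'⟩ := hm w' hw'
      rcases K.dd_inj hF h4 h4' (Subtype.ext e) with ⟨e1, e2⟩ | ⟨e1, e2⟩
      · exact Prod.ext e1 e2
      · exfalso
        rcases h1' with r | r
        exacts [h2 (e2.trans r), h3 (e2.trans r)]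
    · intro t ht
      obtain ⟨w, hw, rfl⟩ := Finset.mem_image.1 (Finset.mem_coe.1 ht)
      obtain ⟨h1, h2, h3, h4⟩ := hm w hw
      exact ⟨(K.mem_tA_iff hF).2 (K.dd_mem hF h4),
        (K.mem_tA_iff hF (t := K.dd w.1 w.2 * K.dd p q)).2 (K.adj_mem hF hpq h1 h2 h3)⟩
  set x0 : Pt := (0, false, false)
  set y0 : Pt := (0, false, true)
  have hne0 : x0 ≠ y0 := by decide
  have hbase : {t | t ∈ K.tA ∧ t * (K.dd x0 y0 : G) ∈ K.tA}.ncard = 44 := by
    rw [← (hcard hne0).1, ← Set.ncard_coe_finset]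
    congr 1
    refine Set.Subset.antisymm ?_ (hcard hne0).2
    rintro _ ⟨ht, htd⟩
    obtain ⟨c, hc, rfl⟩ := ht.1
    obtain ⟨a, b, hab, rfl⟩ := K.dd_surj hF ((K.mem_tA_iff hF).1 ht)
    simp only [Finset.coe_image, Set.mem_image, Finset.mem_coe, Finset.mem_product, Finset.mem_insert,
      Finset.mem_singleton, Finset.mem_compl, not_or]
    have hp : K.dd a b * K.dd x0 y0 ∈ K.tS := (K.mem_tA_iff hF).1 htd
    have hneq : ¬ ((a = x0 ∧ b = y0) ∨ (a = y0 ∧ b = x0)) := by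
      have h1 : ∀ e : K.dd a b = K.dd x0 y0, False := fun e => by
        rw [e, K.dd_sq hF hne0] at hp
        exact hp.2.1 rfl
      rintro (⟨rfl, rfl⟩ | ⟨rfl, rfl⟩)
      · exact h1 rfl
      · exact h1 (K.dd_symm hF hne0)
    by_cases hax : a = x0
    · exact ⟨(a, b), ⟨Or.inl hax, fun e => hab (hax.trans e.symm), fun e => hneq (Or.inl ⟨hax, e⟩)⟩, rfl⟩
    by_cases hay : a = y0
    · exact ⟨(a, b), ⟨Or.inr hay, fun e => hneq (Or.inr ⟨hay, e⟩), fun e => hab (hay.trans e.symm)⟩, rfl⟩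
    by_cases hbx : b = x0
    · exact ⟨(b, a), ⟨Or.inl hbx, hax, hay⟩, congrArg Subtype.val (K.dd_symm hF hab)⟩
    by_cases hby : b = y0
    · exact ⟨(b, a), ⟨Or.inr hby, hax, hay⟩, congrArg Subtype.val (K.dd_symm hF hab)⟩
    exact absurd hp (K.near_base hF hne0 rfl hab hax hay hbx hby)
  intro hin
  obtain ⟨m, hm, hme⟩ := K.trans_tA hF ((K.mem_tA_iff hF).2 (K.dd_mem hF hne0))
    ((K.mem_tA_iff hF).2 (K.dd_mem hF huv))
  have hn : {t | t ∈ K.tA ∧ t * (K.dd u v : G) ∈ K.tA}.ncard = 44 := by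
    rw [← hme, K.count_conj hm, hbase]
  obtain ⟨h44, hsub⟩ := hcard huv
  have heq := Set.eq_of_subset_of_ncard_le hsub (by rw [Set.ncard_coe_finset, h44, hn]) (Set.toFinite _)
  have hmem : (K.dd x y : G) ∈ {t | t ∈ K.tA ∧ t * (K.dd u v : G) ∈ K.tA} :=
    ⟨(K.mem_tA_iff hF).2 (K.dd_mem hF hxy), (K.mem_tA_iff hF (t := K.dd x y * K.dd u v)).2 hin⟩
  rw [← heq] at hmem
  obtain ⟨w, hw, he⟩ := Finset.mem_image.1 (Finset.mem_coe.1 hmem)
  simp only [Finset.mem_product, Finset.mem_insert, Finset.mem_singleton, Finset.mem_compl, not_or] at hw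
  have hne : w.1 ≠ w.2 := fun e => by
    rcases hw.1 with h | h
    exacts [hw.2.1 (e.symm.trans h), hw.2.2 (e.symm.trans h)]
  rcases K.dd_inj hF hne hxy (Subtype.ext he) with ⟨e, -⟩ | ⟨e, -⟩ <;> rcases hw.1 with h | h
  exacts [hxu (e.symm.trans h), hxv (e.symm.trans h), hyu (e.symm.trans h), hyv (e.symm.trans h)]

end GoodCoord

end Cfsg.Agent.LargeFischer
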