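import Cfsg.Agent.Lib.LargeFischer.MaxPoints

/-!
# Triangles

For three distinct points `dd x y * dd y w = dd x w`.  For three tetrads this holds for all or for no
triple; the latter is impossible, as the number of `t` with `t s` outside the class of `z` is the same
for all conjugates `s` of `z` in `A`.
-/

set_option autoImplicit false
set_option maxRecDepth 100000

namespace Cfsg.Agent.LargeFischer

open Subgroup

set_option synthInstance.maxSize 4096 in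
theorem tri_bits : ∀ p q r : Bool × Bool, p ≠ q → q ≠ r → p ≠ r →
    comK ((0 : Fin 6), p) ((0 : Fin 6), q) ≠ comK ((0 : Fin 6), q) ((0 : Fin 6), r) ∧
    comK ((0 : Fin 6), q) ((0 : Fin 6), r) ≠ comK ((0 : Fin 6), p) ((0 : Fin 6), r) ∧
    comK ((0 : Fin 6), p) ((0 : Fin 6), q) ≠ comK ((0 : Fin 6), p) ((0 : Fin 6), r) ∧
    (bitP ((0 : Fin 6), p) (comK ((0 : Fin 6), p) ((0 : Fin 6), q)) +
        bitP ((0 : Fin 6), q) (comK ((0 : Fin 6), q) ((0 : Fin 6), r))) % 2 =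
      bitP ((0 : Fin 6), p) (comK ((0 : Fin 6), p) ((0 : Fin 6), r)) % 2 := by
  decide +kernel

theorem mxP3_period : ∀ (t : Fin 2) (p : Fin 6 × Fin 6 × Fin 6), (mxP3 t)^[10] p = p := by
  decide +kernel

theorem spare_count : ((({((0 : Fin 6), false, false), ((1 : Fin 6), false, false)} : Finset Pt) ×ˢ
    (Finset.univ : Finset Pt)).filter (fun u => u.2 ≠ ((0 : Fin 6), false, false) ∧
      u.2 ≠ ((1 : Fin 6), false, false) ∧ u.2.1 ≠ u.1.1)).card = 38 := by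
  decide +kernel

theorem pt_ext {x y : Pt} (h : x.1 = y.1) (h0 : bitP x 0 % 2 = bitP y 0 % 2)
    (h1 : bitP x 1 % 2 = bitP y 1 % 2) : x = y := by
  obtain ⟨i, a, b⟩ := x
  obtain ⟨j, c, d⟩ := y
  simp only at h
  subst h
  cases a <;> cases b <;> cases c <;> cases d <;> simp_all [bitP]

variable {G : Type*} [Group G] {z : G} {Q : Subgroup (Subgroup.centralizer ({z} : Set G))} [Q.Normal]

set_option quotPrecheck false in
local notation "Γ" => ↥(Subgroup.centralizer ({z} : Set G))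

namespace GoodCoord

variable (K : GoodCoord z Q)

/-- The involutions of `A` outside the class of `z`. -/
def tA : Set G := {x | x ∈ K.aG ∧ x ≠ 1 ∧ ¬ IsConj z x}

variable [Finite G] (hF : IsOfLargeFischerTypeAt z Q)
include K hF

theorem mem_tA_iff {t : Γ} : (t : G) ∈ K.tA ↔ t ∈ K.tS :=
  ⟨fun h => ⟨(K.mem_aG_iff t).1 h.1, fun e => h.2.1 (congrArg Subtype.val e), h.2.2⟩,
    fun h => ⟨(K.mem_aG_iff t).2 h.1, fun e => h.2.1 (Subtype.ext e), h.2.2⟩⟩

theorem dd_sq {x y : Pt} (h : x ≠ y) : K.dd x y * K.dd x y = 1 := K.sq_aT hF (K.dd_mem hF h).1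

theorem dd_comm {x y u v : Pt} (h : x ≠ y) (h' : u ≠ v) : K.dd x y * K.dd u v = K.dd u v * K.dd x y :=
  K.comm_aT hF (K.dd_mem hF h).1 (K.dd_mem hF h').1

theorem act_dd {x y : Pt} (h : x.1 ≠ y.1) : K.act (K.dd x y) = pP x.1 y.1 := (K.dd_spec hF h).2.1

theorem tri_same {x y w : Pt} (hxy : x ≠ y) (hyw : y ≠ w) (hxw : x ≠ w) (h : x.1 = y.1) (h' : y.1 = w.1) :
    K.dd x y * K.dd y w = K.dd x w := by
  obtain ⟨i, a, b⟩ := x
  obtain ⟨j, c, d⟩ := y
  obtain ⟨l, e, f⟩ := w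
  simp only at h h'
  subst h h'
  obtain ⟨t1, t2, t3, t4⟩ := tri_bits (a, b) (c, d) (e, f) (fun q => hxy (by rw [q])) (fun q => hyw (by rw [q]))
    (fun q => hxw (by rw [q]))
  rw [K.dd_same hF (x := (i, a, b)) (y := (i, c, d)) rfl, K.dd_same hF (x := (i, c, d)) (y := (i, e, f)) rfl,
    K.dd_same hF (x := (i, a, b)) (y := (i, e, f)) rfl]
  exact (K.star_mul hF (x := (i, a, b)) (y := (i, c, d)) rfl t1 t2 t3).trans
    (congrArg _ (K.sg_congr hF t4))

theorem tri_two {x y w : Pt} (hxy : x ≠ y) (h : x.1 = y.1) (hw : x.1 ≠ w.1) :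
    K.dd x w * K.dd y w = K.dd x y := by
  obtain ⟨ha, hp, hax, haw⟩ := K.dd_spec hF hw
  obtain ⟨q, hq, hb, hb'⟩ := K.exists_pre hF hw hp (comK x y)
  obtain ⟨hk1, hk2⟩ := comK_pt hxy h
  have hbit : ∀ k, bitP (K.sh q x) k % 2 = bitP y k % 2 := fun k => by
    rw [K.bitP_sh, bN_comm, hb k]
    by_cases hk : k = comK x y
    · subst hk
      rw [if_pos rfl, Nat.add_zero]
      exact hk1
    · have : bitP x k % 2 ≠ bitP y k % 2 := fun e => hk (hk2 k e)
      rw [if_neg hk]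
      omega
  have hbw : ∀ k, bitP (K.sh q w) k % 2 = bitP w k % 2 := fun k => by
    rw [K.bitP_sh, bN_comm, hb' k, Nat.add_zero]
  have hc := K.conj_dd hF q (x := x) (y := w) (fun e => hw (congrArg Prod.fst e))
  rw [pt_ext (x := K.sh q x) (y := y) h (hbit 0) (hbit 1), pt_ext (x := K.sh q w) (y := w) rfl (hbw 0) (hbw 1),
    K.conj_eq hF ha.1] at hc
  rw [← hc, hax _ q hq, K.dd_same hF h, ← mul_assoc,
    K.comm_aT hF ha.1 (K.star_mem hF _ _).1, mul_assoc, K.sq_aT hF ha.1, mul_one]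

/-- The triangle identity, allowed when two tetrads occur. -/
theorem tri_pair {x y w : Pt} (hxy : x ≠ y) (hyw : y ≠ w) (hxw : x ≠ w)
    (h : x.1 = y.1 ∨ y.1 = w.1 ∨ x.1 = w.1) : K.dd x y * K.dd y w = K.dd x w := by
  by_cases h1 : x.1 = y.1
  · by_cases h2 : y.1 = w.1
    · exact K.tri_same hF hxy hyw hxw h1 h2
    · have e := K.tri_two hF hxy h1 (w := w) (by rw [h1]; exact h2)
      rw [← e, mul_assoc, K.dd_sq hF hyw, mul_one]
  · by_cases h2 : y.1 = w.1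
    · have e := K.tri_two hF hyw h2 (w := x) (by intro q; exact h1 q.symm)
      rw [K.dd_symm hF hxy, K.dd_symm hF hxw] at e
      rw [← e, ← mul_assoc, K.dd_sq hF hxy, one_mul]
    · have h3 : x.1 = w.1 := (h.resolve_left h1).resolve_left h2
      have e := K.tri_two hF hxw h3 (w := y) h1
      rwa [K.dd_symm hF hyw] at e

omit hF in
theorem exists_sh {x y w x' y' w' : Pt} (hxy : x.1 ≠ y.1) (hyw : y.1 ≠ w.1) (hxw : x.1 ≠ w.1)
    (hx : x'.1 = x.1) (hy : y'.1 = y.1) (hw : w'.1 = w.1) :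
    ∃ r : ↥Q, K.sh r x = x' ∧ K.sh r y = y' ∧ K.sh r w = w' := by
  obtain ⟨i, a0, a1⟩ := x
  obtain ⟨j, b0, b1⟩ := y
  obtain ⟨k, c0, c1⟩ := w
  obtain ⟨i', A0, A1⟩ := x'
  obtain ⟨j', B0, B1⟩ := y'
  obtain ⟨k', C0, C1⟩ := w'
  simp only at hx hy hw hxy hyw hxw
  subst hx hy hw
  have l1 := Bool.toNat_le (xor a0 A0); have l2 := Bool.toNat_le (xor a1 A1)
  have l3 := Bool.toNat_le (xor b0 B0); have l4 := Bool.toNat_le (xor b1 B1)
  have l5 := Bool.toNat_le (xor c0 C0); have l6 := Bool.toNat_le (xor c1 C1)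
  obtain ⟨v, hv⟩ := mx_dual hxy hyw hxw (n := (xor a0 A0).toNat + 2 * (xor a1 A1).toNat +
    4 * (xor b0 B0).toNat + 8 * (xor b1 B1).toNat + 16 * (xor c0 C0).toNat + 32 * (xor c1 C1).toNat) (by omega)
  obtain ⟨r, rfl⟩ := K.co_surjective v
  have := bN_lt (cN3 i' 0) (K.co r).1
  have := bN_lt (cN3 i' 1) (K.co r).1
  have := bN_lt (cN3 j' 0) (K.co r).1
  have := bN_lt (cN3 j' 1) (K.co r).1
  have := bN_lt (cN3 k' 0) (K.co r).1
  have := bN_lt (cN3 k' 1) (K.co r).1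
  unfold funcTriple at hv
  have e0 : bN (cN3 i' 0) (K.co r).1 = (xor a0 A0).toNat := by omega
  have e1 : bN (cN3 i' 1) (K.co r).1 = (xor a1 A1).toNat := by omega
  have e2 : bN (cN3 j' 0) (K.co r).1 = (xor b0 B0).toNat := by omega
  have e3 : bN (cN3 j' 1) (K.co r).1 = (xor b1 B1).toNat := by omega
  have e4 : bN (cN3 k' 0) (K.co r).1 = (xor c0 C0).toNat := by omega
  have e5 : bN (cN3 k' 1) (K.co r).1 = (xor c1 C1).toNat := by omega
  have key : ∀ p q : Bool, xor p (decide ((xor p q).toNat = 1)) = q := by decide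
  exact ⟨r, by simp only [sh, bN_comm (K.co r).1, cC_val, e0, e1, key],
    by simp only [sh, bN_comm (K.co r).1, cC_val, e2, e3, key],
    by simp only [sh, bN_comm (K.co r).1, cC_val, e4, e5, key]⟩

/-- With three tetrads the product is `dd x w` up to `z`. -/
theorem tri_weak {x y w : Pt} (hxy : x.1 ≠ y.1) (hyw : y.1 ≠ w.1) (hxw : x.1 ≠ w.1) :
    K.dd x y * K.dd y w = K.dd x w ∨ K.dd x y * K.dd y w = K.dd x w * zIn z := by
  obtain ⟨ha, hap, hax, hay⟩ := K.dd_spec hF hxy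
  obtain ⟨hb, hbp, hby, hbw⟩ := K.dd_spec hF hyw
  set a := K.dd x y
  set b := K.dd y w
  have huA : a * b ∈ K.aT := K.aT.mul_mem ha.1 hb.1
  have hup : K.act (a * b) = pP x.1 w.1 := by rw [map_mul, hap, hbp, pP_mul hxy hyw hxw]
  have hcode : ∀ q : ↥Q, K.co (K.cm (a * b) q) = xo (K.co (K.cm a q)) (K.co (K.cm b q)) := fun q => by
    rw [← K.co_mul]
    exact congrArg K.co (Subtype.ext (K.cm_mul hF ha.1 hb.1 q))
  have hfix : ∀ q : ↥Q, pP x.1 w.1 (K.co q) = K.co q → ((K.cm (a * b) q : ↥Q) : Γ) = 1 := by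
    intro q hq
    have h0 : K.co (K.cm (a * b) q) = 0 := by rw [K.co_cm, hup, hq, xo_self]
    rw [hcode] at h0
    have heq := xor_zero_right _ _ h0
    have m1 := K.img_sub hF hxy hap q
    have m2 := K.img_sub hF hyw hbp q
    rw [← heq] at m2
    have hs := List.all_eq_true.1 (mx_meet x.1 y.1 w.1 hxy hyw hxw) _ m1
    rw [List.contains_iff_mem.2 m2, Bool.not_true, Bool.false_or, List.contains_iff_mem] at hs
    rw [K.cm_mul hF ha.1 hb.1]
    simp only [spanTwo, List.mem_cons, List.not_mem_nil, or_false] at hs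
    have one : ∀ {i j : Fin 6} (_ : i ≠ j) {t : Γ} (_ : t ∈ K.tS) (_ : K.act t = pP i j),
        K.co (K.cm t q) = 0 → ((K.cm t q : ↥Q) : Γ) = 1 := fun {i j} hij {t} ht hp h => by
      rw [K.co_cm] at h
      exact (K.coset_facts hF hij ht hp).1 q (xor_zero_right _ _ h)
    have two : ∀ l, K.co (K.cm a q) = cC y.1 l → ((K.cm a q : ↥Q) : Γ) * ((K.cm b q : ↥Q) : Γ) = 1 := fun l e => by
      rw [hay l q e, hby l q (heq ▸ e)]
      exact K.sq_aT hF (K.star_mem hF y l).1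
    rcases hs with e | e | e | e
    · have e' : K.co (K.cm a q) = 0 := Fin.ext e
      rw [one hxy ha hap e', one hyw hb hbp (heq ▸ e'), one_mul]
    · exact two 0 (Fin.ext (e.trans (cC_val _ _).symm))
    · exact two 1 (Fin.ext (e.trans (cC_val _ _).symm))
    · exact two 2 (Fin.ext (e.trans ((mx_cN.1 _).trans (cC_val _ _).symm)))
  obtain ⟨s, hs, hsp, hus⟩ := K.exists_tS_of_fix hF hxw huA hup hfix
  have hz : ∀ q : ↥Q, ((K.cm (a * b) q : ↥Q) : Γ) = ((K.cm s q : ↥Q) : Γ) := by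
    intro q
    rcases hus with e | e <;> rw [e]
    have hzA : (zIn z : Γ) ∈ K.aT := by
      have := K.sg_mem_aT hF 1
      rwa [sg_one] at this
    have hzQ : zIn z ∈ Q := K.zIn_mem hF.1.2.2.2.1
    have h0 : K.co ⟨zIn z, hzQ⟩ = 0 := (K.co_eq_zero _).2 (Or.inr rfl)
    have := K.cm_Q hF ⟨zIn z, hzQ⟩ q
    rw [h0, bN_comm, bN_zero_right, sg_zero] at this
    rw [K.cm_mul hF hs.1 hzA, this, mul_one]
  have attx : ∀ {i k : Fin 6} (c : Γ) (d : Γ), i ≠ y.1 → y.1 ≠ k → i ≠ k → ∀ p : Pt, p.1 = i → c ∈ K.tS →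
      d ∈ K.tS → K.act c = pP i y.1 → K.act d = pP y.1 k → c * d = a * b → K.act s = pP i k →
      K.Att c p → K.Att s p := by
    intro i k c d hiy hyk hik p hpi hc hd hcp hdp hcd hsk hatt
    subst hpi
    refine K.att_of_witness hF hik hs hsk p fun l => ?_
    obtain ⟨h1, h2, -, h4⟩ := mx_common p.1 y.1 k hiy hyk hik l
    obtain ⟨q, hq⟩ := K.co_surjective ⟨_, h1⟩
    have hc1 : K.co (K.cm c q) = cC p.1 l := Fin.ext (by
      rw [K.co_cm, hcp, xo_val, pP_permOf p.1 y.1, hq, cC_val]; exact h2)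
    have hd1 : ((K.cm d q : ↥Q) : Γ) = 1 := (K.coset_facts hF hyk hd hdp).1 q (by
      rw [hdp, hq]; exact Fin.ext ((pP_permOf y.1 k _).trans h4))
    have hval : ((K.cm s q : ↥Q) : Γ) = K.star p l := by
      rw [← hz q, ← hcd, K.cm_mul hF hc.1 hd.1, hd1, mul_one, hatt l q hc1]
    refine ⟨q, ?_, hval⟩
    rw [show K.cm s q = ⟨K.star p l, K.star_mem_Q hF p l⟩ from Subtype.ext hval, K.co_star hF]
  have e : K.dd x w = s := K.dd_eq hF hxw hs hsp (attx a b hxy hyw hxw x rfl ha hb hap hbp rfl hsp hax)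
    (attx b a hyw.symm hxy.symm hxw.symm w rfl hb ha (hbp.trans (pP_symm _ _)) (hap.trans (pP_symm _ _))
      (K.comm_aT hF hb.1 ha.1) (hsp.trans (pP_symm _ _)) hbw)
  rw [e]
  exact hus

/-- The exact identity for three given tetrads. -/
def okT (K : GoodCoord z Q) (p : Fin 6 × Fin 6 × Fin 6) : Prop :=
  p.1 ≠ p.2.1 → p.2.1 ≠ p.2.2 → p.1 ≠ p.2.2 → ∀ x y w : Pt, x.1 = p.1 → y.1 = p.2.1 → w.1 = p.2.2 →
    K.dd x y * K.dd y w = K.dd x w

theorem okT_of_one {x y w : Pt} (hxy : x.1 ≠ y.1) (hyw : y.1 ≠ w.1) (hxw : x.1 ≠ w.1)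
    (h : K.dd x y * K.dd y w = K.dd x w) : K.okT (x.1, y.1, w.1) := by
  intro _ _ _ x' y' w' hx hy hw
  obtain ⟨r, ex, ey, ew⟩ := K.exists_sh (x := x) (y := y) (w := w) hxy hyw hxw hx hy hw
  have hne : ∀ {u v : Pt}, u.1 ≠ v.1 → u ≠ v := fun h e => h (congrArg Prod.fst e)
  have c1 := K.conj_dd hF r (hne hxy)
  have c2 := K.conj_dd hF r (hne hyw)
  have c3 := K.conj_dd hF r (hne hxw)
  rw [ex, ey] at c1
  rw [ey, ew] at c2
  rw [ex, ew] at c3
  rw [← c1, ← c2, ← c3, ← h]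
  group

theorem okT_step (t : Fin 2) {p : Fin 6 × Fin 6 × Fin 6} (hp : K.okT p) : K.okT (mxP3 t p) := by
  obtain ⟨i, j, k⟩ := p
  intro d1 d2 d3
  have hij : i ≠ j := fun e => d1 (congrArg (mxP t) e)
  have hjk : j ≠ k := fun e => d2 (congrArg (mxP t) e)
  have hik : i ≠ k := fun e => d3 (congrArg (mxP t) e)
  obtain ⟨h, hh⟩ := K.exists_act (syU_mem K.good t)
  have hnorm : (h : G) ∈ Subgroup.normalizer (K.aG : Set G) := by
    refine (K.conj_aG_iff hF h).2 fun v => ?_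
    rw [hh]
    refine ⟨fun hv => ?_, fun hv => (syU_syV t hv).1⟩
    have := (syU_syV t hv).2
    rwa [perm_inv_apply] at this
  have himg : ∀ {x y : Pt}, x.1 ≠ y.1 → ∃ X Y : Pt, X.1 = mxP t x.1 ∧ Y.1 = mxP t y.1 ∧
      h * K.dd x y * h⁻¹ = K.dd X Y := by
    intro x y hxy
    obtain ⟨ha, hap, -, -⟩ := K.dd_spec hF hxy
    obtain ⟨hne, hnext⟩ := mx_perm t x.1 y.1 hxy
    have hs := K.conj_tS hnorm ha
    have hsp : K.act (h * K.dd x y * h⁻¹) = pP (mxP t x.1) (mxP t y.1) := by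
      rw [map_mul, map_mul, map_inv, hh, hap, pP, (syU_conj t (mx_prN.1 x.1 y.1).1).2, hnext, pP]
    obtain ⟨X, hX, aX⟩ := K.exists_att hF hne hs hsp
    obtain ⟨Y, hY, aY⟩ := K.exists_att hF hne.symm hs (hsp.trans (pP_symm _ _))
    exact ⟨X, Y, hX, hY, (K.dd_eq hF (hX ▸ hY ▸ hne) hs (hX ▸ hY ▸ hsp) aX aY).symm⟩
  obtain ⟨X, Y, hX, hY, e1⟩ := himg (x := (i, false, false)) (y := (j, false, false)) hij
  obtain ⟨Y', W, hY', hW, e2⟩ := himg (x := (j, false, false)) (y := (k, false, false)) hjk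
  simp only at hX hY hY' hW
  simp only [mxP3] at d1 d2 d3
  have hXY : X.1 ≠ Y.1 := hX ▸ hY ▸ d1
  have hYW : Y.1 ≠ W.1 := hY ▸ hW ▸ d2
  have hY'W : Y'.1 ≠ W.1 := hY' ▸ hW ▸ d2
  have hXW : X.1 ≠ W.1 := hX ▸ hW ▸ d3
  have hprod : K.dd X Y * K.dd Y' W ∈ K.tS := by
    rw [← e1, ← e2, show h * K.dd (i, false, false) (j, false, false) * h⁻¹ *
      (h * K.dd (j, false, false) (k, false, false) * h⁻¹) =
      h * (K.dd (i, false, false) (j, false, false) * K.dd (j, false, false) (k, false, false)) * h⁻¹ by group,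
      hp hij hjk hik (i, false, false) (j, false, false) (k, false, false) rfl rfl rfl]
    exact K.conj_tS hnorm (K.dd_mem hF fun e => hik (congrArg Prod.fst e))
  have hYY : Y = Y' := by
    by_contra hne
    have h2 := K.tri_two hF hne (hY.trans hY'.symm) hYW
    have hne' : Y'.1 ≠ W.1 := hY'W
    have e : K.dd X Y * K.dd Y' W = (K.dd X Y * K.dd Y W) * K.dd Y Y' := by
      rw [← h2, mul_assoc (K.dd X Y), ← mul_assoc (K.dd Y W) (K.dd Y W),
        K.dd_sq hF (fun q => hYW (congrArg Prod.fst q)), one_mul]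
    obtain ⟨e', he'⟩ : ∃ e : ℕ, K.dd X Y * K.dd Y W = K.dd X W * sg e := by
      rcases K.tri_weak hF hXY hYW hXW with q | q
      · exact ⟨0, by rw [q, sg_zero, mul_one]⟩
      · exact ⟨1, by rw [q, sg_one]⟩
    rw [e, he', K.dd_same hF (hY.trans hY'.symm)] at hprod
    set c := comK Y Y'
    have hpr : K.act (K.dd X W * sg e' * K.star Y c) = pP X.1 W.1 := by
      rw [map_mul, map_mul, K.act_dd hF hXW, K.act_sg hF, K.act_star hF, mul_one, mul_one]
    obtain ⟨f₁, f₂, p1, p2, hperp⟩ := exists_fixed_pair (hij := hXW)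
    have hb : ∀ f : Cd, pP X.1 W.1 f = f → bN (cC Y.1 c).1 f.1 = 0 := by
      intro f hf
      obtain ⟨q, rfl⟩ := K.co_surjective f
      have h1 := (K.coset_facts hF hXW hprod hpr).1 q (by rw [hpr]; exact hf)
      have h2 := (K.coset_facts hF hXW (K.dd_spec hF hXW).1 (K.act_dd hF hXW)).1 q
        (by rw [K.act_dd hF hXW]; exact hf)
      have hsA : (sg e' : Γ) ∈ K.aT := K.sg_mem_aT hF e'
      have hzQ : (sg e' : Γ) ∈ Q := Q.pow_mem (K.zIn_mem hF.1.2.2.2.1) _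
      have h3 : ((K.cm (sg e') q : ↥Q) : Γ) = 1 := by
        have hh := K.cm_Q hF ⟨sg e', hzQ⟩ q
        have h0 : K.co ⟨sg e', hzQ⟩ = 0 := by
          rw [← K.co_one, K.co_eq_iff]
          rcases Nat.mod_two_eq_zero_or_one e' with he | he
          · left; show (sg e' : Γ) = 1; rw [K.sg_mod hF, he, sg_zero]
          · right; show (sg e' : Γ) = 1 * zIn z; rw [K.sg_mod hF, he, sg_one, one_mul]
        rw [h0, bN_comm, bN_zero_right, sg_zero] at hh
        exact hh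
      rw [K.cm_mul hF (K.aT.mul_mem (K.dd_spec hF hXW).1.1 hsA) (K.star_mem hF Y c).1,
        K.cm_mul hF (K.dd_spec hF hXW).1.1 hsA, h2, h3, one_mul, one_mul] at h1
      have h4 := K.cm_Q hF ⟨K.star Y c, K.star_mem_Q hF Y c⟩ q
      rw [h1, K.co_star hF] at h4
      have := (K.sg_eq_one hF).1 h4.symm
      have := bN_lt (cC Y.1 c).1 (K.co q).1
      omega
    have hmem := hperp _ (cC_syV Y.1 c) (hb _ p1) (hb _ p2)
    rw [cC_val] at hmem
    rcases mx_in_img Y.1 X.1 W.1 hXW c (List.contains_iff_mem.2 hmem) with q | q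
    · exact hXY q.symm
    · exact hYW q
  subst hYY
  have hok : K.dd X Y * K.dd Y W = K.dd X W := by
    rcases K.tri_weak hF hXY hYW hXW with q | q
    · exact q
    · rw [q] at hprod
      exact absurd hprod (K.sg_not_tS hF hXW (K.dd_spec hF hXW).1 (K.act_dd hF hXW))
  have := K.okT_of_one hF hXY hYW hXW hok
  rw [hX, hY, hW] at this
  exact this d1 d2 d3

omit hF in
theorem conj_tA {m : G} (hm : m ∈ Subgroup.normalizer (K.aG : Set G)) {x : G} (hx : x ∈ K.tA) :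
    m * x * m⁻¹ ∈ K.tA :=
  ⟨(mem_normalizer_iff.1 hm x).1 hx.1, fun e => hx.2.1 (conj_eq_one_iff.1 e),
    fun e => hx.2.2 (e.trans (IsConj.symm (isConj_iff.2 ⟨m, rfl⟩)))⟩

omit hF in
theorem count_conj {m : G} (hm : m ∈ Subgroup.normalizer (K.aG : Set G)) (s : G) :
    {t | t ∈ K.tA ∧ t * (m * s * m⁻¹) ∈ K.tA}.ncard = {t | t ∈ K.tA ∧ t * s ∈ K.tA}.ncard := by
  have hm' : m⁻¹ ∈ Subgroup.normalizer (K.aG : Set G) := Subgroup.inv_mem _ hm
  rw [← Set.ncard_image_of_injective {t | t ∈ K.tA ∧ t * s ∈ K.tA} (MulAut.conj m).injective]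
  congr 1
  ext u
  constructor
  · rintro ⟨hu, hus⟩
    refine ⟨m⁻¹ * u * m⁻¹⁻¹, ⟨K.conj_tA hm' hu, ?_⟩, ?_⟩
    · convert K.conj_tA hm' hus using 1; group
    · show m * (m⁻¹ * u * m⁻¹⁻¹) * m⁻¹ = u
      group
  · rintro ⟨t, ⟨ht, hts⟩, rfl⟩
    refine ⟨K.conj_tA hm ht, ?_⟩
    show m * t * m⁻¹ * (m * s * m⁻¹) ∈ K.tA
    rw [show m * t * m⁻¹ * (m * s * m⁻¹) = m * (t * s) * m⁻¹ by group]
    exact K.conj_tA hm hts

theorem star_mul_z (x : Pt) (k : Fin 3) : K.star x k * zIn z ∈ K.tS := by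
  have hQ : K.star x k * zIn z ∈ Q := Q.mul_mem (K.star_mem_Q hF x k) (K.zIn_mem hF.1.2.2.2.1)
  refine (K.tS_inQ hF (a := ⟨_, hQ⟩)).2 ?_
  rw [(K.co_eq_iff ⟨_, hQ⟩ ⟨K.star x k, K.star_mem_Q hF x k⟩).2 (Or.inr rfl), K.co_star hF]
  exact cC_small _ _

theorem exists_star {t : Γ} (ht : t ∈ K.tS) (h1 : K.act t = 1) :
    ∃ (i : Fin 6) (k : Fin 3) (e : Fin 2), t = (K.lft i k : Γ) * sg e.1 := by
  obtain ⟨x, y, -, rfl⟩ := K.dd_surj hF ht
  by_cases h : x.1 = y.1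
  · refine ⟨x.1, comK x y, ⟨bitP x (comK x y) % 2, Nat.mod_lt _ (by norm_num)⟩, ?_⟩
    rw [K.dd_same hF h, star, K.sg_congr hF (b := bitP x (comK x y) % 2) (Nat.mod_mod _ _).symm]
  · exact absurd ((K.act_dd hF h).symm.trans h1) (aP_ne_one (mx_prN.1 _ _).1)

/-- Some triple of tetrads has the exact identity. -/
theorem exists_okT : ∃ p : Fin 6 × Fin 6 × Fin 6, p.1 ≠ p.2.1 ∧ p.2.1 ≠ p.2.2 ∧ p.1 ≠ p.2.2 ∧ K.okT p := by
  classical
  by_contra hno
  have hbad : ∀ {x y w : Pt}, x.1 ≠ y.1 → y.1 ≠ w.1 → x.1 ≠ w.1 →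
      K.dd x y * K.dd y w = K.dd x w * zIn z := fun {x y w} h h' h'' =>
    (K.tri_weak hF h h' h'').resolve_left fun e => hno ⟨_, h, h', h'', K.okT_of_one hF h h' h'' e⟩
  set x0 : Pt := (0, false, false) with hx0
  set w0 : Pt := (1, false, false) with hw0
  have h01 : x0.1 ≠ w0.1 := by decide
  have hne01 : x0 ≠ w0 := by decide
  obtain ⟨hd, hdp, -, -⟩ := K.dd_spec hF h01
  have hzA : (zIn z : Γ) ∈ K.aT := by
    have := K.sg_mem_aT hF 1
    rwa [sg_one] at this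
  set s : Γ := K.dd x0 w0 * zIn z with hs
  have hsconj : IsConj z (s : G) := by
    by_contra hc
    refine K.sg_not_tS hF h01 hd hdp ⟨K.aT.mul_mem hd.1 hzA, fun e => ?_, hc⟩
    have := congrArg K.act e
    rw [map_mul, map_one, hdp, (K.mem_Q_iff (zIn z)).1 (K.zIn_mem hF.1.2.2.2.1), mul_one] at this
    exact aP_ne_one (mx_prN.1 _ _).1 this
  obtain ⟨-, hel, hA, hzG, -⟩ := K.core_facts hF
  obtain ⟨c, hc⟩ := isConj_iff.1 hsconj
  obtain ⟨m, hm, hme⟩ := K.control_fusion hF hel hA hzG (g := c)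
    (by rw [hc]; exact (K.mem_aG_iff s).2 (K.aT.mul_mem hd.1 hzA))
  -- at most 36 at `z`
  have hub : {t | t ∈ K.tA ∧ t * z ∈ K.tA}.ncard ≤ 36 := by
    refine le_trans (Set.ncard_le_ncard (t := Set.range fun u : Fin 6 × Fin 3 × Fin 2 =>
      (((K.lft u.1 u.2.1 : Γ) * sg u.2.2.1 : Γ) : G)) ?_ (Set.toFinite _)) ?_
    · rintro t ⟨ht, htz⟩
      obtain ⟨a, ha, rfl⟩ := ht.1
      have haS : a ∈ K.tS := (K.mem_tA_iff hF).1 ht
      have hazS : a * zIn z ∈ K.tS := (K.mem_tA_iff hF).1 htz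
      rcases K.cases_aT hF ha with ⟨-, h1⟩ | ⟨i, j, hij, hp⟩
      · obtain ⟨i, k, e, he⟩ := K.exists_star hF haS h1
        exact ⟨(i, k, e), congrArg Subtype.val he.symm⟩
      · exact absurd hazS (K.sg_not_tS hF hij haS hp)
    · rw [← Set.image_univ]
      refine (Set.ncard_image_le (Set.toFinite _)).trans ?_
      rw [Set.ncard_univ, Nat.card_eq_fintype_card]; decide
  -- at least 38 at `s`
  set F := (({x0, w0} : Finset Pt) ×ˢ (Finset.univ : Finset Pt)).filter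
    (fun u => u.2 ≠ x0 ∧ u.2 ≠ w0 ∧ u.2.1 ≠ u.1.1) with hFdef
  have hF38 : F.card = 38 := spare_count
  have hp01 : ∀ u ∈ F, (u.1 = x0 ∨ u.1 = w0) ∧ u.2 ≠ x0 ∧ u.2 ≠ w0 ∧ u.2.1 ≠ u.1.1 := fun u hu => by
    simp only [hFdef, Finset.mem_filter, Finset.mem_product, Finset.mem_insert, Finset.mem_singleton] at hu
    exact ⟨hu.1.1, hu.2⟩
  have hne : ∀ u ∈ F, u.1 ≠ u.2 := fun u hu e => (hp01 u hu).2.2.2 (congrArg Prod.fst e).symm
  have hlb : ∀ u ∈ F, K.dd u.1 u.2 * s ∈ K.tS := by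
    intro u hu
    obtain ⟨hu1, hy0, hy1, hyp⟩ := hp01 u hu
    obtain ⟨p', hpp', hp'⟩ : ∃ p', K.dd x0 w0 = K.dd u.1 p' ∧ ((u.1 = x0 ∧ p' = w0) ∨ (u.1 = w0 ∧ p' = x0)) := by
      rcases hu1 with e | e
      · exact ⟨w0, by rw [e], Or.inl ⟨e, rfl⟩⟩
      · exact ⟨x0, by rw [e]; exact (K.dd_symm hF hne01).symm, Or.inr ⟨e, rfl⟩⟩
    have hup : u.1.1 ≠ p'.1 := by
      rcases hp' with ⟨e, e'⟩ | ⟨e, e'⟩ <;> rw [e, e']
      exacts [h01, h01.symm]
    have hyp' : u.2 ≠ p' := by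
      rcases hp' with ⟨-, e'⟩ | ⟨-, e'⟩ <;> rw [e']
      exacts [hy1, hy0]
    rw [hs, hpp', ← mul_assoc, ← K.dd_symm hF (hne u hu)]
    have hne2 : u.2 ≠ u.1 := (hne u hu).symm
    by_cases h : u.2.1 = p'.1
    · rw [K.tri_pair hF hne2 (fun e => hup (congrArg Prod.fst e)) hyp' (Or.inr (Or.inr h)),
        K.dd_same hF h]
      exact K.star_mul_z hF _ _
    · rw [hbad hyp hup h, mul_assoc, show zIn z * zIn z = (1 : Γ) from K.z_sq hF, mul_one]
      exact K.dd_mem hF hyp'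
  have hge : 38 ≤ {t | t ∈ K.tA ∧ t * (s : G) ∈ K.tA}.ncard := by
    rw [← hF38, ← Set.ncard_coe_finset]
    refine Set.ncard_le_ncard_of_injOn (fun u => ((K.dd u.1 u.2 : Γ) : G))
      (fun u hu => ⟨(K.mem_tA_iff hF).2 (K.dd_mem hF (hne u hu)),
        (K.mem_tA_iff hF (t := K.dd u.1 u.2 * s)).2 (hlb u hu)⟩) (fun u hu v hv e => ?_) (Set.toFinite _)
    rcases K.dd_inj hF (hne u hu) (hne v hv) (Subtype.ext e) with ⟨a, b⟩ | ⟨a, b⟩
    · exact Prod.ext a b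
    · exfalso
      rcases (hp01 v hv).1 with q | q
      · exact (hp01 u hu).2.1 (b.trans q)
      · exact (hp01 u hu).2.2.1 (b.trans q)
  have hcount := K.count_conj hm z
  rw [hme, hc] at hcount
  omega

/-- The triangle identity. -/
theorem tri {x y w : Pt} (hxy : x ≠ y) (hyw : y ≠ w) (hxw : x ≠ w) : K.dd x y * K.dd y w = K.dd x w := by
  by_cases h : x.1 = y.1 ∨ y.1 = w.1 ∨ x.1 = w.1
  · exact K.tri_pair hF hxy hyw hxw h
  push Not at h
  obtain ⟨p, hp1, hp2, hp3, hp⟩ := K.exists_okT hF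
  have hback : ∀ t q, K.okT (mxP3 t q) → K.okT q := fun t q hq => by
    have hit : ∀ n, K.okT ((mxP3 t)^[n] (mxP3 t q)) := fun n => by
      induction n with
      | zero => exact hq
      | succ n ih => rw [Function.iterate_succ_apply']; exact K.okT_step hF t ih
    have := hit 9
    rwa [← Function.iterate_succ_apply, mxP3_period] at this
  have hbase : K.okT (0, 1, 2) := mx_reach (P := fun q => K.okT q → K.okT (0, 1, 2))
    (fun t q hq h' => hq (hback t q h')) (fun h' => h') hp1 hp2 hp3 hp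
  exact mx_reach (P := K.okT) (fun t q hq => K.okT_step hF t hq) hbase h.1 h.2.1 h.2.2 h.1 h.2.1 h.2.2 x y w
    rfl rfl rfl

end GoodCoord

end Cfsg.Agent.LargeFischer
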