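import Cfsg.Agent.Lib.LargeFischer.Code

/-!
# Symmetries of the coded space; monomial maps
-/

set_option autoImplicit false

namespace Cfsg.Agent.LargeFischer

theorem apL_zero : ∀ l : List ℕ, apL l 0 = 0 := by
  intro l
  induction l with
  | nil => rfl
  | cons a l ih => simp [apL, ih]

theorem apL_pow : ∀ (l : List ℕ) (j : ℕ), apL l (2 ^ j) = l.getD j 0 := by
  intro l
  induction l with
  | nil => intro j; simp [apL]
  | cons a l ih =>
    intro j
    cases j with
    | zero => simp [apL, apL_zero]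
    | succ j =>
      have h1 : 2 ^ (j + 1) % 2 = 0 := by rw [pow_succ]; omega
      have h2 : 2 ^ (j + 1) / 2 = 2 ^ j := by rw [pow_succ]; omega
      simp [apL, h1, h2, ih]

theorem apL_lt : ∀ {l : List ℕ}, (∀ a ∈ l, a < 4096) → ∀ v : ℕ, apL l v < 4096 := by
  intro l
  induction l with
  | nil => intro _ v; simp [apL]
  | cons a l ih =>
    intro h v
    refine Nat.xor_lt_two_pow (n := 12) ?_ (ih (fun b hb => h b (List.mem_cons_of_mem _ hb)) _)
    rcases Nat.mod_two_eq_zero_or_one v with e | e <;> simp [e, h a (List.mem_cons_self ..)]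

/-- The additive map with the given images of the bits. -/
def linC (l : List ℕ) (h : ∀ a ∈ l, a < 4096) (v : Cd) : Cd := ⟨apL l v.1, apL_lt h v.1⟩

theorem isAdd_linC (l : List ℕ) (h : ∀ a ∈ l, a < 4096) : IsAdd (linC l h) :=
  isAdd_apL (fun _ => rfl)

theorem IsAdd.comp {p p' : Cd → Cd} (hp : IsAdd p) (hp' : IsAdd p') : IsAdd (p ∘ p') :=
  fun a b => by simp only [Function.comp_apply, hp' a b, hp _ _]

theorem isAdd_id : IsAdd (id : Cd → Cd) := fun _ _ => rfl

/-- A coordinate. -/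
def dig (v i : ℕ) : ℕ := (v >>> (2 * i)) &&& 3

/-- Non-vanishing of a coordinate. -/
def nzD (x : ℕ) : ℕ := if x = 0 then 0 else 1

/-- The polar form on one coordinate. -/
def b2 (x y : ℕ) : ℕ := (nzD (x ^^^ y) + nzD x + nzD y) % 2

/-- Multiplication by the cube root on one coordinate. -/
def wD (x : ℕ) : ℕ := wN x % 4

theorem dig_lt (v i : ℕ) : dig v i < 4 := lt_of_le_of_lt Nat.and_le_right (by norm_num)

theorem dig_xor (a b i : ℕ) : dig (a ^^^ b) i = dig a i ^^^ dig b i := by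
  simp [dig, Nat.shiftRight_xor_distrib, Nat.and_xor_distrib_right]

theorem qN_dig (v : Cd) : qN v.1 = (nzD (dig v.1 0) + nzD (dig v.1 1) + nzD (dig v.1 2) + nzD (dig v.1 3) +
    nzD (dig v.1 4) + nzD (dig v.1 5)) % 2 :=
  of_decide_eq_true (forall_cd (f := fun v => decide (qN v = (nzD (dig v 0) + nzD (dig v 1) + nzD (dig v 2) +
    nzD (dig v 3) + nzD (dig v 4) + nzD (dig v 5)) % 2)) (by decide +kernel) v)

theorem dig_wC (v : Cd) (i : Fin 6) : dig (wC v).1 i = wD (dig v.1 i) := by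
  have h : ∀ i : Fin 6, allB (fun v => decide (dig (wN v) i = wD (dig v i))) 12 0 = true := by decide +kernel
  exact of_decide_eq_true (forall_cd (h i) v)

theorem bN_dig (a b : Cd) : bN a.1 b.1 = (b2 (dig a.1 0) (dig b.1 0) + b2 (dig a.1 1) (dig b.1 1) +
    b2 (dig a.1 2) (dig b.1 2) + b2 (dig a.1 3) (dig b.1 3) + b2 (dig a.1 4) (dig b.1 4) +
    b2 (dig a.1 5) (dig b.1 5)) % 2 := by
  have h := qN_dig (xo a b)
  simp only [xo_val, dig_xor] at h
  simp only [bN, h, qN_dig a, qN_dig b, b2]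
  omega

theorem b2_third : ∀ x y : Fin 4,
    b2 x.1 (wD (wD y.1)) % 2 = (b2 x.1 (wD y.1) + b2 x.1 y.1) % 2 := by decide +kernel

theorem bN_comm (a b : ℕ) : bN a b = bN b a := by
  rw [bN, bN, Nat.xor_comm b a, Nat.add_right_comm]

theorem bN_lt (a b : ℕ) : bN a b < 2 := Nat.mod_lt _ (by norm_num)

theorem bN_third (a b : Cd) : bN a.1 (wC (wC b)).1 = (bN a.1 (wC b).1 + bN a.1 b.1) % 2 := by
  have t : ∀ i : Fin 6, b2 (dig a.1 i) (dig (wC (wC b)).1 i) % 2 =
      (b2 (dig a.1 i) (dig (wC b).1 i) + b2 (dig a.1 i) (dig b.1 i)) % 2 := fun i => by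
    rw [dig_wC, dig_wC]
    exact b2_third ⟨_, dig_lt _ _⟩ ⟨_, dig_lt _ _⟩
  have h0 := t 0; have h1 := t 1; have h2 := t 2; have h3 := t 3; have h4 := t 4; have h5 := t 5
  simp only [Fin.val_zero, Fin.val_one, Fin.val_two, show ((3 : Fin 6) : ℕ) = 3 from rfl,
    show ((4 : Fin 6) : ℕ) = 4 from rfl, show ((5 : Fin 6) : ℕ) = 5 from rfl] at h0 h1 h2 h3 h4 h5
  simp only [bN_dig]
  omega

/-- Orthogonality of codes. -/
def Orth (a b : Cd) : Prop := bN a.1 b.1 = 0 ∧ bN a.1 (wC b).1 = 0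

theorem orth_iff (a b : Cd) : Orth a b ↔ orthN a.1 b.1 = true := by
  simp [Orth, orthN, wC]

instance (a b : Cd) : Decidable (Orth a b) := decidable_of_iff _ (orth_iff a b).symm

theorem orth_w_right (a b : Cd) : Orth a (wC b) ↔ Orth a b := by
  have h := bN_third a b
  have := bN_lt a.1 b.1; have := bN_lt a.1 (wC b).1
  unfold Orth
  omega

/-- Commutation with the cube root. -/
def IsLinC (p : Cd → Cd) : Prop := ∀ v, p (wC v) = wC (p v)

/-- Inversion of the cube root. -/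
def IsAntC (p : Cd → Cd) : Prop := ∀ v, p (wC v) = wC (wC (p v))

/-- Additive, preserving the form, linear or semilinear. -/
structure IsSym (p : Cd → Cd) : Prop where
  add : IsAdd p
  q : ∀ v, qN (p v).1 = qN v.1
  semi : IsLinC p ∨ IsAntC p

theorem IsSym.bN_eq {p : Cd → Cd} (h : IsSym p) (a b : Cd) : bN (p a).1 (p b).1 = bN a.1 b.1 := by
  have e := h.q (xo a b)
  rw [h.add, xo_val, xo_val] at e
  simp only [bN, e, h.q]

theorem IsSym.orth {p : Cd → Cd} (h : IsSym p) {a b : Cd} : Orth (p a) (p b) ↔ Orth a b := by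
  rcases h.semi with hl | ha
  · unfold Orth
    rw [← hl b, h.bN_eq, h.bN_eq]
  · have e : wC (p b) = p (wC (wC b)) := by rw [ha, ha, wC_cube]
    simp only [Orth, e, h.bN_eq, bN_third]
    have := bN_lt a.1 b.1; have := bN_lt a.1 (wC b).1
    omega

theorem IsSym.comp {p p' : Cd → Cd} (h : IsSym p) (h' : IsSym p') : IsSym (p ∘ p') where
  add := h.add.comp h'.add
  q v := (h.q _).trans (h'.q v)
  semi := by
    rcases h.semi with hl | ha <;> rcases h'.semi with hl' | ha'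
    · exact Or.inl fun v => by simp only [Function.comp_apply, hl' v, hl _]
    · exact Or.inr fun v => by simp only [Function.comp_apply, ha' v, hl _]
    · exact Or.inr fun v => by simp only [Function.comp_apply, hl' v, ha _]
    · exact Or.inl fun v => by simp only [Function.comp_apply, ha' v, ha _, wC_cube]

/-- The code of `w ^ k` times the basic vector `i`. -/
def unitN (k : ZMod 3) (i : Fin 6) : ℕ := (k.val + 1) <<< (2 * i.1)

theorem unitN_lt : ∀ (k : ZMod 3) (i : Fin 6), unitN k i < 4096 := by decide +kernel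

/-- The basic vector `i` times `w ^ k`. -/
def unitC (k : ZMod 3) (i : Fin 6) : Cd := ⟨unitN k i, unitN_lt k i⟩

theorem wC_unitC : ∀ (k : ZMod 3) (i : Fin 6), wC (unitC k i) = unitC (k + 1) i := by decide +kernel

theorem unitC_two : ∀ i : Fin 6, unitC 2 i = xo (unitC 0 i) (unitC 1 i) := by decide +kernel

theorem unitC_inj : ∀ (k : ZMod 3) (i : Fin 6) (k' : ZMod 3) (i' : Fin 6),
    unitC k i = unitC k' i' → k = k' ∧ i = i' := by decide +kernel

theorem bit_unit : ∀ j : Fin 12, bit j = unitC (j.1 % 2 : ℕ) ⟨j.1 / 2, by omega⟩ := by decide +kernel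

theorem unitC_bit : ∀ i : Fin 6, unitC 0 i = bit ⟨2 * i.1, by omega⟩ ∧ unitC 1 i = bit ⟨2 * i.1 + 1, by omega⟩ := by
  decide +kernel

/-- Images of the bits under a monomial map. -/
def monoImg (d : Fin 6 → ZMod 3) (σ : Equiv.Perm (Fin 6)) : List ℕ :=
  List.ofFn fun j : Fin 12 => unitN (d ⟨j.1 / 2, by omega⟩ + (j.1 % 2 : ℕ)) (σ ⟨j.1 / 2, by omega⟩)

theorem monoImg_lt (d : Fin 6 → ZMod 3) (σ : Equiv.Perm (Fin 6)) : ∀ a ∈ monoImg d σ, a < 4096 := by
  intro a ha
  obtain ⟨j, rfl⟩ := List.mem_ofFn.1 ha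
  exact unitN_lt _ _

/-- The monomial map. -/
def monoC (d : Fin 6 → ZMod 3) (σ : Equiv.Perm (Fin 6)) : Cd → Cd := linC (monoImg d σ) (monoImg_lt d σ)

theorem isAdd_monoC (d : Fin 6 → ZMod 3) (σ : Equiv.Perm (Fin 6)) : IsAdd (monoC d σ) := isAdd_linC _ _

theorem monoC_bit (d : Fin 6 → ZMod 3) (σ : Equiv.Perm (Fin 6)) (j : Fin 12) :
    monoC d σ (bit j) = unitC (d ⟨j.1 / 2, by omega⟩ + (j.1 % 2 : ℕ)) (σ ⟨j.1 / 2, by omega⟩) := by
  refine Fin.ext ?_
  show apL _ (2 ^ j.1) = _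
  rw [apL_pow, monoImg, List.getD_eq_getElem _ _ (by rw [List.length_ofFn]; exact j.2), List.getElem_ofFn]
  rfl

theorem monoC_unit (d : Fin 6 → ZMod 3) (σ : Equiv.Perm (Fin 6)) (k : ZMod 3) (i : Fin 6) :
    monoC d σ (unitC k i) = unitC (d i + k) (σ i) := by
  have hd : (⟨(2 * i.1) / 2, by omega⟩ : Fin 6) = i := Fin.ext (by simp)
  have hd' : (⟨(2 * i.1 + 1) / 2, by omega⟩ : Fin 6) = i := Fin.ext (by simp; omega)
  have h0 : monoC d σ (unitC 0 i) = unitC (d i + 0) (σ i) := by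
    rw [(unitC_bit i).1, monoC_bit]
    simp [hd]
  have h1 : monoC d σ (unitC 1 i) = unitC (d i + 1) (σ i) := by
    rw [(unitC_bit i).2, monoC_bit]
    simp [hd', Nat.add_mod]
  rcases (by decide : ∀ k : ZMod 3, k = 0 ∨ k = 1 ∨ k = 2) k with rfl | rfl | rfl
  · exact h0
  · exact h1
  · rw [unitC_two, isAdd_monoC, h0, h1]
    have key : ∀ (a : ZMod 3) (m : Fin 6), xo (unitC (a + 0) m) (unitC (a + 1) m) = unitC (a + 2) m := by
      decide +kernel
    exact key _ _

theorem monoC_comp (d d' : Fin 6 → ZMod 3) (σ σ' : Equiv.Perm (Fin 6)) (v : Cd) :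
    monoC d σ (monoC d' σ' v) = monoC (fun i => d' i + d (σ' i)) (σ * σ') v := by
  refine IsAdd.ext ((isAdd_monoC d σ).comp (isAdd_monoC d' σ')) (isAdd_monoC _ _) (fun j => ?_) v
  rw [Function.comp_apply, bit_unit, monoC_unit, monoC_unit, monoC_unit, Equiv.Perm.mul_apply]
  congr 1
  ring

theorem monoC_one (v : Cd) : monoC 0 1 v = v :=
  IsAdd.ext (isAdd_monoC _ _) isAdd_id (fun j => by
    rw [bit_unit, monoC_unit]; simp [id]) v

theorem monoC_inj {d d' : Fin 6 → ZMod 3} {σ σ' : Equiv.Perm (Fin 6)}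
    (h : ∀ v, monoC d σ v = monoC d' σ' v) : d = d' ∧ σ = σ' := by
  have e : ∀ i, d i = d' i ∧ σ i = σ' i := fun i => by
    have := h (unitC 0 i)
    rw [monoC_unit, monoC_unit, add_zero, add_zero] at this
    exact unitC_inj _ _ _ _ this
  exact ⟨funext fun i => (e i).1, Equiv.ext fun i => (e i).2⟩

theorem isLinC_monoC (d : Fin 6 → ZMod 3) (σ : Equiv.Perm (Fin 6)) : IsLinC (monoC d σ) := fun v =>
  IsAdd.ext ((isAdd_monoC d σ).comp isAdd_wC) (isAdd_wC.comp (isAdd_monoC d σ)) (fun j => by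
    rw [Function.comp_apply, Function.comp_apply, bit_unit, wC_unitC, monoC_unit, monoC_unit, wC_unitC,
      add_assoc]) v

/-- A linear map moving the basic vectors to units is monomial. -/
theorem eq_monoC {p : Cd → Cd} (ha : IsAdd p) (hl : IsLinC p) {d : Fin 6 → ZMod 3}
    {σ : Equiv.Perm (Fin 6)} (h : ∀ i, p (unitC 0 i) = unitC (d i) (σ i)) (v : Cd) : p v = monoC d σ v := by
  refine IsAdd.ext ha (isAdd_monoC d σ) (fun j => ?_) v
  rw [bit_unit, monoC_unit]
  have e1 : ∀ i, p (unitC 1 i) = unitC (d i + 1) (σ i) := fun i => by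
    rw [show (1 : ZMod 3) = 0 + 1 by rfl, ← wC_unitC, hl, h, wC_unitC]; rfl
  rcases Nat.mod_two_eq_zero_or_one j.1 with hj | hj <;> simp [hj, h, e1]

end Cfsg.Agent.LargeFischer
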