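import Cfsg.Agent.Lib.LargeFischer.Orbit

/-!
# Linear maps preserving orthogonality and the short isotropic vectors are monomial

`inW k v`: support two, and for `k = 1` inside the last five coordinates.
-/

set_option autoImplicit false

namespace Cfsg.Agent.LargeFischer

/-- Support two, avoiding the first `k` coordinates. -/
def inW (k v : ℕ) : Bool := (pcN (suppN v) == 2) && (suppN v % 4 ^ k == 0)

/-- The fifteen supports of size two. -/
def pairs : List ℕ := [5, 17, 20, 65, 68, 80, 257, 260, 272, 320, 1025, 1028, 1040, 1088, 1280]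

/-- The short isotropic vectors. -/
def wList : List ℕ := 5 :: forTwo.map (· % 4096)

theorem wList_complete (v : Cd) (h : pcN (suppN v.1) = 2) : v.1 ∈ wList ∧ suppN v.1 ∈ pairs := by
  have := forall_cd (f := fun v => !(pcN (suppN v) == 2) || (decide (v ∈ wList) && decide (suppN v ∈ pairs)))
    (by decide +kernel) v
  simpa [h] using this

/-- The facts on two short vectors. -/
def pairOK (x y : ℕ) : Bool :=
  let c := pcN (suppN x &&& suppN y)
  if c == 0 then orthN x y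
  else if c == 1 then !orthN x y
  else !orthN x y || (y == x || y == wN x || y == wN (wN x))

theorem pairOK_all : (wList.all fun x => wList.all fun y => pairOK x y) = true := by decide +kernel

/-- Existence of a separating support. -/
theorem witness_all : ∀ k : Fin 2, (pairs.all fun a => pairs.all fun b =>
    !((pcN (a &&& b) == 1) && (a % 4 ^ k.1 == 0) && (b % 4 ^ k.1 == 0)) ||
      pairs.any fun c => (pcN (a &&& c) == 1) && (pcN (b &&& c) == 0) && (c % 4 ^ k.1 == 0)) = true := by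
  decide +kernel

theorem pairs_spec : ∀ c ∈ pairs, c < 4096 ∧ pcN (suppN c) = 2 ∧ suppN c = c := by decide +kernel

theorem suppN_wC (v : Cd) : suppN (wC v).1 = suppN v.1 :=
  of_decide_eq_true (forall_cd (f := fun v => decide (suppN (wN v) = suppN v)) (by decide +kernel) v)

theorem pair_facts {x y : Cd} (hx : pcN (suppN x.1) = 2) (hy : pcN (suppN y.1) = 2) :
    (pcN (suppN x.1 &&& suppN y.1) = 0 → Orth x y) ∧ (pcN (suppN x.1 &&& suppN y.1) = 1 → ¬ Orth x y) ∧
    (2 ≤ pcN (suppN x.1 &&& suppN y.1) → Orth x y → y = x ∨ y = wC x ∨ y = wC (wC x)) := by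
  have := pairOK_all
  simp only [List.all_eq_true] at this
  have h := this _ (wList_complete x hx).1 _ (wList_complete y hy).1
  simp only [pairOK] at h
  refine ⟨fun e => ?_, fun e => ?_, fun e ho => ?_⟩
  · rw [orth_iff]; simpa [e] using h
  · rw [orth_iff]; simpa [e] using h
  · rw [orth_iff] at ho
    have e0 : pcN (suppN x.1 &&& suppN y.1) ≠ 0 := by omega
    have e1 : pcN (suppN x.1 &&& suppN y.1) ≠ 1 := by omega
    simpa [e0, e1, ho, Fin.ext_iff, wC, or_assoc] using h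

theorem pairs_inter : (pairs.all fun a => pairs.all fun b =>
    (pcN (a &&& b) == 2) == (a == b) && decide (pcN (a &&& b) ≤ 2)) = true := by decide +kernel

theorem inter_facts {x y : Cd} (hx : pcN (suppN x.1) = 2) (hy : pcN (suppN y.1) = 2) :
    (pcN (suppN x.1 &&& suppN y.1) = 2 ↔ suppN x.1 = suppN y.1) ∧ pcN (suppN x.1 &&& suppN y.1) ≤ 2 := by
  have := pairs_inter
  simp only [List.all_eq_true, Bool.and_eq_true, decide_eq_true_eq, beq_iff_eq] at this
  obtain ⟨h1, h2⟩ := this _ (wList_complete x hx).2 _ (wList_complete y hy).2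
  refine ⟨?_, h2⟩
  constructor <;> intro e
  · simpa [e] using h1.symm
  · rw [e] at h1 ⊢; simpa using h1

/-- Multiples of `x`. -/
def Mult (x z : Cd) : Prop := z = x ∨ z = wC x ∨ z = wC (wC x)

/-- Same support and not orthogonal, said by orthogonality only. -/
def Sim (k : ℕ) (x y : Cd) : Prop :=
  ¬ Orth x y ∧ ∀ z : Cd, inW k z.1 = true → ¬ (Orth x z ↔ Orth y z) → Mult x z ∨ Mult y z

theorem inW_iff {k v : ℕ} : inW k v = true ↔ pcN (suppN v) = 2 ∧ suppN v % 4 ^ k = 0 := by simp [inW]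

theorem supp_mult {x z : Cd} (h : Mult x z) : suppN z.1 = suppN x.1 := by
  rcases h with rfl | rfl | rfl
  · rfl
  · exact suppN_wC _
  · rw [suppN_wC, suppN_wC]

theorem sim_of_supp {k : ℕ} {x y : Cd} (hx : inW k x.1 = true) (hy : inW k y.1 = true)
    (hs : suppN x.1 = suppN y.1) (ho : ¬ Orth x y) : Sim k x y := by
  obtain ⟨hx2, -⟩ := inW_iff.1 hx
  obtain ⟨hy2, -⟩ := inW_iff.1 hy
  refine ⟨ho, fun z hz hne => ?_⟩
  obtain ⟨hz2, -⟩ := inW_iff.1 hz
  have fx := pair_facts hx2 hz2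
  have fy := pair_facts hy2 hz2
  obtain ⟨-, hle⟩ := inter_facts hx2 hz2
  rw [← hs] at fy
  rcases Nat.lt_or_ge (pcN (suppN x.1 &&& suppN z.1)) 2 with h | h
  · rcases Nat.lt_or_ge (pcN (suppN x.1 &&& suppN z.1)) 1 with h0 | h0
    · exact absurd (iff_of_true (fx.1 (by omega)) (fy.1 (by omega))) hne
    · exact absurd (iff_of_false (fx.2.1 (by omega)) (fy.2.1 (by omega))) hne
  · by_cases hxz : Orth x z
    · exact Or.inl (fx.2.2 h hxz)
    · exact Or.inr (fy.2.2 h (by by_contra hyz; exact hne (iff_of_false hxz hyz)))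

theorem witness (k : Fin 2) {x y : Cd} (hx : inW k x.1 = true) (hy : inW k y.1 = true)
    (h1 : pcN (suppN x.1 &&& suppN y.1) = 1) :
    ∃ z : Cd, inW k z.1 = true ∧ pcN (suppN x.1 &&& suppN z.1) = 1 ∧ pcN (suppN y.1 &&& suppN z.1) = 0 := by
  obtain ⟨hx2, hxk⟩ := inW_iff.1 hx
  obtain ⟨hy2, hyk⟩ := inW_iff.1 hy
  have key := List.all_eq_true.1 (List.all_eq_true.1 (witness_all k) _ (wList_complete x hx2).2) _
    (wList_complete y hy2).2
  rw [Bool.or_eq_true] at key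
  rcases key with key | key
  · simp [h1, hxk, hyk] at key
  obtain ⟨c, hc, hcp⟩ := List.any_eq_true.1 key
  simp only [Bool.and_eq_true, beq_iff_eq] at hcp
  obtain ⟨hlt, hc2, hcs⟩ := pairs_spec c hc
  exact ⟨⟨c, hlt⟩, inW_iff.2 ⟨hc2, hcs.symm ▸ hcp.2⟩, hcs.symm ▸ hcp.1.1, hcs.symm ▸ hcp.1.2⟩

theorem supp_of_sim {k : Fin 2} {x y : Cd} (hx : inW k x.1 = true) (hy : inW k y.1 = true)
    (h : Sim k x y) : suppN x.1 = suppN y.1 := by
  obtain ⟨hx2, -⟩ := inW_iff.1 hx
  obtain ⟨hy2, -⟩ := inW_iff.1 hy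
  obtain ⟨i1, hle⟩ := inter_facts hx2 hy2
  have f := pair_facts hx2 hy2
  rcases Nat.lt_or_ge (pcN (suppN x.1 &&& suppN y.1)) 1 with h0 | h0
  · exact absurd (f.1 (by omega)) h.1
  rcases Nat.lt_or_ge (pcN (suppN x.1 &&& suppN y.1)) 2 with h1 | h1
  · exfalso
    obtain ⟨z, hzW, hcx, hcy⟩ := witness k hx hy (by omega)
    have hz2 := (inW_iff.1 hzW).1
    have nx : ¬ Orth x z := (pair_facts hx2 hz2).2.1 hcx
    have oy : Orth y z := (pair_facts hy2 hz2).1 hcy
    rcases h.2 z hzW (fun e => nx (e.2 oy)) with hm | hm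
    · rw [supp_mult hm, (inter_facts hx2 hx2).1.2 rfl] at hcx
      omega
    · rw [supp_mult hm, (inter_facts hy2 hy2).1.2 rfl] at hcy
      omega
  · exact i1.1 (by omega)

theorem two_pairs : ∀ a b b' : Fin 6, b ≠ a → b' ≠ a → b ≠ b' →
    pcN ((4 ^ a.1 ||| 4 ^ b.1) &&& (4 ^ a.1 ||| 4 ^ b'.1)) = 1 ∧
      4 ^ a.1 ||| 4 ^ b.1 ≠ 4 ^ a.1 ||| 4 ^ b'.1 := by decide +kernel

theorem unitC_ne_zero : ∀ (c : ZMod 3) (a : Fin 6), unitC c a ≠ 0 := by decide +kernel

variable {p : Equiv.Perm Cd}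

theorem sim_map (hp : IsSym p) (hl : IsLinC p) {k : Fin 2} (hW : ∀ v : Cd, inW k (p v).1 = inW k v.1)
    {x y : Cd} (h : Sim k x y) : Sim k (p x) (p y) := by
  refine ⟨fun e => h.1 (hp.orth.1 e), fun z hz hne => ?_⟩
  obtain ⟨z, rfl⟩ := p.surjective z
  rw [hW] at hz
  rw [hp.orth, hp.orth] at hne
  refine (h.2 z hz hne).imp ?_ ?_ <;> (rintro (rfl | rfl | rfl) <;> simp [Mult, hl _])

theorem suppN_xor (a b : ℕ) : suppN (a ^^^ b) &&& (suppN a ||| suppN b) = suppN (a ^^^ b) := by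
  apply Nat.eq_of_testBit_eq
  intro i
  simp only [suppN, loN, hiN, Nat.testBit_and, Nat.testBit_or, Nat.testBit_xor, Nat.testBit_shiftRight]
  cases a.testBit i <;> cases b.testBit i <;> cases a.testBit (1 + i) <;> cases b.testBit (1 + i) <;>
    cases (1365 : ℕ).testBit i <;> rfl

theorem unit_sum : ∀ a b : Fin 6, a ≠ b →
    xo (wC (xo (unitC 0 a) (unitC 0 b))) (xo (unitC 0 a) (unitC 1 b)) = unitC 2 a ∧
    ¬ Orth (xo (unitC 0 a) (unitC 0 b)) (xo (unitC 0 a) (unitC 1 b)) ∧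
    suppN (xo (unitC 0 a) (unitC 0 b)).1 = 4 ^ a.1 ||| 4 ^ b.1 ∧
    suppN (xo (unitC 0 a) (unitC 1 b)).1 = 4 ^ a.1 ||| 4 ^ b.1 := by decide +kernel

theorem inW_pair : ∀ (k : Fin 2) (a b : Fin 6), a ≠ b → k.1 ≤ a.1 → k.1 ≤ b.1 →
    pcN (4 ^ a.1 ||| 4 ^ b.1) = 2 ∧ (4 ^ a.1 ||| 4 ^ b.1) % 4 ^ k.1 = 0 := by decide +kernel

theorem third_exists : ∀ (k : Fin 2) (a : Fin 6), ∃ b b' : Fin 6,
    b ≠ a ∧ b' ≠ a ∧ b ≠ b' ∧ k.1 ≤ b.1 ∧ k.1 ≤ b'.1 := by decide +kernel

theorem small_supp (v : Cd) (h : pcN (suppN v.1) ≤ 1) (h0 : v ≠ 0) :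
    ∃ (c : ZMod 3) (j : Fin 6), v = unitC c j ∧ suppN v.1 = 4 ^ j.1 := by
  have := forall_cd (f := fun v => decide (pcN (suppN v) ≤ 1 → v ≠ 0 →
      ∃ c : Fin 3, ∃ j : Fin 6, v = unitN (c.1 : ℕ) j ∧ suppN v = 4 ^ j.1)) (by decide +kernel) v
  obtain ⟨c, j, e1, e2⟩ := of_decide_eq_true this h (fun e => h0 (Fin.ext e))
  exact ⟨_, j, Fin.ext e1, e2⟩

theorem sub_inter : (pairs.all fun a => pairs.all fun b => (List.range 64).all fun n =>
    let s := n % 2 + 4 * (n / 2 % 2) + 16 * (n / 4 % 2) + 64 * (n / 8 % 2) + 256 * (n / 16 % 2) +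
      1024 * (n / 32 % 2)
    (a == b) || !(s &&& a == s) || !(s &&& b == s) || decide (pcN s ≤ 1)) = true := by decide +kernel

theorem supp_digits (v : Cd) : ∃ n ∈ List.range 64, suppN v.1 =
    n % 2 + 4 * (n / 2 % 2) + 16 * (n / 4 % 2) + 64 * (n / 8 % 2) + 256 * (n / 16 % 2) +
      1024 * (n / 32 % 2) := by
  have := forall_cd (f := fun v => let t := suppN v
    let n := t % 2 + 2 * (t / 4 % 2) + 4 * (t / 16 % 2) + 8 * (t / 64 % 2) + 16 * (t / 256 % 2) +
      32 * (t / 1024 % 2)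
    decide (n < 64) && decide (t = n % 2 + 4 * (n / 2 % 2) + 16 * (n / 4 % 2) + 64 * (n / 8 % 2) +
      256 * (n / 16 % 2) + 1024 * (n / 32 % 2))) (by decide +kernel) v
  simp only [Bool.and_eq_true, decide_eq_true_eq] at this
  exact ⟨_, List.mem_range.2 this.1, this.2⟩

/-- The image of a basic vector is a unit. -/
theorem image_unit (hp : IsSym p) (hl : IsLinC p) {k : Fin 2} (hW : ∀ v : Cd, inW k (p v).1 = inW k v.1)
    {a : Fin 6} (ha : k.1 ≤ a.1) : ∃ (c : ZMod 3) (j : Fin 6), p (unitC 0 a) = unitC c j ∧ k.1 ≤ j.1 := by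
  obtain ⟨b, b', hb, hb', hbb, hkb, hkb'⟩ := third_exists k a
  have main : ∀ b : Fin 6, b ≠ a → k.1 ≤ b.1 →
      suppN (p (unitC 2 a)).1 &&& suppN (p (xo (unitC 0 a) (unitC 0 b))).1 = suppN (p (unitC 2 a)).1 ∧
        inW k (p (xo (unitC 0 a) (unitC 0 b))).1 = true := by
    intro b hb hkb
    obtain ⟨e1, e2, e3, e4⟩ := unit_sum a b hb.symm
    obtain ⟨p1, p2⟩ := inW_pair k a b hb.symm ha hkb
    have hx : inW k (xo (unitC 0 a) (unitC 0 b)).1 = true := inW_iff.2 (by rw [e3]; exact ⟨p1, p2⟩)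
    have hy : inW k (xo (unitC 0 a) (unitC 1 b)).1 = true := inW_iff.2 (by rw [e4]; exact ⟨p1, p2⟩)
    have hs := supp_of_sim (by rw [hW]; exact hx) (by rw [hW]; exact hy)
      (sim_map hp hl hW (sim_of_supp hx hy (e3.trans e4.symm) e2))
    refine ⟨?_, by rw [hW]; exact hx⟩
    rw [← e1, hp.add, hl, xo_val]
    have := suppN_xor (wC (p (xo (unitC 0 a) (unitC 0 b)))).1 (p (xo (unitC 0 a) (unitC 1 b))).1
    rwa [suppN_wC, ← hs, Nat.or_self] at this
  obtain ⟨m1, w1⟩ := main b hb hkb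
  obtain ⟨m2, w2⟩ := main b' hb' hkb'
  have hne : suppN (p (xo (unitC 0 a) (unitC 0 b))).1 ≠ suppN (p (xo (unitC 0 a) (unitC 0 b'))).1 := by
    intro e
    -- equal images of supports would make the two sources similar
    have hx := (inW_pair k a b hb.symm ha hkb)
    have hx' := (inW_pair k a b' hb'.symm ha hkb')
    have s3 := (unit_sum a b hb.symm).2.2.1
    have s3' := (unit_sum a b' hb'.symm).2.2.1
    have no : ¬ Orth (xo (unitC 0 a) (unitC 0 b)) (xo (unitC 0 a) (unitC 0 b')) := by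
      refine (pair_facts (by rw [s3]; exact hx.1) (by rw [s3']; exact hx'.1)).2.1 ?_
      rw [s3, s3']
      exact (two_pairs a b b' hb hb' hbb).1
    have hs := sim_of_supp w1 w2 e (fun ho => no (hp.orth.1 ho))
    have hinv : ∀ v : Cd, inW k (p.symm v).1 = inW k v.1 := fun v => by
      rw [← hW, Equiv.apply_symm_apply]
    have hsp : IsSym (p.symm : Cd → Cd) := by
      refine ⟨fun u v => p.injective ?_, fun v => ?_, Or.inl fun v => p.injective ?_⟩
      · rw [hp.add, Equiv.apply_symm_apply, Equiv.apply_symm_apply, Equiv.apply_symm_apply]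
      · conv_rhs => rw [← p.apply_symm_apply v, hp.q]
      · rw [hl, Equiv.apply_symm_apply, Equiv.apply_symm_apply]
    have hls : IsLinC (p.symm : Cd → Cd) := fun v => p.injective (by
      rw [hl, Equiv.apply_symm_apply, Equiv.apply_symm_apply])
    have := sim_map hsp hls hinv hs
    rw [Equiv.symm_apply_apply, Equiv.symm_apply_apply] at this
    have := supp_of_sim (inW_iff.2 (by rw [s3]; exact hx)) (inW_iff.2 (by rw [s3']; exact hx')) this
    rw [s3, s3'] at this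
    exact (two_pairs a b b' hb hb' hbb).2 this
  have hne0 : p (unitC 2 a) ≠ 0 := fun e => by
    have : p (unitC 2 a) = p 0 := by rw [e, hp.add.zero]
    exact unitC_ne_zero 2 a (p.injective this)
  obtain ⟨n, hn, en⟩ := supp_digits (p (unitC 2 a))
  have hsub := sub_inter
  simp only [List.all_eq_true, Bool.or_eq_true, beq_iff_eq, Bool.not_eq_true', beq_eq_false_iff_ne,
    decide_eq_true_eq] at hsub
  have h1 := hsub _ (wList_complete _ (inW_iff.1 w1).1).2 _ (wList_complete _ (inW_iff.1 w2).1).2 n hn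
  rw [← en] at h1
  obtain ⟨c, j, hj, hjs⟩ := small_supp (p (unitC 2 a)) (by simpa [hne, m1, m2] using h1) hne0
  refine ⟨c + 1, j, ?_, ?_⟩
  · rw [← wC_unitC, ← hj, ← hl, wC_unitC]
    rfl
  · have hk := (inW_iff.1 w1).2
    rw [hjs] at m1
    by_contra hc
    have hj0 : j.1 = 0 ∧ k.1 = 1 := by omega
    rw [hj0.1, pow_zero] at m1
    rw [hj0.2, pow_one] at hk
    rw [Nat.one_and_eq_mod_two] at m1
    omega

theorem unit_not_orth : ∀ (c c' : ZMod 3) (j : Fin 6), ¬ Orth (unitC c j) (unitC c' j) := by decide +kernel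

theorem unit_orth : ∀ a b : Fin 6, a ≠ b → Orth (unitC 0 a) (unitC 0 b) := by decide +kernel

/-- The map is monomial; for `k = 1` it must fix the first basic vector. -/
theorem exists_monoC (hp : IsSym p) (hl : IsLinC p) {k : Fin 2}
    (hW : ∀ v : Cd, inW k (p v).1 = inW k v.1) (hfix : k.1 = 1 → p (unitC 0 0) = unitC 0 0) :
    ∃ (d : Fin 6 → ZMod 3) (σ : Equiv.Perm (Fin 6)), (k.1 = 1 → d 0 = 0 ∧ σ 0 = 0) ∧ ∀ v, p v = monoC d σ v := by
  have h : ∀ a : Fin 6, ∃ (c : ZMod 3) (j : Fin 6), p (unitC 0 a) = unitC c j := fun a => by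
    rcases Nat.lt_or_ge a.1 k.1 with h | h
    · have hk : k.1 = 1 := by omega
      have ha : a = 0 := Fin.ext (by simp only [Fin.val_zero]; omega)
      exact ⟨0, 0, by rw [ha]; exact hfix hk⟩
    · obtain ⟨c, j, e, -⟩ := image_unit hp hl hW h
      exact ⟨c, j, e⟩
  choose c j hcj using h
  have hj : Function.Injective j := fun a b e => by
    by_contra hne
    have := hp.orth.2 (unit_orth a b hne)
    rw [hcj, hcj, e] at this
    exact unit_not_orth _ _ _ this
  refine ⟨c, Equiv.ofBijective j (Finite.injective_iff_bijective.1 hj), fun hk => ?_,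
    eq_monoC hp.add hl fun i => hcj i⟩
  have e := hcj 0
  rw [hfix hk] at e
  obtain ⟨e1, e2⟩ := unitC_inj _ _ _ _ e
  exact ⟨e1.symm, e2.symm⟩

end Cfsg.Agent.LargeFischer
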