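import Cfsg.Agent.Lib.LargeFischer.RepCoord
import Mathlib.GroupTheory.GroupAction.Quotient

/-!
# Two orbits on the singular vectors

`Coords`: coordinates in which `M` contains the monomial maps of even permutations with scalars of
product one and has exactly two orbits on the nonzero singular vectors, the small one (378 vectors)
made of the vectors of weight two and those of weight six with scalars of product one.
-/

set_option autoImplicit false
set_option maxRecDepth 100000

namespace Cfsg.Agent.LFRep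

/-- The 378 vectors. -/
def Small (x : Vec) : Prop := qf x = 0 ∧ x ≠ 0 ∧ (cls x = 0 ∨ cls x = 2)

/-- The 1701 vectors. -/
def Big (x : Vec) : Prop := qf x = 0 ∧ x ≠ 0 ∧ ¬(cls x = 0 ∨ cls x = 2)

instance decSmall : DecidablePred Small := fun x =>
  inferInstanceAs (Decidable (qf x = 0 ∧ x ≠ 0 ∧ (cls x = 0 ∨ cls x = 2)))

instance decBig : DecidablePred Big := fun x =>
  inferInstanceAs (Decidable (qf x = 0 ∧ x ≠ 0 ∧ ¬(cls x = 0 ∨ cls x = 2)))

theorem card_small_big :
    (Finset.univ.filter Small).card = 378 ∧ (Finset.univ.filter Big).card = 1701 := by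
  have h0 := card_clsSet 0; have h1 := card_clsSet 1; have h2 := card_clsSet 2
  have h3 := card_clsSet 3; have h4 := card_clsSet 4
  have hd : ∀ i j : Fin 5, i ≠ j → Disjoint (clsSet i) (clsSet j) := fun i j hij =>
    Finset.disjoint_left.2 fun x hx hy => hij ((Finset.mem_filter.1 hx).2.2.2.symm.trans
      (Finset.mem_filter.1 hy).2.2.2)
  have hs : Finset.univ.filter Small = clsSet 0 ∪ clsSet 2 := by
    ext x; simp only [Small, clsSet, Finset.mem_filter, Finset.mem_univ, true_and, Finset.mem_union, and_or_left]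
  have hb : Finset.univ.filter Big = clsSet 1 ∪ (clsSet 3 ∪ clsSet 4) := by
    ext x
    simp only [Big, clsSet, Finset.mem_filter, Finset.mem_univ, true_and, Finset.mem_union]
    generalize cls x = c
    generalize (x ≠ 0) = p
    generalize (qf x = 0) = r
    fin_cases c <;> simp
  constructor
  · rw [hs, Finset.card_union_of_disjoint (hd 0 2 (by decide)), h0, h2]; rfl
  · rw [hb, Finset.card_union_of_disjoint, Finset.card_union_of_disjoint (hd 3 4 (by decide)), h1, h3, h4]
    · rfl
    · exact Finset.disjoint_union_right.2 ⟨hd 1 3 (by decide), hd 1 4 (by decide)⟩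

theorem lg_zs : ∀ (c : ZMod 3) (x : F4), x ≠ 0 → lg (zs c x) = c + lg x := by decide +kernel

theorem wt_six {x : Vec} (h : wt x = 6) : ∀ i, x i ≠ 0 := by
  intro i hi
  have hle : ∀ j, nz (x j) ≤ 1 := fun j => by unfold nz; split_ifs <;> omega
  have h0 : nz (x i) = 0 := by rw [nz, if_pos hi]
  have := hle 0; have := hle 1; have := hle 2; have := hle 3; have := hle 4; have := hle 5
  unfold wt at h
  fin_cases i <;> simp only [Fin.zero_eta, Fin.mk_one, Fin.reduceFinMk, Fin.isValue] at h0 <;> omega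

theorem wt_cases {x : Vec} (hq : qf x = 0) (h0 : x ≠ 0) : wt x = 2 ∨ wt x = 4 ∨ wt x = 6 := by
  have hle : ∀ j, nz (x j) ≤ 1 := fun j => by unfold nz; split_ifs <;> omega
  have := hle 0; have := hle 1; have := hle 2; have := hle 3; have := hle 4; have := hle 5
  rw [qf, ZMod.natCast_eq_zero_iff_even, Nat.even_iff] at hq
  have : wt x ≠ 0 := fun hw => h0 (funext fun i => by
    by_contra hi
    have : nz (x i) = 1 := by rw [nz, if_neg (show x i ≠ 0 from hi)]
    unfold wt at hw
    fin_cases i <;> simp only [Fin.zero_eta, Fin.mk_one, Fin.reduceFinMk, Fin.isValue] at this <;> omega)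
  unfold wt at *
  omega

/-- Scaling the first coordinate. -/
def scale (c : ZMod 3) : Vec ≃+ Vec where
  toFun := mono 1 (Pi.single 0 c)
  invFun := mono 1 (Pi.single 0 (-c))
  left_inv x := by
    rw [mono_mono, show (fun i => (Pi.single 0 (-c) : Fin 6 → ZMod 3) i +
      (Pi.single 0 c : Fin 6 → ZMod 3) ((1 : Equiv.Perm (Fin 6)).symm i)) = 0 from funext fun i => by
        by_cases hi : i = 0 <;> simp [hi, Equiv.Perm.one_symm], one_mul, mono_one]
  right_inv x := by
    rw [mono_mono, show (fun i => (Pi.single 0 c : Fin 6 → ZMod 3) i +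
      (Pi.single 0 (-c) : Fin 6 → ZMod 3) ((1 : Equiv.Perm (Fin 6)).symm i)) = 0 from funext fun i => by
        by_cases hi : i = 0 <;> simp [hi, Equiv.Perm.one_symm], one_mul, mono_one]
  map_add' := mono_add _ _

theorem scale_apply (c : ZMod 3) (x : Vec) : scale c x = mono 1 (Pi.single 0 c) x := rfl

theorem small_scale (c : ZMod 3) (x : Vec) (hq : qf x = 0) (h0 : x ≠ 0) :
    (cls x = 0 ∨ cls x = 2) ↔ (cls (scale c x) = 0 ∨ (cls (scale c x) : ℕ) = 2 + c.val) := by
  have hw : wt (scale c x) = wt x := wt_mono _ _ _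
  rcases wt_cases hq h0 with h | h | h
  · have : cls x = 0 := (cls_eq_zero_iff x).2 h
    have : cls (scale c x) = 0 := (cls_eq_zero_iff _).2 (hw.trans h)
    exact iff_of_true (Or.inl ‹cls x = 0›) (Or.inl this)
  · have e : ∀ y, wt y = 4 → cls y = 1 := fun y hy => by simp [cls, hy]
    rw [e x h, e _ (hw.trans h)]
    clear hw
    revert c
    decide
  · have e : ∀ y, wt y = 6 → ∀ S : ZMod 3,
        lg (y 0) + lg (y 1) + lg (y 2) + lg (y 3) + lg (y 4) + lg (y 5) = S →
          cls y = if S = 0 then 2 else if S = 1 then 3 else 4 := fun y hy S hS => by simp [cls, hy, hS]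
    have hne := wt_six h
    rw [e x h _ rfl, e (scale c x) (hw.trans h)
      (c + (lg (x 0) + lg (x 1) + lg (x 2) + lg (x 3) + lg (x 4) + lg (x 5))) (by
        simp only [scale_apply, mono, Equiv.Perm.one_symm, Equiv.Perm.one_apply, Pi.single_eq_same]
        rw [lg_zs _ _ (hne 0)]
        simp [zs_zero]
        ring)]
    generalize lg (x 0) + lg (x 1) + lg (x 2) + lg (x 3) + lg (x 4) + lg (x 5) = S
    clear hw
    revert c S
    decide +kernel

/-- Coordinates adapted to an action. -/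
structure Coords {M V : Type*} [Group M] [AddCommGroup V] (act : M →* AddMonoid.End V) (t : M)
    (q : V → ZMod 2) where
  psi : Vec ≃+ V
  q_psi : ∀ x, q (psi x) = qf x
  t_psi : ∀ x, act t (psi x) = psi (zsV 1 x)
  mono_mem : ∀ σ a, Equiv.Perm.sign σ = 1 → ∑ i, a i = 0 →
    ∃ g, ∀ x, act g (psi x) = psi (mono σ a x)
  small_orbit : ∀ x y, Small x → Small y → ∃ g, act g (psi x) = psi y
  big_orbit : ∀ x y, Big x → Big y → ∃ g, act g (psi x) = psi y
  small_stable : ∀ g x y, act g (psi x) = psi y → (Small x ↔ Small y)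

namespace Rep

variable {M V P : Type*} [Group M] [AddCommGroup V] [Group P] (R : Rep M V P)

include R in
theorem card_M [Finite M] : Nat.card M = 9797760 := by
  have hk : R.pi.ker = Subgroup.zpowers R.t := Subgroup.ext fun g => R.ker g
  rw [← Subgroup.card_mul_index R.pi.ker, Subgroup.index_ker,
    MonoidHom.range_eq_top.2 R.surj, Subgroup.card_top, R.F.card, hk, Nat.card_zpowers, R.t_order]

theorem B_psi (x y : Vec) : R.B (R.psi x) (R.psi y) = bf x y := by
  rw [B, ← map_add, R.q_psi, R.q_psi, R.q_psi, bf]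

/-- Two classes in one orbit. -/
def Rel (i j : Fin 5) : Prop := ∃ g, R.act g (R.psi (rep i)) = R.psi (rep j)

theorem rel_refl (i : Fin 5) : R.Rel i i := ⟨1, R.act_one _⟩

theorem rel_symm {i j : Fin 5} : R.Rel i j → R.Rel j i := fun ⟨g, hg⟩ =>
  ⟨g⁻¹, by rw [← hg, R.act_inv_act]⟩

theorem rel_trans {i j k : Fin 5} : R.Rel i j → R.Rel j k → R.Rel i k := fun ⟨g, hg⟩ ⟨h, hh⟩ =>
  ⟨h * g, by rw [R.act_mul, hg, hh]⟩

/-- The least class in the same orbit. -/
noncomputable def low (i : Fin 5) : Fin 5 := by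
  classical exact (Finset.univ.filter (R.Rel i)).min' ⟨i, by simp [R.rel_refl]⟩

theorem low_rel (i : Fin 5) : R.Rel i (R.low i) := by
  classical exact (Finset.mem_filter.1 (Finset.min'_mem (Finset.univ.filter (R.Rel i))
    ⟨i, by simp [R.rel_refl]⟩)).2

theorem low_le {i j : Fin 5} (h : R.Rel i j) : R.low i ≤ j := by
  classical exact Finset.min'_le _ _ (Finset.mem_filter.2 ⟨Finset.mem_univ _, h⟩)

theorem low_eq_iff {i j : Fin 5} : R.low i = R.low j ↔ R.Rel i j := by
  constructor
  · intro h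
    exact R.rel_trans (R.low_rel i) (h ▸ R.rel_symm (R.low_rel j))
  · intro h
    exact le_antisymm (R.low_le (R.rel_trans h (R.low_rel j)))
      (R.low_le (R.rel_trans (R.rel_symm h) (R.low_rel i)))

theorem low_low (i : Fin 5) : R.low (R.low i) = R.low i ∧ R.low i ≤ i :=
  ⟨R.low_eq_iff.2 (R.rel_symm (R.low_rel i)), R.low_le (R.rel_refl i)⟩

variable [Finite M]

theorem exists_to_rep {x : Vec} (hq : qf x = 0) (h0 : x ≠ 0) :
    ∃ g, R.act g (R.psi (rep (cls x))) = R.psi x := by
  obtain ⟨σ, a, h1, h2, h3⟩ := exists_mono hq h0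
  obtain ⟨g, hg⟩ := (R.isMon_iff σ a).2 ⟨h1, h2⟩
  exact ⟨g, by rw [hg, h3]⟩

/-- Vectors in one orbit have related classes. -/
theorem rel_of_act {g : M} {x y : Vec} (hq : qf x = 0) (h0 : x ≠ 0) (h : R.act g (R.psi x) = R.psi y) :
    qf y = 0 ∧ y ≠ 0 ∧ R.low (cls x) = R.low (cls y) := by
  have hy : qf y = 0 := by rw [← R.q_psi, ← h, R.q_act, R.q_psi, hq]
  have hy0 : y ≠ 0 := fun e => h0 (R.psi.injective (by
    rw [e, map_zero] at h
    rw [map_zero]
    exact R.main.act_injective g (h.trans (map_zero _).symm)))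
  obtain ⟨a, ha⟩ := R.exists_to_rep hq h0
  obtain ⟨b, hb⟩ := R.exists_to_rep hy hy0
  refine ⟨hy, hy0, R.low_eq_iff.2 ⟨b⁻¹ * g * a, ?_⟩⟩
  rw [R.act_mul, R.act_mul, ha, h, ← hb, R.act_inv_act]

theorem exists_act_of_low {x y : Vec} (hx : qf x = 0) (hx0 : x ≠ 0) (hy : qf y = 0) (hy0 : y ≠ 0)
    (h : R.low (cls x) = R.low (cls y)) : ∃ g, R.act g (R.psi x) = R.psi y := by
  obtain ⟨a, ha⟩ := R.exists_to_rep hx hx0
  obtain ⟨b, hb⟩ := R.exists_to_rep hy hy0
  obtain ⟨g, hg⟩ := R.low_eq_iff.1 h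
  exact ⟨b * g * a⁻¹, by rw [R.act_mul, R.act_mul, ← ha, R.act_inv_act, hg, hb]⟩

/-- A group element moving coordinates. -/
noncomputable def move (g : M) (x : Vec) : Vec := R.psi.symm (R.act g (R.psi x))

theorem psi_move (g : M) (x : Vec) : R.psi (R.move g x) = R.act g (R.psi x) :=
  R.psi.apply_symm_apply _

theorem move_inv (g : M) (x : Vec) : R.move g⁻¹ (R.move g x) = x :=
  R.psi.injective (by rw [psi_move, psi_move, R.act_inv_act])

theorem bf_move (g : M) (x y : Vec) : bf (R.move g x) (R.move g y) = bf x y := by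
  rw [← R.B_psi, R.psi_move, R.psi_move, R.B_act, R.B_psi]

theorem low_count (i i' k : Fin 5) (h : R.low i = R.low i') :
    ∑ j, (if R.low j = k then countTab i j else 0) = ∑ j, (if R.low j = k then countTab i' j else 0) := by
  classical
  let S : Vec → Finset Vec := fun r =>
    Finset.univ.filter fun y => qf y = 0 ∧ y ≠ 0 ∧ R.low (cls y) = k ∧ bf r y = 0
  have hS : ∀ r, (S (rep r)).card = ∑ j, (if R.low j = k then countTab r j else 0) := by
    intro r
    rw [Finset.card_eq_sum_card_fiberwise (f := cls) (t := Finset.univ) (fun _ _ => Finset.mem_univ _)]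
    refine Finset.sum_congr rfl fun j _ => ?_
    split_ifs with hj
    · rw [← card_orth]
      congr 1
      ext y
      simp only [S, clsSet, Finset.mem_filter, Finset.mem_univ, true_and]
      refine ⟨fun hy => ⟨⟨hy.1.1, hy.1.2.1, hy.2⟩, hy.1.2.2.2⟩,
        fun hy => ⟨⟨hy.1.1, hy.1.2.1, hy.1.2.2 ▸ hj, hy.2⟩, hy.1.2.2⟩⟩
    · refine Finset.card_eq_zero.2 (Finset.filter_eq_empty_iff.2 fun y hy e => hj ?_)
      rw [← e]
      exact (Finset.mem_filter.1 hy).2.2.2.1
  obtain ⟨g, hg⟩ := R.low_eq_iff.1 h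
  have hr : R.move g (rep i) = rep i' := R.psi.injective (by rw [psi_move, hg])
  have hr' : R.move g⁻¹ (rep i') = rep i := by rw [← hr, move_inv]
  rw [← hS, ← hS]
  refine Finset.card_bij' (fun y _ => R.move g y) (fun y _ => R.move g⁻¹ y) ?_ ?_
    (fun y _ => R.move_inv g y) (fun y _ => by
      have := R.move_inv g⁻¹ y
      rwa [inv_inv] at this)
  · intro y hy
    simp only [S, Finset.mem_filter, Finset.mem_univ, true_and] at hy ⊢
    obtain ⟨h1, h2, h3⟩ := R.rel_of_act hy.1 hy.2.1 (R.psi_move g y).symm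
    exact ⟨h1, h2, h3 ▸ hy.2.2.1, by rw [← hr, R.bf_move, hy.2.2.2]⟩
  · intro y hy
    simp only [S, Finset.mem_filter, Finset.mem_univ, true_and] at hy ⊢
    obtain ⟨h1, h2, h3⟩ := R.rel_of_act hy.1 hy.2.1 (R.psi_move g⁻¹ y).symm
    exact ⟨h1, h2, h3 ▸ hy.2.2.1, by rw [← hr', R.bf_move, hy.2.2.2]⟩

theorem not_one_orbit : ¬ ∀ i, R.low i = 0 := by
  intro hall
  classical
  letI : MulAction M V :=
    { smul := fun g x => R.act g x, one_smul := R.act_one, mul_smul := R.act_mul }
  have horb : MulAction.orbit M (R.psi (rep 0)) =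
      ↑((Finset.univ.filter fun y : Vec => qf y = 0 ∧ y ≠ 0).image R.psi) := by
    ext v
    obtain ⟨y, rfl⟩ := R.psi.surjective v
    rw [Finset.coe_image, R.psi.injective.mem_set_image, Finset.mem_coe, Finset.mem_filter]
    constructor
    · rintro ⟨g, hg⟩
      obtain ⟨h1, h2, -⟩ := R.rel_of_act (rep_spec 0).2.1 (rep_spec 0).2.2 (show R.act g _ = _ from hg)
      exact ⟨Finset.mem_univ _, h1, h2⟩
    · rintro ⟨-, h1, h2⟩
      obtain ⟨g, hg⟩ := R.exists_act_of_low (rep_spec 0).2.1 (rep_spec 0).2.2 h1 h2 (by rw [hall, hall])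
      exact ⟨g, hg⟩
  have hd := Subgroup.index_dvd_card (MulAction.stabilizer M (R.psi (rep 0)))
  have hsize : (Finset.univ.filter fun y : Vec => qf y = 0 ∧ y ≠ 0).card = 2079 := by
    rw [Finset.card_eq_sum_card_fiberwise (f := cls) (t := Finset.univ) (fun _ _ => Finset.mem_univ _),
      Finset.sum_congr rfl fun j _ => show _ = (clsSet j).card from congrArg Finset.card (by
        ext y; simp [clsSet, and_assoc])]
    simp only [card_clsSet, Fin.sum_univ_five]
    rfl
  rw [MulAction.index_stabilizer, horb, Set.ncard_coe_finset,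
    Finset.card_image_of_injective _ R.psi.injective, hsize, R.card_M] at hd
  norm_num at hd

theorem single_of_wt_one {x : Vec} (h : wt x = 1) : ∃ i c, c ≠ 0 ∧ x = Pi.single i c := by
  have hx : ∃ i, x i ≠ 0 := by
    by_contra hno
    push Not at hno
    simp [wt, nz, hno] at h
  obtain ⟨i, hi⟩ := hx
  refine ⟨i, x i, hi, funext fun j => ?_⟩
  by_cases hj : j = i
  · rw [hj, Pi.single_eq_same]
  · rw [Pi.single_eq_of_ne hj]
    by_contra hne
    rw [wt_eq_sum] at h
    have h2 : nz (x i) + nz (x j) ≤ ∑ l, nz (x l) := by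
      rw [← Finset.sum_pair (Ne.symm hj) (f := fun l => nz (x l))]
      exact Finset.sum_le_sum_of_subset (Finset.subset_univ _)
    rw [h, nz, nz, if_neg hi, if_neg hne] at h2
    omega

theorem wt_single (i : Fin 6) {c : F4} (hc : c ≠ 0) : wt (Pi.single i c) = 1 := by
  rw [wt_eq_sum, Finset.sum_eq_single i]
  · rw [Pi.single_eq_same, nz, if_neg hc]
  · intro j _ hj
    rw [Pi.single_eq_of_ne hj, nz, if_pos rfl]
  · simp

theorem not_two_alone : ¬ ∀ i, i ≠ 0 → R.low i ≠ 0 := by
  intro h0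
  have hlow0 : R.low 0 = 0 := le_antisymm (R.low_low 0).2 (Fin.zero_le _)
  have hcls : ∀ g y, y ∈ clsSet 0 → R.move g y ∈ clsSet 0 := by
    intro g y hy
    simp only [clsSet, Finset.mem_filter, Finset.mem_univ, true_and] at hy ⊢
    obtain ⟨h1, h2, h3⟩ := R.rel_of_act hy.1 hy.2.1 (R.psi_move g y).symm
    rw [hy.2.2, hlow0] at h3
    exact ⟨h1, h2, by by_contra hne; exact h0 _ hne h3.symm⟩
  have hone : ∀ g x, wt x = 1 → wt (R.move g x) = 1 := by
    intro g x hx
    have hq : qf x = 1 := by rw [qf, hx]; rfl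
    have hq' : qf (R.move g x) = 1 := by rw [← R.q_psi, psi_move, R.q_act, R.q_psi, hq]
    rw [cls_zero_card _ hq', ← (cls_zero_card x hq).1 hx]
    refine Finset.card_bij' (fun y _ => R.move g⁻¹ y) (fun y _ => R.move g y) ?_ ?_ ?_
      (fun y _ => R.move_inv g y)
    · intro y hy
      rw [Finset.mem_filter] at hy ⊢
      refine ⟨hcls _ _ hy.1, ?_⟩
      have := R.bf_move g⁻¹ (R.move g x) y
      rw [move_inv, hy.2] at this
      exact this
    · intro y hy
      rw [Finset.mem_filter] at hy ⊢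
      exact ⟨hcls _ _ hy.1, by rw [R.bf_move, hy.2]⟩
    · intro y _
      have := R.move_inv g⁻¹ y
      rwa [inv_inv] at this
  have hH : R.H = ⊤ := by
    rw [eq_top_iff]
    intro g _
    choose σ c hc hs using fun i => single_of_wt_one
      (hone g _ (wt_single i (c := ((1, 0) : F4)) (by decide)))
    have himg : ∀ i (a : F4), R.act g (R.psi (Pi.single i a)) =
        R.sc a (R.sc (c i) (R.u (σ i))) := by
      intro i a
      rw [R.psi_single, R.act_sc, ← R.sc_one (R.u i), ← R.psi_single, ← psi_move, hs, R.psi_single]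
    have hlin : ∀ i (a : F4), R.sc a (R.sc (c i) (R.u (σ i))) =
        R.sc (zs (lg (c i)) a) (R.u (σ i)) := by
      intro i a
      rw [R.sc_zs, R.sc_eq_wp (hc i)]
      by_cases ha : a = 0
      · rw [ha, R.sc_zero, R.sc_zero, R.main.D.wp_zero_right]
      · rw [R.sc_eq_wp ha, R.sc_eq_wp ha, R.main.D.wp_wp, R.main.D.wp_wp, add_comm]
    have hinj : Function.Injective σ := by
      intro i j e
      by_contra hne
      have key : ∀ a, R.act g (R.psi (Pi.single i (zs (lg (c j)) a))) =
          R.act g (R.psi (Pi.single j (zs (lg (c i)) a))) := fun a => by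
        rw [himg, himg, hlin, hlin, e, ← zs_add, ← zs_add, add_comm]
      have := congrFun (R.psi.injective (R.main.act_injective g (key (1, 0)))) i
      rw [Pi.single_eq_same, Pi.single_eq_of_ne hne] at this
      exact absurd ((zs_eq_zero _ _).1 this) (by decide)
    let τ : Equiv.Perm (Fin 6) := Equiv.ofBijective σ (Finite.injective_iff_bijective.1 hinj)
    refine R.mem_H_of_isMon (σ := τ) (a := fun j => lg (c (τ.symm j))) fun x => ?_
    rw [psi_apply, psi_apply, map_sum, ← Equiv.sum_comp τ fun i => R.sc (mono τ _ x i) (R.u i)]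
    refine Finset.sum_congr rfl fun i _ => ?_
    show _ = R.sc (zs (lg (c (τ.symm (τ i)))) (x (τ.symm (τ i)))) (R.u (σ i))
    rw [Equiv.symm_apply_apply, ← R.psi_single, himg, hlin]
  have h := R.card_H_le
  rw [hH, Subgroup.card_top, R.card_M] at h
  omega

theorem exists_coords : Nonempty (Coords R.act R.t R.q) := by
  obtain h | h | ⟨c, hc⟩ := partition_cases R.low R.low_low fun i i' k => R.low_count i i' k
  · exact absurd h R.not_one_orbit
  · exact absurd h R.not_two_alone
  have key : ∀ x, qf x = 0 → x ≠ 0 →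
      qf (scale c x) = 0 ∧ scale c x ≠ 0 ∧ ((cls x = 0 ∨ cls x = 2) ↔ R.low (cls (scale c x)) = 0) := by
    intro x hq h0
    refine ⟨?_, fun e => h0 ((scale c).injective (e.trans (map_zero _).symm)), ?_⟩
    · rw [scale_apply, qf_mono, hq]
    · rw [small_scale c x hq h0, (hc _).1]
  refine ⟨⟨(scale c).trans R.psi, fun x => ?_, fun x => ?_, fun σ a hσ ha => ?_, ?_, ?_, ?_⟩⟩
  · rw [AddEquiv.trans_apply, R.q_psi, scale_apply, qf_mono]
  · rw [AddEquiv.trans_apply, AddEquiv.trans_apply, ← R.kap_one, R.act_kap_psi]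
    congr 1
    funext i
    simp only [scale_apply, mono, zsV, Equiv.Perm.one_symm, Equiv.Perm.one_apply]
    rw [← zs_add, ← zs_add, add_comm]
  · obtain ⟨g, hg⟩ := (R.isMon_iff σ fun i => (Pi.single 0 c : Fin 6 → ZMod 3) i +
        (a i + -(Pi.single 0 c : Fin 6 → ZMod 3) (σ.symm i))).2 ⟨hσ, by
      rw [Finset.sum_add_distrib, Finset.sum_add_distrib, Finset.sum_neg_distrib,
        Equiv.sum_comp σ.symm, ha, zero_add, add_neg_cancel]⟩
    refine ⟨g, fun x => ?_⟩
    rw [AddEquiv.trans_apply, AddEquiv.trans_apply, hg, scale_apply, scale_apply, mono_mono, mono_mono,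
      mul_one, one_mul]
    congr 1
    funext i
    simp only [mono, Equiv.Perm.one_symm, Equiv.Perm.one_apply]
    congr 1
    abel
  · rintro x y ⟨hx, hx0, hxs⟩ ⟨hy, hy0, hys⟩
    simp only [AddEquiv.trans_apply]
    obtain ⟨k1, k2, k3⟩ := key x hx hx0
    obtain ⟨l1, l2, l3⟩ := key y hy hy0
    exact R.exists_act_of_low k1 k2 l1 l2 ((k3.1 hxs).trans (l3.1 hys).symm)
  · rintro x y ⟨hx, hx0, hxs⟩ ⟨hy, hy0, hys⟩
    simp only [AddEquiv.trans_apply]
    obtain ⟨k1, k2, k3⟩ := key x hx hx0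
    obtain ⟨l1, l2, l3⟩ := key y hy hy0
    exact R.exists_act_of_low k1 k2 l1 l2
      (((hc _).2 (mt k3.2 hxs)).trans ((hc _).2 (mt l3.2 hys)).symm)
  · intro g x y h
    have aux : ∀ g x y, R.act g (R.psi (scale c x)) = R.psi (scale c y) → Small x → Small y := by
      rintro g x y h ⟨hx, hx0, hxs⟩
      obtain ⟨k1, k2, k3⟩ := key x hx hx0
      obtain ⟨m1, m2, m3⟩ := R.rel_of_act k1 k2 h
      have hy : qf y = 0 := by rwa [scale_apply, qf_mono] at m1
      have hy0 : y ≠ 0 := fun e => m2 (by rw [e, map_zero])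
      refine ⟨hy, hy0, (key y hy hy0).2.2.2 ?_⟩
      rw [← m3, k3.1 hxs]
    refine ⟨aux g x y h, aux g⁻¹ y x ?_⟩
    simp only [AddEquiv.trans_apply] at h
    rw [← h, R.act_inv_act]

end Rep

end Cfsg.Agent.LFRep
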