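import Mathlib
import Cfsg.Prelude.Def_CaseTheorems

/-!
# An extension by an outer involution of a group `2.Aut(S)`

`P` has a central subgroup `T` with `P / T ≅ Aut(S)` for a simple `S` whose inner automorphisms have
index two, and a perfect subgroup `K` of index two containing `T`.  Every automorphism of `P` fixing
`T` agrees on `K` with an inner one, and only `T` centralises `K`.
-/

set_option autoImplicit false

namespace Cfsg.Agent.LFOuter

open Subgroup

/-- Conjugation of an inner automorphism. -/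
theorem mulAut_mul_conj {S : Type*} [Group S] (φ : MulAut S) (s : S) :
    φ * MulAut.conj s * φ⁻¹ = MulAut.conj (φ s) := by
  ext x
  simp [MulAut.mul_apply, MulAut.conj_apply, MulAut.inv_apply]

theorem conj_injective_of_center {S : Type*} [Group S] (hc : center S = ⊥) :
    Function.Injective (MulAut.conj : S → MulAut S) := by
  rw [injective_iff_map_eq_one]
  intro s hs
  refine mem_bot.1 (hc ▸ mem_center_iff.2 fun g => ?_)
  have h := DFunLike.congr_fun hs g
  rw [MulAut.conj_apply, MulAut.one_apply] at h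
  exact (mul_inv_eq_iff_eq_mul.1 h).symm

/-- A perfect subgroup of index two is the derived subgroup. -/
theorem eq_commutator_of_index_two {P : Type*} [Group P] {K : Subgroup P} (hidx : K.index = 2)
    (hperf : Group.IsPerfect ↥K) : K = commutator P := by
  apply le_antisymm
  · intro k hk
    have h : (⟨k, hk⟩ : ↥K) ∈ commutator ↥K := by
      rw [(Group.isPerfect_def).1 hperf]; exact mem_top _
    have h2 := mem_map_of_mem K.subtype h
    rw [map_subtype_commutator] at h2
    exact commutator_mono le_top le_top h2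
  · rw [commutator_def, commutator_le]
    intro a _ b _
    rw [commutatorElement_def]
    simp only [mul_mem_iff_of_index_two hidx, inv_mem_iff]
    tauto

/-- Two homomorphisms on a perfect group which agree modulo a central subgroup agree. -/
theorem eq_of_perfect {K P : Type*} [Group K] [Group P] (hperf : Group.IsPerfect K) (T : Subgroup P)
    (hcen : ∀ x ∈ T, ∀ p : P, Commute x p) (f g : K →* P) (h : ∀ k, (f k)⁻¹ * g k ∈ T) (k : K) :
    f k = g k := by
  letI : CommGroup T := { (inferInstance : Group T) with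
    mul_comm := fun a b => Subtype.ext (hcen a a.2 b).eq }
  let q : K →* T :=
  { toFun := fun k => ⟨(f k)⁻¹ * g k, h k⟩
    map_one' := Subtype.ext (by simp)
    map_mul' := fun a b => Subtype.ext (by
      show (f (a * b))⁻¹ * g (a * b) = (f a)⁻¹ * g a * ((f b)⁻¹ * g b)
      rw [map_mul, map_mul, mul_inv_rev, ← mul_assoc ((f a)⁻¹ * g a) ((f b)⁻¹) (g b),
        (hcen _ (h a) (f b)⁻¹).eq]
      group) }
  have hle : commutator K ≤ q.ker := Abelianization.commutator_subset_ker q
  rw [(Group.isPerfect_def).1 hperf] at hle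
  exact inv_mul_eq_one.1 (congrArg Subtype.val (MonoidHom.mem_ker.1 (hle (mem_top k))))

section Aut

variable {P S : Type*} [Group P] [Group S] (T : Subgroup P) [T.Normal] (K : Subgroup P)
  (e : P ⧸ T ≃* MulAut S)

/-- The map onto the automorphism group. -/
def toAut : P →* MulAut S := e.toMonoidHom.comp (QuotientGroup.mk' T)

theorem toAut_surjective : Function.Surjective (toAut T e) :=
  e.surjective.comp (QuotientGroup.mk'_surjective T)

theorem ker_toAut : (toAut T e).ker = T := by
  ext x
  simp [toAut, MonoidHom.mem_ker]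

variable [IsSimpleGroup S] (hc : center S = ⊥)
  (hout : (MulAut.conj : S →* MulAut S).range.index = 2) (hTK : T ≤ K) (hidx : K.index = 2)

include e hc hout hTK hidx

theorem map_eq_inn : K.map (toAut T e) = (MulAut.conj : S →* MulAut S).range := by
  set M := K.map (toAut T e)
  have hM : M.index = 2 :=
    (index_map_eq K (toAut_surjective T e) (by rw [ker_toAut]; exact hTK)).trans hidx
  haveI : M.Normal := normal_of_index_eq_two hM
  have hle : (MulAut.conj : S →* MulAut S).range ≤ M := by
    rcases (inferInstance : (M.comap (MulAut.conj : S →* MulAut S)).Normal).eq_bot_or_eq_top with h | h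
    · exfalso
      have hmem : ∀ a b : S, a ≠ 1 → b ≠ 1 → a * b = 1 := by
        intro a b ha hb
        refine mem_bot.1 (h ▸ ?_)
        rw [mem_comap, map_mul, mul_mem_iff_of_index_two hM]
        exact iff_of_false (fun hh => ha (mem_bot.1 (h ▸ mem_comap.2 hh)))
          (fun hh => hb (mem_bot.1 (h ▸ mem_comap.2 hh)))
      obtain ⟨a, ha⟩ := exists_ne (1 : S)
      refine ha (mem_bot.1 (hc ▸ mem_center_iff.2 fun g => ?_))
      by_cases hg : g = 1
      · simp [hg]
      · exact (hmem g a hg ha).trans (hmem a g ha hg).symm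
    · rintro _ ⟨s, rfl⟩
      exact mem_comap.1 (h ▸ mem_top s)
  refine le_antisymm ?_ hle
  rw [← relIndex_eq_one]
  have h := relIndex_mul_index hle
  rw [hM, hout] at h
  omega

theorem mem_of_centralizes_mod {c : P} (h : ∀ k ∈ K, c * k * c⁻¹ * k⁻¹ ∈ T) : c ∈ T := by
  rw [← ker_toAut T e, MonoidHom.mem_ker]
  refine MulEquiv.ext fun s => ?_
  obtain ⟨k, hk, hks⟩ : MulAut.conj s ∈ K.map (toAut T e) := by
    rw [map_eq_inn T K e hc hout hTK hidx]; exact ⟨s, rfl⟩
  have h1 : toAut T e (c * k * c⁻¹ * k⁻¹) = 1 := by rw [← MonoidHom.mem_ker, ker_toAut]; exact h k hk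
  rw [map_mul, map_mul, map_mul, map_inv, map_inv, hks, mul_inv_eq_one, mulAut_mul_conj] at h1
  exact conj_injective_of_center hc h1

/-- The map of `K` onto `S`. -/
noncomputable def toSimple : ↥K →* S :=
  (MonoidHom.ofInjective (conj_injective_of_center hc)).symm.toMonoidHom.comp
    (((toAut T e).comp K.subtype).codRestrict _ fun k => by
      rw [← map_eq_inn T K e hc hout hTK hidx]; exact mem_map_of_mem _ k.2)

theorem conj_toSimple (k : ↥K) :
    MulAut.conj (toSimple T K e hc hout hTK hidx k) = toAut T e k := by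
  have h := (MonoidHom.ofInjective (conj_injective_of_center hc)).apply_symm_apply
    ((((toAut T e).comp K.subtype).codRestrict _ fun k => by
      rw [← map_eq_inn T K e hc hout hTK hidx]; exact mem_map_of_mem _ k.2) k)
  exact congrArg Subtype.val h

theorem toSimple_surjective : Function.Surjective (toSimple T K e hc hout hTK hidx) := by
  intro s
  obtain ⟨k, hk, hks⟩ : MulAut.conj s ∈ K.map (toAut T e) := by
    rw [map_eq_inn T K e hc hout hTK hidx]; exact ⟨s, rfl⟩
  exact ⟨⟨k, hk⟩, conj_injective_of_center hc ((conj_toSimple T K e hc hout hTK hidx _).trans hks)⟩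

theorem toSimple_eq_one (k : ↥K) : toSimple T K e hc hout hTK hidx k = 1 ↔ (k : P) ∈ T := by
  rw [← (conj_injective_of_center hc).eq_iff, conj_toSimple, map_one, ← MonoidHom.mem_ker, ker_toAut]

/-- An automorphism of `P` stabilising `T` and `K` is inner on `K` modulo `T`. -/
theorem exists_inner_mod [Finite P] [Finite S] (α : P ≃* P) (hαT : ∀ x ∈ T, α x ∈ T)
    (hαK : ∀ k ∈ K, α k ∈ K) : ∃ c : P, ∀ k ∈ K, (c * k * c⁻¹)⁻¹ * α k ∈ T := by
  set ρ := toSimple T K e hc hout hTK hidx
  let αK : ↥K →* ↥K := (α.toMonoidHom.comp K.subtype).codRestrict K fun k => hαK k k.2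
  have hαinj : Function.Injective αK := fun a b hab =>
    Subtype.ext (α.injective (congrArg Subtype.val hab))
  have hsurj : Function.Surjective (ρ.comp αK) :=
    (toSimple_surjective T K e hc hout hTK hidx).comp (Finite.injective_iff_surjective.1 hαinj)
  have hker : ρ.ker ≤ (ρ.comp αK).ker := fun k hk => by
    rw [MonoidHom.mem_ker, MonoidHom.comp_apply, toSimple_eq_one]
    exact hαT _ ((toSimple_eq_one T K e hc hout hTK hidx k).1 hk)
  let φ₀ : S →* S := ρ.liftOfSurjective (toSimple_surjective T K e hc hout hTK hidx) ⟨ρ.comp αK, hker⟩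
  have hφ : ∀ k, φ₀ (ρ k) = ρ (αK k) := fun k =>
    MonoidHom.liftOfRightInverse_comp_apply _ _ _ _ k
  have hφs : Function.Surjective φ₀ := fun s => by
    obtain ⟨k, hk⟩ := hsurj s
    exact ⟨ρ k, (hφ k).trans hk⟩
  let φ : MulAut S := MulEquiv.ofBijective φ₀ ⟨Finite.injective_iff_surjective.2 hφs, hφs⟩
  obtain ⟨c, hcφ⟩ := toAut_surjective T e φ
  refine ⟨c, fun k hk => ?_⟩
  rw [← ker_toAut T e, MonoidHom.mem_ker, map_mul, map_inv, inv_mul_eq_one, map_mul, map_mul, map_inv,
    hcφ, ← conj_toSimple T K e hc hout hTK hidx ⟨k, hk⟩, mulAut_mul_conj]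
  exact (congrArg MulAut.conj (hφ ⟨k, hk⟩)).trans (conj_toSimple T K e hc hout hTK hidx (αK ⟨k, hk⟩))

end Aut

/-- An automorphism of an extraspecial group fixing the centraliser of a noncentral involution is inner. -/
theorem exists_inner_of_fixes {X : Type*} [Group X] (Q : Subgroup X) (z t d : X) (hz2 : z * z = 1)
    (hz1 : z ≠ 1) (hzQ : z ∈ Q) (hcen : ∀ q ∈ Q, Commute q z)
    (hcomm : ∀ q ∈ Q, ∀ r ∈ Q, q * r * q⁻¹ = r ∨ q * r * q⁻¹ = r * z)
    (hsq : ∀ q ∈ Q, q * q = 1 ∨ q * q = z)
    (hself : ∀ x ∈ Q, (∀ q ∈ Q, Commute x q) → x = 1 ∨ x = z)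
    (htQ : t ∈ Q) (ht2 : t * t = 1) (ht1 : t ≠ 1) (htz : t ≠ z)
    (hdn : ∀ q ∈ Q, d * q * d⁻¹ ∈ Q) (hfix : ∀ q ∈ Q, Commute q t → Commute d q) :
    ∃ q ∈ Q, ∀ x ∈ Q, d * x * d⁻¹ = q * x * q⁻¹ := by
  have hdz : Commute d z := hfix z hzQ (hcen t htQ).symm
  have hfix' : ∀ q ∈ Q, Commute q t → d * q * d⁻¹ = q := fun q hq hqt => by
    rw [(hfix q hq hqt).eq]; group
  have hnc : ∀ q ∈ Q, ¬ Commute q t → t * q * t⁻¹ = q * z := fun q hq hqt =>
    (hcomm t htQ q hq).resolve_left fun h => hqt (mul_inv_eq_iff_eq_mul.1 h).symm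
  -- two elements off the centraliser of `t` differ by an element inside
  have hdiff : ∀ q ∈ Q, ∀ r ∈ Q, ¬ Commute q t → ¬ Commute r t → Commute (q * r⁻¹) t := by
    intro q hq r hr hqt hrt
    have h : t * (q * r⁻¹) * t⁻¹ = q * r⁻¹ := by
      calc t * (q * r⁻¹) * t⁻¹ = (t * q * t⁻¹) * (t * r * t⁻¹)⁻¹ := by group
        _ = (q * z) * (r * z)⁻¹ := by rw [hnc q hq hqt, hnc r hr hrt]
        _ = q * r⁻¹ := by group
    exact (mul_inv_eq_iff_eq_mul.1 h).symm
  -- the defect of a moved element is in the centre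
  have hmove : ∀ u ∈ Q, ¬ Commute u t → d * u * d⁻¹ = u ∨ d * u * d⁻¹ = u * z := by
    intro u hu hut
    set a := u⁻¹ * (d * u * d⁻¹) with ha
    have haQ : a ∈ Q := Q.mul_mem (Q.inv_mem hu) (hdn u hu)
    have hau : d * u * d⁻¹ = u * a := by rw [ha]; group
    have hC : ∀ w ∈ Q, Commute w t → Commute a w := by
      intro w hw hwt
      have hconj : Commute (u * w * u⁻¹) t := by
        rcases hcomm u hu w hw with h | h <;> rw [h]
        · exact hwt
        · exact hwt.mul_left (hcen t htQ).symm
      have h1 := hfix' _ (Q.mul_mem (Q.mul_mem hu hw) (Q.inv_mem hu)) hconj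
      have h2 : u * (a * w * a⁻¹) * u⁻¹ = u * w * u⁻¹ :=
        calc u * (a * w * a⁻¹) * u⁻¹ = (u * a) * w * (u * a)⁻¹ := by group
          _ = (d * u * d⁻¹) * (d * w * d⁻¹) * (d * u * d⁻¹)⁻¹ := by rw [hau, hfix' w hw hwt]
          _ = d * (u * w * u⁻¹) * d⁻¹ := by group
          _ = u * w * u⁻¹ := h1
      exact mul_inv_eq_iff_eq_mul.1 (mul_left_cancel (mul_right_cancel h2))
    have hall : ∀ b : X, (∀ w ∈ Q, Commute w t → Commute b w) → Commute b u → ∀ q ∈ Q, Commute b q := by
      intro b hb hbu q hq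
      by_cases hqt : Commute q t
      · exact hb q hq hqt
      · have := (hb _ (Q.mul_mem hq (Q.inv_mem hu)) (hdiff q hq u hu hqt hut)).mul_right hbu
        rwa [inv_mul_cancel_right] at this
    have hfin : a = 1 ∨ a = z → d * u * d⁻¹ = u ∨ d * u * d⁻¹ = u * z := by
      rintro (h | h) <;> rw [hau, h]
      · exact Or.inl (mul_one u)
      · exact Or.inr rfl
    by_cases hbu : Commute a u
    · exact hfin (hself a haQ (hall a hC hbu))
    · exfalso
      have htu : t * u * t⁻¹ = u * z := hnc u hu hut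
      have hau' : a * u * a⁻¹ = u * z :=
        (hcomm a haQ u hu).resolve_left fun h => hbu (mul_inv_eq_iff_eq_mul.1 h)
      have hatu : Commute (a * t) u := by
        refine mul_inv_eq_iff_eq_mul.1 ?_
        calc a * t * u * (a * t)⁻¹ = a * (t * u * t⁻¹) * a⁻¹ := by group
          _ = (a * u * a⁻¹) * (a * z * a⁻¹) := by rw [htu]; group
          _ = (u * z) * z := by rw [hau', (hcen a haQ).eq, mul_inv_cancel_right]
          _ = u := by rw [mul_assoc, hz2, mul_one]
      have hatC : ∀ w ∈ Q, Commute w t → Commute (a * t) w := fun w hw hwt =>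
        (hC w hw hwt).mul_left hwt.symm
      obtain ⟨b, hb, hbz⟩ : ∃ b, a = b * t ∧ (b = 1 ∨ b = z) :=
        ⟨a * t, by rw [mul_assoc, ht2, mul_one], hself _ (Q.mul_mem haQ htQ) (hall _ hatC hatu)⟩
      have hbc : ∀ q ∈ Q, Commute q b := fun q hq => by
        rcases hbz with h | h <;> rw [h]
        · exact Commute.one_right q
        · exact hcen q hq
      have hb2 : b * b = 1 := by rcases hbz with h | h <;> simp [h, hz2]
      have h1 : d * (u * u) * d⁻¹ = u * u := by
        rcases hsq u hu with h | h <;> rw [h]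
        · group
        · rw [hdz.eq]; group
      have h2 : d * (u * u) * d⁻¹ = u * u * z :=
        calc d * (u * u) * d⁻¹ = (d * u * d⁻¹) * (d * u * d⁻¹) := by group
          _ = u * (b * t) * (u * (b * t)) := by rw [hau, hb]
          _ = u * t * (u * t) * (b * b) := by
            rw [show b * t = t * b from (hbc t htQ).eq.symm]
            rw [← mul_assoc u t b,
              (hbc (u * t) (Q.mul_mem hu htQ)).symm.mul_mul_mul_comm (u * t) b]
          _ = u * (t * u * t⁻¹) * (t * t) := by rw [hb2, mul_one]; group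
          _ = u * u * z := by rw [htu, ht2, mul_one, mul_assoc]
      exact hz1 (mul_left_cancel ((h2.symm.trans h1).trans (mul_one _).symm))
  by_cases hall : ∀ x ∈ Q, d * x * d⁻¹ = x
  · exact ⟨1, Q.one_mem, fun x hx => by rw [hall x hx]; group⟩
  · push Not at hall
    obtain ⟨u, hu, hne⟩ := hall
    have hut : ¬ Commute u t := fun h => hne (hfix' u hu h)
    have huz := (hmove u hu hut).resolve_left hne
    refine ⟨t, htQ, fun x hx => ?_⟩
    by_cases hxt : Commute x t
    · rw [hfix' x hx hxt, ← hxt.eq, mul_inv_cancel_right]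
    · rw [hnc x hx hxt]
      have h := hfix' _ (Q.mul_mem hx (Q.inv_mem hu)) (hdiff x hx u hu hxt hut)
      calc d * x * d⁻¹ = d * (x * u⁻¹) * d⁻¹ * (d * u * d⁻¹) := by group
        _ = x * u⁻¹ * (u * z) := by rw [h, huz]
        _ = x * z := by group

end Cfsg.Agent.LFOuter
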