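import Cfsg.Agent.Lib.LargeFischer.OuterAux
import Cfsg.Agent.Lib.Components.Quasisimple
import Cfsg.Prelude.Def_KGroupFacts
import Cfsg.Prelude.Def_Spor_Fi22
import Cfsg.Agent.Lib.Presented.FiOrder
import Cfsg.Agent.Lib.Presented.Fi23Cover
import Cfsg.Agent.S2079

/-!
# The centraliser of a noncentral involution inside an overgroup

`LFOuter.Loc G₀ t`: the derived group `Kt G₀ t` of `C_{G₀}(t)` is quasisimple of index two, maps onto
`Fi22` with kernel `⟨t⟩`, is centralised in `C_{G₀}(t)` only by `⟨t⟩`, and every element of the overgroup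
commuting with `t` acts on it as an element of `C_{G₀}(t)`.
-/

set_option autoImplicit false

namespace Cfsg.Agent.LFOuter

open Subgroup Cfsg
open scoped commutatorElement

universe u

variable {X : Type u} [Group X]

/-- The derived group of the centraliser of `t` in `G₀`. -/
def Kt (G₀ : Subgroup X) (t : X) : Subgroup X :=
  ⁅G₀ ⊓ centralizer ({t} : Set X), G₀ ⊓ centralizer ({t} : Set X)⁆

theorem mem_cent {G₀ : Subgroup X} {t x : X} :
    x ∈ G₀ ⊓ centralizer ({t} : Set X) ↔ x ∈ G₀ ∧ Commute x t := by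
  rw [Subgroup.mem_inf, mem_centralizer_singleton_iff]
  exact and_congr_right fun _ => ⟨fun h => h, fun h => h⟩

theorem Kt_le (G₀ : Subgroup X) (t : X) : Kt G₀ t ≤ G₀ ⊓ centralizer ({t} : Set X) := by
  rw [Kt, commutator_le]
  intro a ha b hb
  rw [commutatorElement_def]
  exact mul_mem (mul_mem (mul_mem ha hb) (inv_mem ha)) (inv_mem hb)

theorem commute_of_mem_Kt {G₀ : Subgroup X} {t x : X} (h : x ∈ Kt G₀ t) : Commute x t :=
  (mem_cent.1 (Kt_le G₀ t h)).2

theorem conj_mem_Kt {G₀ : Subgroup X} [hn : G₀.Normal] {t x : X} (g : X) (h : x ∈ Kt G₀ t) :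
    g * x * g⁻¹ ∈ Kt G₀ (g * t * g⁻¹) := by
  have h' : (MulAut.conj g).toMonoidHom x ∈ (Kt G₀ t).map (MulAut.conj g).toMonoidHom :=
    mem_map_of_mem _ h
  rw [Kt, map_commutator] at h'
  have hle : (G₀ ⊓ centralizer ({t} : Set X)).map (MulAut.conj g).toMonoidHom ≤
      G₀ ⊓ centralizer ({g * t * g⁻¹} : Set X) := by
    rintro _ ⟨c, hc, rfl⟩
    obtain ⟨h1, h2⟩ := mem_cent.1 hc
    refine mem_cent.2 ⟨hn.conj_mem c h1 g, ?_⟩
    show Commute (g * c * g⁻¹) (g * t * g⁻¹)
    exact h2.map (MulAut.conj g)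
  exact commutator_mono hle hle h'

/-- The powers of an involution. -/
theorem mem_zpowers_involution {P : Type*} [Group P] {a : P} (ha : a * a = 1) {x : P} :
    x ∈ zpowers a ↔ x = 1 ∨ x = a := by
  constructor
  · rintro ⟨n, rfl⟩
    show a ^ n = 1 ∨ a ^ n = a
    have h2 : a ^ (2 : ℤ) = 1 := by rw [zpow_two, ha]
    rcases Int.even_or_odd' n with ⟨m, rfl | rfl⟩
    · exact Or.inl (by rw [zpow_mul, h2, one_zpow])
    · exact Or.inr (by rw [zpow_add, zpow_mul, h2, one_zpow, one_mul, zpow_one])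
  · rintro (rfl | rfl)
    exacts [one_mem _, mem_zpowers _]

/-- What is known of the centraliser of `t` in `G₀` seen in the overgroup. -/
structure Loc (G₀ : Subgroup X) (t : X) : Prop where
  inv : t * t = 1
  ne_one : t ≠ 1
  mem : t ∈ Kt G₀ t
  quasi : IsQuasisimple ↥(Kt G₀ t)
  faithful : ∀ c ∈ G₀ ⊓ centralizer ({t} : Set X), (∀ k ∈ Kt G₀ t, Commute c k) → c = 1 ∨ c = t
  pair : ∀ a ∈ G₀ ⊓ centralizer ({t} : Set X), ∀ b ∈ G₀ ⊓ centralizer ({t} : Set X),
    a ∉ Kt G₀ t → b ∉ Kt G₀ t → a * b ∈ Kt G₀ t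
  proper : ∃ a ∈ G₀ ⊓ centralizer ({t} : Set X), a ∉ Kt G₀ t
  inner : ∀ y : X, Commute y t →
    ∃ c ∈ G₀ ⊓ centralizer ({t} : Set X), ∀ k ∈ Kt G₀ t, y * k * y⁻¹ = c * k * c⁻¹
  fi22 : ∃ ρ : ↥(Kt G₀ t) →* Spor.Fi22, Function.Surjective ρ ∧
    ∀ k : ↥(Kt G₀ t), ρ k = 1 ↔ (k : X) = 1 ∨ (k : X) = t

theorem center_fi22' : center Spor.Fi22 = ⊥ := Presented.Fi23Cover.center_fi22

theorem index_inn_fi22 : (MulAut.conj : Spor.Fi22 →* MulAut Spor.Fi22).range.index = 2 :=
  Cfsg.Agent.S2079.result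

/-- The data from the statement about the centraliser inside `G₀`. -/
theorem Loc.of_iso [Finite X] (G₀ : Subgroup X) [hn : G₀.Normal] (t : ↥G₀) (ht : orderOf t = 2)
    (K : Subgroup ↥(centralizer ({t} : Set ↥G₀)))
    [((zpowers t).subgroupOf (centralizer ({t} : Set ↥G₀))).Normal]
    (hq : IsQuasisimple ↥K) (hidx : K.index = 2)
    (htK : ∃ htc : t ∈ centralizer ({t} : Set ↥G₀), (⟨t, htc⟩ : ↥(centralizer ({t} : Set ↥G₀))) ∈ K)
    (e : ↥(centralizer ({t} : Set ↥G₀)) ⧸ (zpowers t).subgroupOf (centralizer ({t} : Set ↥G₀)) ≃*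
      MulAut Spor.Fi22) : Loc G₀ (t : X) := by
  haveI := Presented.FiOrder.simple_fi22
  haveI : Finite Spor.Fi22 := Presented.FiOrder.card_le.1
  have ht2 : t * t = 1 := by rw [← pow_two, ← ht, pow_orderOf_eq_one]
  have ht1 : (t : X) ≠ 1 := fun h => by
    rw [show t = 1 from Subtype.ext h, orderOf_one] at ht; norm_num at ht
  obtain ⟨htc, htK⟩ := htK
  let ι : ↥(centralizer ({t} : Set ↥G₀)) →* X := G₀.subtype.comp (centralizer ({t} : Set ↥G₀)).subtype
  have hι : Function.Injective ι := Subtype.val_injective.comp Subtype.val_injective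
  have hrange : ι.range = G₀ ⊓ centralizer ({(t : X)} : Set X) := by
    ext x
    rw [mem_cent]
    constructor
    · rintro ⟨p, rfl⟩
      exact ⟨(p : ↥G₀).2, congrArg Subtype.val (mem_centralizer_singleton_iff.1 p.2)⟩
    · rintro ⟨hx, hxt⟩
      exact ⟨⟨⟨x, hx⟩, mem_centralizer_singleton_iff.2 (Subtype.ext hxt.eq)⟩, rfl⟩
  have hKc : K = commutator ↥(centralizer ({t} : Set ↥G₀)) := eq_commutator_of_index_two hidx hq.1
  have hmap : K.map ι = Kt G₀ (t : X) := by
    rw [hKc, _root_.commutator_def, map_commutator, ← MonoidHom.range_eq_map, hrange]; rfl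
  have hT : ∀ x : ↥(centralizer ({t} : Set ↥G₀)), x ∈ ((zpowers t).subgroupOf (centralizer ({t} : Set ↥G₀))) ↔ ι x = 1 ∨ ι x = (t : X) := fun x => by
    rw [mem_subgroupOf, mem_zpowers_involution ht2]
    exact or_congr Subtype.ext_iff Subtype.ext_iff
  have hcen : ∀ x ∈ ((zpowers t).subgroupOf (centralizer ({t} : Set ↥G₀))), ∀ p : ↥(centralizer ({t} : Set ↥G₀)), Commute x p := fun x hx p => by
    refine hι ?_
    rw [map_mul, map_mul]
    rcases (hT x).1 hx with h | h <;> rw [h]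
    · rw [one_mul, mul_one]
    · exact (congrArg Subtype.val (mem_centralizer_singleton_iff.1 p.2)).symm
  have hTK : ((zpowers t).subgroupOf (centralizer ({t} : Set ↥G₀))) ≤ K := fun x hx => by
    rcases (hT x).1 hx with h | h
    · rw [hι (h.trans (map_one ι).symm)]; exact K.one_mem
    · rw [show x = ⟨t, htc⟩ from hι h]; exact htK
  have hc := center_fi22'
  have hout := index_inn_fi22
  have hmem : ∀ p : ↥(centralizer ({t} : Set ↥G₀)), ι p ∈ Kt G₀ (t : X) ↔ p ∈ K := fun p => by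
    rw [← hmap]; exact mem_map_iff_mem hι
  let eK : ↥K ≃* ↥(Kt G₀ (t : X)) :=
    (K.equivMapOfInjective ι hι).trans (MulEquiv.subgroupCongr hmap)
  refine ⟨congrArg Subtype.val ht2, ht1, (hmem ⟨t, htc⟩).2 htK,
    (Components.isQuasisimple_congr eK).1 hq, ?_, ?_, ?_, ?_, ?_⟩
  · intro c hc' hck
    rw [← hrange] at hc'
    obtain ⟨p, rfl⟩ := hc'
    refine (hT p).1 (mem_of_centralizes_mod ((zpowers t).subgroupOf (centralizer ({t} : Set ↥G₀))) K e hc hout hTK hidx fun k hk => ?_)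
    have h : p * k * p⁻¹ * k⁻¹ = 1 := hι (by
      rw [map_mul, map_mul, map_mul, map_inv, map_inv, map_one, (hck _ ((hmem k).2 hk)).eq]; group)
    rw [h]; exact ((zpowers t).subgroupOf (centralizer ({t} : Set ↥G₀))).one_mem
  · intro a ha b hb hna hnb
    rw [← hrange] at ha hb
    obtain ⟨p, rfl⟩ := ha
    obtain ⟨q, rfl⟩ := hb
    rw [← map_mul, hmem, mul_mem_iff_of_index_two hidx]
    exact iff_of_false (mt (hmem p).2 hna) (mt (hmem q).2 hnb)
  · obtain ⟨p, hp⟩ : ∃ p, p ∉ K := by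
      by_contra hall
      push Not at hall
      rw [show K = ⊤ from eq_top_iff.2 fun x _ => hall x, index_top] at hidx
      norm_num at hidx
    exact ⟨ι p, hrange ▸ ⟨p, rfl⟩, mt (hmem p).1 hp⟩
  · intro y hy
    have hconj : ∀ (g : X) (_ : Commute g (t : X)) (p : ↥(centralizer ({t} : Set ↥G₀))), g * ι p * g⁻¹ ∈ ι.range := fun g hg p => by
      rw [hrange, mem_cent]
      refine ⟨hn.conj_mem _ (p : ↥G₀).2 g, ?_⟩
      have h : Commute (ι p) (t : X) := congrArg Subtype.val (mem_centralizer_singleton_iff.1 p.2)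
      exact (hg.mul_left h).mul_left hg.inv_left
    choose f hf using hconj y hy
    choose f' hf' using hconj y⁻¹ hy.inv_left
    let α : ↥(centralizer ({t} : Set ↥G₀)) ≃* ↥(centralizer ({t} : Set ↥G₀)) :=
    { toFun := f
      invFun := f'
      left_inv := fun p => hι (by rw [hf', hf]; group)
      right_inv := fun p => hι (by rw [hf, hf']; group)
      map_mul' := fun p q => hι (by rw [map_mul, hf, hf, hf, map_mul]; group) }
    have hα : ∀ p, ι (α p) = y * ι p * y⁻¹ := hf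
    have hαT : ∀ x ∈ ((zpowers t).subgroupOf (centralizer ({t} : Set ↥G₀))), α x ∈ ((zpowers t).subgroupOf (centralizer ({t} : Set ↥G₀))) := fun x hx => by
      rw [hT, hα]
      rcases (hT x).1 hx with h | h <;> rw [h]
      · exact Or.inl (by group)
      · exact Or.inr (by rw [hy.eq, mul_inv_cancel_right])
    have hαK : ∀ k ∈ K, α k ∈ K := fun k hk => by
      rw [hKc] at hk ⊢
      have h : α.toMonoidHom k ∈ (commutator ↥(centralizer ({t} : Set ↥G₀))).map α.toMonoidHom := mem_map_of_mem _ hk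
      rw [_root_.commutator_def, map_commutator] at h
      exact commutator_mono le_top le_top h
    obtain ⟨c, hck⟩ := exists_inner_mod ((zpowers t).subgroupOf (centralizer ({t} : Set ↥G₀))) K e hc hout hTK hidx α hαT hαK
    refine ⟨ι c, hrange ▸ ⟨c, rfl⟩, fun k hk => ?_⟩
    rw [← hmap] at hk
    obtain ⟨p, hp, rfl⟩ := hk
    have h := eq_of_perfect hq.1 ((zpowers t).subgroupOf (centralizer ({t} : Set ↥G₀))) hcen ((MulAut.conj c).toMonoidHom.comp K.subtype)
      (α.toMonoidHom.comp K.subtype) (fun k => hck k k.2) ⟨p, hp⟩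
    have h' : ι (c * p * c⁻¹) = ι (α p) := congrArg ι h
    rw [map_mul, map_mul, map_inv, hα] at h'
    exact h'.symm
  · refine ⟨(toSimple ((zpowers t).subgroupOf (centralizer ({t} : Set ↥G₀))) K e hc hout hTK hidx).comp eK.symm.toMonoidHom,
      (toSimple_surjective ((zpowers t).subgroupOf (centralizer ({t} : Set ↥G₀))) K e hc hout hTK hidx).comp eK.symm.surjective, fun k => ?_⟩
    obtain ⟨p, rfl⟩ := eK.surjective k
    show toSimple ((zpowers t).subgroupOf (centralizer ({t} : Set ↥G₀))) K e hc hout hTK hidx (eK.symm (eK p)) = 1 ↔ _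
    rw [MulEquiv.symm_apply_apply, toSimple_eq_one, hT]
    rfl

/-- An element outside `G₀` centralising the derived group. -/
theorem Loc.exists_outer {G₀ : Subgroup X} {t : X} (L : Loc G₀ t) {y : X} (hy : Commute y t)
    (hyG : y ∉ G₀) : ∃ d : X, d ∉ G₀ ∧ ∀ k ∈ Kt G₀ t, Commute d k := by
  obtain ⟨c, hc, hck⟩ := L.inner y hy
  refine ⟨c⁻¹ * y, fun h => hyG ?_, fun k hk => ?_⟩
  · simpa using G₀.mul_mem (mem_cent.1 hc).1 h
  · refine mul_inv_eq_iff_eq_mul.1 ?_
    calc c⁻¹ * y * k * (c⁻¹ * y)⁻¹ = c⁻¹ * (y * k * y⁻¹) * c := by group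
      _ = k := by rw [hck k hk]; group

/-- An element centralising the derived group commutes with `t`. -/
theorem Loc.outer_commute {G₀ : Subgroup X} {t : X} (L : Loc G₀ t) {d : X}
    (hd : ∀ k ∈ Kt G₀ t, Commute d k) : Commute d t := hd t L.mem

/-- Two outer elements centralising the derived group differ by a power of `t`. -/
theorem Loc.outer_unique {G₀ : Subgroup X} {t : X} (L : Loc G₀ t) (hidx : G₀.index = 2) {d d' : X}
    (hdG : d ∉ G₀) (hd'G : d' ∉ G₀) (hd : ∀ k ∈ Kt G₀ t, Commute d k)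
    (hd' : ∀ k ∈ Kt G₀ t, Commute d' k) : d' = d ∨ d' = d * t := by
  have hmem : d⁻¹ * d' ∈ G₀ ⊓ centralizer ({t} : Set X) := mem_cent.2
    ⟨(mul_mem_iff_of_index_two hidx).2 (iff_of_false (fun h => hdG (inv_mem_iff.1 h)) hd'G),
      (L.outer_commute hd).inv_left.mul_left (L.outer_commute hd')⟩
  rcases L.faithful _ hmem (fun k hk => (hd k hk).inv_left.mul_left (hd' k hk)) with h | h
  · exact Or.inl (inv_mul_eq_one.1 h).symm
  · exact Or.inr (by rw [← h]; group)

end Cfsg.Agent.LFOuter
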