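import Cfsg.Agent.Lib.LargeFischer.Orbits
import Cfsg.Agent.Lib.LargeExtraspecial.Setting
import Cfsg.Agent.Lib.PGroup.Extraspecial
import Cfsg.Agent.S5395
import Cfsg.Prelude.Def_MonsterType
import Mathlib.GroupTheory.Abelianization.Defs

/-!
# Groups of large Fischer type: `Q` modulo its centre in coordinates

`Model z Qs`: the map `img` from `Q` onto six coordinates over the field with four elements, with the
squaring map the weight modulo two, the action of the centraliser of `z`, which has two orbits on the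
nonzero singular vectors and contains the even monomial maps with scalars of product one.
-/

set_option autoImplicit false

namespace Cfsg.Agent.LFRep

open Cfsg Subgroup LargeExtraspecial
open scoped commutatorElement

/-- The data of large Fischer type in the form used here. -/
structure Model {G : Type*} [Group G] (z : G) (Qs : Subgroup (centralizer ({z} : Set G))) where
  hub : Hub (Qs.map (centralizer ({z} : Set G)).subtype) z
  card_Q : Nat.card (Qs.map (centralizer ({z} : Set G)).subtype) = 2 ^ 13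
  abelian_le : ∀ A : Subgroup G, A ≤ Qs.map (centralizer ({z} : Set G)).subtype →
    IsMulCommutative A → Nat.card A ≤ 2 ^ 7
  img : G → Vec
  img_mul : ∀ x ∈ Qs.map (centralizer ({z} : Set G)).subtype, ∀ y ∈ Qs.map (centralizer ({z} : Set G)).subtype,
    img (x * y) = img x + img y
  img_eq_zero : ∀ x ∈ Qs.map (centralizer ({z} : Set G)).subtype, img x = 0 ↔ x = 1 ∨ x = z
  img_surj : ∀ v, ∃ x ∈ Qs.map (centralizer ({z} : Set G)).subtype, img x = v
  sq_iff : ∀ x ∈ Qs.map (centralizer ({z} : Set G)).subtype, x * x = 1 ↔ qf (img x) = 0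
  comm_iff : ∀ x ∈ Qs.map (centralizer ({z} : Set G)).subtype, ∀ y ∈ Qs.map (centralizer ({z} : Set G)).subtype,
    Commute x y ↔ bf (img x) (img y) = 0
  mv : centralizer ({z} : Set G) →* AddMonoid.End Vec
  img_conj : ∀ c : centralizer ({z} : Set G), ∀ x ∈ Qs.map (centralizer ({z} : Set G)).subtype,
    img ((c : G) * x * (c : G)⁻¹) = mv c (img x)
  mv_eq_one : ∀ c, mv c = 1 ↔ c ∈ Qs
  qf_mv : ∀ c v, qf (mv c v) = qf v
  small_mv : ∀ c v, Small (mv c v) ↔ Small v
  small_trans : ∀ v w, Small v → Small w → ∃ c, mv c v = w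
  big_trans : ∀ v w, Big v → Big w → ∃ c, mv c v = w
  card_quot : Qs.index = 19595520
  M : Subgroup (centralizer ({z} : Set G))
  M_normal : M.Normal
  M_index : M.index = 2
  Q_le_M : Qs ≤ M
  linear : ∀ m ∈ M, ∀ v, mv m (zsV 1 v) = zsV 1 (mv m v)
  mono_mem : ∀ σ a, Equiv.Perm.sign σ = 1 → ∑ i, a i = 0 → ∃ m ∈ M, ∀ v, mv m v = mono σ a v

theorem polar_cancel : ∀ a b c : ZMod 2, a + b + c + a + b = c := by decide

/-- `0` for the identity, `1` otherwise. -/
noncomputable def chi1 {G : Type*} [One G] (a : G) : ZMod 2 := by classical exact if a = 1 then 0 else 1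

theorem chi1_eq_zero {G : Type*} [One G] {a : G} : chi1 a = 0 ↔ a = 1 := by
  by_cases h : a = 1 <;> simp [chi1, h]

section
variable {G : Type*} [Group G] {Q : Subgroup G} {z : G}

theorem Hub.comm_cases (h : Hub Q z) {x y : G} (hx : x ∈ Q) (hy : y ∈ Q) :
    y * x * y⁻¹ * x⁻¹ = 1 ∨ y * x * y⁻¹ * x⁻¹ = z := by
  rcases h.comm y hy x hx with e | e <;> rw [e]
  · exact Or.inl (mul_inv_cancel x)
  · exact Or.inr (by rw [(h.central x hx).eq, mul_inv_cancel_right])

theorem Hub.chi1_mul (h : Hub Q z) {a b : G} (ha : a = 1 ∨ a = z) (hb : b = 1 ∨ b = z) :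
    chi1 (a * b) = chi1 a + chi1 b := by
  have h1 : chi1 (1 : G) = 0 := chi1_eq_zero.2 rfl
  have h2 : chi1 z = 1 := by simp [chi1, h.ne_one]
  rcases ha with rfl | rfl <;> rcases hb with rfl | rfl <;>
    simp [h1, h2, h.sq, show (1 : ZMod 2) + 1 = 0 from by decide]

/-- The commutator as a number. -/
noncomputable def kap1 (x y : G) : ZMod 2 := chi1 (y * x * y⁻¹ * x⁻¹)

theorem kap1_eq_zero {x y : G} : kap1 x y = 0 ↔ Commute x y := by
  rw [kap1, chi1_eq_zero, mul_inv_eq_one, mul_inv_eq_iff_eq_mul]
  exact eq_comm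

theorem Hub.kap1_mul (h : Hub Q z) {x y w : G} (hx : x ∈ Q) (hy : y ∈ Q) (hw : w ∈ Q) :
    kap1 (x * y) w = kap1 x w + kap1 y w := by
  have h2 := Hub.comm_cases h hy hw
  have hc : x * (w * y * w⁻¹ * y⁻¹) = (w * y * w⁻¹ * y⁻¹) * x := by
    rcases h2 with e | e <;> rw [e]
    · simp
    · exact (h.central x hx).eq
  rw [kap1, kap1, kap1, ← Hub.chi1_mul h (Hub.comm_cases h hx hw) h2]
  congr 1
  calc w * (x * y) * w⁻¹ * (x * y)⁻¹ = (w * x * w⁻¹ * x⁻¹) * (x * (w * y * w⁻¹ * y⁻¹)) * x⁻¹ := by group
    _ = _ := by rw [hc]; group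

theorem Hub.sq_mul1 (h : Hub Q z) {x y : G} (hx : x ∈ Q) (hy : y ∈ Q) :
    chi1 (x * y * (x * y)) = chi1 (x * x) + chi1 (y * y) + kap1 x y := by
  have h1 := h.sq_cases x hx
  have h2 := h.sq_cases y hy
  have h3 := Hub.comm_cases h hx hy
  have hc : x * (y * x * y⁻¹ * x⁻¹) = (y * x * y⁻¹ * x⁻¹) * x := by
    rcases h3 with e | e <;> rw [e]
    · simp
    · exact (h.central x hx).eq
  have e : x * y * (x * y) = (y * x * y⁻¹ * x⁻¹) * ((x * x) * (y * y)) := by
    calc x * y * (x * y) = x * (y * x * y⁻¹ * x⁻¹) * (x * (y * y)) := by group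
      _ = _ := by rw [hc]; group
  have h12 : x * x * (y * y) = 1 ∨ x * x * (y * y) = z := by
    rcases h1 with a | a <;> rcases h2 with b | b <;> rw [a, b]
    · exact Or.inl (mul_one 1)
    · exact Or.inr (one_mul z)
    · exact Or.inr (mul_one z)
    · exact Or.inl h.sq
  rw [e, Hub.chi1_mul h h3 h12, Hub.chi1_mul h h1 h2, kap1]
  abel

end

variable {G : Type*} [Group G] [Finite G] {z : G} {Qs : Subgroup (centralizer ({z} : Set G))} [Qs.Normal]

theorem card_of_index_two {C : Type*} [Group C] [Finite C] {Qs M : Subgroup C} (hle : Qs ≤ M)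
    (hM : M.index = 2) (hq : Nat.card (M ⧸ Qs.subgroupOf M) = 9797760) : Qs.index = 19595520 := by
  have h : Qs.relIndex M = 9797760 := by
    rw [← hq, Subgroup.relIndex, Subgroup.index]
  rw [← Subgroup.relIndex_mul_index hle, h, hM]

/-- The model exists. -/
theorem exists_model (hF : IsOfLargeFischerTypeAt z Qs) : Nonempty (Model z Qs) := by
  obtain ⟨⟨hz2, hFit, hex, hcard, -⟩, N, M, hN, hM, hQN, hNM, hNcard, ⟨K, _, _, hK, ⟨eP⟩⟩, hMi⟩ := hF
  set Q := Qs.map (centralizer ({z} : Set G)).subtype with hQ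
  have : Fact (Nat.Prime 2) := ⟨Nat.prime_two⟩
  obtain ⟨F⟩ := exists_frame K hK
  let eQ : Qs ≃* Q := Qs.equivMapOfInjective (centralizer ({z} : Set G)).subtype (centralizer ({z} : Set G)).subtype_injective
  have hexQ : IsExtraspecial 2 Q := TI.isExtraspecial_congr eQ hex
  obtain ⟨hub, -, -⟩ := Hub.of_setting (Q := Q) hz2 (Subgroup.map_subtype_le Qs) (by rw [hFit]) hexQ
  have hcardQ : Nat.card Q = 2 ^ 13 := by
    rw [hQ, Subgroup.card_map_of_injective (centralizer ({z} : Set G)).subtype_injective, hcard]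
  have hcenter : ∀ x : Qs, x ∈ center Qs ↔ ((x : (centralizer ({z} : Set G))) : G) = 1 ∨ ((x : (centralizer ({z} : Set G))) : G) = z := by
    intro x
    constructor
    · intro hx
      refine hub.self _ fun q hq => ?_
      obtain ⟨q', hq', rfl⟩ := hq
      exact congrArg (fun y : Qs => ((y : (centralizer ({z} : Set G))) : G)) (mem_center_iff.1 hx ⟨q', hq'⟩).symm
    · intro hx
      refine mem_center_iff.2 fun y => Subtype.ext (Subtype.ext ?_)
      show ((y : (centralizer ({z} : Set G))) : G) * ((x : (centralizer ({z} : Set G))) : G) = ((x : (centralizer ({z} : Set G))) : G) * ((y : (centralizer ({z} : Set G))) : G)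
      rcases hx with e | e <;> rw [e]
      · simp
      · exact (hub.central _ ⟨_, y.2, rfl⟩).eq
  have hcomm : _root_.commutator Qs = center Qs := hex.1.2.2
  -- the module
  let V := Additive (Abelianization Qs)
  let of : Qs → V := fun x => Additive.ofMul (Abelianization.of x)
  have of_mul : ∀ x y, of (x * y) = of x + of y := fun x y => by
    show Additive.ofMul (Abelianization.of (x * y)) = _
    rw [map_mul]; rfl
  have of_surj : Function.Surjective of := fun v => by
    obtain ⟨x, hx⟩ := QuotientGroup.mk_surjective (Additive.toMul v)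
    exact ⟨x, congrArg Additive.ofMul hx⟩
  have of_eq : ∀ x y, of x = of y ↔ x⁻¹ * y ∈ center Qs := fun x y => by
    rw [← hcomm]
    exact QuotientGroup.eq
  have of_zero : ∀ x, of x = 0 ↔ x ∈ center Qs := fun x => by
    rw [← hcomm]
    exact QuotientGroup.eq_one_iff x
  have hVcard : Nat.card V = 4096 := by
    have h := Subgroup.card_mul_index (_root_.commutator Qs)
    rw [show (_root_.commutator Qs).index = Nat.card V from rfl, hcomm, hex.2, hcard] at h
    omega
  have hmem : ∀ x : Qs, ((x : (centralizer ({z} : Set G))) : G) ∈ Q := fun x => ⟨_, x.2, rfl⟩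
  have sq_of : ∀ x y, of x = of y →
      ((x : (centralizer ({z} : Set G))) : G) * ((x : (centralizer ({z} : Set G))) : G) = ((y : (centralizer ({z} : Set G))) : G) * ((y : (centralizer ({z} : Set G))) : G) := by
    intro x y h
    have hy : ((y : (centralizer ({z} : Set G))) : G) = ((x : (centralizer ({z} : Set G))) : G) * ((x⁻¹ * y : Qs) : (centralizer ({z} : Set G))) := by simp
    rcases (hcenter _).1 ((of_eq x y).1 h) with e | e <;> rw [hy, e]
    · simp
    · rw [show ((x : (centralizer ({z} : Set G))) : G) * z * (((x : (centralizer ({z} : Set G))) : G) * z) = ((x : (centralizer ({z} : Set G))) : G) * (z * ((x : (centralizer ({z} : Set G))) : G)) * z by group,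
        ← (hub.central _ (hmem x)).eq]
      rw [show ((x : (centralizer ({z} : Set G))) : G) * (((x : (centralizer ({z} : Set G))) : G) * z) * z = ((x : (centralizer ({z} : Set G))) : G) * ((x : (centralizer ({z} : Set G))) : G) * (z * z) by group,
        hub.sq, mul_one]
  choose rp hrp using of_surj
  let q : V → ZMod 2 := fun v => chi1 (((rp v : (centralizer ({z} : Set G))) : G) * ((rp v : (centralizer ({z} : Set G))) : G))
  have q_of : ∀ x : Qs, q (of x) = chi1 (((x : (centralizer ({z} : Set G))) : G) * ((x : (centralizer ({z} : Set G))) : G)) := fun x => by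
    show chi1 _ = _
    rw [sq_of _ _ (hrp (of x))]
  have polar : ∀ x y : Qs, q (of x + of y) + q (of x) + q (of y) =
      kap1 ((x : (centralizer ({z} : Set G))) : G) ((y : (centralizer ({z} : Set G))) : G) := fun x y => by
    rw [← of_mul, q_of, q_of, q_of]
    have := Hub.sq_mul1 hub (hmem x) (hmem y)
    rw [show (((x * y : Qs) : (centralizer ({z} : Set G))) : G) = ((x : (centralizer ({z} : Set G))) : G) * ((y : (centralizer ({z} : Set G))) : G) from rfl, this]
    exact polar_cancel _ _ _
  let actC : (centralizer ({z} : Set G)) →* AddMonoid.End V :=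
    { toFun := fun c => MonoidHom.toAdditive (Abelianization.map (MulAut.conjNormal c : Qs ≃* Qs).toMonoidHom)
      map_one' := DFunLike.ext _ _ fun v => by
        rw [← hrp v]
        show of _ = of _
        rw [map_one]
        rfl
      map_mul' := fun c d => DFunLike.ext _ _ fun v => by
        rw [← hrp v]
        show of _ = of _
        rw [map_mul]
        rfl }
  have act_of : ∀ c x, actC c (of x) = of (MulAut.conjNormal c x) := fun _ _ => rfl
  have conj_val : ∀ (c : (centralizer ({z} : Set G))) (x : Qs),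
      ((MulAut.conjNormal c x : Qs) : G) = (c : G) * ((x : (centralizer ({z} : Set G))) : G) * (c : G)⁻¹ := fun c x => rfl
  have q_actC : ∀ c v, q (actC c v) = q v := fun c v => by
    rw [← hrp v, act_of, q_of, q_of, conj_val]
    have hcz : Commute (c : G) z := mem_centralizer_singleton_iff.1 c.2
    rw [show (c : G) * ((rp v : (centralizer ({z} : Set G))) : G) * (c : G)⁻¹ * ((c : G) * ((rp v : (centralizer ({z} : Set G))) : G) * (c : G)⁻¹) =
      (c : G) * (((rp v : (centralizer ({z} : Set G))) : G) * ((rp v : (centralizer ({z} : Set G))) : G)) * (c : G)⁻¹ by group]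
    rcases hub.sq_cases _ (hmem (rp v)) with e | e <;> rw [e]
    · simp
    · rw [hcz.eq, mul_inv_cancel_right]
  have actC_one : ∀ c, actC c = 1 ↔ c ∈ Qs := by
    intro c
    constructor
    · intro h
      obtain ⟨g, hg⟩ := S5395.result hex (MulAut.conjNormal c) fun x => by
        have e : of (MulAut.conjNormal c x) = of x := by
          rw [← act_of, h]; rfl
        have h1 := (of_eq _ _).1 e
        have h2 := (center Qs).inv_mem h1
        rw [mul_inv_rev, inv_inv] at h2
        have h3 := (Subgroup.instNormalCenter (G := Qs)).conj_mem _ h2 x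
        rwa [show x * (x⁻¹ * MulAut.conjNormal c x) * x⁻¹ = MulAut.conjNormal c x * x⁻¹ by group] at h3
      have hc : ∀ r ∈ Q, Commute (((g : (centralizer ({z} : Set G))) : G)⁻¹ * (c : G)) r := by
        rintro _ ⟨r, hr, rfl⟩
        have h1 : (c : G) * (r : G) * (c : G)⁻¹ = ((g : (centralizer ({z} : Set G))) : G) * (r : G) * ((g : (centralizer ({z} : Set G))) : G)⁻¹ :=
          (conj_val c ⟨r, hr⟩).symm.trans (congrArg (fun y : Qs => ((y : (centralizer ({z} : Set G))) : G)) (hg ⟨r, hr⟩))
        show _ * (r : G) = (r : G) * _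
        calc ((g : (centralizer ({z} : Set G))) : G)⁻¹ * (c : G) * (r : G) =
              ((g : (centralizer ({z} : Set G))) : G)⁻¹ * ((c : G) * (r : G) * (c : G)⁻¹) * (c : G) := by group
          _ = (r : G) * (((g : (centralizer ({z} : Set G))) : G)⁻¹ * (c : G)) := by rw [h1]; group
      have hgc : (c : G) ∈ Q := by
        rw [← mul_inv_cancel_left ((g : (centralizer ({z} : Set G))) : G) (c : G)]
        rcases hub.self _ hc with e | e <;> rw [e]
        · rw [mul_one]; exact hmem g
        · exact Q.mul_mem (hmem g) hub.mem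
      obtain ⟨r, hr, e⟩ := hgc
      rwa [← Subtype.ext (p := (· ∈ (centralizer ({z} : Set G)))) (a1 := r) (a2 := c) e]
    · intro hc
      refine DFunLike.ext _ _ fun v => ?_
      rw [← hrp v, act_of]
      refine congrArg Additive.ofMul ?_
      have e : MulAut.conjNormal c (rp v) = (⟨c, hc⟩ : Qs) * rp v * (⟨c, hc⟩ : Qs)⁻¹ := Subtype.ext rfl
      rw [e, map_mul, map_mul, map_inv, mul_inv_cancel_comm]
  -- the representation
  have hle : Qs ≤ M := hQN.trans hNM
  let MM := M ⧸ Qs.subgroupOf M
  let actM : MM →* AddMonoid.End V :=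
    QuotientGroup.lift (Qs.subgroupOf M) (actC.comp M.subtype) fun m hm => (actC_one _).2 hm
  have hNle : Qs.subgroupOf M ≤ (N.subgroupOf M).comap (MonoidHom.id M) := fun m hm => hQN hm
  let p0 : MM →* M ⧸ N.subgroupOf M := QuotientGroup.map _ _ (MonoidHom.id M) hNle
  let pi : MM →* PSU 4 K 3 := eP.toMonoidHom.comp p0
  have hsurj : Function.Surjective pi := eP.surjective.comp fun y => by
    obtain ⟨m, rfl⟩ := QuotientGroup.mk_surjective y
    exact ⟨QuotientGroup.mk m, rfl⟩
  have hkerpi : pi.ker = (N.subgroupOf M).map (QuotientGroup.mk' (Qs.subgroupOf M)) := by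
    have : pi.ker = p0.ker := by
      ext x
      exact eP.map_eq_one_iff
    rw [this, QuotientGroup.ker_map]
    rfl
  have hker3 : Nat.card pi.ker = 3 := by
    rw [hkerpi]
    have h1 : Nat.card (Qs.subgroupOf M) * (Qs.subgroupOf M).relIndex (N.subgroupOf M) =
        Nat.card (N.subgroupOf M) := by
      rw [← Nat.card_congr (Subgroup.subgroupOfEquivOfLe (show Qs.subgroupOf M ≤ N.subgroupOf M from
        fun m hm => hQN hm)).toEquiv, Subgroup.relIndex]
      exact Subgroup.card_mul_index _
    rw [Nat.card_congr (Subgroup.subgroupOfEquivOfLe hle).toEquiv,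
      Nat.card_congr (Subgroup.subgroupOfEquivOfLe hNM).toEquiv, hNcard, mul_comm 3] at h1
    have h2 : (Qs.subgroupOf M).relIndex (N.subgroupOf M) = 3 :=
      Nat.eq_of_mul_eq_mul_left Nat.card_pos h1
    rw [← Subgroup.range_subtype (N.subgroupOf M), ← MonoidHom.range_comp, ← Subgroup.index_ker]
    rw [show ((QuotientGroup.mk' (Qs.subgroupOf M)).comp (N.subgroupOf M).subtype).ker =
      (Qs.subgroupOf M).subgroupOf (N.subgroupOf M) by
        ext x; exact QuotientGroup.eq_one_iff _]
    exact h2
  obtain ⟨tt, htt⟩ : ∃ x : pi.ker, x ≠ 1 := by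
    by_contra h
    push Not at h
    have : Subsingleton pi.ker := ⟨fun a b => (h a).trans (h b).symm⟩
    rw [Nat.card_unique] at hker3
    omega
  let t : MM := tt
  have ht3 : orderOf t = 3 := by
    rw [show t = pi.ker.subtype tt from rfl, orderOf_injective _ pi.ker.subtype_injective]
    refine orderOf_eq_prime ?_ htt
    have h := pow_card_eq_one' (G := pi.ker) (x := tt)
    rwa [hker3] at h
  have hkt : pi.ker = zpowers t := (Subgroup.eq_of_le_of_card_ge (zpowers_le.2 tt.2)
    (by rw [hker3, Nat.card_zpowers, ht3])).symm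
  have hcases : ∀ g : MM, g * t * g⁻¹ = t ∨ g * t * g⁻¹ = t⁻¹ := by
    intro g
    have hmem' : g * t * g⁻¹ ∈ zpowers t := hkt ▸ (MonoidHom.normal_ker pi).conj_mem _ tt.2 g
    obtain ⟨n, hn⟩ := mem_zpowers_iff.1 hmem'
    have ht3' : ((orderOf t : ℕ) : ℤ) = 3 := by rw [ht3]; norm_num
    rw [← zpow_mod_orderOf, ht3'] at hn
    rw [← hn]
    have h0 : 0 ≤ n % 3 := Int.emod_nonneg _ (by norm_num)
    have h3 : n % 3 < 3 := Int.emod_lt_of_pos _ (by norm_num)
    rcases (show n % 3 = 0 ∨ n % 3 = 1 ∨ n % 3 = 2 by omega) with hh | hh | hh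
    · exfalso
      rw [hh, zpow_zero] at hn
      have : t = 1 := conj_eq_one_iff.1 hn.symm
      rw [this, orderOf_one] at ht3
      omega
    · left; rw [hh, zpow_one]
    · right
      rw [hh, eq_inv_iff_mul_eq_one, ← zpow_one t, ← zpow_mul, ← zpow_add, show (1 : ℤ) * 2 + 1 = 3 from rfl,
        ← ht3', zpow_natCast, pow_orderOf_eq_one]
  let Ct : Subgroup MM := centralizer ({t} : Set MM)
  have hCt : Ct.Normal := ⟨fun h hh g => by
    have hh' : Commute h t := mem_centralizer_singleton_iff.1 hh
    refine mem_centralizer_singleton_iff.2 ?_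
    show g * h * g⁻¹ * t = t * (g * h * g⁻¹)
    have e : Commute h (g⁻¹ * t * g) := by
      rcases hcases g⁻¹ with e | e <;> rw [inv_inv] at e <;> rw [e]
      exacts [hh', hh'.inv_right]
    calc g * h * g⁻¹ * t = g * (h * (g⁻¹ * t * g)) * g⁻¹ := by group
      _ = t * (g * h * g⁻¹) := by rw [e.eq]; group⟩
  have hcentral : ∀ g : MM, g * t = t * g := by
    intro g
    haveI := F.simple
    have hn : (Ct.map pi).Normal := hCt.map pi hsurj
    rcases hn.eq_bot_or_eq_top with hb | htop
    · exfalso
      have hsq : ∀ x : MM, x * x ∈ Ct := fun x => mem_centralizer_singleton_iff.2 <| by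
        refine mul_inv_eq_iff_eq_mul.1 ?_
        show x * x * t * (x * x)⁻¹ = t
        rw [show x * x * t * (x * x)⁻¹ = x * (x * t * x⁻¹) * x⁻¹ by group]
        rcases hcases x with e | e <;> rw [e]
        · exact e
        · rw [show x * t⁻¹ * x⁻¹ = (x * t * x⁻¹)⁻¹ by group, e, inv_inv]
      obtain ⟨x, hx⟩ := hsurj (F.el (Pi.single 0 1))
      have h2 : pi (x * x) ∈ Ct.map pi := mem_map_of_mem _ (hsq x)
      rw [hb, mem_bot, map_mul, hx, ← F.el_add, ← F.el_zero] at h2
      exact absurd (congrFun (F.el_inj h2) 0) (by simp; decide)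
    · obtain ⟨k, hk, e⟩ : pi g ∈ Ct.map pi := htop ▸ mem_top _
      have h1 : k⁻¹ * g ∈ zpowers t := hkt ▸ (by
        rw [MonoidHom.mem_ker, map_mul, map_inv, e, inv_mul_cancel])
      have h2 : k⁻¹ * g ∈ Ct := by
        obtain ⟨n, hn⟩ := mem_zpowers_iff.1 h1
        rw [← hn]
        exact mem_centralizer_singleton_iff.2 ((Commute.refl t).zpow_left n).eq
      have := mul_mem hk h2
      rw [mul_inv_cancel_left] at this
      exact mem_centralizer_singleton_iff.1 this
  haveI : Finite V := Nat.finite_of_card_ne_zero (by rw [hVcard]; norm_num)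
  let R : Rep MM V (PSU 4 K 3) :=
    { act := actM
      inj := (injective_iff_map_eq_one actM).2 fun x hx => by
        obtain ⟨m, rfl⟩ := QuotientGroup.mk_surjective x
        exact (QuotientGroup.eq_one_iff m).2 ((actC_one m.1).1 hx)
      two := fun v => by
        rw [← hrp v, ← of_mul, of_zero]
        rcases hub.sq_cases _ (hmem (rp v)) with e | e
        · exact (hcenter _).2 (Or.inl e)
        · exact (hcenter _).2 (Or.inr e)
      card_V := hVcard
      pi := pi
      surj := hsurj
      F := F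
      t := t
      ker := fun g => by rw [← MonoidHom.mem_ker, hkt]
      central := hcentral
      t_order := ht3
      q := q
      q_act := fun g v => by
        obtain ⟨m, rfl⟩ := QuotientGroup.mk_surjective g
        exact q_actC m.1 v
      bil := fun u v w => by
        rw [← hrp u, ← hrp v, ← hrp w, polar, polar, ← of_mul, polar]
        exact Hub.kap1_mul hub (hmem _) (hmem _) (hmem _)
      nondeg := fun v hv => by
        by_contra hno
        push Not at hno
        refine hv ?_
        rw [← hrp v]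
        refine (of_zero _).2 ((hcenter _).2 (hub.self _ fun r hr => ?_))
        obtain ⟨r', hr', rfl⟩ := hr
        have h := hno (of ⟨r', hr'⟩)
        rw [← hrp v, polar] at h
        exact kap1_eq_zero.1 h }
  obtain ⟨crd⟩ := R.exists_coords
  classical
  let toV : G → V := fun x => if hx : x ∈ Q then of (eQ.symm ⟨x, hx⟩) else 0
  have eQsymm : ∀ r (hr : r ∈ Qs) (hx : (r : G) ∈ Q), eQ.symm ⟨r, hx⟩ = ⟨r, hr⟩ := fun r hr hx => by
    apply eQ.injective
    rw [eQ.apply_symm_apply]
    rfl
  have toV_val : ∀ x : Qs, toV ((x : (centralizer ({z} : Set G))) : G) = of x := fun x => by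
    show dite _ _ _ = _
    rw [dif_pos (hmem x), eQsymm _ x.2]
  have exQ : ∀ x ∈ Q, ∃ r : Qs, ((r : (centralizer ({z} : Set G))) : G) = x := fun x hx => by
    obtain ⟨r, hr, e⟩ := hx
    exact ⟨⟨r, hr⟩, e⟩
  let mv : (centralizer ({z} : Set G)) →* AddMonoid.End Vec :=
    { toFun := fun c => crd.psi.symm.toAddMonoidHom.comp ((actC c : V →+ V).comp crd.psi.toAddMonoidHom)
      map_one' := DFunLike.ext _ _ fun v => by
        show crd.psi.symm (actC 1 (crd.psi v)) = v
        rw [map_one]
        exact crd.psi.symm_apply_apply v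
      map_mul' := fun c d => DFunLike.ext _ _ fun v => by
        show crd.psi.symm (actC (c * d) (crd.psi v)) =
          crd.psi.symm (actC c (crd.psi (crd.psi.symm (actC d (crd.psi v)))))
        rw [AddEquiv.apply_symm_apply, map_mul]
        rfl }
  have psi_mv : ∀ c v, crd.psi (mv c v) = actC c (crd.psi v) := fun c v => crd.psi.apply_symm_apply _
  have qf_mv : ∀ c v, qf (mv c v) = qf v := fun c v => by
    rw [← crd.q_psi, psi_mv, ← crd.q_psi]
    exact q_actC c _
  have mv_of_act : ∀ (m : M) v w, R.act (QuotientGroup.mk m) (crd.psi v) = crd.psi w → mv m.1 v = w :=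
    fun m v w h => crd.psi.injective ((psi_mv _ _).trans h)
  have small_trans : ∀ v w, Small v → Small w → ∃ m : M, mv m.1 v = w := fun v w hv hw => by
    obtain ⟨g, hg⟩ := crd.small_orbit v w hv hw
    obtain ⟨m, rfl⟩ := QuotientGroup.mk_surjective g
    exact ⟨m, mv_of_act m v w hg⟩
  have big_trans : ∀ v w, Big v → Big w → ∃ m : M, mv m.1 v = w := fun v w hv hw => by
    obtain ⟨g, hg⟩ := crd.big_orbit v w hv hw
    obtain ⟨m, rfl⟩ := QuotientGroup.mk_surjective g
    exact ⟨m, mv_of_act m v w hg⟩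
  have small_M : ∀ (m : M) v, Small (mv m.1 v) ↔ Small v := fun m v =>
    (crd.small_stable (QuotientGroup.mk m) v _ (psi_mv m.1 v).symm).symm
  have mv_mv : ∀ c d v, mv (c * d) v = mv c (mv d v) := fun c d v => by rw [map_mul]; rfl
  have mv_cancel : ∀ c v, mv c⁻¹ (mv c v) = v := fun c v => by
    rw [← mv_mv, inv_mul_cancel, map_one]; rfl
  have small_fwd : ∀ c v, Small v → Small (mv c v) := by
    intro c v hv
    by_contra hw
    have hne : mv c v ≠ 0 := fun e => hv.2.1 (by rw [← mv_cancel c v, e, map_zero])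
    have hwB : Big (mv c v) := ⟨(qf_mv c v).trans hv.1, hne, fun h => hw ⟨(qf_mv c v).trans hv.1, hne, h⟩⟩
    have key : ∀ y, Big y → Small (mv c⁻¹ y) := by
      intro y hy
      obtain ⟨m, rfl⟩ := big_trans _ y hwB hy
      have hm' : c⁻¹ * m.1 * c ∈ M := by simpa using hM.conj_mem _ m.2 c⁻¹
      have := (small_M ⟨_, hm'⟩ v).2 hv
      rwa [mv_mv, mv_mv] at this
    have hle := Finset.card_le_card_of_injOn (s := Finset.univ.filter Big) (t := Finset.univ.filter Small)
      (fun y => mv c⁻¹ y) (fun y hy => Finset.mem_filter.2 ⟨Finset.mem_univ _, key y (Finset.mem_filter.1 hy).2⟩)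
      (fun a _ b _ e => by
        have := congrArg (fun y => mv c y) e
        simpa [← mv_mv] using this)
    rw [card_small_big.1, card_small_big.2] at hle
    omega
  refine ⟨{
    hub := hub, card_Q := hcardQ
    abelian_le := fun A hA hAc => ?_
    img := fun x => crd.psi.symm (toV x)
    img_mul := ?_, img_eq_zero := ?_, img_surj := ?_, sq_iff := ?_, comm_iff := ?_
    mv := mv
    img_conj := ?_, mv_eq_one := ?_, qf_mv := qf_mv
    small_mv := fun c v => ⟨fun h => mv_cancel c v ▸ small_fwd c⁻¹ _ h, small_fwd c v⟩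
    small_trans := fun v w hv hw => let ⟨m, hm⟩ := small_trans v w hv hw; ⟨m, hm⟩
    big_trans := fun v w hv hw => let ⟨m, hm⟩ := big_trans v w hv hw; ⟨m, hm⟩
    card_quot := card_of_index_two hle hMi R.card_M
    M := M, M_normal := hM, M_index := hMi, Q_le_M := hle
    linear := ?_, mono_mem := ?_ }⟩
  · have hc : IsMulCommutative (A.subgroupOf Q) := ⟨⟨fun a b => Subtype.ext (Subtype.ext (by
      have h := congrArg (fun t : A => (t : G)) (hAc.is_comm.comm (⟨_, a.2⟩ : A) ⟨_, b.2⟩)
      exact h))⟩⟩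
    have h := PGroup.extraspecial_abelian_card_le hexQ hc
    rw [Nat.card_congr (Subgroup.subgroupOfEquivOfLe hA).toEquiv, hcardQ] at h
    exact (Nat.pow_le_pow_iff_left (n := 2) (by norm_num)).1 (h.trans (by norm_num))
  · intro x hx y hy
    obtain ⟨a, rfl⟩ := exQ x hx
    obtain ⟨b, rfl⟩ := exQ y hy
    rw [← map_add, toV_val, toV_val, ← of_mul, ← toV_val]
    rfl
  · intro x hx
    obtain ⟨a, rfl⟩ := exQ x hx
    rw [AddEquiv.map_eq_zero_iff, toV_val, of_zero, hcenter]
  · intro v
    refine ⟨_, hmem (rp (crd.psi v)), ?_⟩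
    rw [toV_val, hrp, crd.psi.symm_apply_apply]
  · intro x hx
    obtain ⟨a, rfl⟩ := exQ x hx
    rw [← crd.q_psi, AddEquiv.apply_symm_apply, toV_val]
    show _ ↔ q (of a) = 0
    rw [q_of, chi1_eq_zero]
  · intro x hx y hy
    obtain ⟨a, rfl⟩ := exQ x hx
    obtain ⟨b, rfl⟩ := exQ y hy
    rw [bf, ← crd.q_psi, ← crd.q_psi, ← crd.q_psi, map_add, AddEquiv.apply_symm_apply,
      AddEquiv.apply_symm_apply, toV_val, toV_val, ← kap1_eq_zero]
    show _ ↔ q (of a + of b) + q (of a) + q (of b) = 0
    rw [polar]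
  · intro c x hx
    obtain ⟨a, rfl⟩ := exQ x hx
    apply crd.psi.injective
    rw [psi_mv, AddEquiv.apply_symm_apply, AddEquiv.apply_symm_apply, ← conj_val, toV_val, toV_val, act_of]
  · intro c
    rw [← actC_one]
    constructor
    · intro h
      refine DFunLike.ext _ _ fun v => ?_
      obtain ⟨w, rfl⟩ := crd.psi.surjective v
      rw [← psi_mv, h]
      rfl
    · intro h
      refine DFunLike.ext _ _ fun w => crd.psi.injective ?_
      rw [psi_mv, h]
      rfl
  · intro m hm v
    apply crd.psi.injective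
    rw [psi_mv, ← crd.t_psi, ← crd.t_psi, psi_mv]
    show R.act (QuotientGroup.mk (⟨m, hm⟩ : M)) (R.act R.t (crd.psi v)) =
      R.act R.t (R.act (QuotientGroup.mk (⟨m, hm⟩ : M)) (crd.psi v))
    rw [← R.act_mul, ← R.act_mul, R.central]
  · intro σ a hσ ha
    obtain ⟨g, hg⟩ := crd.mono_mem σ a hσ ha
    obtain ⟨m, rfl⟩ := QuotientGroup.mk_surjective g
    exact ⟨m.1, m.2, fun v => mv_of_act m v _ (hg v)⟩

end Cfsg.Agent.LFRep
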