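import Cfsg.Agent.Lib.LargeFischer.OuterLoc
import Cfsg.Agent.Lib.LargeFischer.Setting
import Cfsg.Agent.Lib.Components.GenFitting
import Cfsg.Agent.Lib.Transpos.M22Count
import Cfsg.Agent.Lib.ClassicalSimple.UnitaryMatrix

/-!
# An outer involution in an overgroup of index two of a group of large Fischer type

`LFOuter.exists_member`: given the two orbits on the involutions of `Q`, the four-group with centraliser
`U₆(2)` above it and the shape of the centraliser of a noncentral involution, some involution `d` outside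
`G₀` centralises `z` and the derived group `K` of `C_{G₀}(t)`, and `C_{G₀}(d) ∩ C(t) = K`, `t` is conjugate
inside `C_{G₀}(d)` to another element of `K`.
-/

set_option autoImplicit false

namespace Cfsg.Agent.LFOuter

open Subgroup Cfsg

universe u

/-- Both orbits on the involutions of `Q` being given, those not conjugate to `z` form one. -/
theorem conj_of_two_orbits {G : Type u} [Group G] {z : G} (Q : Subgroup (centralizer ({z} : Set G)))
    (hz2 : orderOf z = 2)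
    (hnwc : ∃ g : G, (∃ hq : g * z * g⁻¹ ∈ centralizer ({z} : Set G),
      (⟨g * z * g⁻¹, hq⟩ : centralizer ({z} : Set G)) ∈ Q) ∧ g * z * g⁻¹ ≠ z)
    (horb : ∃ s t : centralizer ({z} : Set G), s ∈ Q ∧ t ∈ Q ∧ orderOf s = 2 ∧ orderOf t = 2 ∧
      (s : G) ≠ z ∧ (t : G) ≠ z ∧ (¬ ∃ h : centralizer ({z} : Set G), h * s * h⁻¹ = t) ∧
      ∀ x : centralizer ({z} : Set G), x ∈ Q → orderOf x = 2 → (x : G) ≠ z →
        (∃ h : centralizer ({z} : Set G), h * s * h⁻¹ = x) ∨ ∃ h : centralizer ({z} : Set G), h * t * h⁻¹ = x)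
    {x y : G} (hx : x ∈ Q.map (centralizer ({z} : Set G)).subtype)
    (hy : y ∈ Q.map (centralizer ({z} : Set G)).subtype) (hx2 : orderOf x = 2) (hy2 : orderOf y = 2)
    (hxz : ¬ IsConj z x) (hyz : ¬ IsConj z y) :
    ∃ h : G, Commute h z ∧ h * x * h⁻¹ = y := by
  obtain ⟨s, t, -, -, -, -, -, -, -, hall⟩ := horb
  obtain ⟨g, ⟨hgc, hgQ⟩, hgz⟩ := hnwc
  obtain ⟨x, hxQ, rfl⟩ := hx
  obtain ⟨y, hyQ, rfl⟩ := hy
  set w : centralizer ({z} : Set G) := ⟨g * z * g⁻¹, hgc⟩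
  have hw2 : orderOf w = 2 := by
    rw [← orderOf_injective _ (centralizer ({z} : Set G)).subtype_injective w]
    exact ((MulAut.conj g).orderOf_eq z).trans hz2
  have hwz : IsConj z (w : G) := isConj_iff.2 ⟨g, rfl⟩
  have tr : ∀ (a : centralizer ({z} : Set G)) (p : centralizer ({z} : Set G)),
      ¬ IsConj z (p : G) → (∃ h, h * a * h⁻¹ = w) → ¬ ∃ h, h * a * h⁻¹ = p := by
    rintro a p hp ⟨h, hh⟩ ⟨k, hk⟩
    refine hp (hwz.trans (isConj_iff.2 ⟨((k * h⁻¹ : centralizer ({z} : Set G)) : G), ?_⟩))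
    rw [← hk, ← hh]
    push_cast
    group
  have hx' := hall x hxQ (by rwa [← orderOf_injective _ (centralizer ({z} : Set G)).subtype_injective])
    fun h => hxz (by show IsConj z (x : G); rw [h])
  have hy' := hall y hyQ (by rwa [← orderOf_injective _ (centralizer ({z} : Set G)).subtype_injective])
    fun h => hyz (by show IsConj z (y : G); rw [h])
  have fin : ∀ a : centralizer ({z} : Set G), (∃ h, h * a * h⁻¹ = x) → (∃ h, h * a * h⁻¹ = y) →
      ∃ h : G, Commute h z ∧ h * (x : G) * h⁻¹ = y := by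
    rintro a ⟨h, hh⟩ ⟨k, hk⟩
    refine ⟨((k * h⁻¹ : centralizer ({z} : Set G)) : G), mem_centralizer_singleton_iff.1 (k * h⁻¹).2, ?_⟩
    rw [← hk, ← hh]
    push_cast
    group
  rcases hall w hgQ hw2 hgz with hw | hw
  · exact fin t (hx'.resolve_left (tr s x hxz hw)) (hy'.resolve_left (tr s y hyz hw))
  · exact fin s (hx'.resolve_right (tr t x hxz hw)) (hy'.resolve_right (tr t y hyz hw))

/-- The centre of the centraliser of `E`. -/
theorem center_cent_le {G : Type u} [Group G] (E : Subgroup G) (hab : IsMulCommutative ↥E)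
    (hq : IsQuasisimple ↥(centralizer (E : Set G))) [(E.subgroupOf (centralizer (E : Set G))).Normal]
    {F : Type} [Field F] [Fintype F] (hF : Fintype.card F = 4)
    (e : ↥(centralizer (E : Set G)) ⧸ E.subgroupOf (centralizer (E : Set G)) ≃* PSU 6 F 2)
    {p : G} (hp : p ∈ centralizer (E : Set G)) (hpc : ∀ c ∈ centralizer (E : Set G), Commute p c) :
    p ∈ E := by
  set CE := centralizer (E : Set G)
  haveI : IsSimpleGroup (PSU 6 F 2) :=
    ClassicalSimple.PSU_isSimpleGroup (q := 2) (by rw [hF]; norm_num) (by norm_num) (by norm_num)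
  haveI := MulEquiv.isSimpleGroup e
  have hEC : E ≤ CE := fun x hx => mem_centralizer_iff.2 fun y hy =>
    congrArg Subtype.val (mul_comm' (⟨y, hy⟩ : E) ⟨x, hx⟩)
  set π := QuotientGroup.mk' (E.subgroupOf CE)
  have hmem : (⟨p, hp⟩ : CE) ∈ center ↥CE :=
    mem_center_iff.2 fun c => Subtype.ext (hpc c c.2).symm.eq
  rcases ((inferInstance : (center ↥CE).Normal).map π (QuotientGroup.mk'_surjective _)).eq_bot_or_eq_top
    with h | h
  · have h1 : π ⟨p, hp⟩ = 1 := mem_bot.1 (h ▸ mem_map_of_mem π hmem)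
    exact mem_subgroupOf.1 ((QuotientGroup.eq_one_iff (N := E.subgroupOf CE) ⟨p, hp⟩).1 h1)
  · exfalso
    have hker : E.subgroupOf CE ≤ center ↥CE := fun x hx => mem_center_iff.2 fun c =>
      Subtype.ext (mem_centralizer_iff.1 c.2 (x : G) hx).symm
    have htop : center ↥CE = ⊤ := by
      have := congrArg (comap π) h
      rwa [comap_map_eq, comap_top, QuotientGroup.ker_mk', sup_eq_left.2 hker] at this
    have hsimp := hq.2
    obtain ⟨a, ha⟩ := exists_ne (1 : ↥CE ⧸ center ↥CE)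
    induction a using QuotientGroup.induction_on with
    | _ a => exact ha ((QuotientGroup.eq_one_iff a).2 (htop ▸ mem_top a))

theorem eleven_dvd_cent {G : Type u} [Group G] (E : Subgroup G)
    [(E.subgroupOf (centralizer (E : Set G))).Normal] {F : Type} [Field F] [Fintype F]
    (hF : Fintype.card F = 4)
    (e : ↥(centralizer (E : Set G)) ⧸ E.subgroupOf (centralizer (E : Set G)) ≃* PSU 6 F 2) :
    11 ∣ Nat.card ↥(centralizer (E : Set G)) := by
  refine Dvd.dvd.trans ?_ (Subgroup.index_dvd_card (E.subgroupOf (centralizer (E : Set G))))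
  rw [Subgroup.index_eq_card, Nat.card_congr e.toEquiv, Transpos.card_PSU_six hF]
  norm_num

variable {X : Type u} [Group X]

/-- What is constructed. -/
structure Member (G₀ : Subgroup X) (z d t : X) : Prop where
  order_d : orderOf d = 2
  notMem : d ∉ G₀
  comm_z : Commute d z
  mem_t : t ∈ G₀
  notConj : ¬ ∃ g ∈ G₀, g * z * g⁻¹ = t
  loc : Loc G₀ t
  cent : ∀ k ∈ Kt G₀ t, Commute d k
  only : ∀ c ∈ G₀ ⊓ centralizer ({t} : Set X), Commute c d → c ∈ Kt G₀ t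
  fusion : ∃ g ∈ G₀, Commute g d ∧ g * t * g⁻¹ ≠ t ∧ g * t * g⁻¹ ∈ Kt G₀ t

/-- An outer element centralising `Kt G₀ t` does not centralise `C_{G₀}(t)`. -/
theorem not_central (G₀ : Subgroup X) (hidx : G₀.index = 2) {Q : Subgroup X} {z t d : X}
    (hQG : Q ≤ G₀) (hz2 : z * z = 1) (hz1 : z ≠ 1) (hzQ : z ∈ Q) (hcen : ∀ q ∈ Q, Commute q z)
    (hcomm : ∀ q ∈ Q, ∀ r ∈ Q, q * r * q⁻¹ = r ∨ q * r * q⁻¹ = r * z)
    (hsq : ∀ q ∈ Q, q * q = 1 ∨ q * q = z)
    (hself : ∀ x ∈ Q, (∀ q ∈ Q, Commute x q) → x = 1 ∨ x = z)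
    (hCX : ∀ x : X, (∀ q ∈ Q, Commute x q) → x ∈ Q)
    (hdn : ∀ q ∈ Q, d * q * d⁻¹ ∈ Q)
    (htQ : t ∈ Q) (htz : t ≠ z) (L : Loc G₀ t) (hdG : d ∉ G₀) (hd : ∀ k ∈ Kt G₀ t, Commute d k)
    {c : X} (hc : c ∈ G₀ ⊓ centralizer ({t} : Set X)) (hcd : Commute c d) : c ∈ Kt G₀ t := by
  by_contra hcK
  have hall : ∀ a ∈ G₀ ⊓ centralizer ({t} : Set X), Commute d a := by
    intro a ha
    by_cases haK : a ∈ Kt G₀ t
    · exact hd a haK
    · have h := (hd _ (L.pair a ha c hc haK hcK)).mul_right hcd.symm.inv_right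
      rwa [mul_inv_cancel_right] at h
  obtain ⟨q, hq, hqd⟩ := exists_inner_of_fixes Q z t d hz2 hz1 hzQ hcen hcomm hsq hself htQ L.inv
    L.ne_one htz hdn fun q hq hqt => hall q (mem_cent.2 ⟨hQG hq, hqt⟩)
  have h := hCX (q⁻¹ * d) fun x hx => mul_inv_eq_iff_eq_mul.1 (by
    calc q⁻¹ * d * x * (q⁻¹ * d)⁻¹ = q⁻¹ * (d * x * d⁻¹) * q := by group
      _ = x := by rw [hqd x hx]; group)
  exact hdG (by simpa using G₀.mul_mem (hQG hq) (hQG h))

/-- Choosing an element common to the two cosets. -/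
theorem exists_common {E : Set X} {t t' d d' : X} (hE : E = {1, t, t', t * t'})
    (hp : d⁻¹ * d' ∈ E) {K K' : Set X}
    (ht : ∀ k ∈ K, Commute t k) (ht' : ∀ k ∈ K', Commute t' k)
    (hd : ∀ k ∈ K, Commute d k) (hd' : ∀ k ∈ K', Commute d' k) (G₀ : Subgroup X)
    (hdG : d ∉ G₀) (hd'G : d' ∉ G₀) (htG : t ∈ G₀) :
    ∃ e : X, e ∉ G₀ ∧ (∀ k ∈ K, Commute e k) ∧ ∀ k ∈ K', Commute e k := by
  rw [hE, Set.mem_insert_iff, Set.mem_insert_iff, Set.mem_insert_iff, Set.mem_singleton_iff] at hp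
  rcases hp with h | h | h | h <;> replace h := inv_mul_eq_iff_eq_mul.1 h
  · rw [mul_one] at h
    exact ⟨d, hdG, hd, fun k hk => h ▸ hd' k hk⟩
  · exact ⟨d', hd'G, fun k hk => h ▸ (hd k hk).mul_left (ht k hk), hd'⟩
  · refine ⟨d, hdG, hd, fun k hk => ?_⟩
    have := (hd' k hk).mul_left (ht' k hk).inv_left
    rwa [h, mul_inv_cancel_right] at this
  · refine ⟨d * t, fun hh => hdG (by simpa using G₀.mul_mem hh (G₀.inv_mem htG)),
      fun k hk => (hd k hk).mul_left (ht k hk), fun k hk => ?_⟩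
    have := (hd' k hk).mul_left (ht' k hk).inv_left
    rwa [h, ← mul_assoc, mul_inv_cancel_right] at this

theorem exists_member [Finite X] (G₀ : Subgroup X) (hidx : G₀.index = 2) (z : ↥G₀)
    (Q : Subgroup (centralizer ({z} : Set ↥G₀))) [Q.Normal] (hF : IsOfLargeFischerTypeAt z Q)
    (hcentral : ∃ P : Sylow 2 ↥G₀, z ∈ (P : Subgroup ↥G₀) ∧ ∀ x ∈ (P : Subgroup ↥G₀), Commute x z)
    (hFX : (generalizedFittingSubgroup ↥(centralizer ({(z : X)} : Set X))).map (Subgroup.subtype _) =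
      ((Q.map (Subgroup.subtype _)).map G₀.subtype))
    (horb : ∃ s t : centralizer ({z} : Set ↥G₀), s ∈ Q ∧ t ∈ Q ∧ orderOf s = 2 ∧ orderOf t = 2 ∧
      (s : ↥G₀) ≠ z ∧ (t : ↥G₀) ≠ z ∧ (¬ ∃ h : centralizer ({z} : Set ↥G₀), h * s * h⁻¹ = t) ∧
      ∀ x : centralizer ({z} : Set ↥G₀), x ∈ Q → orderOf x = 2 → (x : ↥G₀) ≠ z →
        (∃ h : centralizer ({z} : Set ↥G₀), h * s * h⁻¹ = x) ∨
          ∃ h : centralizer ({z} : Set ↥G₀), h * t * h⁻¹ = x)
    (hfour : ∃ E : Subgroup ↥G₀, E ≤ (Q.map (centralizer ({z} : Set ↥G₀)).subtype) ∧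
      IsElementaryAbelian 2 E ∧ Nat.card E = 4 ∧ z ∉ E ∧ (∃ t ∈ E, orderOf t = 2 ∧ ¬ IsConj z t) ∧
      IsQuasisimple ↥(centralizer (E : Set ↥G₀)) ∧
      ∃ (_ : (E.subgroupOf (centralizer (E : Set ↥G₀))).Normal) (K : Type) (_ : Field K) (_ : Fintype K),
        Fintype.card K = 4 ∧
          Nonempty (↥(centralizer (E : Set ↥G₀)) ⧸ E.subgroupOf (centralizer (E : Set ↥G₀)) ≃* PSU 6 K 2))
    (hinv : ∀ t : ↥G₀, (∃ htc : t ∈ centralizer ({z} : Set ↥G₀),
        (⟨t, htc⟩ : centralizer ({z} : Set ↥G₀)) ∈ Q) → orderOf t = 2 → ¬ IsConj z t →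
      ∀ [((zpowers t).subgroupOf (centralizer ({t} : Set ↥G₀))).Normal],
        IsQuasisimple ↥(generalizedFittingSubgroup ↥(centralizer ({t} : Set ↥G₀))) ∧
        (generalizedFittingSubgroup ↥(centralizer ({t} : Set ↥G₀))).index = 2 ∧
        (∃ htc : t ∈ centralizer ({t} : Set ↥G₀), (⟨t, htc⟩ : ↥(centralizer ({t} : Set ↥G₀))) ∈
          generalizedFittingSubgroup ↥(centralizer ({t} : Set ↥G₀))) ∧
        Nonempty (↥(centralizer ({t} : Set ↥G₀)) ⧸ (zpowers t).subgroupOf (centralizer ({t} : Set ↥G₀)) ≃*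
          MulAut Spor.Fi22)) :
    ∃ d t : X, Member G₀ (z : X) d t := by
  haveI hGn : G₀.Normal := normal_of_index_eq_two hidx
  obtain ⟨D⟩ := LFRep.exists_model hF
  obtain ⟨⟨hzord, -, -, hQcard, hnwc⟩, -⟩ := hF
  have H := D.hub
  set Q' := Q.map (centralizer ({z} : Set ↥G₀)).subtype
  set QX := Q'.map G₀.subtype
  -- the facts about `Q` in the overgroup
  have hQG : QX ≤ G₀ := map_subtype_le _
  have hup : ∀ q ∈ QX, ∃ q' ∈ Q', (q' : X) = q := fun q hq => mem_map.1 hq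
  have hz2 : (z : X) * z = 1 := congrArg Subtype.val H.sq
  have hz1 : (z : X) ≠ 1 := fun h => H.ne_one (Subtype.ext h)
  have hzQ : (z : X) ∈ QX := mem_map_of_mem _ H.mem
  have hcen : ∀ q ∈ QX, Commute q (z : X) := fun q hq => by
    obtain ⟨a, ha, rfl⟩ := hup q hq
    exact congrArg Subtype.val (H.central a ha).eq
  have hcomm : ∀ q ∈ QX, ∀ r ∈ QX, q * r * q⁻¹ = r ∨ q * r * q⁻¹ = r * z := fun q hq r hr => by
    obtain ⟨a, ha, rfl⟩ := hup q hq
    obtain ⟨b, hb, rfl⟩ := hup r hr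
    exact (H.comm a ha b hb).imp (congrArg Subtype.val) (congrArg Subtype.val)
  have hsq : ∀ q ∈ QX, q * q = 1 ∨ q * q = z := fun q hq => by
    obtain ⟨a, ha, rfl⟩ := hup q hq
    exact (H.sq_cases a ha).imp (congrArg Subtype.val) (congrArg Subtype.val)
  have hself : ∀ x ∈ QX, (∀ q ∈ QX, Commute x q) → x = 1 ∨ x = z := fun x hx h => by
    obtain ⟨a, ha, rfl⟩ := hup x hx
    exact (H.self a fun q hq => Subtype.ext (h q (mem_map_of_mem _ hq)).eq).imp
      (congrArg Subtype.val) (congrArg Subtype.val)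
  have hCX : ∀ x : X, (∀ q ∈ QX, Commute x q) → x ∈ QX := by
    intro x hx
    have hxc : x ∈ centralizer ({(z : X)} : Set X) := mem_centralizer_singleton_iff.2 (hx _ hzQ).eq
    rw [← hFX]
    refine ⟨⟨x, hxc⟩, Components.centralizer_generalizedFittingSubgroup_le
      (mem_centralizer_iff.2 fun y hy => Subtype.ext (hx y ?_).symm.eq), rfl⟩
    rw [← hFX]; exact mem_map_of_mem _ hy
  have hnorm : ∀ y : X, Commute y (z : X) → ∀ q ∈ QX, y * q * y⁻¹ ∈ QX := by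
    intro y hy q hq
    rw [← hFX] at hq ⊢
    obtain ⟨q, hq, rfl⟩ := hq
    have hn : (generalizedFittingSubgroup ↥(centralizer ({(z : X)} : Set X))).Normal := inferInstance
    exact ⟨_, hn.conj_mem q hq ⟨y, mem_centralizer_singleton_iff.2 hy.eq⟩, rfl⟩
  -- an outer element centralising z
  obtain ⟨y, hyG, hyz⟩ : ∃ y : X, y ∉ G₀ ∧ Commute y (z : X) := by
    obtain ⟨P, hzP, hPz⟩ := hcentral
    obtain ⟨y, hyN, hyG⟩ : ∃ y ∈ normalizer (((P : Subgroup ↥G₀).map G₀.subtype : Subgroup X) : Set X),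
        y ∉ G₀ := by
      by_contra hcon
      push Not at hcon
      have h := Sylow.normalizer_sup_eq_top P
      rw [sup_eq_right.2 hcon] at h
      rw [h, index_top] at hidx
      norm_num at hidx
    have hQP : Q' ≤ P := by
      have hPn : (P : Subgroup ↥G₀) ≤ normalizer (Q' : Set ↥G₀) := fun p hp => by
        rw [mem_normalizer_iff]
        refine fun q => ⟨fun hq => H.normalizes p (hPz p hp) q hq, fun hq => ?_⟩
        have := H.normalizes p⁻¹ (hPz p hp).inv_left _ hq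
        simpa [mul_assoc] using this
      have hQp : IsPGroup 2 ↥Q' := IsPGroup.of_card (n := 2 * 6 + 1) (by
        rw [Subgroup.card_subtype]; exact hQcard)
      have hsup : IsPGroup 2 ↥((P : Subgroup ↥G₀) ⊔ Q') :=
        IsPGroup.to_sup_of_normal_right' P.isPGroup' hQp hPn
      exact le_sup_right.trans (P.is_maximal' hsup le_sup_left).le
    refine ⟨y, hyG, ?_⟩
    obtain ⟨w, hwP, hw⟩ := (mem_normalizer_iff.1 hyN (z : X)).1 (mem_map_of_mem _ hzP)
    have hw' : (w : X) = y * z * y⁻¹ := hw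
    have hwc : ∀ p ∈ Q', Commute w p := fun p hp => by
      obtain ⟨p₀, hp₀, hpe⟩ := (mem_normalizer_iff.1 (inv_mem hyN) (p : X)).1 (mem_map_of_mem _ (hQP hp))
      have h := (show Commute (p₀ : X) (z : X) from congrArg Subtype.val (hPz p₀ hp₀).eq).map
        (MulAut.conj y).toMonoidHom
      have hp₀' : (p₀ : X) = y⁻¹ * p * y⁻¹⁻¹ := hpe
      simp only [MulEquiv.coe_toMonoidHom, MulAut.conj_apply, hp₀', ← hw', inv_inv] at h
      refine Subtype.ext (show (w : X) * p = p * w from ?_)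
      rw [show y * (y⁻¹ * (p : X) * y) * y⁻¹ = p by group] at h
      exact h.eq.symm
    rcases H.self w hwc with h | h
    · exact absurd (conj_eq_one_iff.1 (hw'.symm.trans (congrArg Subtype.val h))) hz1
    · exact mul_inv_eq_iff_eq_mul.1 (hw'.symm.trans (congrArg Subtype.val h))
  -- the four-group
  obtain ⟨E, hEQ, ⟨hEab, hE2⟩, hE4, hzE, ⟨t₀, ht₀E, ht₀2, ht₀z⟩, hEq, hEn, F, iF, iFt, hFc, ⟨eE⟩⟩ :=
    hfour
  set CE := centralizer (E : Set ↥G₀)
  have hEC : E ≤ CE := fun x hx => mem_centralizer_iff.2 fun w hw =>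
    congrArg Subtype.val (mul_comm' (⟨w, hw⟩ : E) ⟨x, hx⟩)
  have hzCE : z ∈ CE := mem_centralizer_iff.2 fun w hw => (H.central w (hEQ hw)).eq
  have h11 : 11 ∣ Nat.card ↥CE := eleven_dvd_cent E hFc eE
  have hHcard : Nat.card ↥(centralizer ({z} : Set ↥G₀)) = 19595520 * 2 ^ 13 := by
    rw [← Q.index_mul_card, D.card_quot, hQcard]
  have hnc : ∀ t ∈ E, orderOf t = 2 → ¬ IsConj z t := by
    intro t htE ht2 hconj
    obtain ⟨g, hg⟩ := isConj_iff.1 hconj
    have hmap : (centralizer ({z} : Set ↥G₀)).map (MulAut.conj g).toMonoidHom =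
        centralizer ({t} : Set ↥G₀) := by
      ext x
      rw [← hg, mem_map_equiv, mem_centralizer_singleton_iff, mem_centralizer_singleton_iff]
      simp only [MulAut.conj_symm_apply]
      constructor
      · intro h
        calc x * (g * z * g⁻¹) = g * (g⁻¹ * x * g * z) * g⁻¹ := by group
          _ = g * (z * (g⁻¹ * x * g)) * g⁻¹ := by rw [h]
          _ = g * z * g⁻¹ * x := by group
      · intro h
        calc g⁻¹ * x * g * z = g⁻¹ * (x * (g * z * g⁻¹)) * g := by group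
          _ = g⁻¹ * (g * z * g⁻¹ * x) * g := by rw [h]
          _ = z * (g⁻¹ * x * g) := by group
    have hle : CE ≤ centralizer ({t} : Set ↥G₀) := fun x hx =>
      mem_centralizer_singleton_iff.2 (mem_centralizer_iff.1 hx t htE).symm
    have h := h11.trans (card_dvd_of_le hle)
    rw [← hmap, card_map_of_injective (MulAut.conj g).injective, hHcard] at h
    norm_num at h
  have hord : ∀ t ∈ E, t ≠ 1 → orderOf t = 2 := fun t ht h1 => orderOf_eq_prime (hE2 t ht) h1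
  have hmemQ : ∀ t ∈ E, (t : X) ∈ QX := fun t ht => mem_map_of_mem _ (hEQ ht)
  -- the centraliser of E lies in the derived group
  have hCEK : ∀ t ∈ E, ∀ c ∈ CE, (c : X) ∈ Kt G₀ (t : X) := by
    intro t ht c hc
    have hle : CE.map G₀.subtype ≤ G₀ ⊓ centralizer ({(t : X)} : Set X) := by
      rintro _ ⟨x, hx, rfl⟩
      exact mem_cent.2 ⟨x.2, congrArg Subtype.val (mem_centralizer_iff.1 hx t ht).symm⟩
    refine commutator_mono hle hle ?_
    rw [← map_commutator]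
    refine mem_map_of_mem G₀.subtype ?_
    have h : (⟨c, hc⟩ : ↥CE) ∈ commutator ↥CE := by
      rw [(Group.isPerfect_def).1 hEq.1]; exact mem_top _
    have h2 := mem_map_of_mem CE.subtype h
    rwa [map_subtype_commutator] at h2
  -- for each involution of E: the local data and an outer element centralising it
  have main : ∀ t ∈ E, t ≠ 1 → Loc G₀ (t : X) ∧
      ∃ d : X, d ∉ G₀ ∧ ∀ k ∈ Kt G₀ (t : X), Commute d k := by
    intro t htE ht1
    have ht2 := hord t htE ht1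
    haveI : ((zpowers t).subgroupOf (centralizer ({t} : Set ↥G₀))).Normal := ⟨fun a ha g => by
      have h : Commute (g : ↥G₀) (a : ↥G₀) := by
        obtain ⟨n, hn⟩ := mem_zpowers_iff.1 (mem_subgroupOf.1 ha)
        rw [← hn]
        exact (show Commute (g : ↥G₀) t from mem_centralizer_singleton_iff.1 g.2).zpow_right n
      rwa [show g * a * g⁻¹ = a from mul_inv_eq_iff_eq_mul.2 (Subtype.ext h.eq)]⟩
    obtain ⟨q, hq, hqt⟩ := hEQ htE
    have htQ : ∃ htc : t ∈ centralizer ({z} : Set ↥G₀),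
        (⟨t, htc⟩ : centralizer ({z} : Set ↥G₀)) ∈ Q := by
      subst hqt
      exact ⟨q.2, hq⟩
    obtain ⟨hq1, hq2, hq3, ⟨eA⟩⟩ := hinv t htQ ht2 (hnc t htE ht2)
    have L : Loc G₀ (t : X) := Loc.of_iso G₀ t ht2 _ hq1 hq2 hq3 eA
    refine ⟨L, ?_⟩
    have hy't : y * (t : X) * y⁻¹ ∈ QX := hnorm y hyz _ (hmemQ t htE)
    obtain ⟨t', ht'Q, ht'e⟩ := hup _ hy't
    have ht'2 : orderOf t' = 2 := by
      rw [← orderOf_injective _ G₀.subtype_injective t']
      rw [show G₀.subtype t' = MulAut.conj y (t : X) from ht'e, MulEquiv.orderOf_eq]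
      exact (orderOf_injective _ G₀.subtype_injective t).trans ht2
    have ht'z : ¬ IsConj z t' := fun h => by
      obtain ⟨g, hg⟩ := isConj_iff.1 h
      refine hnc t htE ht2 (isConj_iff.2 ⟨⟨y⁻¹ * g * y, by simpa using hGn.conj_mem _ g.2 y⁻¹⟩, ?_⟩)
      refine Subtype.ext ?_
      show y⁻¹ * (g : X) * y * z * (y⁻¹ * g * y)⁻¹ = t
      have hg' : (g : X) * z * (g : X)⁻¹ = y * t * y⁻¹ := (congrArg Subtype.val hg).trans ht'e
      have hyz' : y * (z : X) * y⁻¹ = z := by rw [hyz.eq, mul_inv_cancel_right]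
      calc y⁻¹ * (g : X) * y * z * (y⁻¹ * g * y)⁻¹ = y⁻¹ * (g * (y * z * y⁻¹) * (g : X)⁻¹) * y := by group
        _ = t := by rw [hyz', hg']; group
    obtain ⟨h, hhz, hh⟩ := conj_of_two_orbits Q hzord hnwc horb (hEQ htE) ht'Q ht2 ht'2
      (hnc t htE ht2) ht'z
    refine L.exists_outer (y := (h : X)⁻¹ * y) ?_ fun hcon => hyG (by simpa using G₀.mul_mem h.2 hcon)
    have hh' : (h : X) * t * (h : X)⁻¹ = y * t * y⁻¹ := (congrArg Subtype.val hh).trans ht'e
    refine mul_inv_eq_iff_eq_mul.1 ?_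
    calc (h : X)⁻¹ * y * t * ((h : X)⁻¹ * y)⁻¹ = (h : X)⁻¹ * (y * t * y⁻¹) * h := by group
      _ = t := by rw [← hh']; group
  have ht₀1 : t₀ ≠ 1 := fun h => by rw [h, orderOf_one] at ht₀2; norm_num at ht₀2
  obtain ⟨t₁, ht₁E, ht₁1, ht₁0⟩ : ∃ t₁ ∈ E, t₁ ≠ 1 ∧ t₁ ≠ t₀ := by
    by_contra hcon
    push Not at hcon
    have hsub : (E : Set ↥G₀) ⊆ {1, t₀} := fun x hx => by
      by_cases h : x = 1
      · exact Or.inl h
      · exact Or.inr (hcon x hx h)
    have := (Set.ncard_le_ncard hsub (Set.toFinite _)).trans (Set.ncard_pair ht₀1.symm).le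
    rw [← Nat.card_coe_set_eq] at this
    have : Nat.card ↥E ≤ 2 := this
    omega
  obtain ⟨L₀, d₀, hd₀G, hd₀⟩ := main t₀ ht₀E ht₀1
  obtain ⟨L₁, d₁, hd₁G, hd₁⟩ := main t₁ ht₁E ht₁1
  have hdd : d₀⁻¹ * d₁ ∈ G₀ :=
    (mul_mem_iff_of_index_two hidx).2 (iff_of_false (fun h => hd₀G (inv_mem_iff.1 h)) hd₁G)
  have hpc : ∀ c ∈ CE, Commute (d₀⁻¹ * d₁) (c : X) := fun c hc =>
    (hd₀ _ (hCEK t₀ ht₀E c hc)).inv_left.mul_left (hd₁ _ (hCEK t₁ ht₁E c hc))
  have hpE : (⟨_, hdd⟩ : ↥G₀) ∈ E := center_cent_le E hEab hEq hFc eE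
    (mem_centralizer_iff.2 fun w hw => Subtype.ext (hpc w (hEC hw)).symm.eq)
    fun c hc => Subtype.ext (hpc c hc).eq
  have hEset : (E : Set ↥G₀) = {1, t₀, t₁, t₀ * t₁} := by
    refine (Set.eq_of_subset_of_ncard_le ?_ ?_ (Set.toFinite _)).symm
    · rintro x (rfl | rfl | rfl | rfl)
      exacts [E.one_mem, ht₀E, ht₁E, E.mul_mem ht₀E ht₁E]
    · rw [← Nat.card_coe_set_eq]
      change Nat.card ↥E ≤ _
      rw [hE4]
      have a1 : (1 : ↥G₀) ∉ ({t₀, t₁, t₀ * t₁} : Set ↥G₀) := by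
        simp only [Set.mem_insert_iff, Set.mem_singleton_iff, not_or]
        refine ⟨ht₀1.symm, ht₁1.symm, fun h => ht₁0 ?_⟩
        have h2 : t₀ * t₀ = 1 := (pow_two t₀).symm.trans (hE2 t₀ ht₀E)
        exact mul_left_cancel (h.symm.trans h2.symm)
      have a2 : t₀ ∉ ({t₁, t₀ * t₁} : Set ↥G₀) := by
        simp only [Set.mem_insert_iff, Set.mem_singleton_iff, not_or]
        exact ⟨ht₁0.symm, fun h => ht₁1 (mul_eq_left.1 h.symm)⟩
      have a3 : t₁ ∉ ({t₀ * t₁} : Set ↥G₀) := fun h => ht₀1 (mul_eq_right.1 h.symm)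
      rw [Set.ncard_insert_of_notMem a1, Set.ncard_insert_of_notMem a2, Set.ncard_insert_of_notMem a3,
        Set.ncard_singleton]
  obtain ⟨d, hdG, hd0, hd1⟩ := exists_common
    (E := ({1, (t₀ : X), (t₁ : X), (t₀ : X) * t₁} : Set X)) rfl
    (K := (Kt G₀ (t₀ : X) : Set X)) (K' := (Kt G₀ (t₁ : X) : Set X))
    (by
      have h : (⟨_, hdd⟩ : ↥G₀) ∈ ({1, t₀, t₁, t₀ * t₁} : Set ↥G₀) := hEset ▸ hpE
      simp only [Set.mem_insert_iff, Set.mem_singleton_iff, Subtype.ext_iff] at h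
      exact h)
    (fun k hk => (commute_of_mem_Kt hk).symm) (fun k hk => (commute_of_mem_Kt hk).symm) hd₀ hd₁ G₀
    hd₀G hd₁G t₀.2
  have hdz : Commute d (z : X) := hd0 _ (hCEK t₀ ht₀E z hzCE)
  have hne01 : (t₁ : X) ≠ t₀ := fun h => ht₁0 (Subtype.ext h)
  have hd2 : d * d = 1 := by
    have hmem : ∀ (t : X), Loc G₀ t → (∀ k ∈ Kt G₀ t, Commute d k) → d * d = 1 ∨ d * d = t :=
      fun t L hdt => L.faithful _ (mem_cent.2 ⟨mul_self_mem_of_index_two hidx d,
        (L.outer_commute hdt).mul_left (L.outer_commute hdt)⟩) fun k hk => (hdt k hk).mul_left (hdt k hk)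
    rcases hmem _ L₀ hd0 with h | h
    · exact h
    · rcases hmem _ L₁ hd1 with h' | h'
      · exact h'
      · exact absurd (h'.symm.trans h) hne01
  have hdn := hnorm d hdz
  have hzne : ∀ t ∈ E, (t : X) ≠ z := fun t ht h => hzE ((Subtype.ext h : t = z) ▸ ht)
  have honly : ∀ t ∈ E, Loc G₀ (t : X) → (∀ k ∈ Kt G₀ (t : X), Commute d k) →
      ∀ c ∈ G₀ ⊓ centralizer ({(t : X)} : Set X), Commute c d → c ∈ Kt G₀ (t : X) :=
    fun t ht L hdt c hc hcd => not_central G₀ hidx hQG hz2 hz1 hzQ hcen hcomm hsq hself hCX hdn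
      (hmemQ t ht) (hzne t ht) L hdG hdt hc hcd
  -- fusion
  obtain ⟨h, -, hh⟩ := conj_of_two_orbits Q hzord hnwc horb (hEQ ht₀E) (hEQ ht₁E) ht₀2
    (hord t₁ ht₁E ht₁1) ht₀z (hnc t₁ ht₁E (hord t₁ ht₁E ht₁1))
  have hh' : (h : X) * t₀ * (h : X)⁻¹ = t₁ := congrArg Subtype.val hh
  set e := (h : X) * d * (h : X)⁻¹ with hedef
  have heG : e ∉ G₀ := fun hcon => hdG (by simpa [hedef, mul_assoc] using hGn.conj_mem e hcon (h : X)⁻¹)
  have he : ∀ k ∈ Kt G₀ (t₁ : X), Commute e k := fun k hk => by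
    have h1 := conj_mem_Kt (h : X)⁻¹ hk
    rw [show (h : X)⁻¹ * t₁ * (h : X)⁻¹⁻¹ = t₀ by rw [← hh']; group] at h1
    have h2 := (hd0 _ h1).map (MulAut.conj (h : X))
    simp only [MulAut.conj_apply] at h2
    rwa [show (h : X) * ((h : X)⁻¹ * k * (h : X)⁻¹⁻¹) * (h : X)⁻¹ = k by group] at h2
  have ht₁K : (t₁ : X) ∈ Kt G₀ (t₀ : X) := hCEK t₀ ht₀E t₁ (hEC ht₁E)
  refine ⟨d, t₀, orderOf_eq_prime (by rw [pow_two, hd2]) fun h => hdG (h ▸ G₀.one_mem), hdG, hdz, t₀.2,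
    fun ⟨g, hg, hgt⟩ => ht₀z (isConj_iff.2 ⟨⟨g, hg⟩, Subtype.ext hgt⟩), L₀, hd0,
    honly t₀ ht₀E L₀ hd0, ?_⟩
  rcases L₁.outer_unique hidx hdG heG hd1 he with hcase | hcase
  · refine ⟨h, h.2, ?_, hh'.symm ▸ hne01, hh'.symm ▸ ht₁K⟩
    exact mul_inv_eq_iff_eq_mul.1 hcase
  · obtain ⟨k, hk, hkK⟩ := L₁.proper
    obtain ⟨hkG, hkt⟩ := mem_cent.1 hk
    have hkd : k * d * k⁻¹ = d * t₁ := by
      refine (L₁.outer_unique hidx hdG (d' := k * d * k⁻¹) ?_ hd1 ?_).resolve_left fun hcon =>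
        hkK (honly t₁ ht₁E L₁ hd1 k hk (mul_inv_eq_iff_eq_mul.1 hcon))
      · exact fun hcon => hdG (by simpa [mul_assoc] using hGn.conj_mem _ hcon k⁻¹)
      · intro x hx
        have h1 := conj_mem_Kt k⁻¹ hx
        rw [show k⁻¹ * (t₁ : X) * k⁻¹⁻¹ = t₁ by rw [hkt.inv_left.eq, mul_inv_cancel_right]] at h1
        have h2 := (hd1 _ h1).map (MulAut.conj k)
        simp only [MulAut.conj_apply] at h2
        rwa [show k * (k⁻¹ * x * k⁻¹⁻¹) * k⁻¹ = x by group] at h2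
    have hgt : k⁻¹ * h * t₀ * (k⁻¹ * h)⁻¹ = t₁ := by
      calc k⁻¹ * h * t₀ * (k⁻¹ * h)⁻¹ = k⁻¹ * ((h : X) * t₀ * (h : X)⁻¹) * k := by group
        _ = t₁ := by rw [hh', hkt.inv_left.eq, inv_mul_cancel_right]
    refine ⟨k⁻¹ * h, G₀.mul_mem (G₀.inv_mem hkG) h.2, ?_, hgt.symm ▸ hne01, hgt.symm ▸ ht₁K⟩
    refine mul_inv_eq_iff_eq_mul.1 ?_
    calc k⁻¹ * h * d * (k⁻¹ * h)⁻¹ = k⁻¹ * e * k := by rw [hedef]; group
      _ = k⁻¹ * (k * d * k⁻¹) * k := by rw [hcase, hkd]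
      _ = d := by group

end Cfsg.Agent.LFOuter
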