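import Cfsg.Agent.Lib.LargeFischer.OuterMember
import Cfsg.Agent.S1714

/-!
# The centraliser of the outer involution is of type M(23)

`LFOuter.Member.type23`: `C_{G₀}(d)` is of type M(23) on the class of `t` and is isomorphic to the presented
`Fi23` taking the transpositions onto that class; `LFOuter.Member.cent_split`: with `d` it is all of `C(d)`.
-/

set_option autoImplicit false

namespace Cfsg.Agent.LFOuter

open Cfsg Cfsg.Agent.Presented Cfsg.Agent.Transpos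

universe u

variable {X : Type u} [Group X]

/-- The centraliser of `d` is `⟨d⟩` times its intersection with `G₀`. -/
theorem Member.cent_split {G₀ : Subgroup X} {z d t : X} (M : Member G₀ z d t) (hidx : G₀.index = 2)
    {x : X} (hx : Commute x d) :
    x ∈ G₀ ⊓ Subgroup.centralizer ({d} : Set X) ∨ d * x ∈ G₀ ⊓ Subgroup.centralizer ({d} : Set X) := by
  by_cases h : x ∈ G₀
  · exact Or.inl (mem_cent.2 ⟨h, hx⟩)
  · exact Or.inr (mem_cent.2
      ⟨(Subgroup.mul_mem_iff_of_index_two hidx).2 (iff_of_false M.notMem h), (Commute.refl d).mul_left hx⟩)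

/-- The type M(23) and the isomorphism with Fi23. -/
theorem Member.type23 [Finite X] {G₀ : Subgroup X} {z d t₀ : X} (M : Member G₀ z d t₀) :
    ∃ t : ↥(G₀ ⊓ Subgroup.centralizer ({d} : Set X)), (t : X) = t₀ ∧ orderOf t = 2 ∧ Cfsg.IsQuasisimple ↥(Subgroup.centralizer ({t} : Set ↥(G₀ ⊓ Subgroup.centralizer ({d} : Set X)))) ∧ (∃ (_ : ((Subgroup.zpowers t).subgroupOf (Subgroup.centralizer ({t} : Set ↥(G₀ ⊓ Subgroup.centralizer ({d} : Set X))))).Normal), (∃ E : Set (↥(Subgroup.centralizer ({t} : Set ↥(G₀ ⊓ Subgroup.centralizer ({d} : Set X)))) ⧸ (Subgroup.zpowers t).subgroupOf (Subgroup.centralizer ({t} : Set ↥(G₀ ⊓ Subgroup.centralizer ({d} : Set X))))), Cfsg.IsThreeTranspositionClass E ∧ Cfsg.IsOfTypeM22 _ E) ∧ ∃ d' : ↥(Subgroup.centralizer ({t} : Set ↥(G₀ ⊓ Subgroup.centralizer ({d} : Set X)))) ⧸ (Subgroup.zpowers t).subgroupOf (Subgroup.centralizer ({t} : Set ↥(G₀ ⊓ Subgroup.centralizer ({d} : Set X)))), orderOf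 d' = 2 ∧ Cfsg.IsQuasisimple ↥(Subgroup.centralizer ({d'} : Set _)) ∧ (∃ (K : Type) (_ : Field K) (_ : Fintype K), Fintype.card K = 4 ∧ ∃ _ : ((Subgroup.zpowers d').subgroupOf (Subgroup.centralizer ({d'} : Set _))).Normal, Nonempty (↥(Subgroup.centralizer ({d'} : Set _)) ⧸ (Subgroup.zpowers d').subgroupOf (Subgroup.centralizer ({d'} : Set _)) ≃* Cfsg.PSU 6 K 2)) ∧ ∃ g, g * d' * g⁻¹ ∈ Subgroup.centralizer ({d'} : Set _) ∧ g * d' * g⁻¹ ≠ d') ∧ (∃ g : ↥(G₀ ⊓ Subgroup.centralizer ({d} : Set X)), g * t * g⁻¹ ∈ Subgroup.centralizer ({t} : Set ↥(G₀ ⊓ Subgroup.centralizer ({d} : Set X))) ∧ g * t * g⁻¹ ≠ t) ∧ Cfsg.IsThreeTranspositionClass (conjugatesOf t) ∧ Cfsg.IsOfTypeM23 ↥(G₀ ⊓ Subgroup.centralizer ({d} : Set X)) (conjugatesOf t) ∧ ∃ e : Cfsg.Spor.Fi23 ≃* ↥(G₀ ⊓ Subgroup.centralizer ({d} : Set X)), e '' conjugatesOf Fi23Transp.t = conjugatesOf t := by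
  have htY : t₀ ∈ G₀ ⊓ Subgroup.centralizer ({d} : Set X) :=
    LFOuter.mem_cent.2 ⟨M.mem_t, (M.loc.outer_commute M.cent).symm⟩
  set t : ↥(G₀ ⊓ Subgroup.centralizer ({d} : Set X)) := ⟨t₀, htY⟩
  let ι := (G₀ ⊓ Subgroup.centralizer ({d} : Set X)).subtype.comp
    (Subgroup.centralizer ({t} : Set ↥(G₀ ⊓ Subgroup.centralizer ({d} : Set X)))).subtype
  have hι : Function.Injective ι := Subtype.val_injective.comp Subtype.val_injective
  have hr : ι.range = LFOuter.Kt G₀ t₀ := by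
    ext x
    constructor
    · rintro ⟨c, rfl⟩
      obtain ⟨h1, h2⟩ := LFOuter.mem_cent.1 (c : ↥(G₀ ⊓ Subgroup.centralizer ({d} : Set X))).2
      exact M.only _ (LFOuter.mem_cent.2
        ⟨h1, congrArg Subtype.val (Subgroup.mem_centralizer_singleton_iff.1 c.2)⟩) h2
    · intro hx
      exact ⟨⟨⟨x, LFOuter.mem_cent.2 ⟨(LFOuter.mem_cent.1 (LFOuter.Kt_le G₀ t₀ hx)).1, (M.cent x hx).symm⟩⟩,
        Subgroup.mem_centralizer_singleton_iff.2 (Subtype.ext (LFOuter.commute_of_mem_Kt hx).eq)⟩, rfl⟩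
  let φ := (MonoidHom.ofInjective hι).trans (MulEquiv.subgroupCongr hr)
  obtain ⟨ρ, hρ, hker⟩ := M.loc.fi22
  have hsurj : Function.Surjective (ρ.comp φ.toMonoidHom) := hρ.comp φ.surjective
  have ht2 : t * t = 1 := Subtype.ext M.loc.inv
  have hk : (ρ.comp φ.toMonoidHom).ker =
      (Subgroup.zpowers t).subgroupOf
        (Subgroup.centralizer ({t} : Set ↥(G₀ ⊓ Subgroup.centralizer ({d} : Set X)))) := by
    ext c
    rw [MonoidHom.mem_ker, MonoidHom.comp_apply, hker, Subgroup.mem_subgroupOf,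
      LFOuter.mem_zpowers_involution ht2, Subtype.ext_iff, Subtype.ext_iff]
    rfl
  haveI hn : ((Subgroup.zpowers t).subgroupOf
      (Subgroup.centralizer ({t} : Set ↥(G₀ ⊓ Subgroup.centralizer ({d} : Set X))))).Normal :=
    hk ▸ MonoidHom.normal_ker _
  have f : _ ≃* Cfsg.Spor.Fi22 :=
    (QuotientGroup.quotientMulEquivOfEq hk.symm).trans (QuotientGroup.quotientKerEquivOfSurjective _ hsurj)
  haveI := Presented.FiOrder.simple_fi22
  haveI := MulEquiv.isSimpleGroup f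
  have hE := Transpos.TypeTransfer.threeTransp f.symm Presented.Fi22Type.threeClass
  have h22 := Transpos.TypeTransfer.m22 f.symm Presented.Fi22Type.type22
  have hq : Cfsg.IsQuasisimple
      ↥(Subgroup.centralizer ({t} : Set ↥(G₀ ⊓ Subgroup.centralizer ({d} : Set X)))) :=
    (Components.isQuasisimple_congr φ).2 M.loc.quasi
  have ht : orderOf t = 2 := orderOf_eq_prime (by rw [pow_two, ht2])
    fun h => M.loc.ne_one (congrArg Subtype.val h)
  obtain ⟨g, hgG, hgd, hne, hgK⟩ := M.fusion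
  have hnwc : ∃ g : ↥(G₀ ⊓ Subgroup.centralizer ({d} : Set X)), g * t * g⁻¹ ∈
      Subgroup.centralizer ({t} : Set ↥(G₀ ⊓ Subgroup.centralizer ({d} : Set X))) ∧ g * t * g⁻¹ ≠ t :=
    ⟨⟨g, LFOuter.mem_cent.2 ⟨hgG, hgd⟩⟩,
      Subgroup.mem_centralizer_singleton_iff.2 (Subtype.ext (LFOuter.commute_of_mem_Kt hgK).eq),
      fun h => hne (congrArg Subtype.val h)⟩
  obtain ⟨e, he, h22'⟩ := M23Recog.exists_fi23_iso t ht hq ⟨_, hE, h22⟩ (S1714.exists_member hE h22) hnwc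
  refine ⟨t, rfl, ht, hq, ⟨hn, ⟨_, hE, h22⟩, S1714.exists_member hE h22⟩, hnwc, ?_, ?_, e, he⟩
  · rw [← he]; exact TypeTransfer.threeTransp e Fi23Transp.threeTransp
  · rw [← he]; exact TypeTransfer.m23 e (Fi23Type.type23_of_type22 h22')

end Cfsg.Agent.LFOuter
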