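import Cfsg.Agent.Lib.LargeFischer.Setting
import Mathlib.GroupTheory.GroupAction.Quotient
import Mathlib.GroupTheory.Index

/-!
# A conjugate of `z` in `Q` in large Fischer type

The image of such a conjugate lies in the large orbit; its `Q ∩ Q^g` has order at most `2^7`.
-/

set_option autoImplicit false
set_option maxRecDepth 100000

namespace Cfsg.Agent.LFRep

open Cfsg Subgroup LargeExtraspecial

variable {G : Type*} [Group G] {z : G} {Qs : Subgroup (centralizer ({z} : Set G))}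

/-- The scalars of a diagonal map with `ω` at `i` and `ω²` at `j`. -/
def diagPair (i j : Fin 6) : Fin 6 → ZMod 3 := Pi.single i 1 + Pi.single j 2

theorem diag_data : ∀ i : Fin 6, i ≠ 0 → i ≠ 1 → ∃ j k : Fin 6,
    j ≠ 0 ∧ j ≠ 1 ∧ k ≠ 0 ∧ k ≠ 1 ∧ i ≠ j ∧ i ≠ k ∧ j ≠ k ∧
    ∑ l, diagPair i j l = 0 ∧ ∑ l, diagPair i k l = 0 ∧
    mono 1 (diagPair i j) (rep 0) = rep 0 ∧ mono 1 (diagPair i k) (rep 0) = rep 0 := by decide +kernel

theorem add_tw_ne : ∀ a : F4, a ≠ 0 → a + tw a + tw (a + tw a) ≠ 0 := by decide +kernel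

theorem rep_small_big : Small (rep 0) ∧ Big (rep 1) ∧ Big (rep 3) := by decide +kernel

/-- `Q` as a subgroup of `G`. -/
abbrev QG {G : Type*} [Group G] {z : G} (Qs : Subgroup (centralizer ({z} : Set G))) : Subgroup G :=
  Qs.map (centralizer ({z} : Set G)).subtype

namespace Model

variable (D : Model z Qs)

theorem mem_C {h : G} (hh : Commute h z) : h ∈ centralizer ({z} : Set G) :=
  mem_centralizer_singleton_iff.2 hh.eq

theorem Q_le_C : (QG Qs) ≤ centralizer ({z} : Set G) := map_subtype_le Qs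

theorem img_one : D.img 1 = 0 := (D.img_eq_zero 1 (one_mem _)).2 (Or.inl rfl)

theorem img_z : D.img z = 0 := (D.img_eq_zero z D.hub.mem).2 (Or.inr rfl)

theorem img_cases {x y : G} (hx : x ∈ (QG Qs)) (hy : y ∈ (QG Qs)) (h : D.img x = D.img y) : y = x ∨ y = x * z := by
  have h' := D.img_mul x hx (x⁻¹ * y) (Subgroup.mul_mem _ (Subgroup.inv_mem _ hx) hy)
  rw [mul_inv_cancel_left, h, left_eq_add] at h'
  rcases (D.img_eq_zero _ (Subgroup.mul_mem _ (Subgroup.inv_mem _ hx) hy)).1 h' with e | e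
  · exact Or.inl (inv_mul_eq_one.1 e).symm
  · exact Or.inr (inv_mul_eq_iff_eq_mul.1 e)

theorem sing_of_invol {x : G} (hx : x ∈ (QG Qs)) (h2 : x * x = 1) (h1 : x ≠ 1) (hz : x ≠ z) :
    qf (D.img x) = 0 ∧ D.img x ≠ 0 :=
  ⟨(D.sq_iff x hx).1 h2, fun h => ((D.img_eq_zero x hx).1 h).elim h1 hz⟩

theorem small_or_big {x : G} (hx : x ∈ (QG Qs)) (h2 : x * x = 1) (h1 : x ≠ 1) (hz : x ≠ z) :
    Small (D.img x) ∨ Big (D.img x) := by
  obtain ⟨hq, hne⟩ := D.sing_of_invol hx h2 h1 hz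
  by_cases h : cls (D.img x) = 0 ∨ cls (D.img x) = 2
  · exact Or.inl ⟨hq, hne, h⟩
  · exact Or.inr ⟨hq, hne, h⟩

theorem mv_inner {r : centralizer ({z} : Set G)} (hr : r ∈ Qs) (c : centralizer ({z} : Set G)) :
    D.mv (r * c) = D.mv c := by
  rw [map_mul, (D.mv_eq_one r).2 hr, one_mul]

theorem mv_mul (c d : centralizer ({z} : Set G)) (v : Vec) : D.mv (c * d) v = D.mv c (D.mv d v) := by
  rw [map_mul]; rfl

/-- An element of the centraliser with a given effect on the image of `x` may be chosen to act exactly. -/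
theorem exists_conj {x y : G} (hx : x ∈ (QG Qs)) (hy : y ∈ (QG Qs)) (hy1 : y ≠ 1) (hyz : y ≠ z)
    {c : centralizer ({z} : Set G)} (h : D.mv c (D.img x) = D.img y) :
    ∃ c' : centralizer ({z} : Set G), D.mv c' = D.mv c ∧ (c' : G) * x * (c' : G)⁻¹ = y := by
  have hcx : (c : G) * x * (c : G)⁻¹ ∈ (QG Qs) :=
    D.hub.normalizes c (mem_centralizer_singleton_iff.1 c.2) x hx
  rcases D.img_cases hy hcx (h.symm.trans (D.img_conj c x hx).symm) with e | e
  · exact ⟨c, rfl, e⟩
  · obtain ⟨r, hr, hn⟩ := D.hub.exists_not_commute hy1 hyz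
    have hn' : r * y * r⁻¹ = y * z := (D.hub.comm r hr y hy).resolve_left fun e' =>
      hn (mul_inv_eq_iff_eq_mul.1 e').symm
    obtain ⟨r', hr', rfl⟩ := hr
    refine ⟨r' * c, D.mv_inner hr' c, ?_⟩
    show (r' : G) * (c : G) * x * ((r' : G) * (c : G))⁻¹ = y
    rw [show (r' : G) * (c : G) * x * ((r' : G) * (c : G))⁻¹ =
      (r' : G) * ((c : G) * x * (c : G)⁻¹) * (r' : G)⁻¹ by group, e,
      show (r' : G) * (y * z) * (r' : G)⁻¹ = (r' : G) * y * (r' : G)⁻¹ * ((r' : G) * z * (r' : G)⁻¹) by group,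
      show (r' : G) * z * (r' : G)⁻¹ = z from
        mul_inv_eq_iff_eq_mul.2 (D.hub.central _ ⟨r', hr', rfl⟩).eq]
    change (r' : G) * y * (r' : G)⁻¹ = y * z at hn'
    rw [hn', mul_assoc, D.hub.sq, mul_one]

/-- The conjugate of `Q`. -/
def conjQ (_D : Model z Qs) (g : G) : Subgroup G := (QG Qs).map (MulAut.conj g).toMonoidHom

/-- `Q ∩ Q^g`. -/
def interQ (_D : Model z Qs) (g : G) : Subgroup G := (QG Qs) ⊓ (QG Qs).map (MulAut.conj g).toMonoidHom

/-- `C_{Q^g}(z)`. -/
def centQ (_D : Model z Qs) (g : G) : Subgroup G :=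
  (QG Qs).map (MulAut.conj g).toMonoidHom ⊓ centralizer ({z} : Set G)

variable {g : G}

theorem hubConj (g : G) : Hub (D.conjQ g) (g * z * g⁻¹) := D.hub.conj g

theorem card_conjQ (g : G) : Nat.card (D.conjQ g) = 2 ^ 13 :=
  (Subgroup.card_map_of_injective (MulAut.conj g).injective).trans D.card_Q

theorem isPGroup_conjQ (g : G) : IsPGroup 2 (D.conjQ g) := IsPGroup.of_card (D.card_conjQ g)

include D in
theorem conj_ne_one : g * z * g⁻¹ ≠ 1 := fun e => D.hub.ne_one (conj_eq_one_iff.1 e)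

include D in
theorem conj_sq : g * z * g⁻¹ * (g * z * g⁻¹) = 1 := by
  rw [show g * z * g⁻¹ * (g * z * g⁻¹) = g * (z * z) * g⁻¹ by group, D.hub.sq]
  group

theorem interQ_comm (hne : g * z * g⁻¹ ≠ z) : IsMulCommutative (D.interQ g) := by
  refine ⟨⟨fun a b => Subtype.ext ?_⟩⟩
  show (a : G) * (b : G) = (b : G) * (a : G)
  rcases D.hub.comm a a.2.1 b b.2.1 with e | e
  · exact mul_inv_eq_iff_eq_mul.1 e
  rcases (D.hubConj g).comm a a.2.2 b b.2.2 with e' | e'
  · exact mul_inv_eq_iff_eq_mul.1 e'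
  · exact absurd (mul_left_cancel (e'.symm.trans e)) hne

theorem interQ_sq (hne : g * z * g⁻¹ ≠ z) {x : G} (hx : x ∈ D.interQ g) : x * x = 1 := by
  rcases D.hub.sq_cases x hx.1 with e | e
  · exact e
  · exact ((D.hubConj g).sq_cases x hx.2).resolve_right fun e' => hne (e'.symm.trans e)

theorem card_interQ_le (hne : g * z * g⁻¹ ≠ z) : Nat.card (D.interQ g) ≤ 2 ^ 7 :=
  D.abelian_le _ inf_le_left (D.interQ_comm hne)

theorem interQ_le_centQ : D.interQ g ≤ D.centQ g :=
  le_inf inf_le_right (inf_le_left.trans Q_le_C)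

theorem centQ_commute {x : G} (hx : x ∈ D.centQ g) : Commute x (g * z * g⁻¹) :=
  (D.hubConj g).central x hx.1

theorem conj_interQ {c : centralizer ({z} : Set G)} (hc : Commute (c : G) (g * z * g⁻¹)) {x : G}
    (hx : x ∈ D.interQ g) : (c : G) * x * (c : G)⁻¹ ∈ D.interQ g :=
  ⟨D.hub.normalizes c (mem_centralizer_singleton_iff.1 c.2) x hx.1, (D.hubConj g).normalizes c hc x hx.2⟩

variable [Qs.Normal]

/-- The image of `C_{Q^g}(z)` modulo `Q`. -/
def imgQ (D : Model z Qs) (g : G) : Subgroup (centralizer ({z} : Set G) ⧸ Qs) :=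
  ((D.centQ g).subgroupOf (centralizer ({z} : Set G))).map (QuotientGroup.mk' Qs)

theorem imgQ_two : IsPGroup 2 (D.imgQ g) := by
  refine IsPGroup.map ?_ _
  exact ((D.isPGroup_conjQ g).to_le inf_le_left).comap_of_injective _ (Subgroup.subtype_injective _)

theorem card_centQ_eq [Finite G] :
    Nat.card (D.centQ g) = Nat.card (D.interQ g) * Nat.card (D.imgQ g) := by
  set K := (D.centQ g).subgroupOf (centralizer ({z} : Set G)) with hK
  have hKc : Nat.card K = Nat.card (D.centQ g) :=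
    Nat.card_congr (Subgroup.subgroupOfEquivOfLe inf_le_right).toEquiv
  set f := (QuotientGroup.mk' Qs).comp K.subtype
  have h := Subgroup.card_mul_index f.ker
  rw [index_ker, hKc] at h
  rw [← h]
  congr 1
  · refine Nat.card_congr ⟨fun a => ⟨((a.1 : centralizer ({z} : Set G)) : G),
        ⟨⟨_, (QuotientGroup.eq_one_iff _).1 a.2, rfl⟩, a.1.2.1⟩⟩,
      fun a => ⟨⟨⟨a.1, Q_le_C a.2.1⟩, D.interQ_le_centQ a.2⟩, (QuotientGroup.eq_one_iff _).2 ?_⟩,
      fun a => rfl, fun a => rfl⟩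
    obtain ⟨r, hr, e⟩ := a.2.1
    have : r = ⟨a.1, Q_le_C a.2.1⟩ := Subtype.ext e
    subst this
    exact hr
  · have : f.range = D.imgQ g := by
      rw [MonoidHom.range_comp, Subgroup.range_subtype]; rfl
    rw [this]

variable [Finite G]

theorem z_mem_conjQ (hs : g * z * g⁻¹ ∈ (QG Qs)) (hne : g * z * g⁻¹ ≠ z) : z ∈ D.conjQ g := by
  refine D.hub.self_mem_conj g hs hne (D.hub.exists_noncommuting_pair ?_ hs D.conj_sq)
  rw [D.card_Q]; norm_num

theorem card_centQ_ge (hs : g * z * g⁻¹ ∈ (QG Qs)) (hne : g * z * g⁻¹ ≠ z) :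
    2 ^ 12 ≤ Nat.card (D.centQ g) := by
  classical
  have hzR := D.z_mem_conjQ hs hne
  have hub := D.hubConj g
  have hrz : ∀ a ∈ D.conjQ g, a * z * a⁻¹ = z ∨ a * z * a⁻¹ = z * (g * z * g⁻¹) := fun a ha =>
    hub.comm a ha z hzR
  obtain ⟨r₀, hr₀, hmove⟩ : ∃ r₀ ∈ D.conjQ g, ∀ a ∈ D.conjQ g, ¬ Commute a z → Commute (r₀⁻¹ * a) z := by
    by_cases hall : ∀ a ∈ D.conjQ g, Commute a z
    · exact ⟨1, one_mem _, fun a ha h => absurd (hall a ha) h⟩
    push Not at hall
    obtain ⟨r, hr, hrn⟩ := hall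
    refine ⟨r, hr, fun a ha han => ?_⟩
    have e1 := (hrz r hr).resolve_left fun e => hrn (mul_inv_eq_iff_eq_mul.1 e)
    have e2 := (hrz a ha).resolve_left fun e => han (mul_inv_eq_iff_eq_mul.1 e)
    refine mul_inv_eq_iff_eq_mul.1 ?_
    calc r⁻¹ * a * z * (r⁻¹ * a)⁻¹ = r⁻¹ * (a * z * a⁻¹) * r := by group
      _ = r⁻¹ * (r * z * r⁻¹) * r := by rw [e1, e2]
      _ = z := by group
  let φ : D.conjQ g → D.centQ g × Bool := fun a =>
    if h : Commute (a : G) z then (⟨a, a.2, mem_C h⟩, true)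
    else (⟨r₀⁻¹ * a, Subgroup.mul_mem _ (Subgroup.inv_mem _ hr₀) a.2, mem_C (hmove a a.2 h)⟩, false)
  have hφ : Function.Injective φ := by
    intro a b h
    simp only [φ] at h
    split_ifs at h
    · exact Subtype.ext (Subtype.ext_iff.1 (congrArg Prod.fst h) :)
    · exact Bool.noConfusion (congrArg Prod.snd h)
    · exact Bool.noConfusion (congrArg Prod.snd h)
    · exact Subtype.ext (mul_left_cancel (Subtype.ext_iff.1 (congrArg Prod.fst h) :))
  have h := Nat.card_le_card_of_injective φ hφ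
  rw [D.card_conjQ, Nat.card_prod, Nat.card_eq_fintype_card (α := Bool), Fintype.card_bool] at h
  omega

theorem card_imgQ_ge (hs : g * z * g⁻¹ ∈ (QG Qs)) (hne : g * z * g⁻¹ ≠ z) {n : ℕ}
    (hn : Nat.card (D.interQ g) ≤ n) : 2 ^ 12 ≤ n * Nat.card (D.imgQ g) := by
  refine (D.card_centQ_ge hs hne).trans ?_
  rw [D.card_centQ_eq]
  exact Nat.mul_le_mul_right _ hn

theorem not_std (hs : g * z * g⁻¹ ∈ (QG Qs)) (hne : g * z * g⁻¹ ≠ z) (hv : D.img (g * z * g⁻¹) = rep 0) :
    False := by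
  classical
  set s := g * z * g⁻¹ with hsdef
  let L : Set Vec := D.img '' (D.interQ g : Set G)
  have hL0 : ∀ v ∈ L, qf v = 0 := by
    rintro _ ⟨x, hx, rfl⟩
    exact (D.sq_iff x hx.1).1 (D.interQ_sq hne hx)
  have hLadd : ∀ v ∈ L, ∀ w ∈ L, v + w ∈ L := by
    rintro _ ⟨x, hx, rfl⟩ _ ⟨y, hy, rfl⟩
    exact ⟨x * y, Subgroup.mul_mem _ hx hy, D.img_mul x hx.1 y hy.1⟩
  have hLd : ∀ a : Fin 6 → ZMod 3, ∑ l, a l = 0 → mono 1 a (rep 0) = rep 0 →
      ∀ v ∈ L, mono 1 a v ∈ L := by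
    intro a ha hfix v hv'
    obtain ⟨x, hx, rfl⟩ := hv'
    obtain ⟨m, -, hm⟩ := D.mono_mem 1 a (map_one _) ha
    obtain ⟨c, hc, hcs⟩ := D.exists_conj hs hs D.conj_ne_one hne (c := m) (by rw [hv, hm, hfix])
    refine ⟨_, D.conj_interQ (c := c) (mul_inv_eq_iff_eq_mul.1 hcs) hx, ?_⟩
    rw [D.img_conj c x hx.1, hc, hm]
  have hsupp : ∀ v ∈ L, ∀ i : Fin 6, i ≠ 0 → i ≠ 1 → v i = 0 := by
    intro v hv' i h0 h1
    by_contra hne0
    obtain ⟨j, k, -, -, -, -, hij, hik, hjk, hs1, hs2, hf1, hf2⟩ := diag_data i h0 h1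
    set y := v + mono 1 (diagPair i j) v with hy
    have hyL : y ∈ L := hLadd _ hv' _ (hLd _ hs1 hf1 _ hv')
    have hy2 := hLadd _ hyL _ (hLd _ hs2 hf2 _ hyL)
    have hval : ∀ l, y l = v l + zs (diagPair i j l) (v l) := fun l => rfl
    have hval2 : ∀ l, (y + mono 1 (diagPair i k) y) l = y l + zs (diagPair i k l) (y l) := fun l => rfl
    have hone : y + mono 1 (diagPair i k) y =
        Pi.single i (v i + tw (v i) + tw (v i + tw (v i))) := by
      funext l
      rw [hval2, hval]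
      by_cases hli : l = i
      · subst hli
        rw [Pi.single_eq_same]
        simp [diagPair, Pi.single_eq_of_ne hij, Pi.single_eq_of_ne hik, zs_one]
      · rw [Pi.single_eq_of_ne hli]
        have hz0 : ∀ a : F4, a + zs 0 a = 0 := fun a => CharTwo.add_self_eq_zero a
        by_cases hlj : l = j
        · subst hlj
          simp [diagPair, Pi.single_eq_of_ne hli, Pi.single_eq_of_ne hjk, hz0]
        · rw [show diagPair i j l = 0 by simp [diagPair, hli, hlj], hz0, (zs_eq_zero _ _).2 rfl, add_zero]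
    have hq := hL0 _ hy2
    have hw : wt (y + mono 1 (diagPair i k) y) = 1 := by
      rw [hone, wt_eq_sum, Finset.sum_eq_single i]
      · rw [Pi.single_eq_same, nz, if_neg (add_tw_ne _ hne0)]
      · intro l _ hl
        rw [Pi.single_eq_of_ne hl, nz, if_pos rfl]
      · simp
    rw [qf, hw] at hq
    exact absurd hq (by decide)
  have hinj : Set.InjOn (fun v : Vec => v 0) L := by
    intro v hv' w hw e
    have hd := hLadd _ hv' _ hw
    have h0 : (v + w) 0 = 0 := by
      show v 0 + w 0 = 0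
      rw [show v 0 = w 0 from e]; exact CharTwo.add_self_eq_zero _
    have hd' : v + w = 0 := by
      by_contra hne0
      have h1 : (v + w) 1 ≠ 0 := fun h1 => hne0 (funext fun i => by
        by_cases hi0 : i = 0
        · rw [hi0]; exact h0
        by_cases hi1 : i = 1
        · rw [hi1]; exact h1
        exact hsupp _ hd i hi0 hi1)
      have hw1 : wt (v + w) = 1 := by
        rw [wt_eq_sum, Finset.sum_eq_single 1]
        · rw [nz, if_neg h1]
        · intro l _ hl
          rw [nz, if_pos]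
          by_cases hl0 : l = 0
          · rw [hl0]; exact h0
          · exact hsupp _ hd l hl0 hl
        · simp
      have hq := hL0 _ hd
      rw [qf, hw1] at hq
      exact absurd hq (by decide)
    funext i
    exact CharTwo.add_eq_zero.1 (congrFun hd' i)
  have h8 : Nat.card (D.interQ g) ≤ 8 := by
    let φ : D.interQ g →* Multiplicative Vec :=
      MonoidHom.mk' (fun x => Multiplicative.ofAdd (D.img x.1)) fun x y =>
        congrArg Multiplicative.ofAdd (D.img_mul x.1 x.2.1 y.1 y.2.1)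
    rw [← Subgroup.card_mul_index φ.ker, index_ker]
    have hk : Nat.card φ.ker ≤ 2 := by
      refine (Nat.card_le_card_of_injective (fun x : φ.ker => decide ((x.1 : G) = 1)) ?_).trans
        (by simp)
      intro a b e
      have hcases : ∀ x : φ.ker, (x.1 : G) = 1 ∨ (x.1 : G) = z := fun x =>
        (D.img_eq_zero _ x.1.2.1).1 (congrArg Multiplicative.toAdd x.2)
      refine Subtype.ext (Subtype.ext ?_)
      rcases hcases a with ha | ha <;> rcases hcases b with hb | hb <;> rw [ha, hb] <;>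
        simp [ha, hb, D.hub.ne_one] at e
    have hr : Nat.card φ.range ≤ 4 := by
      have hmem : ∀ x : φ.range, Multiplicative.toAdd (x : Multiplicative Vec) ∈ L := by
        rintro ⟨_, x, rfl⟩
        exact ⟨x, x.2, rfl⟩
      refine (Nat.card_le_card_of_injective
        (fun x : φ.range => Multiplicative.toAdd (x : Multiplicative Vec) 0) ?_).trans (by simp)
      intro a b e
      exact Subtype.ext (Multiplicative.toAdd.injective (hinj (hmem a) (hmem b) e))
    exact (Nat.mul_le_mul hk hr).trans (by norm_num)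
  have h12 := D.card_imgQ_ge hs hne h8
  have : Fact (Nat.Prime 2) := ⟨Nat.prime_two⟩
  obtain ⟨n, hn⟩ := IsPGroup.iff_card.1 (D.imgQ_two (g := g))
  have hd : 2 ^ n ∣ 19595520 := by
    rw [← hn, ← D.card_quot]
    exact Subgroup.card_subgroup_dvd_card _
  rw [hn] at h12
  have hn9 : 9 ≤ n := by
    by_contra h
    push Not at h
    have := Nat.pow_le_pow_right (n := 2) (by norm_num) (Nat.le_of_lt_succ h)
    omega
  exact absurd ((pow_dvd_pow 2 hn9).trans hd) (by norm_num)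

/-- A conjugate of `z` in `Q` lies over the large orbit. -/
theorem big_of_conj {s : G} (hs : s ∈ (QG Qs)) (hc : IsConj z s) (hne : s ≠ z) : Big (D.img s) := by
  obtain ⟨g, rfl⟩ := isConj_iff.1 hc
  refine (D.small_or_big hs D.conj_sq D.conj_ne_one hne).resolve_left fun hsm => ?_
  obtain ⟨c, hcv⟩ := D.small_trans _ _ hsm rep_small_big.1
  have hcz : Commute (c : G) z := mem_centralizer_singleton_iff.1 c.2
  have e : (c : G) * (g * z * g⁻¹) * (c : G)⁻¹ = (c : G) * g * z * ((c : G) * g)⁻¹ := by group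
  refine D.not_std (g := (c : G) * g) (e ▸ D.hub.normalizes c hcz _ hs) (fun h => hne ?_) ?_
  · rw [← e, mul_inv_eq_iff_eq_mul, ← hcz.eq] at h
    exact mul_left_cancel h
  · rw [← e, D.img_conj c _ hs, hcv]

end Model

end Cfsg.Agent.LFRep
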