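import Cfsg.Agent.Lib.LargeFischer.Eigen
import Mathlib.Algebra.Group.Hom.End
import Mathlib.GroupTheory.Perm.Basic
import Mathlib.Data.Fintype.Perm

/-!
# A threefold central extension of `PSU(4, 3)` on a space of order `2^12`

`Rep M V P`: `M` acts faithfully on `V` (order 4096, exponent two) preserving a quadratic function, and
is an extension of `P` by a central group of order three.  Then the central element is fixed point free,
the preimage of the group of order 81 is elementary abelian and `V` splits into six eigenspaces of order four.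
-/

set_option autoImplicit false

namespace Cfsg.Agent.LFRep

open Subgroup
open scoped commutatorElement

/-- The hypotheses on `M` and `V`. -/
structure Rep (M V P : Type*) [Group M] [AddCommGroup V] [Group P] where
  act : M →* AddMonoid.End V
  inj : Function.Injective act
  two : ∀ x : V, x + x = 0
  card_V : Nat.card V = 4096
  pi : M →* P
  surj : Function.Surjective pi
  F : Frame43 P
  t : M
  ker : ∀ g, pi g = 1 ↔ g ∈ zpowers t
  central : ∀ g, g * t = t * g
  t_order : orderOf t = 3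
  q : V → ZMod 2
  q_act : ∀ g x, q (act g x) = q x
  bil : ∀ x y u, q (x + y + u) + q (x + y) + q u =
    (q (x + u) + q x + q u) + (q (y + u) + q y + q u)
  nondeg : ∀ x, x ≠ 0 → ∃ y, q (x + y) + q x + q y ≠ 0

/-- Four commuting elements of order dividing three give a homomorphism on `V4`. -/
theorem pow4_add {M : Type*} [Group M] (e : Fin 4 → M) (h3 : ∀ j, e j ^ 3 = 1)
    (hc : ∀ j l, Commute (e j) (e l)) (u v : V4) :
    e 0 ^ ((u + v) 0).val * e 1 ^ ((u + v) 1).val * e 2 ^ ((u + v) 2).val * e 3 ^ ((u + v) 3).val =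
      (e 0 ^ (u 0).val * e 1 ^ (u 1).val * e 2 ^ (u 2).val * e 3 ^ (u 3).val) *
        (e 0 ^ (v 0).val * e 1 ^ (v 1).val * e 2 ^ (v 2).val * e 3 ^ (v 3).val) := by
  have hp : ∀ j (a b : ZMod 3), e j ^ (a + b).val = e j ^ a.val * e j ^ b.val := fun j a b => by
    rw [← pow_add, ZMod.val_add, ← pow_eq_pow_mod _ (h3 j)]
  have c : ∀ j l (a b : ℕ), Commute (e j ^ a) (e l ^ b) := fun j l a b => (hc j l).pow_pow a b
  simp only [Pi.add_apply, hp]
  rw [(((c 3 0 (u 3).val (v 0).val).mul_right (c 3 1 (u 3).val (v 1).val)).mul_right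
      (c 3 2 (u 3).val (v 2).val)).mul_mul_mul_comm,
    ((c 2 0 (u 2).val (v 0).val).mul_right (c 2 1 (u 2).val (v 1).val)).mul_mul_mul_comm,
    (c 1 0 (u 1).val (v 0).val).mul_mul_mul_comm]

namespace Rep

variable {M V P : Type*} [Group M] [AddCommGroup V] [Group P] (R : Rep M V P)

theorem act_mul (g h : M) (x : V) : R.act (g * h) x = R.act g (R.act h x) := by
  rw [map_mul]; rfl

theorem act_one (x : V) : R.act 1 x = x := by rw [map_one]; rfl

theorem act_inv_act (g : M) (x : V) : R.act g⁻¹ (R.act g x) = x := by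
  rw [← R.act_mul, inv_mul_cancel, R.act_one]

theorem act_act_inv (g : M) (x : V) : R.act g (R.act g⁻¹ x) = x := by
  rw [← R.act_mul, mul_inv_cancel, R.act_one]

theorem ext_act {g h : M} (e : ∀ x, R.act g x = R.act h x) : g = h :=
  R.inj (DFunLike.ext _ _ e)

include R in
theorem finite_V : Finite V := Nat.finite_of_card_ne_zero (by rw [R.card_V]; norm_num)

theorem t_cube : R.t ^ 3 = 1 := by rw [← R.t_order]; exact pow_orderOf_eq_one _

/-- The power `t^a`. -/
def kap (a : ZMod 3) : M := R.t ^ a.val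

theorem kap_add (a b : ZMod 3) : R.kap (a + b) = R.kap a * R.kap b := by
  rw [kap, kap, kap, ← pow_add, ZMod.val_add, ← pow_eq_pow_mod _ R.t_cube]

theorem kap_zero : R.kap 0 = 1 := pow_zero _

theorem kap_one : R.kap 1 = R.t := pow_one _

theorem kap_neg (a : ZMod 3) : R.kap (-a) = (R.kap a)⁻¹ :=
  eq_inv_of_mul_eq_one_left (by rw [← R.kap_add, neg_add_cancel, R.kap_zero])

theorem kap_inj {a b : ZMod 3} (h : R.kap a = R.kap b) : a = b := by
  have h' := pow_inj_mod.1 h
  rw [R.t_order, Nat.mod_eq_of_lt a.val_lt, Nat.mod_eq_of_lt b.val_lt] at h'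
  exact ZMod.val_injective 3 h'

theorem kap_comm (a : ZMod 3) (g : M) : g * R.kap a = R.kap a * g :=
  (Commute.pow_right (R.central g) _).eq

theorem pi_kap (a : ZMod 3) : R.pi (R.kap a) = 1 :=
  (R.ker _).2 (npow_mem_zpowers _ _)

theorem exists_kap {g : M} (h : R.pi g = 1) : ∃ a, g = R.kap a := by
  obtain ⟨n, rfl⟩ := mem_zpowers_iff.1 ((R.ker g).1 h)
  refine ⟨(n : ZMod 3), ?_⟩
  have e := (ZMod.val_intCast (n := 3) n)
  rw [kap, ← zpow_natCast, e, ← zpow_mod_orderOf R.t n, R.t_order]

theorem exists_kap_mul {g h : M} (e : R.pi g = R.pi h) : ∃ a, g = h * R.kap a := by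
  obtain ⟨a, ha⟩ := R.exists_kap (g := h⁻¹ * g) (by rw [map_mul, map_inv, e, inv_mul_cancel])
  exact ⟨a, by rw [← ha, mul_inv_cancel_left]⟩

/-- The chosen lift of an element of the group of order 81. -/
noncomputable def lift (v : V4) : M := Function.surjInv R.surj (R.F.el v)

theorem pi_lift (v : V4) : R.pi (R.lift v) = R.F.el v := Function.surjInv_eq R.surj _

/-- The chosen lift of a normalising element. -/
noncomputable def liftN (i : Fin 2) : M := Function.surjInv R.surj (R.F.n i)

theorem pi_liftN (i : Fin 2) : R.pi (R.liftN i) = R.F.n i := Function.surjInv_eq R.surj _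

theorem pi_conj_liftN (i : Fin 2) (v : V4) :
    R.pi (R.liftN i * R.lift v * (R.liftN i)⁻¹) = R.F.el (A i v) := by
  rw [map_mul, map_mul, map_inv, R.pi_liftN, R.pi_lift, R.F.conj]

/-! ## The central element has no fixed points on a nontrivial piece -/

/-- The fixed points of `t`. -/
def fixT : AddSubgroup V where
  carrier := {x | R.act R.t x = x}
  add_mem' hx hy := by
    show R.act R.t _ = _
    rw [map_add, hx, hy]
  zero_mem' := map_zero _
  neg_mem' {x} hx := by
    show R.act R.t _ = _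
    rw [map_neg, hx]

theorem act_fixT (g : M) {x : V} (hx : x ∈ R.fixT) : R.act g x ∈ R.fixT := by
  show R.act R.t (R.act g x) = _
  rw [← R.act_mul, ← R.central, R.act_mul, hx]

theorem act_kap_fix (a : ZMod 3) {x : V} (hx : x ∈ R.fixT) : R.act (R.kap a) x = x := by
  unfold kap
  induction a.val with
  | zero => rw [pow_zero, R.act_one]
  | succ n ih => rw [pow_succ, R.act_mul, hx, ih]

theorem act_fix_of_pi {g h : M} (e : R.pi g = R.pi h) {x : V} (hx : x ∈ R.fixT) :
    R.act g x = R.act h x := by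
  obtain ⟨a, rfl⟩ := R.exists_kap_mul e
  rw [R.act_mul, R.act_kap_fix a hx]

/-- Pairs of fixed points as a space over the field with four elements. -/
noncomputable def fixSys : EigSys (R.fixT × R.fixT) where
  w := AddMonoidHom.mk' (fun p => (p.2, p.1 + p.2)) fun p r =>
    Prod.ext rfl (by show p.1 + r.1 + (p.2 + r.2) = p.1 + p.2 + (r.1 + r.2); abel)
  two p := Prod.ext (Subtype.ext (R.two _)) (Subtype.ext (R.two _))
  rel p := by
    have h : ∀ x : R.fixT, x + x = 0 := fun x => Subtype.ext (R.two _)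
    refine Prod.ext ?_ ?_
    · show p.1 + p.2 + p.2 + p.1 = 0
      rw [add_assoc p.1, h, add_zero, h]
    · show p.2 + (p.1 + p.2) + (p.1 + p.2) + p.2 = 0
      rw [add_assoc p.2 (p.1 + p.2), h, add_zero, h]
  ρ v := AddMonoidHom.mk' (fun p => (⟨R.act (R.lift v) p.1, R.act_fixT _ p.1.2⟩,
      ⟨R.act (R.lift v) p.2, R.act_fixT _ p.2.2⟩))
    fun p r => Prod.ext (Subtype.ext (map_add _ _ _)) (Subtype.ext (map_add _ _ _))
  ρ_zero p := by
    refine Prod.ext (Subtype.ext ?_) (Subtype.ext ?_) <;>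
    · refine (R.act_fix_of_pi (h := 1) ?_ (Subtype.coe_prop _)).trans (R.act_one _)
      rw [R.pi_lift, R.F.el_zero, map_one]
  ρ_add u v p := by
    refine Prod.ext (Subtype.ext ?_) (Subtype.ext ?_) <;>
    · refine (R.act_fix_of_pi (h := R.lift u * R.lift v) ?_ (Subtype.coe_prop _)).trans (R.act_mul _ _ _)
      rw [map_mul, R.pi_lift, R.pi_lift, R.pi_lift, R.F.el_add]
  comm v p := by
    refine Prod.ext rfl (Subtype.ext ?_)
    exact map_add _ _ _

/-- An element acting on pairs. -/
def pairAct (g : M) : R.fixT × R.fixT →+ R.fixT × R.fixT :=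
  AddMonoidHom.mk' (fun p => (⟨R.act g p.1, R.act_fixT _ p.1.2⟩, ⟨R.act g p.2, R.act_fixT _ p.2.2⟩))
    fun p r => Prod.ext (Subtype.ext (map_add _ _ _)) (Subtype.ext (map_add _ _ _))

theorem pairAct_wp (g : M) (a : ZMod 3) (p : R.fixT × R.fixT) :
    R.pairAct g (R.fixSys.wp a p) = R.fixSys.wp a (R.pairAct g p) := by
  have hw : ∀ p, R.pairAct g (R.fixSys.w p) = R.fixSys.w (R.pairAct g p) := fun p =>
    Prod.ext rfl (Subtype.ext (map_add (R.act g) (p.1 : V) (p.2 : V)))
  fin_cases a
  · rfl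
  · exact hw p
  · show R.pairAct g (R.fixSys.w (R.fixSys.w p)) = R.fixSys.w (R.fixSys.w (R.pairAct g p))
    rw [hw, hw]

theorem fix_supp_dual (i : Fin 2) (f : V4) :
    dual i f ∈ R.fixSys.supp ↔ f ∈ R.fixSys.supp := by
  have hrel : ∀ v p, R.pairAct (R.liftN i) (R.fixSys.ρ v p) =
      R.fixSys.ρ (A i v) (R.pairAct (R.liftN i) p) := by
    intro v p
    refine Prod.ext (Subtype.ext ?_) (Subtype.ext ?_) <;>
    · refine ((R.act_mul _ _ _).symm.trans (R.act_fix_of_pi (h := R.lift (A i v) * R.liftN i) ?_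
        (Subtype.coe_prop _))).trans (R.act_mul _ _ _)
      rw [map_mul, map_mul, R.pi_lift, R.pi_lift, R.pi_liftN, ← R.F.conj, inv_mul_cancel_right]
  have hinj : Function.Injective (R.pairAct (R.liftN i)) := fun p r h => by
    refine Prod.ext (Subtype.ext ?_) (Subtype.ext ?_)
    · have := congrArg (fun z => R.act (R.liftN i)⁻¹ (z.1 : V)) h
      simpa [pairAct, R.act_inv_act] using this
    · have := congrArg (fun z => R.act (R.liftN i)⁻¹ (z.2 : V)) h
      simpa [pairAct, R.act_inv_act] using this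
  have hA : Function.Surjective (A i) := by
    refine Finite.injective_iff_surjective.1 fun u v h => R.F.el_inj ?_
    have := congrArg R.F.el h
    rw [← R.F.conj, ← R.F.conj] at this
    exact mul_left_cancel (mul_right_cancel this)
  constructor
  · rw [EigSys.mem_supp_iff, EigSys.mem_supp_iff]
    rintro ⟨x, hx, h0⟩
    refine ⟨R.pairAct (R.liftN i) x, fun u => ?_, fun h => h0 (hinj (h.trans (map_zero _).symm))⟩
    obtain ⟨v, rfl⟩ := hA u
    rw [← hrel, hx v, R.pairAct_wp, dot_A]
  · rw [EigSys.mem_supp_iff, EigSys.mem_supp_iff]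
    rintro ⟨x, hx, h0⟩
    haveI := R.finite_V
    obtain ⟨y, rfl⟩ := Finite.injective_iff_surjective.1 hinj x
    refine ⟨y, fun v => hinj ?_, fun h => h0 (by rw [h, map_zero])⟩
    rw [hrel, hx, R.pairAct_wp, dot_A]

/-- All of `M` fixes the fixed points of `t`. -/
theorem act_of_fixT (g : M) {x : V} (hx : x ∈ R.fixT) : R.act g x = x := by
  haveI := R.finite_V
  have hsupp : ∀ f ∈ R.fixSys.supp, f = 0 := by
    intro f hf
    by_contra h
    have h20 := dual_orbit R.fixSys.supp R.fix_supp_dual h hf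
    have hle := R.fixSys.pow_card_le
    have hC : Nat.card R.fixT ≤ 4096 := R.card_V ▸ AddSubgroup.card_le_card_addGroup _
    rw [Nat.card_prod] at hle
    have := Nat.pow_le_pow_right (n := 4) (by norm_num) h20
    have := Nat.mul_le_mul hC hC
    omega
  have hel : ∀ v x, x ∈ R.fixT → R.act (R.lift v) x = x := by
    intro v x hx
    have hρ : R.fixSys.ρ v (⟨x, hx⟩, 0) = (⟨x, hx⟩, 0) := by
      set p : R.fixT × R.fixT := (⟨x, hx⟩, 0) with hp
      rw [← R.fixSys.sum_proj p, map_sum]
      refine Finset.sum_congr rfl fun f _ => ?_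
      have hm := R.fixSys.proj_mem f p
      by_cases hf : f ∈ R.fixSys.supp
      · rw [hm v, hsupp f hf, dot_zero_left, W3.wp_zero]
      · rw [R.fixSys.eq_zero_of_not_supp hf hm, map_zero]
    exact congrArg (fun z : R.fixT × R.fixT => (z.1 : V)) hρ
  let K : Subgroup M :=
    { carrier := {g | ∀ x ∈ R.fixT, R.act g x = x}
      mul_mem' := fun ha hb x hx => by rw [R.act_mul, hb x hx, ha x hx]
      one_mem' := fun x _ => R.act_one x
      inv_mem' := fun {a} ha x hx => by
        conv_lhs => rw [← ha x hx]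
        exact R.act_inv_act a x }
  have hK : K.Normal := ⟨fun k hk g x hx => by
    rw [R.act_mul, R.act_mul, hk _ (R.act_fixT _ hx), R.act_act_inv]⟩
  have hn : (K.map R.pi).Normal := hK.map R.pi R.surj
  haveI := R.F.simple
  have htop : K.map R.pi = ⊤ := hn.eq_bot_or_eq_top.resolve_left fun hb => by
    have : R.F.el (Pi.single 0 1) ∈ K.map R.pi := ⟨_, hel _, R.pi_lift _⟩
    rw [hb, mem_bot, ← R.F.el_zero] at this
    exact absurd (congrFun (R.F.el_inj this) 0) (by simp)
  obtain ⟨k, hk, e⟩ : R.pi g ∈ K.map R.pi := htop ▸ mem_top _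
  rw [R.act_fix_of_pi e.symm hx]
  exact hk x hx

/-! ## The lift of the group of order 81 is elementary abelian -/

theorem comm_kap_left (g h : M) (a : ZMod 3) : ⁅g * R.kap a, h⁆ = ⁅g, h⁆ := by
  rw [commutatorElement_def, commutatorElement_def, mul_assoc g, ← R.kap_comm, mul_inv_rev]
  group

theorem comm_kap_right (g h : M) (a : ZMod 3) : ⁅g, h * R.kap a⁆ = ⁅g, h⁆ := by
  rw [← commutatorElement_inv, R.comm_kap_left, commutatorElement_inv]

theorem exists_comm (u v : V4) : ∃ c, ⁅R.lift u, R.lift v⁆ = R.kap c := by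
  refine R.exists_kap ?_
  rw [map_commutatorElement, R.pi_lift, R.pi_lift, commutatorElement_eq_one_iff_mul_comm, R.F.el_comm]

/-- The commutator of two lifts. -/
noncomputable def cval (u v : V4) : ZMod 3 := (R.exists_comm u v).choose

theorem cval_spec (u v : V4) : ⁅R.lift u, R.lift v⁆ = R.kap (R.cval u v) :=
  (R.exists_comm u v).choose_spec

theorem comm_of_pi {g h : M} {u v : V4} (hg : R.pi g = R.F.el u) (hh : R.pi h = R.F.el v) :
    ⁅g, h⁆ = R.kap (R.cval u v) := by
  obtain ⟨a, rfl⟩ := R.exists_kap_mul (h := R.lift u) (hg.trans (R.pi_lift u).symm)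
  obtain ⟨b, rfl⟩ := R.exists_kap_mul (h := R.lift v) (hh.trans (R.pi_lift v).symm)
  rw [R.comm_kap_left, R.comm_kap_right, R.cval_spec]

theorem cval_add_left (u u' v : V4) : R.cval (u + u') v = R.cval u v + R.cval u' v := by
  refine R.kap_inj ?_
  rw [← R.comm_of_pi (g := R.lift u * R.lift u') (by rw [map_mul, R.pi_lift, R.pi_lift, R.F.el_add])
    (R.pi_lift v), add_comm, R.kap_add, commutatorElement_mul_left_eq_conj_mul, R.cval_spec, R.cval_spec,
    R.kap_comm _ (R.lift u), mul_inv_cancel_right]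

theorem cval_swap (u v : V4) : R.cval v u = -R.cval u v := by
  refine R.kap_inj ?_
  rw [← R.cval_spec, R.kap_neg, ← R.cval_spec, commutatorElement_inv]

theorem cval_self (u : V4) : R.cval u u = 0 :=
  R.kap_inj (by rw [← R.cval_spec, commutatorElement_self, R.kap_zero])

theorem cval_conj (i : Fin 2) (u v : V4) : R.cval (A i u) (A i v) = R.cval u v := by
  refine R.kap_inj ?_
  rw [← R.comm_of_pi (R.pi_conj_liftN i u) (R.pi_conj_liftN i v)]
  simp only [← MulAut.conj_apply, ← map_commutatorElement, R.cval_spec]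
  rw [MulAut.conj_apply, R.kap_comm, mul_inv_cancel_right]

/-- The commutator form vanishes. -/
theorem cval_zero (u v : V4) : R.cval u v = 0 := by
  let L : V4 → V4 →+ ZMod 3 := fun v => AddMonoidHom.mk' (fun u => R.cval u v) fun a b =>
    R.cval_add_left a b v
  let L' : V4 → V4 →+ ZMod 3 := fun u => AddMonoidHom.mk' (fun v => R.cval u v) fun a b => by
    rw [R.cval_swap (a + b), R.cval_swap a u, R.cval_swap b u, R.cval_add_left, neg_add]
  set E : Fin 4 → V4 := fun j => Pi.single j 1 with hE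
  have hexp : ∀ u v, R.cval u v = alt ![R.cval (E 0) (E 1), R.cval (E 0) (E 2), R.cval (E 0) (E 3), 0]
      ![R.cval (E 1) (E 2), R.cval (E 1) (E 3), R.cval (E 2) (E 3), 0] u v := by
    intro u v
    have h1 : R.cval u v = ∑ j, u j * R.cval (E j) v := by
      show L v u = _
      conv_lhs => rw [eq_sum u]
      rw [map_sum]
      exact Finset.sum_congr rfl fun j _ => ZMod.map_smul (L v) _ _
    have h2 : ∀ j, R.cval (E j) v = ∑ l, v l * R.cval (E j) (E l) := fun j => by
      show L' (E j) v = _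
      conv_lhs => rw [eq_sum v]
      rw [map_sum]
      exact Finset.sum_congr rfl fun l _ => ZMod.map_smul (L' (E j)) _ _
    rw [h1]
    simp only [h2, Fin.sum_univ_four, R.cval_self]
    rw [R.cval_swap (E 0) (E 1), R.cval_swap (E 0) (E 2), R.cval_swap (E 0) (E 3),
      R.cval_swap (E 1) (E 2), R.cval_swap (E 1) (E 3), R.cval_swap (E 2) (E 3)]
    simp [alt]
    ring
  have h := alt_invariant (R.cval (E 0) (E 1)) (R.cval (E 0) (E 2)) (R.cval (E 0) (E 3))
    (R.cval (E 1) (E 2)) (R.cval (E 1) (E 3)) (R.cval (E 2) (E 3)) fun i j l => by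
      rw [← hexp, ← hexp, ← A_single, ← A_single, R.cval_conj]
  obtain ⟨h1, h2, h3, h4, h5, h6⟩ := h
  rw [hexp, h1, h2, h3, h4, h5, h6]
  simp [alt]

theorem lifts_commute {g h : M} {u v : V4} (hg : R.pi g = R.F.el u) (hh : R.pi h = R.F.el v) :
    Commute g h :=
  commutatorElement_eq_one_iff_mul_comm.1 (by rw [R.comm_of_pi hg hh, R.cval_zero, R.kap_zero])

theorem exists_cube (u : V4) : ∃ d, R.lift u ^ 3 = R.kap d := by
  refine R.exists_kap ?_
  rw [map_pow, R.pi_lift, pow_three, ← R.F.el_add, ← R.F.el_add,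
    show u + (u + u) = 0 from funext fun j => by
      show u j + (u j + u j) = 0
      generalize u j = a
      revert a; decide, R.F.el_zero]

/-- The cube of a lift. -/
noncomputable def dval (u : V4) : ZMod 3 := (R.exists_cube u).choose

theorem dval_spec (u : V4) : R.lift u ^ 3 = R.kap (R.dval u) := (R.exists_cube u).choose_spec

theorem kap_cube (a : ZMod 3) : R.kap a ^ 3 = 1 := by
  rw [kap, ← pow_mul, mul_comm, pow_mul, R.t_cube, one_pow]

theorem cube_of_pi {g : M} {u : V4} (hg : R.pi g = R.F.el u) : g ^ 3 = R.kap (R.dval u) := by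
  obtain ⟨a, rfl⟩ := R.exists_kap_mul (h := R.lift u) (hg.trans (R.pi_lift u).symm)
  have hc : Commute (R.lift u) (R.kap a) := R.kap_comm a _
  rw [hc.mul_pow, R.kap_cube, mul_one, R.dval_spec]

theorem dval_zero (u : V4) : R.dval u = 0 := by
  obtain ⟨f, hf⟩ := exists_dot R.dval fun a b => R.kap_inj (by
    rw [← R.cube_of_pi (g := R.lift a * R.lift b) (by rw [map_mul, R.pi_lift, R.pi_lift, R.F.el_add]),
      (R.lifts_commute (R.pi_lift a) (R.pi_lift b)).mul_pow, R.dval_spec, R.dval_spec, R.kap_add])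
  have hinv : ∀ i, dual i f = f := fun i => sub_eq_zero.1 (dot_eq_zero _ fun v => by
    rw [dot_sub_left, ← dot_A, sub_eq_zero, ← hf, ← hf]
    refine R.kap_inj ?_
    rw [← R.cube_of_pi (R.pi_conj_liftN i v), conj_pow, R.dval_spec, R.kap_comm, mul_inv_cancel_right])
  rw [hf, dual_fixed f hinv, dot_zero_left]

/-- The elements of the lifted group. -/
noncomputable def el0 (v : V4) : M :=
  R.lift (Pi.single 0 1) ^ (v 0).val * R.lift (Pi.single 1 1) ^ (v 1).val *
    R.lift (Pi.single 2 1) ^ (v 2).val * R.lift (Pi.single 3 1) ^ (v 3).val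

theorem el0_add (u v : V4) : R.el0 (u + v) = R.el0 u * R.el0 v :=
  pow4_add (fun j => R.lift (Pi.single j 1))
    (fun j => by rw [R.dval_spec, R.dval_zero, R.kap_zero])
    (fun _ _ => R.lifts_commute (R.pi_lift _) (R.pi_lift _)) u v

theorem el0_zero : R.el0 0 = 1 := by simp [el0]

theorem pi_el0 (v : V4) : R.pi (R.el0 v) = R.F.el v := by
  have hp : ∀ (x : V4) (k : ℕ), R.F.el (k • x) = R.F.el x ^ k := fun x k => by
    induction k with
    | zero => rw [zero_smul, R.F.el_zero, pow_zero]
    | succ k ih => rw [succ_nsmul, R.F.el_add, ih, pow_succ]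
  simp only [el0, map_mul, map_pow, R.pi_lift, ← hp, ← R.F.el_add]
  congr 1
  conv_rhs => rw [eq_sum v, Fin.sum_univ_four]
  simp only [← Nat.cast_smul_eq_nsmul (ZMod 3), ZMod.natCast_zmod_val]

theorem eq_el0 {g : M} {v : V4} (h : R.pi g = R.F.el v) : ∃ a, g = R.el0 v * R.kap a :=
  R.exists_kap_mul (h.trans (R.pi_el0 v).symm)

end Rep

end Cfsg.Agent.LFRep
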