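import Cfsg.Agent.Lib.LargeFischer.RepFrame
import Cfsg.Agent.Lib.LargeFischer.Coord
import Mathlib.GroupTheory.SpecificGroups.Alternating.Simple

/-!
# Coordinates and the monomial subgroup

`V` gets coordinates in which `t` is the scalar `ω`, the quadratic function is the weight modulo two and
the monomial elements of `M` are exactly the even permutations with scalars of product one.
-/

set_option autoImplicit false

namespace Cfsg.Agent.LFRep

theorem card_zero_sum :
    (Finset.univ.filter fun a : Fin 6 → ZMod 3 => ∑ i, a i = 0).card = 243 := by decide +kernel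

theorem card_Vec : Fintype.card Vec = 4096 := by
  simp [Fintype.card_prod, ZMod.card]

theorem zs_tw : ∀ (a : ZMod 3) (x : F4), zs a (tw x) = tw (zs a x) := by decide +kernel

theorem nz_eq : ∀ x : F4, (nz x : ZMod 2) = if x = 0 then 0 else 1 := by decide +kernel

namespace Rep

variable {M V P : Type*} [Group M] [AddCommGroup V] [Group P] (R : Rep M V P)

/-- The polar form. -/
def B (x y : V) : ZMod 2 := R.q (x + y) + R.q x + R.q y

theorem B_add_left (x y u : V) : R.B (x + y) u = R.B x u + R.B y u := R.bil x y u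

theorem B_comm (x y : V) : R.B x y = R.B y x := by rw [B, B, add_comm x y]; abel

theorem B_add_right (x y u : V) : R.B u (x + y) = R.B u x + R.B u y := by
  rw [R.B_comm, R.B_add_left, R.B_comm x, R.B_comm y]

theorem q_zero : R.q 0 = 0 := by
  have h := R.bil 0 0 0
  simp only [add_zero] at h
  generalize R.q 0 = a at h
  revert a
  decide

theorem B_zero_right (x : V) : R.B x 0 = 0 := by
  rw [B, add_zero, R.q_zero, add_zero]
  exact CharTwo.add_self_eq_zero _

theorem B_self (x : V) : R.B x x = 0 := by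
  rw [B, R.two, R.q_zero, zero_add]
  exact CharTwo.add_self_eq_zero _

theorem B_act (g : M) (x y : V) : R.B (R.act g x) (R.act g y) = R.B x y := by
  rw [B, ← map_add, R.q_act, R.q_act, R.q_act, B]

theorem q_wp (a : ZMod 3) (x : V) : R.q (R.main.D.wp a x) = R.q x := by
  rw [← R.main.act_kap]; exact R.q_act _ x

/-- Scalars from the field with four elements. -/
def sc (x : F4) (y : V) : V := (if x.1 = 1 then y else 0) + (if x.2 = 1 then R.act R.t y else 0)

theorem sc_add (x x' : F4) (y : V) : R.sc (x + x') y = R.sc x y + R.sc x' y := by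
  have h : ∀ (a b : ZMod 2) (z : V), (if a + b = 1 then z else 0) =
      (if a = 1 then z else 0) + (if b = 1 then z else 0) := by
    intro a b z
    have h2 : ∀ c : ZMod 2, c = 0 ∨ c = 1 := by decide
    rcases h2 a with rfl | rfl <;> rcases h2 b with rfl | rfl <;>
      simp [R.two, show (1 : ZMod 2) + 1 = 0 from rfl]
  simp only [sc, Prod.fst_add, Prod.snd_add, h]
  abel

theorem sc_zero (y : V) : R.sc 0 y = 0 := by simp [sc]

theorem sc_one (y : V) : R.sc (1, 0) y = y := by simp [sc]

theorem sc_tw (x : F4) (y : V) : R.sc (tw x) y = R.main.D.w (R.sc x y) := by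
  obtain ⟨a, b⟩ := x
  have h2 : ∀ c : ZMod 2, c = 0 ∨ c = 1 := by decide
  have hw : ∀ z, R.act R.t z = R.main.D.w z := fun _ => rfl
  rcases h2 a with rfl | rfl <;> rcases h2 b with rfl | rfl <;>
    simp [sc, tw, show (1 : ZMod 2) + 1 = 0 from rfl, R.main.D.ww, hw]
  · abel
  · rw [← add_assoc, R.two, zero_add]

theorem sc_zs (k : ZMod 3) (x : F4) (y : V) : R.sc (zs k x) y = R.main.D.wp k (R.sc x y) := by
  fin_cases k
  · rfl
  · exact R.sc_tw x y
  · show R.sc (tw (tw x)) y = R.main.D.w (R.main.D.w (R.sc x y))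
    rw [R.sc_tw, R.sc_tw]

theorem sc_map_add (x : F4) (y y' : V) : R.sc x (y + y') = R.sc x y + R.sc x y' := by
  by_cases h1 : x.1 = 1 <;> by_cases h2 : x.2 = 1 <;> simp [sc, h1, h2] <;> abel

theorem act_sc (g : M) (x : F4) (y : V) : R.act g (R.sc x y) = R.sc x (R.act g y) := by
  have hc : R.act g (R.act R.t y) = R.act R.t (R.act g y) := by
    rw [← R.act_mul, ← R.act_mul, R.central]
  simp only [sc, map_add, apply_ite (R.act g), map_zero, hc]

theorem sc_eq_wp {x : F4} (hx : x ≠ 0) (y : V) : R.sc x y = R.main.D.wp (lg x) y := by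
  conv_lhs => rw [← zs_lg x hx]
  rw [R.sc_zs, R.sc_one]

theorem sc_inj {y : V} (hy : y ≠ 0) {x x' : F4} (h : R.sc x y = R.sc x' y) : x = x' := by
  have key : ∀ z, R.sc z y = 0 → z = 0 := fun z hz => by
    by_contra hne
    rw [R.sc_eq_wp hne] at hz
    exact hy (R.main.D.wp_inj _ (hz.trans (R.main.D.wp_zero_right _).symm))
  exact CharTwo.add_eq_zero.1 (key _ (by rw [R.sc_add, h, R.two]))

theorem supp_card : R.main.D.supp.card = 6 ∧
    ∀ f ∈ R.main.D.supp, Nat.card (R.main.D.U f) = 4 := by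
  haveI := R.finite_V
  exact (R.main.six R.card_V.le).2

/-- A numbering of the six eigenspaces. -/
noncomputable def idx : Fin 6 ≃ {x // x ∈ R.main.D.supp} :=
  (Finset.equivFinOfCardEq R.supp_card.1).symm

/-- The functional of eigenspace `i`. -/
noncomputable def fv (i : Fin 6) : V4 := (R.idx i).1

/-- A nonzero vector of eigenspace `i`. -/
noncomputable def u (i : Fin 6) : V := (R.main.D.mem_supp_iff.1 (R.idx i).2).choose

theorem u_mem (i : Fin 6) : R.u i ∈ R.main.D.U (R.fv i) :=
  (R.main.D.mem_supp_iff.1 (R.idx i).2).choose_spec.1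

theorem u_ne (i : Fin 6) : R.u i ≠ 0 := (R.main.D.mem_supp_iff.1 (R.idx i).2).choose_spec.2

theorem sc_mem {f : V4} {y : V} (hy : y ∈ R.main.D.U f) (x : F4) : R.sc x y ∈ R.main.D.U f := by
  by_cases hx : x = 0
  · rw [hx, R.sc_zero]; exact zero_mem _
  · rw [R.sc_eq_wp hx]; exact R.main.D.wp_mem hy _

theorem exists_sc (i : Fin 6) {y : V} (hy : y ∈ R.main.D.U (R.fv i)) : ∃ x, R.sc x (R.u i) = y := by
  haveI := R.finite_V
  let k : F4 → R.main.D.U (R.fv i) := fun x => ⟨R.sc x (R.u i), R.sc_mem (R.u_mem i) x⟩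
  have hk : Function.Bijective k :=
    (Function.Injective.bijective_of_nat_card_le (fun a b h => R.sc_inj (R.u_ne i) (congrArg Subtype.val h))
      (by rw [R.supp_card.2 (R.fv i) (R.idx i).2, Nat.card_prod, Nat.card_zmod]))
  obtain ⟨x, hx⟩ := hk.2 ⟨y, hy⟩
  exact ⟨x, congrArg Subtype.val hx⟩

/-- The vector with given coordinates. -/
noncomputable def psiFun (x : Vec) : V := ∑ i, R.sc (x i) (R.u i)

/-- Coordinates, as a map. -/
noncomputable def psiHom : Vec →+ V :=
  AddMonoidHom.mk' R.psiFun fun x y => by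
    simp only [psiFun, Pi.add_apply, R.sc_add, Finset.sum_add_distrib]

theorem psi_surj : Function.Surjective R.psiHom := by
  intro y
  have h : ∀ f, R.main.D.proj f y ∈ R.psiHom.range := by
    intro f
    by_cases hf : f ∈ R.main.D.supp
    · obtain ⟨i, hi⟩ := R.idx.surjective ⟨f, hf⟩
      obtain ⟨a, ha⟩ := R.exists_sc i (y := R.main.D.proj f y) (by
        rw [fv, hi]; exact R.main.D.proj_mem f y)
      refine ⟨Pi.single i a, ?_⟩
      show R.psiFun _ = _
      rw [psiFun, Finset.sum_eq_single i]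
      · rw [Pi.single_eq_same, ha]
      · intro j _ hj
        rw [Pi.single_eq_of_ne hj, R.sc_zero]
      · simp
    · rw [R.main.D.eq_zero_of_not_supp hf (R.main.D.proj_mem f y)]
      exact zero_mem _
  rw [← R.main.D.sum_proj y]
  exact sum_mem fun f _ => h f

/-- Coordinates. -/
noncomputable def psi : Vec ≃+ V :=
  AddEquiv.ofBijective R.psiHom (by
    haveI := R.finite_V
    exact R.psi_surj.bijective_of_nat_card_le (by
      rw [R.card_V, Nat.card_eq_fintype_card, card_Vec]))

theorem psi_apply (x : Vec) : R.psi x = ∑ i, R.sc (x i) (R.u i) := rfl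

theorem psi_single (i : Fin 6) (a : F4) : R.psi (Pi.single i a) = R.sc a (R.u i) := by
  rw [psi_apply, Finset.sum_eq_single i]
  · rw [Pi.single_eq_same]
  · intro j _ hj
    rw [Pi.single_eq_of_ne hj, R.sc_zero]
  · simp

theorem act_kap_psi (a : ZMod 3) (x : Vec) : R.act (R.kap a) (R.psi x) = R.psi (zsV a x) := by
  rw [psi_apply, psi_apply, map_sum]
  refine Finset.sum_congr rfl fun i _ => ?_
  exact (R.main.act_kap a _).trans (R.sc_zs _ _ _).symm

theorem act_el0_psi (v : V4) (x : Vec) :
    R.act (R.el0 v) (R.psi x) = R.psi (mono 1 (fun i => dot (R.fv i) v) x) := by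
  rw [psi_apply, psi_apply, map_sum]
  refine Finset.sum_congr rfl fun i _ => ?_
  show R.act (R.el0 v) _ = R.sc (zs _ (x i)) _
  rw [R.sc_zs]
  exact R.sc_mem (R.u_mem i) (x i) v

/-! ## The quadratic function -/

theorem B_orth {f g : V4} (hne : f ≠ g) {x y : V} (hx : x ∈ R.main.D.U f) (hy : y ∈ R.main.D.U g) :
    R.B x y = 0 := by
  obtain ⟨v, hv⟩ := exists_dot_one (g - f) (sub_ne_zero.2 (Ne.symm hne))
  have key : ∀ z ∈ R.main.D.U g, R.B x (R.main.D.w z) = R.B x z := by
    intro z hz
    have h1 := R.B_act (R.el0 v) x z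
    have hx' : R.act (R.el0 v) x = R.main.D.wp (dot f v) x := hx v
    have hz' : R.act (R.el0 v) z = R.main.D.wp (dot f v) (R.main.D.w z) := by
      refine (hz v).trans ?_
      rw [← R.main.D.wp_one z, R.main.D.wp_wp]
      congr 1
      rw [dot_sub_left] at hv
      linear_combination hv
    rw [hx', hz', ← R.main.act_kap, ← R.main.act_kap] at h1
    exact (R.B_act (R.kap _) x _).symm.trans h1
  have h2 := key _ (R.main.D.w_mem hy)
  rw [R.main.D.ww, R.B_add_right] at h2
  rw [key y hy] at h2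
  exact (CharTwo.add_self_eq_zero (R.B x y)).symm.trans h2 |>.symm

theorem q_u (i : Fin 6) : R.q (R.u i) = 1 := by
  obtain ⟨y, hy⟩ := R.nondeg (R.u i) (R.u_ne i)
  change R.B (R.u i) y ≠ 0 at hy
  obtain ⟨z, rfl⟩ := R.psi.surjective y
  have hz : R.B (R.u i) (R.sc (z i) (R.u i)) ≠ 0 := by
    let L : V →+ ZMod 2 := AddMonoidHom.mk' (fun w => R.B (R.u i) w) fun a b => R.B_add_right a b _
    have e : L (R.psi z) = L (R.sc (z i) (R.u i)) := by
      rw [psi_apply, map_sum, Finset.sum_eq_single i]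
      · intro j _ hj
        exact R.B_orth (fun h => hj (R.idx.injective (Subtype.ext h.symm))) (R.u_mem i)
          (R.sc_mem (R.u_mem j) _)
      · simp
    exact fun h => hy (e.trans h)
  have h1 : R.B (R.u i) (R.main.D.w (R.u i)) = 1 := by
    have hne : z i ≠ 0 := fun h => hz (by rw [h, R.sc_zero, R.B_zero_right])
    have h01 : ∀ a : ZMod 2, a ≠ 0 → a = 1 := by decide
    refine h01 _ fun h0 => hz ?_
    rw [R.sc_eq_wp hne]
    generalize lg (z i) = k
    fin_cases k
    · exact R.B_self _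
    · exact h0
    · show R.B _ (R.main.D.w (R.main.D.w (R.u i))) = 0
      rw [R.main.D.ww, R.B_add_right, h0, R.B_self, add_zero]
  rw [B] at h1
  have e : R.u i + R.main.D.w (R.u i) = R.main.D.wp 2 (R.u i) := by
    show _ = R.main.D.w (R.main.D.w (R.u i))
    rw [R.main.D.ww, add_comm]
  rw [e, R.q_wp, ← R.main.D.wp_one, R.q_wp] at h1
  generalize R.q (R.u i) = a at h1 ⊢
  revert a
  decide

theorem q_sc (i : Fin 6) (a : F4) : R.q (R.sc a (R.u i)) = (nz a : ZMod 2) := by
  rw [nz_eq]
  split_ifs with h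
  · rw [h, R.sc_zero, R.q_zero]
  · rw [R.sc_eq_wp h, R.q_wp, R.q_u]

theorem q_psi (x : Vec) : R.q (R.psi x) = qf x := by
  classical
  have key : ∀ s : Finset (Fin 6), R.q (∑ i ∈ s, R.sc (x i) (R.u i)) = ∑ i ∈ s, (nz (x i) : ZMod 2) := by
    intro s
    induction s using Finset.induction_on with
    | empty => rw [Finset.sum_empty, Finset.sum_empty, R.q_zero]
    | insert a s ha ih =>
      rw [Finset.sum_insert ha, Finset.sum_insert ha, ← ih, ← R.q_sc a (x a)]
      let L : V →+ ZMod 2 := AddMonoidHom.mk' (fun w => R.B (R.sc (x a) (R.u a)) w) fun b c =>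
        R.B_add_right b c _
      have h0 : L (∑ i ∈ s, R.sc (x i) (R.u i)) = 0 := by
        rw [map_sum]
        refine Finset.sum_eq_zero fun j hj => ?_
        refine R.B_orth (fun h => ha ?_) (R.sc_mem (R.u_mem a) _) (R.sc_mem (R.u_mem j) _)
        rwa [R.idx.injective (Subtype.ext h)]
      change R.B _ _ = 0 at h0
      rw [B] at h0
      rw [CharTwo.add_eq_zero] at h0
      rw [← h0, add_comm (R.q (R.sc _ _)) (R.q _ + R.q _), add_assoc, CharTwo.add_self_eq_zero,
        add_zero]
  rw [psi_apply, key, qf, wt_eq_sum, Nat.cast_sum]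

/-! ## The monomial elements -/

/-- `g` is monomial. -/
def IsMon (g : M) (σ : Equiv.Perm (Fin 6)) (a : Fin 6 → ZMod 3) : Prop :=
  ∀ x, R.act g (R.psi x) = R.psi (mono σ a x)

theorem isMon_ext {g h : M} {σ : Equiv.Perm (Fin 6)} {a : Fin 6 → ZMod 3} (hg : R.IsMon g σ a)
    (hh : R.IsMon h σ a) : g = h :=
  R.ext_act fun y => by obtain ⟨x, rfl⟩ := R.psi.surjective y; rw [hg, hh]

theorem mono_unique {σ τ : Equiv.Perm (Fin 6)} {a b : Fin 6 → ZMod 3}
    (h : ∀ x, mono σ a x = mono τ b x) : σ = τ ∧ a = b := by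
  have key : ∀ i, σ i = τ i ∧ a (σ i) = b (τ i) := by
    intro i
    have e := congrFun (h (Pi.single i (1, 0))) (σ i)
    simp only [mono, Equiv.symm_apply_apply, Pi.single_eq_same] at e
    by_cases hi : τ.symm (σ i) = i
    · have hst : σ i = τ i := (Equiv.symm_apply_eq τ).1 hi
      rw [hi, Pi.single_eq_same] at e
      exact ⟨hst, hst ▸ zs_inj _ _ _ (by decide) e⟩
    · rw [Pi.single_eq_of_ne hi, (zs_eq_zero _ _).2 rfl] at e
      exact absurd ((zs_eq_zero _ _).1 e) (by decide)
  obtain rfl : σ = τ := Equiv.ext fun i => (key i).1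
  exact ⟨rfl, funext fun j => by simpa using (key (σ.symm j)).2⟩

theorem isMon_mul {g h : M} {σ τ : Equiv.Perm (Fin 6)} {a b : Fin 6 → ZMod 3}
    (hg : R.IsMon g σ a) (hh : R.IsMon h τ b) :
    R.IsMon (g * h) (σ * τ) fun i => a i + b (σ.symm i) := fun x => by
  rw [R.act_mul, hh, hg, mono_mono]

theorem isMon_el0 (v : V4) : R.IsMon (R.el0 v) 1 fun i => dot (R.fv i) v := R.act_el0_psi v

theorem isMon_kap (a : ZMod 3) : R.IsMon (R.kap a) 1 fun _ => a := fun x => R.act_kap_psi a x

/-- The functionals of the six eigenspaces sum to zero. -/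
theorem sum_fv (v : V4) : ∑ i, dot (R.fv i) v = 0 := by
  set S : V4 → ZMod 3 := fun w => ∑ i, dot (R.fv i) w with hS
  have hinv : ∀ i w, S (A i w) = S w := by
    intro i w
    have hH : R.liftN i ∈ R.H := R.mem_H_of_conj fun v => ⟨A i v, by rw [R.pi_liftN, R.F.conj]⟩
    obtain ⟨w', a, e⟩ := R.H_conj hH w
    have hw' : w' = A i w := R.F.el_inj (by
      have := congrArg R.pi e
      simp only [map_mul, map_inv, R.pi_liftN, R.pi_el0, R.pi_kap, mul_one, R.F.conj] at this
      exact this.symm)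
    have key : ∀ j, dot (R.fv j) w =
        dot (R.main.theta ⟨_, hH⟩ (R.idx j)).1 w' + a := by
      intro j
      have hy := R.main.theta_spec ⟨_, hH⟩ (R.idx j) (R.u_mem j)
      have hne : R.main.act (R.liftN i) (R.u j) ≠ 0 := fun h =>
        R.u_ne j (R.main.act_injective _ (h.trans (map_zero _).symm))
      refine R.main.D.wp_left_inj hne ?_
      have e' : R.liftN i * R.el0 w = R.el0 w' * R.kap a * R.liftN i := by rw [← e]; group
      have h1 := congrArg (fun g => R.main.act g (R.u j)) e'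
      simp only [R.main.act_mul, R.main.act_el, R.main.act_kap, R.u_mem j w, R.main.act_wp,
        R.main.D.comm_wp, hy w', R.main.D.wp_wp] at h1
      rw [add_comm] at h1
      exact h1
    have h6 : S w = S w' + 6 * a := by
      simp only [hS]
      simp only [key, Finset.sum_add_distrib, Finset.sum_const, Finset.card_univ, Fintype.card_fin,
        nsmul_eq_mul, Nat.cast_ofNat]
      congr 1
      exact (Equiv.sum_comp (R.idx.trans (R.main.theta ⟨_, hH⟩)) fun f => dot f.1 w').trans
        (Equiv.sum_comp R.idx fun f => dot f.1 w').symm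
    rw [h6, hw', show (6 : ZMod 3) = 0 from rfl, zero_mul, add_zero]
  set F : V4 := ∑ i, R.fv i with hF
  have hdot : ∀ w, dot F w = S w := fun w => by
    simp only [hS, hF, dot, Finset.sum_apply, Finset.sum_mul, ← Finset.sum_add_distrib]
  have h0 : F = 0 := dual_fixed F fun i => sub_eq_zero.1 (dot_eq_zero _ fun w => by
    rw [dot_sub_left, ← dot_A, hdot, hdot, hinv, sub_self])
  show S v = 0
  rw [← hdot, h0, dot_zero_left]

theorem exists_diag {a : Fin 6 → ZMod 3} (ha : ∑ i, a i = 0) :
    ∃ v c, R.IsMon (R.el0 v * R.kap c) 1 a := by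
  let k : V4 × ZMod 3 → {a : Fin 6 → ZMod 3 // ∑ i, a i = 0} := fun p =>
    ⟨fun i => dot (R.fv i) p.1 + p.2, by
      rw [Finset.sum_add_distrib, R.sum_fv, zero_add, Finset.sum_const, Finset.card_univ,
        Fintype.card_fin, nsmul_eq_mul, show ((6 : ℕ) : ZMod 3) = 0 from rfl, zero_mul]⟩
  have hmon : ∀ p : V4 × ZMod 3, R.IsMon (R.el0 p.1 * R.kap p.2) 1 (k p).1 := fun p =>
    R.isMon_mul (R.isMon_el0 p.1) (R.isMon_kap p.2)
  have hk : Function.Injective k := by
    rintro ⟨v, c⟩ ⟨v', c'⟩ h
    have e : R.el0 v * R.kap c = R.el0 v' * R.kap c' :=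
      R.isMon_ext (hmon (v, c)) (by rw [congrArg Subtype.val h]; exact hmon (v', c'))
    have := congrArg R.pi e
    rw [map_mul, map_mul, R.pi_el0, R.pi_el0, R.pi_kap, R.pi_kap, mul_one, mul_one] at this
    obtain rfl := R.F.el_inj this
    exact Prod.ext rfl (R.kap_inj (mul_left_cancel e))
  have hb : Function.Bijective k := (Fintype.bijective_iff_injective_and_card k).2 ⟨hk, by
    rw [Fintype.card_prod, card_V4, ZMod.card, Fintype.card_subtype, card_zero_sum]⟩
  obtain ⟨p, hp⟩ := hb.2 ⟨a, ha⟩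
  refine ⟨p.1, p.2, ?_⟩
  have := hmon p
  rwa [congrArg Subtype.val hp] at this

theorem mem_H_of_isMon {g : M} {σ : Equiv.Perm (Fin 6)} {a : Fin 6 → ZMod 3} (hg : R.IsMon g σ a) :
    g ∈ R.H := by
  refine R.mem_H_of_conj fun v => ?_
  obtain ⟨w, c, hd⟩ := R.exists_diag (a := fun i => dot (R.fv (σ.symm i)) v) (by
    rw [Equiv.sum_comp σ.symm fun i => dot (R.fv i) v]; exact R.sum_fv v)
  have e : g * R.el0 v = R.el0 w * R.kap c * g := by
    refine R.ext_act fun y => ?_
    obtain ⟨x, rfl⟩ := R.psi.surjective y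
    rw [R.act_mul, R.act_el0_psi, hg, R.act_mul, hg, hd, mono_mono, mono_mono]
    congr 1
    funext j
    simp only [mono, mul_one, one_mul, Equiv.Perm.one_symm, Equiv.Perm.one_apply]
    rw [add_comm]
  refine ⟨w, ?_⟩
  have := congrArg R.pi e
  rw [map_mul, map_mul, map_mul, R.pi_el0, R.pi_el0, R.pi_kap, mul_one] at this
  rw [this, mul_inv_cancel_right]

/-- The permutation of the six coordinates. -/
noncomputable def perm : R.H →* Equiv.Perm (Fin 6) :=
  R.idx.symm.permCongrHom.toMonoidHom.comp R.main.theta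

theorem exists_isMon (g : R.H) : ∃ a, R.IsMon g (R.perm g) a := by
  have hj : ∀ j, ∃ k, R.act g (R.u j) = R.main.D.wp k (R.u (R.perm g j)) := by
    intro j
    have hy : R.act g (R.u j) ∈ R.main.D.U (R.fv (R.perm g j)) := by
      have h := R.main.theta_spec g (R.idx j) (R.u_mem j)
      have e : R.idx (R.perm g j) = R.main.theta g (R.idx j) := by simp [perm]
      rw [fv, e]
      exact h
    obtain ⟨x, hx⟩ := R.exists_sc _ hy
    have h0 : x ≠ 0 := fun h => R.u_ne j (R.main.act_injective g.1 (by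
      rw [h, R.sc_zero] at hx
      exact hx.symm.trans (map_zero _).symm))
    exact ⟨lg x, by rw [← hx, R.sc_eq_wp h0]⟩
  choose k hk using hj
  refine ⟨fun i => k ((R.perm g).symm i), fun x => ?_⟩
  rw [psi_apply, psi_apply, map_sum]
  rw [← Equiv.sum_comp (R.perm g) fun i => R.sc (mono (R.perm g) _ x i) (R.u i)]
  refine Finset.sum_congr rfl fun j _ => ?_
  show _ = R.sc (zs (k ((R.perm g).symm (R.perm g j))) (x ((R.perm g).symm (R.perm g j)))) _
  rw [Equiv.symm_apply_apply, R.sc_zs, R.act_sc, hk]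
  by_cases hx : x j = 0
  · rw [hx, R.sc_zero, R.sc_zero, R.main.D.wp_zero_right]
  · rw [R.sc_eq_wp hx, R.sc_eq_wp hx, R.main.D.wp_wp, R.main.D.wp_wp, add_comm]

theorem perm_eq {g : M} {σ : Equiv.Perm (Fin 6)} {a : Fin 6 → ZMod 3} (hg : R.IsMon g σ a) :
    R.perm ⟨g, R.mem_H_of_isMon hg⟩ = σ := by
  obtain ⟨b, hb⟩ := R.exists_isMon ⟨g, R.mem_H_of_isMon hg⟩
  exact (mono_unique fun x => R.psi.injective ((hb x).symm.trans (hg x))).1

theorem card_perm_range [Finite M] : R.perm.range = alternatingGroup (Fin 6) ∧ Nat.card R.perm.ker = 243 := by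
  have hge : 360 ≤ Nat.card R.perm.range := by
    refine R.main.card_range_ge.trans (le_of_eq ?_)
    rw [perm, MonoidHom.range_comp]
    exact (Subgroup.card_map_of_injective R.idx.symm.permCongrHom.injective).symm
  have hker : 243 ≤ Nat.card R.perm.ker := by
    have hex := fun a : {a : Fin 6 → ZMod 3 // ∑ i, a i = 0} => R.exists_diag a.2
    choose v c hvc using hex
    have h := Nat.card_le_card_of_injective
      (fun a => (⟨⟨_, R.mem_H_of_isMon (hvc a)⟩, R.perm_eq (hvc a)⟩ : R.perm.ker)) fun a b e => by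
        have e' : R.el0 (v a) * R.kap (c a) = R.el0 (v b) * R.kap (c b) :=
          congrArg (fun z : R.perm.ker => ((z : R.H) : M)) e
        refine Subtype.ext (mono_unique (σ := 1) (τ := 1) fun x => R.psi.injective ?_).2
        rw [← hvc a x, e', hvc b x]
    rwa [Nat.card_eq_fintype_card (α := {a : Fin 6 → ZMod 3 // ∑ i, a i = 0}), Fintype.card_subtype,
      card_zero_sum] at h
  have hmul : Nat.card R.perm.range * Nat.card R.perm.ker ≤ 87480 := by
    rw [← Subgroup.index_ker, mul_comm, Subgroup.card_mul_index]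
    exact R.card_H_le
  have h1 : Nat.card R.perm.range = 360 ∧ Nat.card R.perm.ker = 243 := by
    have := Nat.mul_le_mul_left (Nat.card R.perm.range) hker
    have := Nat.mul_le_mul_right (Nat.card R.perm.ker) hge
    omega
  refine ⟨Equiv.Perm.eq_alternatingGroup_of_index_eq_two ?_, h1.2⟩
  have h := Subgroup.card_mul_index R.perm.range
  rw [h1.1, Nat.card_eq_fintype_card, Fintype.card_perm, Fintype.card_fin,
    show Nat.factorial 6 = 720 from rfl] at h
  omega

/-- The scalars of a monomial element. -/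
noncomputable def scal (g : R.H) : Fin 6 → ZMod 3 := (R.exists_isMon g).choose

theorem scal_spec (g : R.H) : R.IsMon g (R.perm g) (R.scal g) := (R.exists_isMon g).choose_spec

theorem scal_eq {g : M} {σ : Equiv.Perm (Fin 6)} {a : Fin 6 → ZMod 3} (hg : R.IsMon g σ a) :
    R.scal ⟨g, R.mem_H_of_isMon hg⟩ = a :=
  (mono_unique fun x => R.psi.injective ((R.scal_spec ⟨g, R.mem_H_of_isMon hg⟩ x).symm.trans (hg x))).2

/-- The product of the scalars. -/
noncomputable def scalHom : R.H →* Multiplicative (ZMod 3) :=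
  MonoidHom.mk' (fun g => Multiplicative.ofAdd (∑ i, R.scal g i)) fun g h => by
    have e := R.scal_eq (R.isMon_mul (R.scal_spec g) (R.scal_spec h))
    rw [← ofAdd_add]
    congr 1
    show ∑ i, R.scal (g * h) i = _
    rw [show R.scal (g * h) = _ from e, Finset.sum_add_distrib, Equiv.sum_comp (R.perm g).symm]

theorem scalHom_trivial [Finite M] (g : R.H) : ∑ i, R.scal g i = 0 := by
  obtain ⟨hr, hk⟩ := R.card_perm_range
  have hker : R.perm.ker ≤ R.scalHom.ker := by
    have hex := fun a : {a : Fin 6 → ZMod 3 // ∑ i, a i = 0} => R.exists_diag a.2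
    choose v c hvc using hex
    let d := fun a => (⟨⟨_, R.mem_H_of_isMon (hvc a)⟩, R.perm_eq (hvc a)⟩ : R.perm.ker)
    have hd : Function.Surjective d := by
      refine (Function.Injective.bijective_of_nat_card_le (f := d) (fun a b e => ?_) ?_).2
      · have e' : R.el0 (v a) * R.kap (c a) = R.el0 (v b) * R.kap (c b) :=
          congrArg (fun z : R.perm.ker => ((z : R.H) : M)) e
        refine Subtype.ext (mono_unique (σ := 1) (τ := 1) fun x => R.psi.injective ?_).2
        rw [← hvc a x, e', hvc b x]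
      · rw [hk, Nat.card_eq_fintype_card, Fintype.card_subtype, card_zero_sum]
    intro x hx
    obtain ⟨a, ha⟩ := hd ⟨x, hx⟩
    have : x = ⟨_, R.mem_H_of_isMon (hvc a)⟩ := (congrArg Subtype.val ha).symm
    subst this
    refine MonoidHom.mem_ker.2 ?_
    show Multiplicative.ofAdd (∑ i, R.scal _ i) = 1
    rw [R.scal_eq (hvc a), a.2]
    rfl
  haveI : IsSimpleGroup (alternatingGroup (Fin 6)) := alternatingGroup.isSimpleGroup (by simp)
  haveI : IsSimpleGroup R.perm.range := by rw [hr]; infer_instance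
  have hn : (R.scalHom.ker.map R.perm.rangeRestrict).Normal :=
    Subgroup.Normal.map inferInstance _ R.perm.rangeRestrict_surjective
  rcases hn.eq_bot_or_eq_top with hb | ht
  · exfalso
    have hle : R.scalHom.ker ≤ R.perm.ker := fun x hx => by
      have : R.perm.rangeRestrict x ∈ R.scalHom.ker.map R.perm.rangeRestrict :=
        Subgroup.mem_map_of_mem _ hx
      rw [hb, Subgroup.mem_bot] at this
      exact congrArg Subtype.val this
    have h := congrArg Subgroup.index (le_antisymm hle hker)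
    rw [Subgroup.index_ker, Subgroup.index_ker, hr] at h
    have := Subgroup.card_le_card_group R.scalHom.range
    rw [h, nat_card_alternatingGroup, Nat.card_fin, Nat.card_congr Multiplicative.toAdd,
      Nat.card_zmod, show Nat.factorial 6 = 720 from rfl] at this
    omega
  · obtain ⟨k, hk', e⟩ : R.perm.rangeRestrict g ∈ R.scalHom.ker.map R.perm.rangeRestrict :=
      ht ▸ Subgroup.mem_top _
    have : g * k⁻¹ ∈ R.scalHom.ker := hker (MonoidHom.mem_ker.2 (by
      rw [map_mul, map_inv, ← show R.perm k = R.perm g from congrArg Subtype.val e, mul_inv_cancel]))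
    rw [MonoidHom.mem_ker, map_mul, map_inv, MonoidHom.mem_ker.1 hk', inv_one, mul_one] at this
    exact this

/-- The monomial elements are the even permutations with scalars of product one. -/
theorem isMon_iff [Finite M] (σ : Equiv.Perm (Fin 6)) (a : Fin 6 → ZMod 3) :
    (∃ g, R.IsMon g σ a) ↔ Equiv.Perm.sign σ = 1 ∧ ∑ i, a i = 0 := by
  constructor
  · rintro ⟨g, hg⟩
    refine ⟨?_, ?_⟩
    · have : R.perm ⟨g, R.mem_H_of_isMon hg⟩ ∈ R.perm.range := ⟨_, rfl⟩
      rwa [R.card_perm_range.1, R.perm_eq hg, Equiv.Perm.mem_alternatingGroup] at this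
    · rw [← R.scal_eq hg]; exact R.scalHom_trivial _
  · rintro ⟨hσ, ha⟩
    obtain ⟨h, hh⟩ : σ ∈ R.perm.range := by
      rw [R.card_perm_range.1]; exact Equiv.Perm.mem_alternatingGroup.2 hσ
    subst hh
    obtain ⟨v, c, hd⟩ := R.exists_diag (a := fun i => a i - R.scal h i) (by
      rw [Finset.sum_sub_distrib, ha, R.scalHom_trivial, sub_zero])
    refine ⟨R.el0 v * R.kap c * h, ?_⟩
    convert R.isMon_mul hd (R.scal_spec h) using 1
    · rw [one_mul]
    · funext i
      exact (sub_add_cancel (a i) (R.scal h i)).symm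

end Rep

end Cfsg.Agent.LFRep
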