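import Cfsg.Agent.Lib.LargeFischer.Rep
import Mathlib.GroupTheory.Index

/-!
# The six eigenspaces and the permutation action of the normaliser
-/

set_option autoImplicit false

namespace Cfsg.Agent.LFRep

open Subgroup

namespace Rep

variable {M V P : Type*} [Group M] [AddCommGroup V] [Group P] (R : Rep M V P)

/-- The group of order 81 of `P`. -/
def elGrp : Subgroup P where
  carrier := Set.range R.F.el
  mul_mem' := by rintro _ _ ⟨u, rfl⟩ ⟨v, rfl⟩; exact ⟨u + v, R.F.el_add u v⟩
  one_mem' := ⟨0, R.F.el_zero⟩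
  inv_mem' := by
    rintro _ ⟨u, rfl⟩
    exact ⟨-u, eq_inv_of_mul_eq_one_left (by rw [← R.F.el_add, neg_add_cancel, R.F.el_zero])⟩

/-- The preimage of its normaliser. -/
def H : Subgroup M := (Subgroup.normalizer (R.elGrp : Set P)).comap R.pi

theorem H_conj {g : M} (hg : g ∈ R.H) (v : V4) :
    ∃ w a, g * R.el0 v * g⁻¹ = R.el0 w * R.kap a := by
  obtain ⟨w, hw⟩ := (Subgroup.mem_normalizer_iff.1 hg (R.F.el v)).1 ⟨v, rfl⟩
  obtain ⟨a, ha⟩ := R.eq_el0 (g := g * R.el0 v * g⁻¹) (v := w) (by
    rw [map_mul, map_mul, map_inv, R.pi_el0, hw])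
  exact ⟨w, a, ha⟩

theorem mem_H_of_conj {g : M} (hg : ∀ v, ∃ w, R.pi g * R.F.el v * (R.pi g)⁻¹ = R.F.el w) :
    g ∈ R.H := by
  choose σ hσ using hg
  have hs : Function.Surjective σ := Finite.injective_iff_surjective.1 fun u v h => R.F.el_inj (by
    have e := (hσ u).trans ((congrArg R.F.el h).trans (hσ v).symm)
    exact mul_left_cancel (mul_right_cancel e))
  refine Subgroup.mem_normalizer_iff.2 fun x => ⟨?_, ?_⟩
  · rintro ⟨v, rfl⟩
    exact ⟨σ v, (hσ v).symm⟩
  · rintro ⟨w, hw⟩
    obtain ⟨v, rfl⟩ := hs w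
    refine ⟨v, ?_⟩
    rw [← hσ v] at hw
    exact mul_left_cancel (mul_right_cancel hw)

theorem card_H_le [Finite M] : Nat.card R.H ≤ 87480 := by
  let f : R.H →* ↥(Subgroup.normalizer (R.elGrp : Set P)) :=
    (R.pi.comp R.H.subtype).codRestrict _ fun g => g.2
  have hk : Nat.card f.ker ≤ 3 := by
    rw [← R.t_order, ← Nat.card_zpowers]
    refine Nat.card_le_card_of_injective
      (fun g : f.ker => (⟨(g.1 : M), (R.ker _).1 (congrArg Subtype.val g.2)⟩ : zpowers R.t))
      fun a b h => Subtype.ext (Subtype.ext (congrArg (fun x : zpowers R.t => (x : M)) h))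
  have hn : Nat.card ↥(Subgroup.normalizer (R.elGrp : Set P)) ≤ 29160 :=
    R.F.norm_le _ fun g hg v => by
      obtain ⟨w, hw⟩ := (Subgroup.mem_normalizer_iff.1 hg (R.F.el v)).1 ⟨v, rfl⟩
      exact ⟨w, hw.symm⟩
  have : Finite P := Finite.of_surjective _ R.surj
  calc Nat.card R.H = Nat.card f.ker * f.ker.index := (card_mul_index f.ker).symm
    _ ≤ 3 * 29160 := by
      refine Nat.mul_le_mul hk ?_
      rw [index_ker]
      exact (Subgroup.card_le_card_group _).trans hn
    _ = 87480 := by norm_num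

/-- A faithful piece of the module on which `t` is fixed point free. -/
structure Piece (W : Type*) [AddCommGroup W] where
  D : EigSys W
  act : M →* AddMonoid.End W
  inj : Function.Injective act
  act_t : ∀ x, act R.t x = D.w x
  act_el : ∀ v x, act (R.el0 v) x = D.ρ v x

namespace Piece

variable {R} {W : Type*} [AddCommGroup W] (p : R.Piece W)

theorem act_mul (g h : M) (x : W) : p.act (g * h) x = p.act g (p.act h x) := by
  rw [map_mul]; rfl

theorem act_one (x : W) : p.act 1 x = x := by rw [map_one]; rfl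

theorem act_kap (a : ZMod 3) (x : W) : p.act (R.kap a) x = p.D.wp a x := by
  fin_cases a
  · show p.act (R.t ^ 0) x = x
    rw [pow_zero, p.act_one]
  · show p.act (R.t ^ 1) x = p.D.w x
    rw [pow_one, p.act_t]
  · show p.act (R.t ^ 2) x = p.D.w (p.D.w x)
    rw [pow_two, p.act_mul, p.act_t, p.act_t]

theorem act_wp (g : M) (a : ZMod 3) (x : W) : p.act g (p.D.wp a x) = p.D.wp a (p.act g x) := by
  rw [← p.act_kap, ← p.act_kap, ← p.act_mul, R.kap_comm, p.act_mul]

theorem act_injective (g : M) : Function.Injective (p.act g) := fun x y h => by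
  rw [← p.act_one x, ← p.act_one y, ← inv_mul_cancel g, p.act_mul, h, p.act_mul]

theorem maps {g : M} (hg : g ∈ R.H) {f : V4} (hf : f ∈ p.D.supp) :
    ∃ f' : {x // x ∈ p.D.supp}, ∀ y ∈ p.D.U f, p.act g y ∈ p.D.U f'.1 := by
  obtain ⟨x, hx, hx0⟩ := p.D.mem_supp_iff.1 hf
  have hgx : p.act g x ≠ 0 := fun h => hx0 (p.act_injective g (h.trans (map_zero _).symm))
  have key : ∀ u, ∃ b, ∀ y ∈ p.D.U f, p.D.ρ u (p.act g y) = p.D.wp b (p.act g y) := by
    intro u
    obtain ⟨w, a, e⟩ := R.H_conj (inv_mem hg) u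
    rw [inv_inv] at e
    refine ⟨a + dot f w, fun y hy => ?_⟩
    have e' : R.el0 u * g = g * R.el0 w * R.kap a := by
      rw [mul_assoc g, ← e]; group
    rw [← p.act_el, ← p.act_mul, e', p.act_mul, p.act_mul, p.act_kap, p.act_el, p.D.comm_wp, hy w,
      p.D.wp_wp, p.act_wp]
  obtain ⟨f', hf'⟩ := p.D.exists_U hgx fun u => ⟨_, (key u).choose_spec x hx⟩
  refine ⟨⟨f', p.D.mem_supp_iff.2 ⟨_, hf', hgx⟩⟩, fun y hy u => ?_⟩
  rw [(key u).choose_spec y hy, p.D.wp_left_inj hgx (((key u).choose_spec x hx).symm.trans (hf' u))]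

/-- The functional of the image eigenspace. -/
noncomputable def img (g : R.H) (f : {x // x ∈ p.D.supp}) : {x // x ∈ p.D.supp} :=
  (p.maps g.2 f.2).choose

theorem img_spec (g : R.H) (f : {x // x ∈ p.D.supp}) {y : W} (hy : y ∈ p.D.U f.1) :
    p.act g y ∈ p.D.U (p.img g f).1 :=
  (p.maps g.2 f.2).choose_spec y hy

theorem img_eq (g : R.H) (f f' : {x // x ∈ p.D.supp})
    (h : ∀ y ∈ p.D.U f.1, p.act g y ∈ p.D.U f'.1) : p.img g f = f' := by
  obtain ⟨x, hx, hx0⟩ := p.D.mem_supp_iff.1 f.2
  refine Subtype.ext (p.D.U_unique (fun e => hx0 (p.act_injective g.1 (e.trans (map_zero _).symm)))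
    (p.img_spec g f hx) (h x hx))

theorem img_one (f : {x // x ∈ p.D.supp}) : p.img 1 f = f :=
  p.img_eq 1 f f fun y hy => by rw [OneMemClass.coe_one, p.act_one]; exact hy

theorem img_mul (g h : R.H) (f : {x // x ∈ p.D.supp}) : p.img (g * h) f = p.img g (p.img h f) :=
  p.img_eq _ f _ fun y hy => by
    rw [Subgroup.coe_mul, p.act_mul]
    exact p.img_spec g _ (p.img_spec h f hy)

/-- The action on the eigenspaces. -/
noncomputable def theta : R.H →* Equiv.Perm {x // x ∈ p.D.supp} :=
  MonoidHom.mk' (fun g => ⟨p.img g, p.img g⁻¹,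
    fun f => by rw [← p.img_mul, inv_mul_cancel, p.img_one],
    fun f => by rw [← p.img_mul, mul_inv_cancel, p.img_one]⟩)
    fun g h => Equiv.ext fun f => p.img_mul g h f

theorem theta_spec (g : R.H) (f : {x // x ∈ p.D.supp}) {y : W} (hy : y ∈ p.D.U f.1) :
    p.act g y ∈ p.D.U (p.theta g f).1 :=
  p.img_spec g f hy

theorem commute_of_theta_one {g : R.H} (h : p.theta g = 1) (v : V4) : Commute (g : M) (R.el0 v) := by
  refine p.inj (DFunLike.ext _ _ fun x => ?_)
  rw [p.act_mul, p.act_mul]
  show (p.act g) (p.act (R.el0 v) x) = (p.act (R.el0 v)) (p.act g x)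
  rw [← p.D.sum_proj x, map_sum, map_sum, map_sum, map_sum]
  refine Finset.sum_congr rfl fun f _ => ?_
  by_cases hf : f ∈ p.D.supp
  · have hy := p.D.proj_mem f x
    have hgy := p.theta_spec g ⟨f, hf⟩ hy
    rw [h] at hgy
    rw [p.act_el, hy v, p.act_wp, p.act_el, hgy v]
    rfl
  · rw [p.D.eq_zero_of_not_supp hf (p.D.proj_mem f x)]
    simp

theorem card_range_ge : 360 ≤ Nat.card p.theta.range := by
  obtain ⟨g, hg, hinj⟩ := R.F.exists_norms
  have hmem : ∀ k, Function.surjInv R.surj (g k) ∈ R.H := fun k => R.mem_H_of_conj fun v => by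
    rw [Function.surjInv_eq R.surj]
    exact hg k v
  let τ : Fin 360 → p.theta.range := fun k => ⟨p.theta ⟨_, hmem k⟩, ⟨_, rfl⟩⟩
  have hτ : Function.Injective τ := fun k k' h => by
    refine hinj k k' fun v => ?_
    have h1 : p.theta (⟨_, hmem k⟩⁻¹ * ⟨_, hmem k'⟩) = 1 := by
      rw [map_mul, map_inv, inv_mul_eq_one]
      exact congrArg Subtype.val h
    have hc := congrArg R.pi (p.commute_of_theta_one h1 v).eq
    simp only [Subgroup.coe_mul, Subgroup.coe_inv, map_mul, map_inv, R.pi_el0,
      Function.surjInv_eq R.surj] at hc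
    have e2 : g k' * R.F.el v = g k * (R.F.el v * ((g k)⁻¹ * g k')) := by
      rw [← hc, ← mul_assoc, mul_inv_cancel_left]
    rw [e2]
    group
  simpa using Nat.card_le_card_of_injective τ hτ

theorem six_le : 6 ≤ p.D.supp.card := by
  classical
  have h := p.card_range_ge.trans (Subgroup.card_le_card_group _)
  rw [Nat.card_eq_fintype_card, Fintype.card_perm, Fintype.card_coe] at h
  by_contra hlt
  push Not at hlt
  interval_cases hs : p.D.supp.card <;> norm_num [Nat.factorial] at h

theorem six [Finite W] (hW : Nat.card W ≤ 4096) :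
    Nat.card W = 4096 ∧ p.D.supp.card = 6 ∧ ∀ f ∈ p.D.supp, Nat.card (p.D.U f) = 4 := by
  have h6 := p.six_le
  have hle := p.D.pow_card_le.trans hW
  have hs : p.D.supp.card = 6 := by
    by_contra hne
    have : 7 ≤ p.D.supp.card := by omega
    have := Nat.pow_le_pow_right (n := 4) (by norm_num) this
    omega
  have hprod := p.D.prod_supp
  have h4 : ∀ f ∈ p.D.supp, Nat.card (p.D.U f) = 4 := by
    intro f hf
    by_contra hne
    have : ∏ _f ∈ p.D.supp, (4 : ℕ) < ∏ f ∈ p.D.supp, Nat.card (p.D.U f) :=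
      Finset.prod_lt_prod (fun _ _ => by norm_num) (fun g hg => p.D.four_le_card hg)
        ⟨f, hf, lt_of_le_of_ne (p.D.four_le_card hf) (Ne.symm hne)⟩
    rw [Finset.prod_const, hs, hprod] at this
    omega
  refine ⟨?_, hs, h4⟩
  rw [← hprod, Finset.prod_congr rfl h4, Finset.prod_const, hs]
  norm_num

end Piece

/-! ## `t` is fixed point free -/

/-- The part of `V` with `t² + t + 1 = 0`. -/
def movT : AddSubgroup V where
  carrier := {x | R.act R.t (R.act R.t x) + R.act R.t x + x = 0}
  add_mem' {x y} hx hy := by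
    show _ = _
    rw [map_add, map_add, ← add_zero (0 : V)]
    conv_rhs => arg 1; rw [← hx]
    conv_rhs => arg 2; rw [← hy]
    abel
  zero_mem' := by show _ = _; simp
  neg_mem' {x} hx := by
    show _ = _
    rw [map_neg, map_neg, ← neg_add, ← neg_add, hx, neg_zero]

theorem act_movT (g : M) {x : V} (hx : x ∈ R.movT) : R.act g x ∈ R.movT := by
  show _ = _
  have hc : ∀ y, R.act R.t (R.act g y) = R.act g (R.act R.t y) := fun y => by
    rw [← R.act_mul, ← R.act_mul, R.central]
  rw [hc, hc, ← map_add, ← map_add, hx, map_zero]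

theorem split_mov (x : V) : R.act R.t x + R.act R.t (R.act R.t x) ∈ R.movT ∧
    x + R.act R.t x + R.act R.t (R.act R.t x) ∈ R.fixT := by
  have h3 : ∀ y, R.act R.t (R.act R.t (R.act R.t y)) = y := fun y => by
    rw [← R.act_mul, ← R.act_mul, ← pow_three', R.t_cube, R.act_one]
  constructor
  · show _ = _
    simp only [map_add, h3]
    calc _ = (x + x) + (R.act R.t x + R.act R.t x) +
          (R.act R.t (R.act R.t x) + R.act R.t (R.act R.t x)) := by abel
      _ = 0 := by simp [R.two]
  · show _ = _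
    simp only [map_add, h3]
    abel

theorem eq_of_movT {g h : M} (e : ∀ x ∈ R.movT, R.act g x = R.act h x) : g = h := by
  refine R.ext_act fun x => ?_
  obtain ⟨hm, hf⟩ := R.split_mov x
  have hx : x = (x + R.act R.t x + R.act R.t (R.act R.t x)) +
      (R.act R.t x + R.act R.t (R.act R.t x)) := by
    calc x = x + (R.act R.t x + R.act R.t x) + (R.act R.t (R.act R.t x) + R.act R.t (R.act R.t x)) := by
          rw [R.two, R.two, add_zero, add_zero]
      _ = _ := by abel
  rw [hx, map_add (R.act g), map_add (R.act h), R.act_of_fixT g hf, R.act_of_fixT h hf, e _ hm]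

/-- The restriction to the moved part. -/
def movAct : M →* AddMonoid.End R.movT where
  toFun g := (AddMonoidHom.mk' (fun x : R.movT => (⟨R.act g x, R.act_movT g x.2⟩ : R.movT))
    fun x y => Subtype.ext (map_add (R.act g) x.1 y.1) : R.movT →+ R.movT)
  map_one' := DFunLike.ext _ _ fun x => Subtype.ext (R.act_one x.1)
  map_mul' g h := DFunLike.ext _ _ fun x => Subtype.ext (R.act_mul g h x.1)

theorem movAct_coe (g : M) (x : R.movT) : (R.movAct g x : V) = R.act g x.1 := rfl

/-- The moved part as a piece. -/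
noncomputable def movPiece : R.Piece R.movT where
  D :=
    { w := (R.movAct R.t : R.movT →+ R.movT)
      two := fun x => Subtype.ext (R.two _)
      rel := fun x => Subtype.ext x.2
      ρ := fun v => (R.movAct (R.el0 v) : R.movT →+ R.movT)
      ρ_zero := fun x => Subtype.ext ((congrArg (fun g => R.act g x.1) R.el0_zero).trans (R.act_one _))
      ρ_add := fun u v x => Subtype.ext
        ((congrArg (fun g => R.act g x.1) (R.el0_add u v)).trans (R.act_mul _ _ _))
      comm := fun v x => Subtype.ext (((R.act_mul _ _ _).symm.trans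
        (congrArg (fun g => R.act g x.1) (R.central (R.el0 v)))).trans (R.act_mul _ _ _)) }
  act := R.movAct
  inj g h e := R.eq_of_movT fun x hx => by
    have e' := congrArg (fun f : AddMonoid.End R.movT => (f ⟨x, hx⟩ : R.movT).1) e
    exact e' 
  act_t _ := rfl
  act_el _ _ := rfl

theorem rel (x : V) : R.act R.t (R.act R.t x) + R.act R.t x + x = 0 := by
  haveI := R.finite_V
  have h : Nat.card R.movT = Nat.card V := by
    rw [R.card_V]
    exact (R.movPiece.six (R.card_V ▸ AddSubgroup.card_le_card_addGroup _)).1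
  have : R.movT = ⊤ := AddSubgroup.eq_top_of_card_eq _ h
  have hx : x ∈ R.movT := this ▸ AddSubgroup.mem_top x
  exact hx

/-- The whole module as a piece. -/
noncomputable def main : R.Piece V where
  D :=
    { w := R.act R.t
      two := R.two
      rel := R.rel
      ρ := fun v => R.act (R.el0 v)
      ρ_zero := fun x => (congrArg (fun g => R.act g x) R.el0_zero).trans (R.act_one _)
      ρ_add := fun u v x =>
        (congrArg (fun g => R.act g x) (R.el0_add u v)).trans (R.act_mul _ _ _)
      comm := fun v x => ((R.act_mul _ _ _).symm.trans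
        (congrArg (fun g => R.act g x) (R.central (R.el0 v)))).trans (R.act_mul _ _ _) }
  act := R.act
  inj := R.inj
  act_t _ := rfl
  act_el _ _ := rfl

end Rep

end Cfsg.Agent.LFRep
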