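import Cfsg.Agent.Lib.LargeFischer.Count

/-!
# The shape of the image of `C(z)`

From `Img`: after scaling the first coordinate, the small orbit is `inO 0`, the linear part `M` contains
the products `gM`, and the outer coset contains `tP 1`, `tP 7` or `gS`.
-/

set_option autoImplicit false

namespace Cfsg.Agent.LargeFischer

/-- A multiplicatively closed set of permutations as a subgroup. -/
def subOfMul (S : Set (Equiv.Perm Cd)) (h1 : (1 : Equiv.Perm Cd) ∈ S)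
    (hm : ∀ p ∈ S, ∀ q ∈ S, p * q ∈ S) : Subgroup (Equiv.Perm Cd) :=
  let N : Submonoid (Equiv.Perm Cd) :=
    { carrier := S, one_mem' := h1, mul_mem' := fun {p q} hp hq => hm p hp q hq }
  { N with
    inv_mem' := fun {p} hp => by
      have : p⁻¹ = p ^ (orderOf p - 1) := inv_eq_of_mul_eq_one_right (by
        rw [← pow_succ', Nat.sub_add_cancel (orderOf_pos p), pow_orderOf_eq_one])
      rw [this]
      exact N.pow_mem hp _ }

theorem mem_subOfMul {S : Set (Equiv.Perm Cd)} {h1 : (1 : Equiv.Perm Cd) ∈ S}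
    {hm : ∀ p ∈ S, ∀ q ∈ S, p * q ∈ S} {p : Equiv.Perm Cd} : p ∈ subOfMul S h1 hm ↔ p ∈ S := Iff.rfl

/-- A transposition of coordinates. -/
theorem tP_swap : ∀ k : Fin 5, ∀ v : Cd,
    tP ⟨k.1 + 1, by omega⟩ v = monoC 0 (Equiv.swap ⟨k.1, by omega⟩ ⟨k.1 + 1, by omega⟩) v := by
  intro k v
  refine IsAdd.ext (isAdd_tP _) (isAdd_monoC _ _) (fun j => ?_) v
  revert j
  revert k
  decide +kernel

theorem gD_mono : ∀ k : Fin 5, ∃ (d : Fin 6 → ZMod 3) (σ : Equiv.Perm (Fin 6)),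
    ∑ i, d i = 0 ∧ Equiv.Perm.sign σ = 1 ∧ ∀ v, gD k v = monoC d σ v := by
  have h : ∀ k : Fin 5,
      let d : Fin 6 → ZMod 3 := if k.1 = 4 then ![1, 2, 0, 0, 0, 0] else 0
      let σ : Equiv.Perm (Fin 6) := if hk : k.1 < 4 then
        Equiv.swap 0 1 * Equiv.swap ⟨k.1 + 1, by omega⟩ ⟨k.1 + 2, by omega⟩ else 1
      ∑ i, d i = 0 ∧ Equiv.Perm.sign σ = 1 ∧ ∀ j, gD k (bit j) = monoC d σ (bit j) := by decide +kernel
  intro k
  obtain ⟨a, b, c⟩ := h k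
  exact ⟨_, _, a, b, fun v => IsAdd.ext ((isAdd_tP 1).comp (isAdd_tP _)) (isAdd_monoC _ _) c v⟩

theorem card_pair_d : Nat.card {d : Fin 6 → ZMod 3 // ∑ i, d i = 0 ∧ d 0 = 0 ∧ d 1 = 0} = 27 := by
  rw [Nat.card_eq_fintype_card]; decide +kernel

theorem card_pair_s : Nat.card {σ : Equiv.Perm (Fin 6) // Equiv.Perm.sign σ = 1 ∧
    (σ 0 = 0 ∧ σ 1 = 1 ∨ σ 0 = 1 ∧ σ 1 = 0)} = 24 := by
  rw [Nat.card_eq_fintype_card]; decide +kernel

theorem card_fix_d : Nat.card {d : Fin 6 → ZMod 3 // ∑ i, d i = 0 ∧ d 0 = 0} = 81 := by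
  rw [Nat.card_eq_fintype_card]; decide +kernel

theorem card_fix_s : Nat.card {σ : Equiv.Perm (Fin 6) // σ 0 = 0} = 120 := by
  rw [Nat.card_eq_fintype_card]; decide +kernel

theorem code_five : (5 : Cd) = xo (unitC 0 0) (unitC 0 1) ∧ (1 : Cd) = unitC 0 0 := by decide +kernel

theorem inO_cls (c : Fin 3) (v : Cd) :
    inO c.1 v.1 = true ↔ (clsN v.1 = 0 ∨ clsN v.1 = 2 + c.1) := by
  have h : ∀ c : Fin 3, allB (fun v => decide (inO c.1 v = true ↔ (clsN v = 0 ∨ clsN v = 2 + c.1))) 12 0 = true := by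
    decide +kernel
  exact of_decide_eq_true (forall_cd (h c) v)

theorem inW_zero (v : Cd) : inW 0 v.1 = decide (pcN (suppN v.1) = 2) := by
  simp [inW, Nat.mod_one, Bool.beq_eq_decide_eq]

theorem inW_one (v : Cd) : inW 1 v.1 = (inO 0 v.1 && orthN v.1 1) := by
  have h : allB (fun v => decide (inW 1 v = (inO 0 v && orthN v 1))) 12 0 = true := by decide +kernel
  exact of_decide_eq_true (forall_cd h v)

variable (I : Img)

theorem Img.gD_mem (k : Fin 5) : gD k ∈ I.M := by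
  obtain ⟨d, σ, hd, hs, h⟩ := gD_mono k
  obtain ⟨p, hp, e⟩ := I.mono d σ hd hs
  rwa [show gD k = p from Equiv.ext fun v => (h v).trans (e v).symm]

theorem Img.symM {p : Equiv.Perm Cd} (hp : p ∈ I.M) : IsSym p := I.sym p (I.hMH hp)

/-- The monomial elements at the pair `0, 1`. -/
def Img.pairSub : Subgroup (Equiv.Perm Cd) :=
  subOfMul {p | p ∈ I.M ∧ ∃ (d : Fin 6 → ZMod 3) (σ : Equiv.Perm (Fin 6)),
      (∑ i, d i = 0 ∧ d 0 = 0 ∧ d 1 = 0) ∧ (Equiv.Perm.sign σ = 1 ∧ (σ 0 = 0 ∧ σ 1 = 1 ∨ σ 0 = 1 ∧ σ 1 = 0)) ∧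
        ∀ v, p v = monoC d σ v}
    ⟨I.M.one_mem, 0, 1, by simp, by simp, fun v => (monoC_one v).symm⟩
    (by
      rintro p ⟨hp, d, σ, ⟨a1, a2, a3⟩, ⟨b1, b2⟩, e⟩ q ⟨hq, d', σ', ⟨a1', a2', a3'⟩, ⟨b1', b2'⟩, e'⟩
      refine ⟨I.M.mul_mem hp hq, fun i => d' i + d (σ' i), σ * σ', ⟨?_, ?_, ?_⟩, ⟨?_, ?_⟩, fun v => ?_⟩
      · rw [Finset.sum_add_distrib, a1', Equiv.sum_comp σ' d, a1, add_zero]
      · rcases b2' with ⟨h, -⟩ | ⟨h, -⟩ <;> simp [a2', h, a2, a3]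
      · rcases b2' with ⟨-, h⟩ | ⟨-, h⟩ <;> simp [a3', h, a2, a3]
      · rw [map_mul, b1, b1', one_mul]
      · rcases b2' with ⟨h, h'⟩ | ⟨h, h'⟩ <;> rcases b2 with ⟨g, g'⟩ | ⟨g, g'⟩ <;> simp [h, h', g, g']
      · rw [Equiv.Perm.mul_apply, e', e, monoC_comp])

theorem Img.card_pairSub : Nat.card I.pairSub = 648 := by
  classical
  have e : Nat.card I.pairSub =
      Nat.card {x : (Fin 6 → ZMod 3) × Equiv.Perm (Fin 6) // (∑ i, x.1 i = 0 ∧ x.1 0 = 0 ∧ x.1 1 = 0) ∧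
        (Equiv.Perm.sign x.2 = 1 ∧ (x.2 0 = 0 ∧ x.2 1 = 1 ∨ x.2 0 = 1 ∧ x.2 1 = 0))} := by
    symm
    have hex : ∀ x : {x : (Fin 6 → ZMod 3) × Equiv.Perm (Fin 6) // (∑ i, x.1 i = 0 ∧ x.1 0 = 0 ∧ x.1 1 = 0) ∧
        (Equiv.Perm.sign x.2 = 1 ∧ (x.2 0 = 0 ∧ x.2 1 = 1 ∨ x.2 0 = 1 ∧ x.2 1 = 0))},
        ∃ p : I.pairSub, ∀ v, p.1 v = monoC x.1.1 x.1.2 v := fun x => by
      obtain ⟨p, hp, hpe⟩ := I.mono x.1.1 x.1.2 x.2.1.1 x.2.2.1
      exact ⟨⟨p, hp, x.1.1, x.1.2, x.2.1, x.2.2, hpe⟩, hpe⟩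
    choose f hf using hex
    refine Nat.card_congr (Equiv.ofBijective f ⟨fun a b hab => ?_, fun p => ?_⟩)
    · obtain ⟨h1, h2⟩ := monoC_inj (fun v => (hf a v).symm.trans ((by rw [hab] : (f a).1 v = (f b).1 v).trans (hf b v)))
      exact Subtype.ext (Prod.ext h1 h2)
    · obtain ⟨-, d, σ, hd, hs, hpe⟩ := p.2
      exact ⟨⟨(d, σ), hd, hs⟩, Subtype.ext (Equiv.ext fun v => (hf _ v).trans (hpe v).symm)⟩
  rw [e, Nat.card_congr (Equiv.subtypeProdEquivProd (p := fun d : Fin 6 → ZMod 3 => ∑ i, d i = 0 ∧ d 0 = 0 ∧ d 1 = 0)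
    (q := fun σ : Equiv.Perm (Fin 6) => Equiv.Perm.sign σ = 1 ∧ (σ 0 = 0 ∧ σ 1 = 1 ∨ σ 0 = 1 ∧ σ 1 = 0))),
    Nat.card_prod, card_pair_d, card_pair_s]

theorem Img.pairSub_le : I.pairSub ≤ I.M ⊓ fixP 5 := by
  rintro p ⟨hp, d, σ, ⟨-, a2, a3⟩, ⟨-, b⟩, e⟩
  refine ⟨hp, mem_fixP.2 ?_⟩
  rw [e, code_five.1, isAdd_monoC, monoC_unit, monoC_unit, a2, a3]
  rcases b with ⟨h, h'⟩ | ⟨h, h'⟩ <;> rw [h, h', add_zero]
  rw [xo_comm]

/-- The small orbit of `M`. -/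
theorem Img.exists_class : ∃ c : Fin 3, ∀ v : Cd, v ∈ orb I.M 5 ↔ inO c.1 v.1 = true := by
  classical
  obtain ⟨T, hT, hcard⟩ := orbit_shape I.gD_mem (fun p hp => I.symM hp) (r := 5) (by decide +kernel) (by decide +kernel)
  rw [shape_count] at hcard
  have h0 : T 0 = true := by
    obtain ⟨c, hc, e⟩ := (hT 5).1 ⟨1, I.M.one_mem, rfl⟩
    have e5 : clsN (5 : Cd).1 = 0 := by decide +kernel
    rwa [show c = 0 from Fin.ext (e.symm.trans e5)] at hc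
  have hM := card_eq_orb_mul I.M 5
  obtain ⟨m, hm⟩ := Subgroup.card_dvd_of_le I.pairSub_le
  rw [I.card_M, hm, I.card_pairSub] at hM
  have hdvd : Nat.card (orb I.M 5) ∣ 15120 := ⟨m, by
    have : 9797760 = 15120 * 648 := by norm_num
    nlinarith⟩
  by_cases hsmall : T 1 = false ∧ T 2 = false ∧ T 3 = false ∧ T 4 = false
  · exfalso
    obtain ⟨t1, t2, t3, t4⟩ := hsmall
    have hW : ∀ p ∈ I.M, ∀ v : Cd, pcN (suppN v.1) = 2 → pcN (suppN (p v).1) = 2 := by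
      intro p hp v hv
      have hv' : v ∈ orb I.M 5 := (hT v).2 ⟨0, h0, (cls_facts v).2.1.2 hv⟩
      obtain ⟨c, hc, e⟩ := (hT (p v)).1 (orb_trans hv' ⟨p, hp, rfl⟩)
      fin_cases c
      · exact (cls_facts _).2.1.1 e
      all_goals simp_all
    have hmono : ∀ p : I.M, ∃ x : (Fin 6 → ZMod 3) × Equiv.Perm (Fin 6), ∀ v, p.1 v = monoC x.1 x.2 v := by
      intro p
      obtain ⟨d, σ, -, e⟩ := exists_monoC (I.symM p.2) (I.lin p.1 p.2) (k := 0) (fun v => by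
        rw [Fin.val_zero, inW_zero, inW_zero, decide_eq_decide]
        refine ⟨fun h => ?_, hW p.1 p.2 v⟩
        have := hW _ (I.M.inv_mem p.2) _ h
        rwa [show (p.1)⁻¹ (p.1 v) = v from p.1.symm_apply_apply v] at this) (fun h => absurd h (by decide))
      exact ⟨(d, σ), e⟩
    choose f hf using hmono
    have : Nat.card I.M ≤ Nat.card ((Fin 6 → ZMod 3) × Equiv.Perm (Fin 6)) :=
      Nat.card_le_card_of_injective f fun a b hab => Subtype.ext (Equiv.ext fun v => by rw [hf, hf, hab])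
    rw [I.card_M, Nat.card_prod, Nat.card_eq_fintype_card, Nat.card_eq_fintype_card, Fintype.card_fun,
      Fintype.card_perm, Fintype.card_fin, ZMod.card] at this
    norm_num [Nat.factorial] at this
  have hshape : T 1 = false ∧ ∃ c : Fin 3, ∀ k : Fin 3, T ⟨2 + k.1, by omega⟩ = decide (k = c) := by
    rw [hcard, h0] at hdvd
    cases h1 : T 1 <;> cases h2 : T 2 <;> cases h3 : T 3 <;> cases h4 : T 4 <;>
      simp [h1, h2, h3, h4] at hsmall hdvd ⊢ <;> first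
        | (refine ⟨0, fun k => ?_⟩; fin_cases k <;> simp [h2, h3, h4]; done)
        | (refine ⟨1, fun k => ?_⟩; fin_cases k <;> simp [h2, h3, h4]; done)
        | (refine ⟨2, fun k => ?_⟩; fin_cases k <;> simp [h2, h3, h4]; done)
        | (norm_num at hdvd; done)
  obtain ⟨t1, c, hc⟩ := hshape
  refine ⟨c, fun v => ?_⟩
  rw [hT, inO_cls]
  constructor
  · rintro ⟨k, hk, e⟩
    fin_cases k
    · exact Or.inl e
    · simp [t1] at hk
    all_goals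
      right
      rw [e]
    · have := hc 0; rw [show (⟨2 + (0 : Fin 3).1, by omega⟩ : Fin 5) = 2 from rfl] at this
      rw [show T ⟨2, by norm_num⟩ = T 2 from rfl, this, decide_eq_true_eq] at hk
      rw [← hk]; rfl
    · have := hc 1; rw [show (⟨2 + (1 : Fin 3).1, by omega⟩ : Fin 5) = 3 from rfl] at this
      rw [show T ⟨3, by norm_num⟩ = T 3 from rfl, this, decide_eq_true_eq] at hk
      rw [← hk]; rfl
    · have := hc 2; rw [show (⟨2 + (2 : Fin 3).1, by omega⟩ : Fin 5) = 4 from rfl] at this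
      rw [show T ⟨4, by norm_num⟩ = T 4 from rfl, this, decide_eq_true_eq] at hk
      rw [← hk]; rfl
  · rintro (e | e)
    · exact ⟨0, h0, e⟩
    · exact ⟨⟨2 + c.1, by omega⟩, by simp [hc c], e⟩

end Cfsg.Agent.LargeFischer
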