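import Cfsg.Agent.Lib.LargeFischer.Pair
import Cfsg.Prelude.Def_Solvable

/-!
# The stabiliser of a conjugate of `z` in `Q`
-/

set_option autoImplicit false
set_option maxRecDepth 100000

namespace Cfsg.Agent.LFRep

open Cfsg Subgroup LargeExtraspecial

/-- The scalars fixing representative three over a permutation. -/
def fixScal (σ : Equiv.Perm (Fin 6)) : Fin 6 → ZMod 3 :=
  fun i => lg (rep 3 i) - lg (rep 3 (σ.symm i))

theorem rep_three_ne : ∀ i, rep 3 i ≠ 0 := by decide +kernel

theorem sum_fixScal (σ : Equiv.Perm (Fin 6)) : ∑ i, fixScal σ i = 0 := by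
  simp only [fixScal, Finset.sum_sub_distrib]
  rw [Equiv.sum_comp σ.symm fun i => lg (rep 3 i), sub_self]

theorem mono_fixScal (σ : Equiv.Perm (Fin 6)) : mono σ (fixScal σ) (rep 3) = rep 3 := by
  funext i
  show zs (fixScal σ i) (rep 3 (σ.symm i)) = rep 3 i
  conv_lhs => arg 2; rw [← zs_lg _ (rep_three_ne (σ.symm i))]
  rw [← zs_add, fixScal, sub_add_cancel, zs_lg _ (rep_three_ne i)]

theorem fixScal_mul (σ τ : Equiv.Perm (Fin 6)) :
    fixScal (σ * τ) = fun i => fixScal σ i + fixScal τ (σ.symm i) := by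
  funext i
  simp only [fixScal]
  rw [show (σ * τ).symm i = τ.symm (σ.symm i) from rfl]
  ring

namespace Model

variable {G : Type*} [Group G] {z : G} {Qs : Subgroup (centralizer ({z} : Set G))} [Qs.Normal]
  (D : Model z Qs)

/-- The action of the quotient on coordinates. -/
noncomputable def mvq : centralizer ({z} : Set G) ⧸ Qs →* AddMonoid.End Vec :=
  QuotientGroup.lift Qs D.mv fun c hc => (D.mv_eq_one c).2 hc

theorem mvq_mk (c : centralizer ({z} : Set G)) : D.mvq (QuotientGroup.mk' Qs c) = D.mv c := rfl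

theorem mvq_injective : Function.Injective D.mvq := by
  refine (injective_iff_map_eq_one _).2 fun x hx => ?_
  obtain ⟨c, rfl⟩ := QuotientGroup.mk_surjective x
  exact (QuotientGroup.eq_one_iff c).2 ((D.mv_eq_one c).1 hx)

/-- The elements fixing a vector. -/
def fixer (v : Vec) : Subgroup (centralizer ({z} : Set G) ⧸ Qs) where
  carrier := {x | D.mvq x v = v}
  mul_mem' {a b} ha hb := by
    show D.mvq (a * b) v = v
    rw [map_mul]
    show D.mvq a (D.mvq b v) = v
    rw [show D.mvq b v = v from hb, show D.mvq a v = v from ha]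
  one_mem' := by show D.mvq 1 v = v; rw [map_one]; rfl
  inv_mem' {a} ha := by
    show D.mvq a⁻¹ v = v
    conv_lhs => rw [← show D.mvq a v = v from ha]
    show (D.mvq a⁻¹ * D.mvq a) v = v
    rw [← map_mul, inv_mul_cancel, map_one]; rfl

theorem card_fixer_big [Finite G] {v : Vec} (hv : Big v) : Nat.card (D.fixer v) = 11520 := by
  letI : MulAction (centralizer ({z} : Set G) ⧸ Qs) Vec :=
    { smul := fun x w => D.mvq x w
      one_smul := fun w => by show D.mvq 1 w = w; rw [map_one]; rfl
      mul_smul := fun x y w => by show D.mvq (x * y) w = _; rw [map_mul]; rfl }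
  have hst : MulAction.stabilizer (centralizer ({z} : Set G) ⧸ Qs) v = D.fixer v := Subgroup.ext fun _ => Iff.rfl
  have horb : MulAction.orbit (centralizer ({z} : Set G) ⧸ Qs) v = ↑(Finset.univ.filter Big) := by
    ext w
    rw [Finset.coe_filter]
    simp only [Finset.mem_univ, true_and, Set.mem_ofPred_eq]
    constructor
    · rintro ⟨x, hx⟩
      obtain ⟨c, rfl⟩ := QuotientGroup.mk_surjective x
      change D.mv c v = w at hx
      subst hx
      refine ⟨(D.qf_mv c v).trans hv.1, fun h => hv.2.1 ?_, fun h => hv.2.2 ?_⟩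
      · have := congrArg (D.mv c⁻¹) h
        rwa [← D.mv_mul, inv_mul_cancel, map_one, map_zero] at this
      · by_cases h0 : D.mv c v = 0
        · exfalso
          have := congrArg (D.mv c⁻¹) h0
          rw [← D.mv_mul, inv_mul_cancel, map_one, map_zero] at this
          exact hv.2.1 this
        · exact ((D.small_mv c v).1 ⟨(D.qf_mv c v).trans hv.1, h0, h⟩).2.2
    · intro hw
      obtain ⟨c, hc⟩ := D.big_trans v w hv hw
      exact ⟨QuotientGroup.mk c, hc⟩
  have h := Subgroup.card_mul_index (MulAction.stabilizer (centralizer ({z} : Set G) ⧸ Qs) v)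
  rw [MulAction.index_stabilizer, horb, Set.ncard_coe_finset, card_small_big.2, hst,
    show Nat.card (centralizer ({z} : Set G) ⧸ Qs) = Qs.index from rfl, D.card_quot] at h
  omega

/-- An alternating group of degree six fixing representative three. -/
theorem exists_alt : ∃ f : alternatingGroup (Fin 6) →* centralizer ({z} : Set G) ⧸ Qs,
    Function.Injective f ∧ ∀ σ, f σ ∈ D.fixer (rep 3) := by
  have h : ∀ σ : alternatingGroup (Fin 6), ∃ x : centralizer ({z} : Set G) ⧸ Qs,
      ∀ v, D.mvq x v = mono σ.1 (fixScal σ.1) v := fun σ => by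
    obtain ⟨m, -, hm⟩ := D.mono_mem σ.1 (fixScal σ.1) (Equiv.Perm.mem_alternatingGroup.1 σ.2)
      (sum_fixScal σ.1)
    exact ⟨QuotientGroup.mk' Qs m, hm⟩
  choose x hx using h
  refine ⟨MonoidHom.mk' x fun σ τ => D.mvq_injective (DFunLike.ext _ _ fun v => ?_), ?_, fun σ => ?_⟩
  · rw [map_mul]
    show _ = D.mvq (x σ) (D.mvq (x τ) v)
    rw [hx, hx, hx, mono_mono]
    simp only [Subgroup.coe_mul, fixScal_mul]
  · intro σ τ e
    refine Subtype.ext (Rep.mono_unique (a := fixScal σ.1) (b := fixScal τ.1) fun v => ?_).1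
    rw [← hx, ← hx, show x σ = x τ from e]
  · show D.mvq (x σ) (rep 3) = rep 3
    rw [hx, mono_fixScal]

end Model

end Cfsg.Agent.LFRep
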