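import Cfsg.Agent.Lib.LargeFischer.Code

/-!
# Certificates for the stabiliser of the code 85: words, forests, families

Letters `0 .. 5` are `gM`, `6` is the outer element, `7 .. 12` are the inverses of `gM`.
-/

set_option autoImplicit false

namespace Cfsg.Agent.LargeFischer

/-- Generators of Sylow subgroup R1. -/
def wR1 : List (List ℕ) :=
  [[10,9,6,2,3],
    [12,8,7,12,8,7,12,3,5,4,1,5,0,1,2,3],
    [10,11,12,8,9,10,11,6,8,12,6,2,5,1,6,3,2,1,0,5,3,10,9,12,8,7,9,12,8,10,12,11,6,4,5,3,1,5,2,0,1,5,2,3],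
    [10,9,8,7,12,8,10,12,0,5,3,1,5,0,1,2,3,10,11,12,3,4,5,3,10,9,8,7,12,8,10,12,0,5,3,1,5,0,1,2,3]]

/-- Its forest. -/
def fR1 : List (ℕ × ℕ) := [
  (0,0), (1,0), (2,0), (3,0), (1,1), (2,1), (3,1), (0,2), (2,2), (3,2), (0,3), (1,3),
  (2,3), (3,3), (1,4), (2,4), (0,5), (2,5), (3,5), (0,6), (1,6), (2,6), (3,6), (1,7),
  (2,7), (1,8), (3,8), (0,9), (1,9), (2,9), (3,9), (1,10), (2,10), (1,11), (2,11), (3,11),
  (0,12), (2,12), (3,12), (1,13), (2,13), (3,13), (1,14), (2,14), (0,15), (2,15), (3,15), (0,16),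
  (1,16), (2,16), (3,16), (1,17), (3,17), (0,18), (1,18), (2,18), (3,18), (1,19), (2,19), (1,20),
  (2,20), (3,20), (0,21), (2,21), (3,21), (1,22), (2,22), (3,22), (1,23), (2,23), (0,24), (2,24),
  (3,24), (0,25), (1,25), (2,25), (3,25), (3,26), (1,27), (2,27), (2,28), (3,28), (0,29), (2,29),
  (3,29), (1,30), (2,30), (3,30), (1,31), (2,31), (0,32), (2,32), (3,32), (2,33), (3,33), (0,34),
  (3,34), (1,35), (2,35), (3,35), (1,37), (1,38), (3,38), (1,39), (2,39), (0,40), (3,40), (3,41),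
  (1,42), (2,43), (3,43), (0,44), (3,44), (1,45), (3,45), (1,46), (2,46), (2,47), (3,48), (2,49),
  (2,50), (3,50), (1,51), (2,51), (3,52), (1,53), (2,53), (2,54), (3,54), (0,55), (2,55), (3,55),
  (1,56), (2,56), (3,56), (1,57), (2,57), (0,58), (2,58), (3,58), (2,59), (3,59), (0,60), (3,60),
  (1,61), (2,61), (3,61), (1,63), (1,64), (3,64), (1,65), (2,65), (0,66), (3,66), (3,67), (1,68),
  (2,69), (3,69), (0,70), (3,70), (1,71), (3,71), (1,72), (2,72), (2,73), (3,74), (2,75), (2,76),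
  (3,76), (1,77), (2,77), (0,79), (2,79), (3,79), (1,80), (2,80), (3,80), (2,81), (3,84), (1,85),
  (2,85), (3,87), (2,89), (3,89), (0,90), (3,90), (3,91), (1,92), (2,93), (2,94), (1,95), (1,96),
  (2,100), (3,101), (1,103), (3,104), (3,105), (1,108), (3,109), (2,110), (3,112), (2,115), (0,116), (3,116),
  (2,117), (3,117), (3,120), (2,123), (0,126), (2,126), (3,126), (1,127), (2,127), (3,127), (2,128), (3,131),
  (1,132), (2,132), (3,134), (2,136), (3,136), (0,137), (3,137), (3,138), (1,139), (2,140), (2,141), (1,142),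
  (1,143), (2,147), (3,148), (1,150), (3,151), (3,152), (1,155), (3,156), (2,157), (3,159), (2,162), (0,163),
  (3,163), (2,164), (3,164), (3,167), (2,170), (3,180), (3,181), (2,187), (2,191), (3,200), (3,217), (3,218),
  (2,224), (2,228), (3,237)]

/-- Generators of Sylow subgroup R2. -/
def wR2 : List (List ℕ) :=
  [[10,11,12,8,9,12,8,7,12,1,0,5,1,2,0,1,5,4,3,10,9,6,2,3,10,11,12,8,7,9,8,12,7,8,5,0,1,5,2,1,5,4,3],
    [10,11,12,8,9,12,8,7,12,1,0,5,1,2,0,1,5,4,3,12,8,7,12,8,7,12,3,5,4,1,5,0,1,2,3,10,11,12,8,7,9,8,12,7,8,5,0,1,5,2,1,5,4,3],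
    [10,11,12,8,9,12,8,7,12,1,0,5,1,2,0,1,5,4,3,10,11,12,8,9,10,11,6,8,12,6,2,5,1,6,3,2,1,0,5,3,10,9,12,8,7,9,12,8,10,12,11,6,4,5,3,1,5,2,0,1,5,2,3,10,11,12,8,7,9,8,12,7,8,5,0,1,5,2,1,5,4,3],
    [10,11,12,8,9,12,8,7,12,1,0,5,1,2,0,1,5,4,3,10,9,8,7,12,8,10,12,0,5,3,1,5,0,1,2,3,10,11,12,3,4,5,3,10,9,8,7,12,8,10,12,0,5,3,1,5,0,1,2,3,10,11,12,8,7,9,8,12,7,8,5,0,1,5,2,1,5,4,3]]

/-- Its forest. -/
def fR2 : List (ℕ × ℕ) := [
  (0,0), (1,0), (2,0), (3,0), (1,1), (2,1), (3,1), (0,2), (2,2), (3,2), (0,3), (1,3),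
  (2,3), (3,3), (1,4), (2,4), (0,5), (2,5), (3,5), (0,6), (1,6), (2,6), (3,6), (1,7),
  (2,7), (1,8), (3,8), (0,9), (1,9), (2,9), (3,9), (1,10), (2,10), (1,11), (2,11), (3,11),
  (0,12), (2,12), (3,12), (1,13), (2,13), (3,13), (1,14), (2,14), (0,15), (2,15), (3,15), (0,16),
  (1,16), (2,16), (3,16), (1,17), (3,17), (0,18), (1,18), (2,18), (3,18), (1,19), (2,19), (1,20),
  (2,20), (3,20), (0,21), (2,21), (3,21), (1,22), (2,22), (3,22), (1,23), (2,23), (0,24), (2,24),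
  (3,24), (0,25), (1,25), (2,25), (3,25), (3,26), (1,27), (2,27), (2,28), (3,28), (0,29), (2,29),
  (3,29), (1,30), (2,30), (3,30), (1,31), (2,31), (0,32), (2,32), (3,32), (2,33), (3,33), (0,34),
  (3,34), (1,35), (2,35), (3,35), (1,37), (1,38), (3,38), (1,39), (2,39), (0,40), (3,40), (3,41),
  (1,42), (2,43), (3,43), (0,44), (3,44), (1,45), (3,45), (1,46), (2,46), (2,47), (3,48), (2,49),
  (2,50), (3,50), (1,51), (2,51), (3,52), (1,53), (2,53), (2,54), (3,54), (0,55), (2,55), (3,55),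
  (1,56), (2,56), (3,56), (1,57), (2,57), (0,58), (2,58), (3,58), (2,59), (3,59), (0,60), (3,60),
  (1,61), (2,61), (3,61), (1,63), (1,64), (3,64), (1,65), (2,65), (0,66), (3,66), (3,67), (1,68),
  (2,69), (3,69), (0,70), (3,70), (1,71), (3,71), (1,72), (2,72), (2,73), (3,74), (2,75), (2,76),
  (3,76), (1,77), (2,77), (0,79), (2,79), (3,79), (1,80), (2,80), (3,80), (2,81), (3,84), (1,85),
  (2,85), (3,87), (2,89), (3,89), (0,90), (3,90), (3,91), (1,92), (2,93), (2,94), (1,95), (1,96),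
  (2,100), (3,101), (1,103), (3,104), (3,105), (1,108), (3,109), (2,110), (3,112), (2,115), (0,116), (3,116),
  (2,117), (3,117), (3,120), (2,123), (0,126), (2,126), (3,126), (1,127), (2,127), (3,127), (2,128), (3,131),
  (1,132), (2,132), (3,134), (2,136), (3,136), (0,137), (3,137), (3,138), (1,139), (2,140), (2,141), (1,142),
  (1,143), (2,147), (3,148), (1,150), (3,151), (3,152), (1,155), (3,156), (2,157), (3,159), (2,162), (0,163),
  (3,163), (2,164), (3,164), (3,167), (2,170), (3,180), (3,181), (2,187), (2,191), (3,200), (3,217), (3,218),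
  (2,224), (2,228), (3,237)]

/-- Generators of Sylow subgroup S1. -/
def wS1 : List (List ℕ) :=
  [[12,7,8,12,9,8,5,1,5,6,2,1,5],
    [12,7,8,12,9,8,12,6,1,5,0,1,5,2,0,1,5,10,9,8,12,9,3,5,1,2,3],
    [10,12,8,7,9,8,10,11,6,12,2,6,5,3,0,1,2,0,1,5,3,12,8,7,9,10,9,12,8,7,11,5,0,1,5,4,3,2,0,1,5,3],
    [10,9,8,12,9,3,5,1,2,3,10,12,7,8,7,9,12,8,7,10,6,3,0,1,0,5,2,1,5,3]]

/-- Its forest. -/
def fS1 : List (ℕ × ℕ) := [
  (0,0), (1,0), (2,0), (3,0), (1,1), (2,1), (3,1), (0,2), (1,2), (2,2), (3,2), (0,3),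
  (2,3), (3,3), (1,4), (2,4), (0,5), (1,5), (2,5), (3,5), (0,6), (2,6), (3,6), (1,7),
  (2,7), (2,8), (3,8), (2,9), (3,9), (0,10), (2,10), (3,10), (1,11), (2,11), (1,12), (3,12),
  (3,13), (1,14), (2,14), (0,15), (2,15), (3,15), (0,16), (2,16), (3,16), (2,17), (3,17), (2,18),
  (3,18), (0,19), (2,19), (3,19), (1,20), (2,20), (1,21), (3,21), (3,22), (1,23), (2,23), (0,24),
  (2,24), (3,24), (0,25), (2,25), (3,25), (2,26), (3,26), (1,27), (2,27), (0,28), (2,28), (3,28),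
  (2,29), (3,30), (3,31), (1,32), (2,32), (2,33), (3,33), (0,34), (2,34), (3,34), (3,35), (1,36),
  (2,36), (2,37), (0,38), (2,38), (3,38), (0,39), (2,39), (3,39), (2,40), (3,40), (0,41), (3,41),
  (2,42), (1,43), (3,43), (3,44), (1,45), (2,45), (2,46), (3,46), (1,47), (2,47), (0,48), (2,48),
  (3,48), (2,49), (3,50), (3,51), (1,52), (2,52), (2,53), (3,53), (0,54), (2,54), (3,54), (3,55),
  (1,56), (2,56), (2,57), (0,58), (2,58), (3,58), (0,59), (2,59), (3,59), (2,60), (3,60), (0,61),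
  (3,61), (2,62), (1,63), (3,63), (3,64), (1,65), (2,65), (3,66), (1,67), (2,67), (2,68), (3,68),
  (0,69), (2,69), (3,70), (3,71), (1,72), (2,72), (0,73), (2,73), (3,73), (2,74), (0,76), (2,76),
  (3,76), (0,77), (3,77), (0,78), (3,78), (2,79), (3,80), (3,81), (2,82), (2,83), (2,84), (3,84),
  (0,85), (3,85), (3,86), (2,87), (3,87), (2,89), (3,91), (1,92), (3,93), (3,95), (1,96), (3,98),
  (2,99), (2,100), (0,101), (2,101), (2,102), (3,103), (1,104), (2,104), (2,105), (3,105), (0,106), (2,106),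
  (3,107), (3,108), (1,109), (2,109), (0,110), (2,110), (3,110), (2,111), (0,113), (2,113), (3,113), (0,114),
  (3,114), (0,115), (3,115), (2,116), (3,117), (3,118), (2,119), (2,120), (2,121), (3,121), (0,122), (3,122),
  (3,123), (2,124), (3,124), (2,126), (3,128), (1,129), (3,130), (3,132), (1,133), (3,135), (2,136), (2,137),
  (0,138), (2,138), (2,139), (2,147), (3,150), (3,151), (3,152), (2,153), (3,154), (2,155), (2,163), (3,167),
  (3,169), (3,172), (0,181), (2,193), (3,196), (3,197), (3,198), (2,199), (3,200), (2,201), (2,209), (3,213),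
  (3,215), (3,218), (0,227)]

/-- Generators of Sylow subgroup S2. -/
def wS2 : List (List ℕ) :=
  [[10,9,8,12,7,8,9,12,8,7,12,2,6,1,5,0,1,2,0,1,5,3,12,7,8,12,9,8,5,1,5,6,2,1,5,10,12,8,7,9,8,7,12,8,6,9,5,0,1,5,2,1,0,5,1,2,3],
    [10,9,8,12,7,8,9,12,8,7,12,2,6,1,5,0,1,2,0,1,5,3,12,7,8,12,9,8,12,6,1,5,0,1,5,2,0,1,5,10,9,8,12,9,3,5,1,2,3,10,12,8,7,9,8,7,12,8,6,9,5,0,1,5,2,1,0,5,1,2,3],
    [10,9,8,12,7,8,9,12,8,7,12,2,6,1,5,0,1,2,0,1,5,3,10,12,8,7,9,8,10,11,6,12,2,6,5,3,0,1,2,0,1,5,3,12,8,7,9,10,9,12,8,7,11,5,0,1,5,4,3,2,0,1,5,3,10,12,8,7,9,8,7,12,8,6,9,5,0,1,5,2,1,0,5,1,2,3],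
    [10,9,8,12,7,8,9,12,8,7,12,2,6,1,5,0,1,2,0,1,5,3,10,9,8,12,9,3,5,1,2,3,10,12,7,8,7,9,12,8,7,10,6,3,0,1,0,5,2,1,5,3,10,12,8,7,9,8,7,12,8,6,9,5,0,1,5,2,1,0,5,1,2,3]]

/-- Its forest. -/
def fS2 : List (ℕ × ℕ) := [
  (0,0), (1,0), (2,0), (3,0), (1,1), (2,1), (3,1), (0,2), (1,2), (2,2), (3,2), (0,3),
  (2,3), (3,3), (1,4), (2,4), (0,5), (1,5), (2,5), (3,5), (0,6), (2,6), (3,6), (1,7),
  (2,7), (2,8), (3,8), (2,9), (3,9), (0,10), (2,10), (3,10), (1,11), (2,11), (1,12), (3,12),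
  (3,13), (1,14), (2,14), (0,15), (2,15), (3,15), (0,16), (2,16), (3,16), (2,17), (3,17), (2,18),
  (3,18), (0,19), (2,19), (3,19), (1,20), (2,20), (1,21), (3,21), (3,22), (1,23), (2,23), (0,24),
  (2,24), (3,24), (0,25), (2,25), (3,25), (2,26), (3,26), (1,27), (2,27), (0,28), (2,28), (3,28),
  (2,29), (3,30), (3,31), (1,32), (2,32), (2,33), (3,33), (0,34), (2,34), (3,34), (3,35), (1,36),
  (2,36), (2,37), (0,38), (2,38), (3,38), (0,39), (2,39), (3,39), (2,40), (3,40), (0,41), (3,41),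
  (2,42), (1,43), (3,43), (3,44), (1,45), (2,45), (2,46), (3,46), (1,47), (2,47), (0,48), (2,48),
  (3,48), (2,49), (3,50), (3,51), (1,52), (2,52), (2,53), (3,53), (0,54), (2,54), (3,54), (3,55),
  (1,56), (2,56), (2,57), (0,58), (2,58), (3,58), (0,59), (2,59), (3,59), (2,60), (3,60), (0,61),
  (3,61), (2,62), (1,63), (3,63), (3,64), (1,65), (2,65), (3,66), (1,67), (2,67), (2,68), (3,68),
  (0,69), (2,69), (3,70), (3,71), (1,72), (2,72), (0,73), (2,73), (3,73), (2,74), (0,76), (2,76),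
  (3,76), (0,77), (3,77), (0,78), (3,78), (2,79), (3,80), (3,81), (2,82), (2,83), (2,84), (3,84),
  (0,85), (3,85), (3,86), (2,87), (3,87), (2,89), (3,91), (1,92), (3,93), (3,95), (1,96), (3,98),
  (2,99), (2,100), (0,101), (2,101), (2,102), (3,103), (1,104), (2,104), (2,105), (3,105), (0,106), (2,106),
  (3,107), (3,108), (1,109), (2,109), (0,110), (2,110), (3,110), (2,111), (0,113), (2,113), (3,113), (0,114),
  (3,114), (0,115), (3,115), (2,116), (3,117), (3,118), (2,119), (2,120), (2,121), (3,121), (0,122), (3,122),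
  (3,123), (2,124), (3,124), (2,126), (3,128), (1,129), (3,130), (3,132), (1,133), (3,135), (2,136), (2,137),
  (0,138), (2,138), (2,139), (2,147), (3,150), (3,151), (3,152), (2,153), (3,154), (2,155), (2,163), (3,167),
  (3,169), (3,172), (0,181), (2,193), (3,196), (3,197), (3,198), (2,199), (3,200), (2,201), (2,209), (3,213),
  (3,215), (3,218), (0,227)]

/-- Generators of Sylow subgroup G1. -/
def wG1 : List (List ℕ) :=
  [[12,8,7,9,8,10,12,8,9,3,2,1,5,3,1,2,0,1,5],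
    [12,8,7,9,10,9,11,12,6,5,4,2,3,2,1,0,5],
    [12,7,8,9,10,11,12,8,3,4,1,5,3,1,2,1,0,5],
    [10,12,8,7,9,8,10,11,12,8,7,3,6,1,2,5,3,1,2,0,1,5,3,12,8,7,10,9,12,8,12,12,0,1,0,5,1,2,5,0,1,5,3]]

/-- Its forest. -/
def fG1 : List (ℕ × ℕ) := [
  (0,0), (1,0), (2,0), (3,0), (1,1), (2,1), (3,1), (0,2), (2,2), (3,2), (0,3), (3,3),
  (2,4), (3,4), (0,5), (2,5), (3,5), (0,6), (3,6), (2,7), (3,7), (1,8), (2,8), (3,8),
  (0,9), (3,9), (2,10), (3,10), (1,11), (2,11), (3,11), (2,12), (3,12), (0,13), (3,13), (3,14),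
  (1,15), (2,15), (3,15), (0,16), (3,16), (2,17), (3,17), (1,18), (2,18), (3,18), (2,19), (3,19),
  (0,20), (3,20), (3,21), (0,22), (2,22), (3,22), (0,23), (3,23), (2,24), (3,24), (1,25), (2,25),
  (3,25), (2,26), (3,26), (0,27), (3,27), (3,28), (0,29), (2,29), (3,29), (3,30), (2,31), (3,31),
  (0,32), (3,32), (3,33), (1,34), (2,34), (3,34), (3,35), (0,37), (2,37), (3,37), (0,38), (3,38),
  (2,39), (3,39), (1,40), (2,40), (3,40), (2,41), (3,41), (0,42), (3,42), (3,43), (0,44), (2,44),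
  (3,44), (3,45), (2,46), (3,46), (0,47), (3,47), (3,48), (1,49), (2,49), (3,49), (3,50), (2,52),
  (3,52), (0,53), (3,53), (2,54), (2,55), (3,55), (2,56), (3,56), (0,57), (3,58), (0,59), (2,59),
  (3,59), (3,60), (2,61), (3,61), (0,62), (3,62), (3,63), (1,64), (2,64), (3,64), (3,65), (1,67),
  (2,67), (3,67), (0,68), (3,68), (2,69), (3,69), (2,70), (3,70), (0,71), (3,71), (3,72), (1,73),
  (3,73), (0,76), (2,76), (2,78), (3,79), (2,80), (3,80), (0,81), (3,81), (2,82), (2,83), (3,83),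
  (2,84), (3,84), (0,85), (3,86), (0,87), (2,87), (3,87), (3,88), (2,89), (3,89), (0,90), (3,90),
  (3,91), (1,92), (2,92), (3,92), (3,93), (1,95), (2,95), (3,95), (0,96), (3,96), (2,97), (3,97),
  (2,98), (3,98), (0,99), (3,99), (3,100), (1,101), (3,101), (0,104), (2,104), (2,106), (3,107), (0,108),
  (3,108), (2,109), (1,110), (2,110), (2,111), (3,114), (2,117), (1,119), (2,119), (3,120), (2,121), (3,121),
  (2,122), (3,122), (3,124), (1,125), (3,125), (2,128), (2,130), (3,131), (2,132), (0,133), (3,135), (3,136),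
  (3,137), (3,139), (0,150), (3,150), (2,151), (1,152), (2,152), (2,153), (3,156), (2,159), (1,161), (2,161),
  (3,162), (2,163), (3,163), (2,164), (3,164), (3,166), (1,167), (3,167), (2,170), (2,172), (3,173), (2,174),
  (0,175), (3,177), (3,178), (3,179), (3,181), (2,192), (3,192), (0,194), (3,196), (3,202), (2,219), (3,219),
  (0,221), (3,223), (3,229)]

/-- Generators of Sylow subgroup G2. -/
def wG2 : List (List ℕ) :=
  [[10,12,8,7,9,8,10,12,7,4,2,5,3,1,2,0,1,5,3,12,8,7,9,8,10,12,8,9,3,2,1,5,3,1,2,0,1,5,10,12,8,7,9,8,10,12,9,11,0,5,3,1,2,0,1,5,3],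
    [10,12,8,7,9,8,10,12,7,4,2,5,3,1,2,0,1,5,3,12,8,7,9,10,9,11,12,6,5,4,2,3,2,1,0,5,10,12,8,7,9,8,10,12,9,11,0,5,3,1,2,0,1,5,3],
    [10,12,8,7,9,8,10,12,7,4,2,5,3,1,2,0,1,5,3,12,7,8,9,10,11,12,8,3,4,1,5,3,1,2,1,0,5,10,12,8,7,9,8,10,12,9,11,0,5,3,1,2,0,1,5,3],
    [10,12,8,7,9,8,10,12,7,4,2,5,3,1,2,0,1,5,3,10,12,8,7,9,8,10,11,12,8,7,3,6,1,2,5,3,1,2,0,1,5,3,12,8,7,10,9,12,8,12,12,0,1,0,5,1,2,5,0,1,5,3,10,12,8,7,9,8,10,12,9,11,0,5,3,1,2,0,1,5,3]]

/-- Its forest. -/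
def fG2 : List (ℕ × ℕ) := [
  (0,0), (1,0), (2,0), (3,0), (1,1), (2,1), (3,1), (0,2), (2,2), (3,2), (0,3), (3,3),
  (2,4), (3,4), (0,5), (2,5), (3,5), (0,6), (3,6), (2,7), (3,7), (1,8), (2,8), (3,8),
  (0,9), (3,9), (2,10), (3,10), (1,11), (2,11), (3,11), (2,12), (3,12), (0,13), (3,13), (3,14),
  (1,15), (2,15), (3,15), (0,16), (3,16), (2,17), (3,17), (1,18), (2,18), (3,18), (2,19), (3,19),
  (0,20), (3,20), (3,21), (0,22), (2,22), (3,22), (0,23), (3,23), (2,24), (3,24), (1,25), (2,25),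
  (3,25), (2,26), (3,26), (0,27), (3,27), (3,28), (0,29), (2,29), (3,29), (3,30), (2,31), (3,31),
  (0,32), (3,32), (3,33), (1,34), (2,34), (3,34), (3,35), (0,37), (2,37), (3,37), (0,38), (3,38),
  (2,39), (3,39), (1,40), (2,40), (3,40), (2,41), (3,41), (0,42), (3,42), (3,43), (0,44), (2,44),
  (3,44), (3,45), (2,46), (3,46), (0,47), (3,47), (3,48), (1,49), (2,49), (3,49), (3,50), (2,52),
  (3,52), (0,53), (3,53), (2,54), (2,55), (3,55), (2,56), (3,56), (0,57), (3,58), (0,59), (2,59),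
  (3,59), (3,60), (2,61), (3,61), (0,62), (3,62), (3,63), (1,64), (2,64), (3,64), (3,65), (1,67),
  (2,67), (3,67), (0,68), (3,68), (2,69), (3,69), (2,70), (3,70), (0,71), (3,71), (3,72), (1,73),
  (3,73), (0,76), (2,76), (2,78), (3,79), (2,80), (3,80), (0,81), (3,81), (2,82), (2,83), (3,83),
  (2,84), (3,84), (0,85), (3,86), (0,87), (2,87), (3,87), (3,88), (2,89), (3,89), (0,90), (3,90),
  (3,91), (1,92), (2,92), (3,92), (3,93), (1,95), (2,95), (3,95), (0,96), (3,96), (2,97), (3,97),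
  (2,98), (3,98), (0,99), (3,99), (3,100), (1,101), (3,101), (0,104), (2,104), (2,106), (3,107), (0,108),
  (3,108), (2,109), (1,110), (2,110), (2,111), (3,114), (2,117), (1,119), (2,119), (3,120), (2,121), (3,121),
  (2,122), (3,122), (3,124), (1,125), (3,125), (2,128), (2,130), (3,131), (2,132), (0,133), (3,135), (3,136),
  (3,137), (3,139), (0,150), (3,150), (2,151), (1,152), (2,152), (2,153), (3,156), (2,159), (1,161), (2,161),
  (3,162), (2,163), (3,163), (2,164), (3,164), (3,166), (1,167), (3,167), (2,170), (2,172), (3,173), (2,174),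
  (0,175), (3,177), (3,178), (3,179), (3,181), (2,192), (3,192), (0,194), (3,196), (3,202), (2,219), (3,219),
  (0,221), (3,223), (3,229)]

/-- A basis of the intersection of the two Sylow subgroups. -/
def wE : List (List ℕ) :=
  [[12,7,9,5,0,5],
    [12,8,7,12,8,7,12,4,5,0,1,5,0,1,5],
    [10,9,8,12,8,7,9,8,10,12,9,3,5,2,1,6,3,2,1,5,0,1,2,3],
    [10,9,8,12,7,9,1,3,1,0,5,1,2,3,10,9,8,7,12,8,9,12,10,5,3,1,2,1,5,0,1,2,3],
    [10,12,8,7,9,8,10,12,7,4,2,5,3,1,2,0,1,5,3,12,7,9,5,0,5,10,12,8,7,9,8,10,12,7,4,2,5,3,1,2,0,1,5,3]]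

/-- Its forest. -/
def fE : List (ℕ × ℕ) := [
  (0,0), (1,0), (2,0), (3,0), (4,0), (1,1), (2,1), (3,1), (4,1), (2,2), (3,2), (4,2),
  (3,3), (4,3), (4,4), (2,6), (3,6), (4,6), (3,7), (4,7), (4,8), (3,10), (4,10), (4,11),
  (4,13), (3,16), (4,16), (4,17), (4,19), (4,22), (4,26)]

/-- Two elements of order three and one of order five. -/
def wX : List (List ℕ) :=
  [[10,9,8,12,7,9,1,3,1,0,5,1,2,3],
    [10,9,8,7,12,8,7,9,8,10,12,9,8,2,5,3,2,0,1,5,4,3,2,1,5,3,12,8,9,12,6,1,6,5,2,1,5],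
    [10,12,8,9,12,8,7,10,12,9,8,4,2,1,5,3,1,2,0,1,5,2,3]]

/-- Six invariant families. -/
def famL : List (List ℕ) :=
  [[5,17,68,80,1470,1515,3006,3051,3774,3819],
    [1455,1467,1470,1515,1518,1530,2816,2901,3584,3669],
    [1280,1365,2991,3003,3006,3051,3054,3066,3584,3669],
    [17,20,65,68,1455,1530,2991,3066,3759,3834],
    [5,20,65,80,1467,1518,3003,3054,3771,3822],
    [1280,1365,2816,2901,3759,3771,3774,3819,3822,3834]]

/-- Their permutations by the generators. -/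
def sixW : List (List ℕ) :=
  [[3,4,2,0,1,5],[4,1,5,3,0,2],[4,1,5,3,0,2],[4,3,2,1,0,5],[3,1,2,4,0,5],[3,5,1,4,0,2],[3,2,5,1,4,0]]

end Cfsg.Agent.LargeFischer
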