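import Cfsg.Agent.Lib.LargeFischer.Orbit
import Cfsg.Agent.Lib.LargeFischer.StabUData

/-!
# Words in the generators and certified subgroups

`Rep p l`: the permutation `p` has the bit images `l`.  A forest and a closure check determine the
subgroup generated by a list of words (`card_closure`, `exists_rep`).
-/

set_option autoImplicit false

namespace Cfsg.Agent.LargeFischer

/-- The permutation is given by the images of the bits. -/
def Rep (p : Equiv.Perm Cd) (l : List ℕ) : Prop := ∀ v : Cd, (p v).1 = apL l v.1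

/-- Images of the bits under the identity. -/
def idI : List ℕ := [1, 2, 4, 8, 16, 32, 64, 128, 256, 512, 1024, 2048]

/-- Composition on images of the bits. -/
def cmpI (g x : List ℕ) : List ℕ := x.map (apL g)

theorem apL_map (g : List ℕ) : ∀ (x : List ℕ) (v : ℕ), apL (cmpI g x) v = apL g (apL x v) := by
  intro x
  induction x with
  | nil => intro v; simp [cmpI, apL, apL_zero]
  | cons a l ih =>
    intro v
    simp only [cmpI, List.map_cons, apL]
    rw [show apL (l.map (apL g)) (v / 2) = apL g (apL l (v / 2)) from ih _, apL_xor]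
    congr 1
    rcases Nat.mod_two_eq_zero_or_one v with e | e <;> simp [e, apL_zero]

theorem rep_one : Rep 1 idI := fun v => (of_decide_eq_true
  (forall_cd (f := fun v => decide (v = apL idI v)) (by decide +kernel) v) : v.1 = apL idI v.1)

theorem Rep.mul {p q : Equiv.Perm Cd} {g x : List ℕ} (hp : Rep p g) (hq : Rep q x) :
    Rep (p * q) (cmpI g x) := fun v => by rw [Equiv.Perm.mul_apply, hp, hq, apL_map]

theorem Rep.unique {p q : Equiv.Perm Cd} {l : List ℕ} (hp : Rep p l) (hq : Rep q l) : p = q :=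
  Equiv.ext fun v => Fin.ext ((hp v).trans (hq v).symm)

theorem Rep.eq_list {p : Equiv.Perm Cd} {l l' : List ℕ} (h : Rep p l) (h' : Rep p l') (hl : l.length = 12)
    (hl' : l'.length = 12) : l = l' := by
  refine List.ext_getElem (by rw [hl, hl']) fun i hi hi' => ?_
  have e := (h (bit ⟨i, hl ▸ hi⟩)).symm.trans (h' (bit ⟨i, hl ▸ hi⟩))
  rwa [show (bit ⟨i, hl ▸ hi⟩).1 = 2 ^ i from rfl, apL_pow, apL_pow, List.getD_eq_getElem _ _ hi,
    List.getD_eq_getElem _ _ hi'] at e

theorem rep_tP (k : Fin 8) : Rep (tP k) (tI k.1) := fun _ => rfl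

theorem tP_sq (k : Fin 8) : tP k * tP k = 1 := Equiv.ext fun v => tI_invol k v

/-- A letter. -/
def letP (x : Equiv.Perm Cd) (k : ℕ) : Equiv.Perm Cd :=
  if h : k < 6 then gM ⟨k, h⟩ else if k = 6 then x else if h : k < 13 then (gM ⟨k - 7, by omega⟩)⁻¹ else 1

/-- Its images of the bits. -/
def letW (x : List ℕ) (k : ℕ) : List ℕ :=
  if k < 6 then cmpI (tI 0) (tI (k + 1)) else if k = 6 then x else
    if k < 13 then cmpI (tI (k - 7 + 1)) (tI 0) else idI

theorem rep_letP {x : Equiv.Perm Cd} {xl : List ℕ} (hx : Rep x xl) (k : ℕ) :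
    Rep (letP x k) (letW xl k) := by
  unfold letP letW
  split_ifs with h1 h2 h3
  · exact (rep_tP 0).mul (rep_tP ⟨k + 1, by omega⟩)
  · exact hx
  · have e : (gM ⟨k - 7, by omega⟩)⁻¹ = tP ⟨k - 7 + 1, by omega⟩ * tP 0 := by
      rw [gM, mul_inv_rev, inv_eq_of_mul_eq_one_right (tP_sq _), inv_eq_of_mul_eq_one_right (tP_sq _)]
    rw [e]
    exact (rep_tP ⟨k - 7 + 1, by omega⟩).mul (rep_tP 0)
  · exact rep_one

/-- The value of a word. -/
def evP (x : Equiv.Perm Cd) : List ℕ → Equiv.Perm Cd
  | [] => 1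
  | k :: w => letP x k * evP x w

/-- Its images of the bits. -/
def evI (x : List ℕ) : List ℕ → List ℕ
  | [] => idI
  | k :: w => cmpI (letW x k) (evI x w)

theorem rep_evP {x : Equiv.Perm Cd} {xl : List ℕ} (hx : Rep x xl) : ∀ w, Rep (evP x w) (evI xl w) := by
  intro w
  induction w with
  | nil => exact rep_one
  | cons k w ih => exact (rep_letP hx k).mul ih

theorem evP_mem {S : Subgroup (Equiv.Perm Cd)} {x : Equiv.Perm Cd} (hg : ∀ k, gM k ∈ S) (hx : x ∈ S) :
    ∀ w, evP x w ∈ S := by
  intro w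
  induction w with
  | nil => exact S.one_mem
  | cons k w ih =>
    refine S.mul_mem ?_ ih
    unfold letP
    split_ifs
    exacts [hg _, hx, S.inv_mem (hg _), S.one_mem]

/-- The subgroup generated by words. -/
def genS (x : Equiv.Perm Cd) (ws : List (List ℕ)) : Subgroup (Equiv.Perm Cd) :=
  Subgroup.closure {p | ∃ w ∈ ws, p = evP x w}

theorem genS_le {S : Subgroup (Equiv.Perm Cd)} {x : Equiv.Perm Cd} (hg : ∀ k, gM k ∈ S) (hx : x ∈ S)
    (ws : List (List ℕ)) : genS x ws ≤ S :=
  (Subgroup.closure_le _).2 fun _ ⟨w, _, hw⟩ => hw ▸ evP_mem hg hx w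

theorem genS_le_fix {x : Equiv.Perm Cd} {xl : List ℕ} (hx : Rep x xl) {ws : List (List ℕ)} {v : Cd}
    (h : (ws.map (evI xl)).all (fun g => apL g v.1 == v.1) = true) : genS x ws ≤ fixP v := by
  refine (Subgroup.closure_le _).2 ?_
  rintro p ⟨w, hw, rfl⟩
  refine Fin.ext ((rep_evP hx w v).trans ?_)
  simpa using List.all_eq_true.1 h _ (List.mem_map_of_mem hw)

theorem genS_induction {x : Equiv.Perm Cd} {ws : List (List ℕ)} {P : Equiv.Perm Cd → Prop} (h1 : P 1)
    (hs : ∀ w ∈ ws, P (evP x w)) (hm : ∀ p q, P p → P q → P (p * q)) {p : Equiv.Perm Cd}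
    (hp : p ∈ genS x ws) : P p := by
  have hp' : p ∈ Submonoid.closure {p | ∃ w ∈ ws, p = evP x w} := by
    rw [← Subgroup.closure_toSubmonoid_of_finite]; exact hp
  clear hp
  induction hp' using Submonoid.closure_induction with
  | mem q hq => obtain ⟨w, hw, rfl⟩ := hq; exact hs w hw
  | one => exact h1
  | mul q r _ _ ihq ihr => exact hm _ _ ihq ihr

/-- The elements of a forest. -/
def buildI (gl : List (List ℕ)) : List (ℕ × ℕ) → List (List ℕ) → List (List ℕ)
  | [], acc => acc
  | (j, i) :: F, acc => buildI gl F (acc ++ [cmpI (gl.getD j idI) (acc.getD i idI)])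

/-- The listed elements of the subgroup of words. -/
def eltI (xl : List ℕ) (ws : List (List ℕ)) (F : List (ℕ × ℕ)) : List (List ℕ) :=
  buildI (ws.map (evI xl)) F [idI]

/-- A packed key of a list. -/
def pkI : List ℕ → ℕ
  | [] => 1
  | a :: l => pkI l * 4096 + a

/-- Search trees of keyed lists. -/
inductive CTree where
  | nil
  | node (l : CTree) (k : ℕ) (v : List ℕ) (r : CTree)

/-- The entries of a tree. -/
def CTree.toL : CTree → List (ℕ × List ℕ)
  | .nil => []
  | .node l k v r => l.toL ++ (k, v) :: r.toL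

/-- Insertion; an entry with the same key is dropped. -/
def CTree.ins (k : ℕ) (v : List ℕ) : CTree → CTree
  | .nil => .node .nil k v .nil
  | .node l k' v' r => if Nat.blt k k' then .node (l.ins k v) k' v' r else
      if Nat.blt k' k then .node l k' v' (r.ins k v) else .node l k' v' r

/-- Search. -/
def CTree.mem (k : ℕ) (v : List ℕ) : CTree → Bool
  | .nil => false
  | .node l k' v' r => if Nat.blt k k' then l.mem k v else
      if Nat.blt k' k then r.mem k v else v' == v

theorem CTree.mem_spec {k : ℕ} {v : List ℕ} : ∀ {T : CTree}, T.mem k v = true → ∃ k', (k', v) ∈ T.toL := by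
  intro T
  induction T with
  | nil => simp [CTree.mem]
  | node l k' v' r ihl ihr =>
    intro h
    simp only [CTree.mem] at h
    split_ifs at h
    · obtain ⟨j, hj⟩ := ihl h; exact ⟨j, by simp [CTree.toL, hj]⟩
    · obtain ⟨j, hj⟩ := ihr h; exact ⟨j, by simp [CTree.toL, hj]⟩
    · exact ⟨k', by simp [CTree.toL, beq_iff_eq.1 h]⟩

theorem CTree.ins_spec {k : ℕ} {v : List ℕ} {p : ℕ × List ℕ} :
    ∀ {T : CTree}, p ∈ (T.ins k v).toL → p = (k, v) ∨ p ∈ T.toL := by
  intro T
  induction T with
  | nil => simp [CTree.ins, CTree.toL]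
  | node l k' v' r ihl ihr =>
    intro h
    simp only [CTree.ins] at h
    split_ifs at h <;> simp only [CTree.toL, List.mem_append, List.mem_cons] at h ⊢
    · rcases h with h | h
      · rcases ihl h with e | e
        · exact Or.inl e
        · exact Or.inr (Or.inl e)
      · exact Or.inr (Or.inr h)
    · rcases h with h | h | h
      · exact Or.inr (Or.inl h)
      · exact Or.inr (Or.inr (Or.inl h))
      · rcases ihr h with e | e
        · exact Or.inl e
        · exact Or.inr (Or.inr (Or.inr e))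
    · exact Or.inr h

/-- The tree of a list. -/
def treeOf (L : List (List ℕ)) : CTree := L.foldl (fun T l => T.ins (pkI l) l) .nil

theorem treeOf_spec {L : List (List ℕ)} {p : ℕ × List ℕ} (h : p ∈ (treeOf L).toL) :
    p.2 ∈ L ∧ p.1 = pkI p.2 := by
  suffices H : ∀ (l : List (List ℕ)) (T : CTree), p ∈ (l.foldl (fun T l => T.ins (pkI l) l) T).toL →
      (p.2 ∈ l ∧ p.1 = pkI p.2) ∨ p ∈ T.toL by
    rcases H L .nil h with h | h
    · exact h
    · simp [CTree.toL] at h
  intro l
  induction l with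
  | nil => intro T h; exact Or.inr h
  | cons a l ih =>
    intro T h
    rcases ih _ h with ⟨h1, h2⟩ | h
    · exact Or.inl ⟨List.mem_cons_of_mem _ h1, h2⟩
    · rcases CTree.ins_spec h with rfl | h
      · exact Or.inl ⟨List.mem_cons_self .., rfl⟩
      · exact Or.inr h

/-- The list is found through its tree. -/
def memL (L : List (List ℕ)) (l : List ℕ) : Bool := (treeOf L).mem (pkI l) l

theorem mem_of_memL {L : List (List ℕ)} {l : List ℕ} (h : memL L l = true) : l ∈ L := by
  obtain ⟨k, hk⟩ := CTree.mem_spec h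
  exact (treeOf_spec hk).1

/-- Strictly increasing. -/
def incB : List ℕ → Bool
  | [] => true
  | [_] => true
  | a :: b :: l => Nat.blt a b && incB (b :: l)

theorem incB_spec : ∀ {l : List ℕ}, incB l = true → l.Nodup := by
  intro l h
  refine (?_ : l.Pairwise (· < ·)).imp fun hab => ne_of_lt hab
  induction l with
  | nil => exact List.Pairwise.nil
  | cons a l ih =>
    cases l with
    | nil => exact List.pairwise_singleton _ _
    | cons b l =>
      rw [incB, Bool.and_eq_true, Nat.blt_eq] at h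
      have := ih h.2
      refine List.pairwise_cons.2 ⟨fun c hc => ?_, this⟩
      rcases List.mem_cons.1 hc with rfl | hc
      · exact h.1
      · exact h.1.trans ((List.pairwise_cons.1 this).1 c hc)

/-- All entries are found, and are distinct. -/
def nodupB (L : List (List ℕ)) : Bool :=
  L.all (memL L) && incB ((treeOf L).toL.map Prod.fst) && ((treeOf L).toL.length == L.length)

theorem nodupB_spec {L : List (List ℕ)} (h : nodupB L = true) : L.Nodup ∧ ∀ l ∈ L, memL L l = true := by
  classical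
  rw [nodupB, Bool.and_eq_true, Bool.and_eq_true, beq_iff_eq, List.all_eq_true] at h
  obtain ⟨⟨h1, h2⟩, h3⟩ := h
  refine ⟨?_, h1⟩
  have hn : ((treeOf L).toL.map Prod.snd).Nodup := by
    refine List.Nodup.map_on (fun p hp q hq e => ?_) ((incB_spec h2).of_map _)
    have e1 := (treeOf_spec hp).2
    have e2 := (treeOf_spec hq).2
    exact Prod.ext (by rw [e1, e2, e]) e
  have hle : ((treeOf L).toL.map Prod.snd).toFinset ⊆ L.toFinset := fun v hv => by
    obtain ⟨p, hp, rfl⟩ := List.mem_map.1 (List.mem_toFinset.1 hv)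
    exact List.mem_toFinset.2 (treeOf_spec hp).1
  have := Finset.card_le_card hle
  rw [List.toFinset_card_of_nodup hn, List.length_map, h3] at this
  rw [List.card_toFinset] at this
  exact (List.dedup_sublist L).eq_of_length_le this ▸ List.nodup_dedup L

/-- The closure check. -/
def closedB (gl L : List (List ℕ)) : Bool :=
  memL L idI && L.all (fun l => (l.length == 12) && gl.all (fun g => memL L (cmpI g l)))

theorem buildI_spec {x : Equiv.Perm Cd} {xl : List ℕ} (hx : Rep x xl) (ws : List (List ℕ)) :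
    ∀ (F : List (ℕ × ℕ)) (acc : List (List ℕ)), (∀ l ∈ acc, ∃ p ∈ genS x ws, Rep p l) →
      ∀ l ∈ buildI (ws.map (evI xl)) F acc, ∃ p ∈ genS x ws, Rep p l := by
  intro F
  induction F with
  | nil => intro acc h; exact h
  | cons ji F ih =>
    obtain ⟨j, i⟩ := ji
    intro acc h
    refine ih _ fun l hl => ?_
    rcases List.mem_append.1 hl with hl | hl
    · exact h l hl
    · rw [List.mem_singleton.1 hl]
      obtain ⟨q, hq, hq'⟩ : ∃ q ∈ genS x ws, Rep q (acc.getD i idI) := by
        rcases lt_or_ge i acc.length with hi | hi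
        · rw [List.getD_eq_getElem _ _ hi]; exact h _ (List.getElem_mem hi)
        · rw [List.getD_eq_default _ _ hi]; exact ⟨1, one_mem _, rep_one⟩
      obtain ⟨g, hg, hg'⟩ : ∃ g ∈ genS x ws, Rep g ((ws.map (evI xl)).getD j idI) := by
        rcases lt_or_ge j (ws.map (evI xl)).length with hj | hj
        · rw [List.getD_eq_getElem _ _ hj, List.getElem_map]
          exact ⟨_, Subgroup.subset_closure ⟨_, List.getElem_mem _, rfl⟩, rep_evP hx _⟩
        · rw [List.getD_eq_default _ _ hj]; exact ⟨1, one_mem _, rep_one⟩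
      exact ⟨g * q, mul_mem hg hq, hg'.mul hq'⟩

theorem exists_elem {x : Equiv.Perm Cd} {xl : List ℕ} (hx : Rep x xl) (ws : List (List ℕ))
    (F : List (ℕ × ℕ)) {l : List ℕ} (hl : l ∈ eltI xl ws F) : ∃ p ∈ genS x ws, Rep p l :=
  buildI_spec hx ws F [idI] (fun l hl => ⟨1, one_mem _, List.mem_singleton.1 hl ▸ rep_one⟩) l hl

/-- Every element is listed. -/
theorem exists_rep {x : Equiv.Perm Cd} {xl : List ℕ} (hx : Rep x xl) {ws : List (List ℕ)}
    {F : List (ℕ × ℕ)} (hc : closedB (ws.map (evI xl)) (eltI xl ws F) = true) {p : Equiv.Perm Cd}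
    (hp : p ∈ genS x ws) : ∃ l ∈ eltI xl ws F, l.length = 12 ∧ Rep p l := by
  rw [closedB, Bool.and_eq_true, List.all_eq_true] at hc
  obtain ⟨h0, hc⟩ := hc
  have hlen : ∀ l ∈ eltI xl ws F, l.length = 12 := fun l hl => by
    have := hc l hl
    rw [Bool.and_eq_true, beq_iff_eq] at this
    exact this.1
  suffices h : ∀ q, Rep q idI → ∃ l ∈ eltI xl ws F, Rep (p * q) l by
    obtain ⟨l, hl, hr⟩ := h 1 rep_one
    exact ⟨l, hl, hlen l hl, mul_one p ▸ hr⟩
  have key : ∀ m ∈ eltI xl ws F, ∀ q, Rep q m → ∃ l ∈ eltI xl ws F, Rep (p * q) l := by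
    refine genS_induction (P := fun p => ∀ m ∈ eltI xl ws F, ∀ q, Rep q m →
      ∃ l ∈ eltI xl ws F, Rep (p * q) l) ?_ ?_ ?_ hp
    · intro m hm q hq; exact ⟨m, hm, (one_mul q).symm ▸ hq⟩
    · intro w hw m hm q hq
      have := hc m hm
      rw [Bool.and_eq_true, List.all_eq_true] at this
      exact ⟨_, mem_of_memL (this.2 _ (List.mem_map_of_mem hw)), (rep_evP hx w).mul hq⟩
    · intro a b ha hb m hm q hq
      obtain ⟨l, hl, hr⟩ := hb m hm q hq
      obtain ⟨l', hl', hr'⟩ := ha l hl _ hr
      exact ⟨l', hl', (mul_assoc a b q).symm ▸ hr'⟩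
  exact fun q hq => key idI (mem_of_memL h0) q hq

/-- The number of elements. -/
theorem card_genS {x : Equiv.Perm Cd} {xl : List ℕ} (hx : Rep x xl) {ws : List (List ℕ)}
    {F : List (ℕ × ℕ)} (hc : closedB (ws.map (evI xl)) (eltI xl ws F) = true)
    (hn : (eltI xl ws F).Nodup) : Nat.card (genS x ws) = (eltI xl ws F).length := by
  classical
  choose f hf hlen hr using fun p : ↥(genS x ws) => exists_rep hx hc p.2
  rw [← List.toFinset_card_of_nodup hn, ← Nat.card_eq_finsetCard]
  refine Nat.card_eq_of_bijective (fun p => ⟨f p, List.mem_toFinset.2 (hf p)⟩) ⟨fun p q e => ?_, fun l => ?_⟩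
  · have e' : f p = f q := congrArg Subtype.val e
    exact Subtype.ext ((hr p).unique (e' ▸ hr q))
  · obtain ⟨p, hp, hpr⟩ := exists_elem hx ws F (List.mem_toFinset.1 l.2)
    refine ⟨⟨p, hp⟩, Subtype.ext ((hr ⟨p, hp⟩).eq_list hpr (hlen _) ?_)⟩
    have hl := List.mem_toFinset.1 l.2
    rw [closedB, Bool.and_eq_true, List.all_eq_true] at hc
    have := hc.2 _ hl
    rw [Bool.and_eq_true, beq_iff_eq] at this
    exact this.1

end Cfsg.Agent.LargeFischer
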