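import Cfsg.Agent.Lib.LargeFischer.StabUCert

/-!
# Kernel checks for the stabiliser of the code 85
-/

set_option autoImplicit false

namespace Cfsg.Agent.LargeFischer

/-- Images of the bits under `gS`. -/
def sI' : List ℕ := cmpI (tI 7) (tI 1)

/-- A permutation of six letters maps each family into another. -/
def famB (l : List ℕ) (π : List ℕ) : Bool :=
  (List.range 6).all fun i => (famL.getD i []).all fun a => (famL.getD (π.getD i 0) []).contains (apL l a)

/-- Checks of a pair of Sylow subgroups: fixing, closure, size, intersection. -/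
def pairB (xl : List ℕ) (w1 w2 : List (List ℕ)) (F1 F2 : List (ℕ × ℕ)) : Bool :=
  let L1 := eltI xl w1 F1
  let L2 := eltI xl w2 F2
  ((w1 ++ w2).map (evI xl)).all (fun g => apL g 85 == 85) && closedB (w1.map (evI xl)) L1 &&
    closedB (w2.map (evI xl)) L2 && nodupB L1 && nodupB L2 && (L1.length == 256) && (L2.length == 256) &&
    ((L1.filter fun l => memL L2 l).length == 16)

theorem pairR_ok : pairB (tI 1) wR1 wR2 fR1 fR2 = true := by decide +kernel

theorem pairS_ok : pairB (tI 7) wS1 wS2 fS1 fS2 = true := by decide +kernel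

theorem oneG_ok : closedB (wG1.map (evI sI')) (eltI sI' wG1 fG1) = true ∧ nodupB (eltI sI' wG1 fG1) = true ∧
    (eltI sI' wG1 fG1).length = 256 ∧
    (wG1 ++ wX ++ wG2).all (fun w => apL (evI sI' w) 85 == 85) = true := by decide +kernel

theorem twoG_ok : closedB (wG2.map (evI sI')) (eltI sI' wG2 fG2) = true ∧ nodupB (eltI sI' wG2 fG2) = true ∧
    (eltI sI' wG2 fG2).length = 256 := by decide +kernel

theorem elemE_ok : closedB (wE.map (evI sI')) (eltI sI' wE fE) = true ∧ nodupB (eltI sI' wE fE) = true ∧
    (eltI sI' wE fE).length = 32 ∧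
    (eltI sI' wE fE).all (fun a => cmpI a a == idI && famB a [0, 1, 2, 3, 4, 5] &&
      memL (eltI sI' wG1 fG1) a && (eltI sI' wE fE).all fun b => cmpI a b == cmpI b a) = true := by
  decide +kernel

theorem interG_ok : (eltI sI' wG1 fG1).all (fun l => !memL (eltI sI' wG2 fG2) l ||
    memL (eltI sI' wE fE) l) = true := by decide +kernel

theorem kerG_ok : (eltI sI' wG1 fG1).all (fun l => !famB l [0, 1, 2, 3, 4, 5] ||
    memL (eltI sI' wE fE) l) = true := by decide +kernel

theorem sixG_ok : ((wG1 ++ wX).zip sixW).all (fun p => famB (evI sI' p.1) p.2) = true := by decide +kernel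

theorem famL_ok : ∀ i j : Fin 6, (famL.getD i.1 []).all (fun a => (famL.getD j.1 []).contains a) = true →
    i = j := by decide +kernel

theorem count_inU : ((List.range 4096).filter inU).length = 1701 := by decide +kernel

end Cfsg.Agent.LargeFischer
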