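import Cfsg.Agent.Lib.LargeFischer.SylowData
import Cfsg.Agent.Lib.LargeFischer.Orbit

/-!
# Machine checks for the Sylow 2-subgroup data
-/

set_option autoImplicit false
set_option maxRecDepth 100000

namespace Cfsg.Agent.LargeFischer

/-- The images of the bits under the identity. -/
def idImg : List ℕ := [1, 2, 4, 8, 16, 32, 64, 128, 256, 512, 1024, 2048]

/-- The images of the bits under a composite. -/
def cmpL (l l' : List ℕ) : List ℕ := l'.map (apL l)

/-- The images of the bits under a word. -/
def wordL : List (Fin 8) → List ℕ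
  | [] => idImg
  | k :: w => cmpL (tI k.1) (wordL w)

/-- A witness that two maps differ. -/
def difL (l l' : List ℕ) : Bool :=
  (List.range 12).any fun j => apL l (2 ^ j) != apL l' (2 ^ j)

/-- The permutation is given by the images. -/
def PermOf (l : List ℕ) (p : Equiv.Perm Cd) : Prop := ∀ v : Cd, (p v).1 = apL l v.1

theorem idImg_spec (v : Cd) : apL idImg v.1 = v.1 :=
  of_decide_eq_true (forall_cd (f := fun v => decide (apL idImg v = v)) (by decide +kernel) v)

theorem permOf_one : PermOf idImg 1 := fun v => (idImg_spec v).symm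

theorem apL_mul_bit (l : List ℕ) (a b : ℕ) : apL l (a * (b % 2)) = apL l a * (b % 2) := by
  rcases Nat.mod_two_eq_zero_or_one b with h | h <;> simp [h, apL_zero]

theorem apL_cmpL (l : List ℕ) : ∀ (l' : List ℕ) (v : ℕ), apL (cmpL l l') v = apL l (apL l' v) := by
  intro l'
  induction l' with
  | nil => intro v; simp [cmpL, apL, apL_zero]
  | cons a l' ih =>
    intro v
    have e : cmpL l (a :: l') = apL l a :: cmpL l l' := rfl
    rw [e]
    simp only [apL, ih, apL_xor, apL_mul_bit]

theorem PermOf.mul {l l' : List ℕ} {p q : Equiv.Perm Cd} (h : PermOf l p) (h' : PermOf l' q) :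
    PermOf (cmpL l l') (p * q) := fun v => by
  rw [Equiv.Perm.mul_apply, h, h', apL_cmpL]

theorem PermOf.eq {l : List ℕ} {p q : Equiv.Perm Cd} (h : PermOf l p) (h' : PermOf l q) : p = q :=
  Equiv.ext fun v => Fin.ext ((h v).trans (h' v).symm)

theorem PermOf.ne {l l' : List ℕ} {p q : Equiv.Perm Cd} (h : PermOf l p) (h' : PermOf l' q)
    (hd : difL l l' = true) : p ≠ q := by
  rintro rfl
  obtain ⟨j, hj, hne⟩ := List.any_eq_true.1 hd
  rw [List.mem_range] at hj
  have e := h ⟨2 ^ j, Nat.pow_lt_pow_right (by norm_num) hj⟩
  have e' := h' ⟨2 ^ j, Nat.pow_lt_pow_right (by norm_num) hj⟩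
  simp only [bne_iff_ne, ne_eq] at hne
  exact hne (e.symm.trans e')

/-- The permutation of a word in the eight involutions. -/
def wordP (w : List (Fin 8)) : Equiv.Perm Cd := (w.map tP).prod

theorem tP_permOf (k : Fin 8) : PermOf (tI k.1) (tP k) := fun _ => rfl

theorem wordP_permOf : ∀ w : List (Fin 8), PermOf (wordL w) (wordP w) := by
  intro w
  induction w with
  | nil => exact permOf_one
  | cons k w ih => exact (tP_permOf k).mul ih

/-- The `i`-th element. -/
def syE (i : ℕ) : List ℕ := syL.getD i []

/-- The images of the `i`-th involution. -/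
def syI (i : ℕ) : List ℕ := syE (syInv.getD i 0)

/-- The `k`-th generator. -/
def syG (k : Fin 4) : List (Fin 8) := syW.getD k.1 []

/-- Number of marked codes in an aligned block. -/
def cntM : ℕ → ℕ → ℕ
  | 0, m => m % 2
  | k + 1, m => if m = 0 then 0 else cntM k (m % 2 ^ (2 ^ k)) + cntM k (m / 2 ^ (2 ^ k))

theorem card_le_cntM : ∀ (k m : ℕ) (s : Finset ℕ),
    (∀ v ∈ s, v < 2 ^ k ∧ m.testBit v = true) → s.card ≤ cntM k m := by
  intro k
  induction k with
  | zero =>
    intro m s hs
    rcases s.eq_empty_or_nonempty with rfl | ⟨v, hv⟩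
    · simp
    · have h0 : ∀ w ∈ s, w = 0 := fun w hw => by have := (hs w hw).1; simp at this; exact this
      have h1 := (hs v hv).2
      rw [h0 v hv, Nat.testBit_zero, decide_eq_true_eq] at h1
      have : s ⊆ {0} := fun w hw => Finset.mem_singleton.2 (h0 w hw)
      have := Finset.card_le_card this
      simp only [Finset.card_singleton] at this
      rw [cntM, h1]; exact this
  | succ k ih =>
    intro m s hs
    rcases eq_or_ne m 0 with rfl | hm
    · rcases s.eq_empty_or_nonempty with rfl | ⟨v, hv⟩
      · simp
      · simpa using (hs v hv).2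
    · rw [cntM, if_neg hm, ← Finset.card_filter_add_card_filter_not (p := fun v => v < 2 ^ k) (s := s)]
      refine Nat.add_le_add (ih _ _ fun v hv => ?_) ?_
      · rw [Finset.mem_filter] at hv
        refine ⟨hv.2, ?_⟩
        rw [Nat.testBit_mod_two_pow, (hs v hv.1).2]
        simpa using hv.2
      · have hinj : Set.InjOn (fun v => v - 2 ^ k) ↑(s.filter fun v => ¬ v < 2 ^ k) := by
          intro a ha b hb hab
          simp only [Finset.coe_filter, Set.mem_ofPred_eq, not_lt] at ha hb
          simp only at hab
          omega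
        rw [← Finset.card_image_of_injOn hinj]
        refine ih _ _ fun v hv => ?_
        obtain ⟨a, ha, rfl⟩ := Finset.mem_image.1 hv
        rw [Finset.mem_filter, not_lt] at ha
        obtain ⟨hlt, htb⟩ := hs a ha.1
        rw [pow_succ] at hlt
        refine ⟨by omega, ?_⟩
        rw [Nat.testBit_div_two_pow, Nat.sub_add_cancel ha.2]
        exact htb

/-- The bits at which a list takes a value. -/
def kerRow : List ℕ → ℕ → ℕ
  | [], _ => 0
  | a :: l, x => (if a = x then 1 else 0) ||| (kerRow l x <<< 1)

/-- Rows of sixty-four bits. -/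
def kerRows (dl : List ℕ) : List ℕ → ℕ
  | [] => 0
  | x :: h => kerRow dl x ||| (kerRows dl h <<< 64)

theorem kerRow_bit : ∀ (l : List ℕ) (x i : ℕ) (h : i < l.length), l[i] = x → (kerRow l x).testBit i = true := by
  intro l
  induction l with
  | nil => intro x i h; simp at h
  | cons a l ih =>
    intro x i h he
    rw [kerRow, Nat.testBit_or]
    cases i with
    | zero => simp at he; simp [he]
    | succ i =>
      simp only [List.getElem_cons_succ] at he
      rw [Nat.testBit_shiftLeft, Nat.add_sub_cancel, ih x i (by simpa using h) he]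
      simp

theorem kerRows_bit (dl : List ℕ) : ∀ (hl : List ℕ) (j i : ℕ) (hj : j < hl.length) (hi : i < dl.length),
    i < 64 → dl[i] = hl[j] → (kerRows dl hl).testBit (i + 64 * j) = true := by
  intro hl
  induction hl with
  | nil => intro j i hj; simp at hj
  | cons x h ih =>
    intro j i hj hi h64 he
    rw [kerRows, Nat.testBit_or]
    cases j with
    | zero => simp [kerRow_bit dl x i hi (by simpa using he)]
    | succ j =>
      rw [Nat.testBit_shiftLeft, show i + 64 * (j + 1) - 64 = i + 64 * j by omega,
        ih j i (by simpa using hj) hi h64 (by simpa using he)]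
      simp only [decide_eq_true_eq, Bool.and_true, Bool.or_eq_true]
      exact Or.inr (by omega)

/-- The mask of the codes fixed by a map: `v = i + 64 j` is fixed iff both parts are moved equally. -/
def fixMask (l : List ℕ) : ℕ :=
  kerRows ((List.range 64).map fun i => apL l i ^^^ i) ((List.range 64).map fun j => apL l (64 * j) ^^^ 64 * j)

theorem fixMask_bit {l : List ℕ} {v : ℕ} (hv : v < 4096) (h : apL l v = v) : (fixMask l).testBit v = true := by
  have hi : v % 64 < 64 := Nat.mod_lt _ (by norm_num)
  have hj : v / 64 < 64 := by omega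
  have e : v = v % 64 ^^^ 64 * (v / 64) := by
    have h1 := Nat.two_pow_add_eq_or_of_lt (i := 6) hi (v / 64)
    rw [show 2 ^ 6 = 64 from rfl, Nat.add_comm, Nat.mod_add_div] at h1
    apply Nat.eq_of_testBit_eq
    intro k
    conv_lhs => rw [h1]
    rw [Nat.testBit_or, Nat.testBit_xor, show 64 = 2 ^ 6 from rfl, Nat.testBit_two_pow_mul,
      Nat.testBit_mod_two_pow]
    by_cases hk : k < 6
    · simp [hk, Nat.not_le.2 hk]
    · simp [hk]
  rw [← Nat.mod_add_div v 64]
  refine kerRows_bit _ _ _ _ (by simpa using hj) (by simpa using hi) hi ?_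
  simp only [List.getElem_map, List.getElem_range]
  generalize v % 64 = a at e ⊢
  generalize 64 * (v / 64) = b at e ⊢
  rw [e, apL_xor] at h
  generalize apL l a = x at h ⊢
  generalize apL l b = y at h ⊢
  apply Nat.eq_of_testBit_eq
  intro k
  have hk := congrArg (fun n => n.testBit k) h
  simp only [Nat.testBit_xor] at hk ⊢
  revert hk
  cases x.testBit k <;> cases y.testBit k <;> cases a.testBit k <;> cases b.testBit k <;> simp

/-- The stored mask of the `i`-th involution. -/
def syFix (i : ℕ) : ℕ :=
  match syF.find? (fun x => x.1 == i) with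
  | some x => x.2
  | none => 2 ^ 4096 - 1

/-- The common mask of several. -/
def syJoint (c : List ℕ) : ℕ := c.foldr (fun i m => syFix i &&& m) (2 ^ 4096 - 1)

theorem sy_fix_ok : syF.all (fun x => fixMask (syI x.1) == x.2) = true := by decide +kernel

theorem sy_gen_ok : ∀ k : Fin 4, wordL (syG k) = syE ((syT.getD k.1 []).getD 0 0) := by decide +kernel

theorem sy_len : syL.length = 256 ∧ syInv.length = 71 ∧ ∀ i : Fin 71, syInv.getD i.1 0 < 256 := by
  decide +kernel

theorem sy_one : syE 0 = idImg := by decide +kernel

theorem sy_closed : ∀ k : Fin 4, (List.range 256).all (fun i =>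
    decide ((syT.getD k.1 []).getD i 0 < 256) &&
      (cmpL (wordL (syG k)) (syE i) == syE ((syT.getD k.1 []).getD i 0))) = true := by
  decide +kernel

theorem sy_par : (List.range 256).all (fun i =>
    (i == 0) || (decide (syPar.getD i 0 / 4 < i) &&
      ((syT.getD (syPar.getD i 0 % 4) []).getD (syPar.getD i 0 / 4) 0 == i))) = true := by
  decide +kernel

theorem sy_dist : (List.range 256).all (fun i => (List.range i).all (fun j => difL (syE i) (syE j))) = true := by
  decide +kernel

theorem sy_inv : (List.range 256).all (fun i =>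
    (i == 0) || syInv.contains i || difL (cmpL (syE i) (syE i)) idImg) = true := by
  decide +kernel

theorem sy_comm : (List.range 71).all (fun i => (List.range 71).all (fun j =>
    (syN.getD i 0).testBit j || difL (cmpL (syI i) (syI j)) (cmpL (syI j) (syI i)))) = true := by
  decide +kernel

/-- Covering of the cliques of the commuting involutions. -/
def syCover : ℕ → ℕ → Bool
  | 0, _ => false
  | f + 1, s =>
    syMx.any (fun x => s &&& x.1 == s) ||
      match (List.range 71).find? (fun v => s.testBit v && !(s &&& syN.getD v 0 == s)) with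
      | some v => syCover f (s ^^^ 2 ^ v) && syCover f (s &&& syN.getD v 0)
      | none => false

theorem sy_cover_ok : syCover 80 (2 ^ 71 - 1) = true := by decide +kernel

/-- The elements in a set of involutions. -/
def syMem (m : ℕ) : List ℕ := (List.range 71).filter fun i => m.testBit i

theorem sy_mx_ok : syMx.all (fun x =>
    (cntM 7 x.1 ≤ 31 : Bool) && (cntM 7 (x.1 &&& (x.1 ^^^ x.2.1)) ≤ 15 : Bool) &&
    (syMem x.2.1).all (fun a => (syMem x.1).all
      (fun b => a == b || (cntM 12 (syFix a &&& syFix b) ≤ 16 : Bool))) &&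
    ((x.1 &&& (x.1 ^^^ x.2.1) == syAm) ||
      (x.2.2.all (fun i => (x.1 &&& (x.1 ^^^ x.2.1)).testBit i) &&
        (cntM 12 (syJoint x.2.2) ≤ 16 : Bool)))) = true := by
  decide +kernel

theorem sy_A_ok : syA.all (fun a => decide (a < 71)) = true ∧ syA.Nodup ∧ syA.length = 15 ∧
    syMem syAm = syMem (syA.foldr (fun a m => 2 ^ a ||| m) 0) ∧
    cntM 7 syAm ≤ 15 := by
  decide +kernel

/-- The codes of the fixed space. -/
def syWl : List ℕ := (List.range 4096).filter fun v => syWm.testBit v

theorem sy_W_add : syWl.all (fun a => syWl.all (fun b => syWm.testBit (a ^^^ b))) = true := by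
  decide +kernel

theorem sy_W_iso : syWl.all (fun a => qN a == 0) = true ∧ syWm.testBit 0 = true ∧ syWl.length = 64 ∧
    syB.all (fun b => syWm.testBit b) = true := by
  decide +kernel

theorem sy_W_span : syWl.all (fun a =>
    (syB.foldr (fun b s => s ++ s.map (b ^^^ ·)) [0]).contains a) = true := by
  decide +kernel

theorem sy_W_perp : allB (fun v => syWm.testBit v || syB.any (fun b => qN (v ^^^ b) != qN v)) 12 0 = true := by
  decide +kernel

theorem sy_A_fix : syA.all (fun a => syWl.all (fun v => apL (syI a) v == v)) = true := by decide +kernel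

theorem sy_A_joint : allB (fun v => syWm.testBit v || syA.any (fun a => apL (syI a) v != v)) 12 0 = true := by
  decide +kernel

theorem sy_fixer : (List.range 256).all (fun i =>
    (i == 0) || syA.any (fun a => syInv.getD a 0 == i) || syB.any (fun b => apL (syE i) b != b)) = true := by
  decide +kernel

theorem sy_A_sq : syA.all (fun a => cmpL (syI a) (syI a) == idImg) = true := by decide +kernel

theorem sy_A_lin : syA.all (fun a =>
    cmpL [2, 3, 8, 12, 32, 48, 128, 192, 512, 768, 2048, 3072] (syI a) ==
      cmpL (syI a) [2, 3, 8, 12, 32, 48, 128, 192, 512, 768, 2048, 3072]) = true := by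
  decide +kernel

theorem sy_U_W : ∀ t : Fin 2, syB.all (fun b => syWm.testBit (apL (wordL (syU.getD t.1 [])) b) &&
    syWm.testBit (apL (wordL (syU.getD t.1 []).reverse) b)) = true := by
  decide +kernel

theorem sy_U_conj : ∀ t : Fin 2, (List.range 15).all (fun r =>
    decide ((syP.getD t.1 []).getD r 0 < 15) &&
      (cmpL (wordL (syU.getD t.1 [])) (cmpL (syI (syA.getD r 0)) (wordL (syU.getD t.1 []).reverse)) ==
        syI (syA.getD ((syP.getD t.1 []).getD r 0) 0))) = true := by
  decide +kernel

theorem sy_orbit_ok : (List.range 15).all (fun r => (r == 0) || syO.any (fun e => e.2.2 == r)) = true ∧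
    syO.all (fun e => decide (e.1 < 2 ∧ e.2.1 < 15) && ((syP.getD e.1 []).getD e.2.1 0 == e.2.2)) = true := by
  decide +kernel

end Cfsg.Agent.LargeFischer
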