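import Cfsg.Agent.Lib.LargeFischer.SylowPerm
import Cfsg.Agent.Lib.PGroup.Extraspecial
import Cfsg.Prelude.Def_Transfer

/-!
# The unique largest elementary abelian subgroup of a Sylow 2-subgroup

In coordinates `GoodCoord z Q`, a Sylow 2-subgroup of `C(z)` has exactly one elementary abelian subgroup
of largest order; it has order `2 ^ 11` and meets `Q` in order `2 ^ 7` (`sylow_unique_max`).
-/

set_option autoImplicit false

namespace Cfsg.Agent.LargeFischer

open Subgroup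

/-- The order of an image times that of the part of the kernel. -/
theorem card_map_mul_inf_ker {A B : Type*} [Group A] [Group B] (f : A →* B) (X : Subgroup A) :
    Nat.card ↥(X.map f) * Nat.card ↥(X ⊓ f.ker) = Nat.card ↥X := by
  have h := (f.comp X.subtype).ker.card_mul_index
  have e : (f.comp X.subtype).ker = (X ⊓ f.ker).subgroupOf X := by
    ext a
    simp [mem_subgroupOf]
  rw [Subgroup.index_ker, MonoidHom.range_comp, Subgroup.range_subtype, e,
    Nat.card_congr (subgroupOfEquivOfLe inf_le_left).toEquiv] at h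
  rw [mul_comm]; exact h

variable {G : Type*} [Group G] {z : G} {Q : Subgroup (Subgroup.centralizer ({z} : Set G))} [Q.Normal]


/-- The central element `z` inside its centraliser. -/
def zIn (z : G) : ↥(Subgroup.centralizer ({z} : Set G)) := ⟨z, mem_centralizer_singleton_iff.2 rfl⟩

theorem zIn_comm (a : ↥(Subgroup.centralizer ({z} : Set G))) : a * zIn z = zIn z * a :=
  Subtype.ext (mem_centralizer_singleton_iff.1 a.2)

namespace Coord

variable (K : Coord z Q)
include K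

theorem co_one : K.co 1 = 0 := (K.co_eq_zero 1).2 (Or.inl rfl)

theorem co_inv (a : ↥Q) : K.co a⁻¹ = K.co a := by
  have h := K.co_mul a⁻¹ a
  rw [inv_mul_cancel, K.co_one] at h
  calc K.co a⁻¹ = xo (K.co a⁻¹) (xo (K.co a) (K.co a)) := by rw [xo_self, xo_zero]
    _ = xo 0 (K.co a) := by rw [← xo_assoc, ← h]
    _ = K.co a := by rw [xo_comm, xo_zero]

theorem co_eq_iff (a b : ↥Q) :
    K.co a = K.co b ↔ (a : ↥(Subgroup.centralizer ({z} : Set G))) = b ∨ (a : ↥(Subgroup.centralizer ({z} : Set G))) = b * zIn z := by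
  have h : K.co (b⁻¹ * a) = xo (K.co b) (K.co a) := by rw [K.co_mul, K.co_inv]
  constructor
  · intro e
    rw [e, xo_self] at h
    rcases (K.co_eq_zero _).1 h with h' | h'
    · left
      have : ((b⁻¹ * a : ↥Q) : ↥(Subgroup.centralizer ({z} : Set G))) = 1 := Subtype.ext h'
      rwa [Subgroup.coe_mul, Subgroup.coe_inv, inv_mul_eq_one, eq_comm] at this
    · right
      have : ((b⁻¹ * a : ↥Q) : ↥(Subgroup.centralizer ({z} : Set G))) = zIn z := Subtype.ext h'
      rw [Subgroup.coe_mul, Subgroup.coe_inv] at this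
      rw [← this, mul_inv_cancel_left]
  · intro e
    have h0 : K.co (b⁻¹ * a) = 0 := by
      refine (K.co_eq_zero _).2 ?_
      rcases e with e | e
      · left; simp [e]
      · right
        show (((b⁻¹ * a : ↥Q) : ↥(Subgroup.centralizer ({z} : Set G))) : G) = z
        rw [Subgroup.coe_mul, Subgroup.coe_inv, e, inv_mul_cancel_left]; rfl
    rw [h0] at h
    calc K.co a = xo (xo (K.co b) (K.co b)) (K.co a) := by rw [xo_self, xo_comm, xo_zero]
      _ = xo (K.co b) 0 := by rw [xo_assoc, ← h]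
      _ = K.co b := xo_zero _

theorem zIn_mem [Finite G] (hcard : Nat.card ↥Q = 2 ^ 13) : zIn z ∈ Q := by
  by_contra hz
  have hinj : Function.Injective K.co := fun a b e => by
    rcases (K.co_eq_iff a b).1 e with h | h
    · exact Subtype.ext h
    · exact absurd (by simpa [h] using Q.mul_mem (Q.inv_mem b.2) a.2) hz
  have := Nat.card_le_card_of_injective _ hinj
  rw [hcard, Nat.card_fin] at this
  norm_num at this

theorem act_fix {h : ↥(Subgroup.centralizer ({z} : Set G))} {a : ↥Q} (e : h * (a : ↥(Subgroup.centralizer ({z} : Set G))) * h⁻¹ = a) : K.act h (K.co a) = K.co a := by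
  rw [K.act_co]
  exact congrArg K.co (Subtype.ext e)

theorem mem_Q_iff (h : ↥(Subgroup.centralizer ({z} : Set G))) : h ∈ Q ↔ K.act h = 1 := by
  rw [← MonoidHom.mem_ker, K.act_ker]

/-- The elements of `Q` over the distinguished fixed space. -/
def wT : Subgroup ↥(Subgroup.centralizer ({z} : Set G)) where
  carrier := {a | ∃ h : a ∈ Q, K.co ⟨a, h⟩ ∈ syV}
  one_mem' := ⟨Q.one_mem, by
    rw [show (⟨1, Q.one_mem⟩ : ↥Q) = 1 from rfl, K.co_one]; exact syV_zero⟩
  mul_mem' := fun {a b} ⟨ha, ha'⟩ ⟨hb, hb'⟩ => ⟨Q.mul_mem ha hb, by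
    rw [show (⟨a * b, Q.mul_mem ha hb⟩ : ↥Q) = ⟨a, ha⟩ * ⟨b, hb⟩ from rfl, K.co_mul]
    exact syV_xo ha' hb'⟩
  inv_mem' := fun {a} ⟨ha, ha'⟩ => ⟨Q.inv_mem ha, by
    rw [show (⟨a⁻¹, Q.inv_mem ha⟩ : ↥Q) = ⟨a, ha⟩⁻¹ from rfl, K.co_inv]
    exact ha'⟩

theorem mem_wT {a : ↥(Subgroup.centralizer ({z} : Set G))} : a ∈ K.wT ↔ ∃ h : a ∈ Q, K.co ⟨a, h⟩ ∈ syV := Iff.rfl

theorem wT_sq {a : ↥(Subgroup.centralizer ({z} : Set G))} (ha : a ∈ K.wT) : a * a = 1 := by
  obtain ⟨h, hv⟩ := ha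
  exact Subtype.ext ((K.co_sq ⟨a, h⟩).2 (syV_q hv))

theorem wT_comm {a b : ↥(Subgroup.centralizer ({z} : Set G))} (ha : a ∈ K.wT) (hb : b ∈ K.wT) : a * b = b * a := by
  have i : ∀ x ∈ K.wT, x⁻¹ = x := fun x hx => inv_eq_of_mul_eq_one_right (K.wT_sq hx)
  calc a * b = (a * b)⁻¹ := (i _ (K.wT.mul_mem ha hb)).symm
    _ = b * a := by rw [mul_inv_rev, i a ha, i b hb]

/-- Cardinality of a subgroup of `Q` against its image. -/
theorem card_le_two_mul [Finite G] (X : Subgroup ↥(Subgroup.centralizer ({z} : Set G))) (hX : X ≤ Q) (U : Set Cd)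
    (hU : ∀ (a : ↥(Subgroup.centralizer ({z} : Set G))) (ha : a ∈ X), K.co ⟨a, hX ha⟩ ∈ U) : Nat.card ↥X ≤ 2 * U.ncard := by
  classical
  let rep : Cd → ↥(Subgroup.centralizer ({z} : Set G)) := fun v => ((K.co_surjective v).choose : ↥Q)
  let f : ↥X → ↥U × Bool := fun a => (⟨K.co ⟨a.1, hX a.2⟩, hU _ a.2⟩,
    decide (a.1 = rep (K.co ⟨a.1, hX a.2⟩)))
  have hf : Function.Injective f := by
    rintro ⟨a, ha⟩ ⟨b, hb⟩ e
    simp only [f, Prod.mk.injEq, Subtype.mk.injEq, decide_eq_decide] at e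
    obtain ⟨e1, e2⟩ := e
    refine Subtype.ext (show a = b from ?_)
    rw [← e1] at e2
    have hr : K.co (K.co_surjective (K.co ⟨a, hX ha⟩)).choose = K.co ⟨a, hX ha⟩ :=
      (K.co_surjective (K.co ⟨a, hX ha⟩)).choose_spec
    have c1 : a = rep (K.co ⟨a, hX ha⟩) ∨ a = rep (K.co ⟨a, hX ha⟩) * zIn z :=
      (K.co_eq_iff ⟨a, hX ha⟩ _).1 hr.symm
    have c2 : b = rep (K.co ⟨a, hX ha⟩) ∨ b = rep (K.co ⟨a, hX ha⟩) * zIn z :=
      (K.co_eq_iff ⟨b, hX hb⟩ _).1 (e1.symm.trans hr.symm)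
    by_cases h : a = rep (K.co ⟨a, hX ha⟩)
    · exact h.trans (e2.1 h).symm
    · exact (c1.resolve_left h).trans (c2.resolve_left fun h' => h (e2.2 h')).symm
  have := Nat.card_le_card_of_injective f hf
  rwa [Nat.card_prod, Nat.card_coe_set_eq, Nat.card_eq_fintype_card (α := Bool), Fintype.card_bool,
    mul_comm] at this

theorem card_wT [Finite G] (hcard : Nat.card ↥Q = 2 ^ 13) (hne : z ≠ 1) : Nat.card ↥K.wT = 128 := by
  have h1 : Nat.card ↥K.wT ≤ 2 * syV.ncard := K.card_le_two_mul K.wT (fun a ha => ha.1) syV fun a ha => ha.2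
  refine le_antisymm (by rwa [syV_ncard] at h1) ?_
  classical
  have hz : zIn z ∈ Q := K.zIn_mem hcard
  let rep : Cd → ↥Q := fun v => (K.co_surjective v).choose
  have hrep : ∀ v, K.co (rep v) = v := fun v => (K.co_surjective v).choose_spec
  let g : ↥syV × Bool → ↥K.wT := fun x => if x.2 then ⟨(rep x.1.1 : ↥(Subgroup.centralizer ({z} : Set G))), (rep x.1.1).2, by
      show K.co (rep x.1.1) ∈ syV; rw [hrep]; exact x.1.2⟩
    else ⟨(rep x.1.1 : ↥(Subgroup.centralizer ({z} : Set G))) * zIn z, Q.mul_mem (rep x.1.1).2 hz, by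
      have : K.co ⟨(rep x.1.1 : ↥(Subgroup.centralizer ({z} : Set G))) * zIn z, Q.mul_mem (rep x.1.1).2 hz⟩ = K.co (rep x.1.1) :=
        (K.co_eq_iff _ _).2 (Or.inr rfl)
      rw [this, hrep]; exact x.1.2⟩
  have hne' : zIn z ≠ 1 := fun e => hne (congrArg Subtype.val e)
  have hg : Function.Injective g := by
    rintro ⟨⟨v, hv⟩, b⟩ ⟨⟨w, hw⟩, c⟩ e
    have e' := congrArg Subtype.val e
    have hvw : v = w := by
      rw [← hrep v, ← hrep w, K.co_eq_iff]
      cases b <;> cases c <;> simp [g] at e'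
      · exact Or.inl (congrArg Subtype.val e')
      · exact Or.inr (by rw [← e', mul_assoc, show zIn z * zIn z = 1 from K.wT_sq ⟨hz, by
          rw [show K.co ⟨zIn z, hz⟩ = 0 from (K.co_eq_zero _).2 (Or.inr rfl)]; exact syV_zero⟩, mul_one])
      · exact Or.inr e'
      · exact Or.inl (congrArg Subtype.val e')
    subst hvw
    cases b <;> cases c <;> simp [g, hne'] at e' ⊢
  have := Nat.card_le_card_of_injective g hg
  rwa [Nat.card_prod, Nat.card_coe_set_eq, syV_ncard, Nat.card_eq_fintype_card (α := Bool),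
    Fintype.card_bool] at this

/-- The preimage of the distinguished subgroup. -/
def pT : Subgroup ↥(Subgroup.centralizer ({z} : Set G)) := syA2.comap K.act

/-- The candidate. -/
def aT : Subgroup ↥(Subgroup.centralizer ({z} : Set G)) := K.pT ⊓ centralizer (K.wT : Set ↥(Subgroup.centralizer ({z} : Set G)))

theorem wT_le_aT : K.wT ≤ K.aT := fun a ha => by
  refine mem_inf.2 ⟨?_, mem_centralizer_iff.2 fun b hb => K.wT_comm hb ha⟩
  rw [pT, mem_comap, (K.mem_Q_iff a).1 ha.1]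
  exact syA2.one_mem

theorem aT_comm {a w : ↥(Subgroup.centralizer ({z} : Set G))} (ha : a ∈ K.aT) (hw : w ∈ K.wT) : a * w = w * a :=
  ((mem_centralizer_iff.1 (mem_inf.1 ha).2) w hw).symm

theorem aT_inf_Q : K.aT ⊓ Q = K.wT := by
  refine le_antisymm (fun a ha => ?_) (le_inf K.wT_le_aT fun a ha => ha.1)
  obtain ⟨haA, haQ⟩ := mem_inf.1 ha
  refine ⟨haQ, syV_perp fun b hb => ?_⟩
  obtain ⟨q, rfl⟩ := K.co_surjective b
  have hq : (q : ↥(Subgroup.centralizer ({z} : Set G))) ∈ K.wT := ⟨q.2, hb⟩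
  have e := K.aT_comm haA hq
  rw [← K.co_mul]
  have s : ((a * q) * (a * q) : ↥(Subgroup.centralizer ({z} : Set G))) = a * a := by
    rw [mul_assoc, ← mul_assoc (q : ↥(Subgroup.centralizer ({z} : Set G))), ← e, mul_assoc a (q : ↥(Subgroup.centralizer ({z} : Set G))), K.wT_sq hq, mul_one]
  have h1 := K.co_sq (⟨a, haQ⟩ * q)
  have h2 := K.co_sq ⟨a, haQ⟩
  have l1 : qN (K.co (⟨a, haQ⟩ * q)).1 < 2 := Nat.mod_lt _ (by norm_num)
  have l2 : qN (K.co ⟨a, haQ⟩).1 < 2 := Nat.mod_lt _ (by norm_num)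
  have s' := congrArg Subtype.val s
  have hiff : qN (K.co (⟨a, haQ⟩ * q)).1 = 0 ↔ qN (K.co ⟨a, haQ⟩).1 = 0 := by
    rw [← h1, ← h2]
    simp only [Subgroup.coe_mul] at s' ⊢
    rw [s']
  omega

theorem exists_act_range [Finite G] {p : Equiv.Perm Cd} (hp : p ∈ K.I.H) : ∃ h : ↥(Subgroup.centralizer ({z} : Set G)), K.act h = p :=
  MonoidHom.mem_range.1 (K.range_act.symm ▸ hp)

theorem card_aT [Finite G] (hG : K.I.Good) (hcard : Nat.card ↥Q = 2 ^ 13) (hne : z ≠ 1) :
    Nat.card ↥K.aT = 2 ^ 11 ∧ K.aT.map K.act = syA2 := by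
  classical
  have hz := K.zIn_mem hcard
  have hle : syA2 ≤ K.act.range := by rw [K.range_act]; exact inf_le_left.trans (syS_le hG)
  have hPmap : K.pT.map K.act = syA2 := map_comap_eq_self hle
  have hPQ : K.pT ⊓ K.act.ker = Q := by
    rw [inf_eq_right.2 (show K.act.ker ≤ K.pT from fun a ha => mem_comap.2 (by
      rw [MonoidHom.mem_ker.1 ha]; exact syA2.one_mem)), K.act_ker]
  have hP := card_map_mul_inf_ker K.act K.pT
  rw [hPmap, hPQ, card_syA2, hcard] at hP
  have hmap : K.aT.map K.act ≤ syA2 := hPmap ▸ Subgroup.map_mono inf_le_left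
  have hA := card_map_mul_inf_ker K.act K.aT
  rw [K.act_ker, K.aT_inf_Q, K.card_wT hcard hne] at hA
  have hm16 : Nat.card ↥(K.aT.map K.act) ≤ 16 :=
    card_syA2 ▸ Nat.le_of_dvd Nat.card_pos (card_dvd_of_le hmap)
  -- six elements determine the centraliser
  let w : Fin 6 → ↥Q := fun i => (K.co_surjective ⟨syB.getD i.1 0 % 4096, Nat.mod_lt _ (by norm_num)⟩).choose
  have hw : ∀ i, K.co (w i) = ⟨syB.getD i.1 0 % 4096, Nat.mod_lt _ (by norm_num)⟩ :=
    fun i => (K.co_surjective ⟨syB.getD i.1 0 % 4096, Nat.mod_lt _ (by norm_num)⟩).choose_spec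
  have hwV : ∀ i, K.co (w i) ∈ syV := fun i => by
    have : ∀ i : Fin 6, syWm.testBit (syB.getD i.1 0 % 4096) = true := by decide +kernel
    rw [hw]; exact this i
  have hconj : ∀ p ∈ K.pT, ∀ i, p * (w i : ↥(Subgroup.centralizer ({z} : Set G))) * p⁻¹ = w i ∨ p * (w i : ↥(Subgroup.centralizer ({z} : Set G))) * p⁻¹ = w i * zIn z := by
    intro p hp i
    have : K.act p (K.co (w i)) = K.co (w i) := (mem_syA2.1 (mem_comap.1 hp)).2 _ (hwV i)
    rw [K.act_co] at this
    exact (K.co_eq_iff _ _).1 this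
  have hmem : ∀ p ∈ K.pT, (∀ i, p * (w i : ↥(Subgroup.centralizer ({z} : Set G))) * p⁻¹ = w i) → p ∈ K.aT := by
    intro p hp hfix
    refine mem_inf.2 ⟨hp, mem_centralizer_iff.2 fun b hb => ?_⟩
    obtain ⟨hbQ, hbV⟩ := hb
    have key : syV ⊆ {v : Cd | ∀ q : ↥Q, K.co q = v → p * (q : ↥(Subgroup.centralizer ({z} : Set G))) = q * p} := by
      refine syV_induction ?_ ?_ ?_
      · intro q hq
        rcases (K.co_eq_zero q).1 hq with h | h
        · rw [show (q : ↥(Subgroup.centralizer ({z} : Set G))) = 1 from Subtype.ext h]; simp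
        · rw [show (q : ↥(Subgroup.centralizer ({z} : Set G))) = zIn z from Subtype.ext h]; exact zIn_comm p
      · intro a ha b hb q hq
        obtain ⟨qa, rfl⟩ := K.co_surjective a
        obtain ⟨qb, rfl⟩ := K.co_surjective b
        rw [← K.co_mul] at hq
        have c : Commute p ((qa : ↥(Subgroup.centralizer ({z} : Set G))) * qb) := Commute.mul_right (ha qa rfl) (hb qb rfl)
        rcases (K.co_eq_iff _ _).1 hq with h | h <;> rw [h, Subgroup.coe_mul]
        · exact c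
        · exact c.mul_right (zIn_comm p)
      · intro b hb hbB q hq
        obtain ⟨i, hi, rfl⟩ := List.getElem_of_mem hbB
        have hl : syB.length = 6 := by decide +kernel
        have e : K.co (w ⟨i, hl ▸ hi⟩) = ⟨syB[i], hb⟩ := by
          rw [hw]; refine Fin.ext ?_
          show syB.getD i 0 % 4096 = syB[i]
          rw [List.getD_eq_getElem _ _ hi, Nat.mod_eq_of_lt hb]
        have c : Commute p (w ⟨i, hl ▸ hi⟩ : ↥(Subgroup.centralizer ({z} : Set G))) := mul_inv_eq_iff_eq_mul.1 (hfix _)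
        rcases (K.co_eq_iff _ _).1 (hq.trans e.symm) with h | h <;> rw [h]
        · exact c
        · exact c.mul_right (zIn_comm p)
    exact (key hbV ⟨b, hbQ⟩ rfl).symm
  have hidx : (K.aT.subgroupOf K.pT).index ≤ 64 := by
    let g : ↥K.pT → (Fin 6 → Bool) := fun p i => decide ((p : ↥(Subgroup.centralizer ({z} : Set G))) * (w i : ↥(Subgroup.centralizer ({z} : Set G))) * (p : ↥(Subgroup.centralizer ({z} : Set G)))⁻¹ = w i)
    have hg : Function.Injective (fun x : ↥K.pT ⧸ K.aT.subgroupOf K.pT => g x.out) := by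
      intro x y e
      rw [← QuotientGroup.out_eq' x, ← QuotientGroup.out_eq' y, QuotientGroup.eq, mem_subgroupOf]
      refine hmem _ (Subgroup.mem_carrier.1 (x.out⁻¹ * y.out).2) fun i => ?_
      have ei : ((x.out : ↥(Subgroup.centralizer ({z} : Set G))) * w i * (x.out : ↥(Subgroup.centralizer ({z} : Set G)))⁻¹ = w i) ↔ ((y.out : ↥(Subgroup.centralizer ({z} : Set G))) * w i * (y.out : ↥(Subgroup.centralizer ({z} : Set G)))⁻¹ = w i) :=
        decide_eq_decide.1 (congrFun e i)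
      have hxy : (x.out : ↥(Subgroup.centralizer ({z} : Set G))) * w i * (x.out : ↥(Subgroup.centralizer ({z} : Set G)))⁻¹ = (y.out : ↥(Subgroup.centralizer ({z} : Set G))) * w i * (y.out : ↥(Subgroup.centralizer ({z} : Set G)))⁻¹ := by
        by_cases h : (x.out : ↥(Subgroup.centralizer ({z} : Set G))) * w i * (x.out : ↥(Subgroup.centralizer ({z} : Set G)))⁻¹ = w i
        · rw [h, ei.1 h]
        · rw [(hconj _ x.out.2 i).resolve_left h, (hconj _ y.out.2 i).resolve_left fun h' => h (ei.2 h')]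
      simp only [Subgroup.coe_mul, Subgroup.coe_inv]
      calc (x.out : ↥(Subgroup.centralizer ({z} : Set G)))⁻¹ * y.out * w i * ((x.out : ↥(Subgroup.centralizer ({z} : Set G)))⁻¹ * y.out)⁻¹
          = (x.out : ↥(Subgroup.centralizer ({z} : Set G)))⁻¹ * ((y.out : ↥(Subgroup.centralizer ({z} : Set G))) * w i * (y.out : ↥(Subgroup.centralizer ({z} : Set G)))⁻¹) * x.out := by group
        _ = w i := by rw [← hxy]; group
    have := Nat.card_le_card_of_injective _ hg
    rw [Nat.card_fun, Nat.card_eq_fintype_card (α := Bool), Fintype.card_bool, Nat.card_fin] at this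
    exact this
  have hlag := (K.aT.subgroupOf K.pT).card_mul_index
  rw [Nat.card_congr (subgroupOfEquivOfLe (show K.aT ≤ K.pT from inf_le_left)).toEquiv] at hlag
  have := Nat.mul_le_mul_left (Nat.card ↥K.aT) hidx
  refine ⟨by nlinarith, Subgroup.eq_of_le_of_card_ge hmap ?_⟩
  rw [card_syA2]
  nlinarith

theorem aT_conj {h : ↥(Subgroup.centralizer ({z} : Set G))} (hA : ∀ p ∈ syA2, K.act h * p * (K.act h)⁻¹ ∈ syA2)
    (hW : ∀ v ∈ syV, (K.act h)⁻¹ v ∈ syV) {a : ↥(Subgroup.centralizer ({z} : Set G))} (ha : a ∈ K.aT) : h * a * h⁻¹ ∈ K.aT := by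
  obtain ⟨hp, hc⟩ := mem_inf.1 ha
  refine mem_inf.2 ⟨?_, mem_centralizer_iff.2 fun b hb => ?_⟩
  · rw [pT, mem_comap, map_mul, map_mul, map_inv]; exact hA _ hp
  · obtain ⟨hbQ, hbV⟩ := hb
    have hq : h⁻¹ * b * h⁻¹⁻¹ ∈ Q := (inferInstance : Q.Normal).conj_mem b hbQ h⁻¹
    have e : K.co ⟨_, hq⟩ = (K.act h)⁻¹ (K.co ⟨b, hbQ⟩) := by rw [← map_inv, K.act_co]
    have hm : h⁻¹ * b * h⁻¹⁻¹ ∈ K.wT := ⟨hq, e ▸ hW _ hbV⟩
    have := mem_centralizer_iff.1 hc _ hm
    calc b * (h * a * h⁻¹) = h * (h⁻¹ * b * h⁻¹⁻¹ * a) * h⁻¹ := by group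
      _ = h * (a * (h⁻¹ * b * h⁻¹⁻¹)) * h⁻¹ := by rw [this]
      _ = h * a * h⁻¹ * b := by group

theorem sq_eq_of_act_eq {a b : ↥(Subgroup.centralizer ({z} : Set G))} (ha : a ∈ K.aT) (hb : b ∈ K.aT) (e : K.act a = K.act b) :
    a * a = b * b := by
  have hw : a⁻¹ * b ∈ K.wT := K.aT_inf_Q ▸ mem_inf.2 ⟨K.aT.mul_mem (K.aT.inv_mem ha) hb,
    (K.mem_Q_iff _).2 (by rw [map_mul, map_inv, e, inv_mul_cancel])⟩
  have hb' : b = a * (a⁻¹ * b) := by group
  generalize a⁻¹ * b = w at hw hb'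
  subst hb'
  have c := K.aT_comm ha hw
  rw [mul_assoc a w, ← mul_assoc w a, ← c, mul_assoc a w, K.wT_sq hw, mul_one]

theorem sq_cases [Finite G] {a : ↥(Subgroup.centralizer ({z} : Set G))} (ha : a ∈ K.aT) : a * a = 1 ∨ a * a = zIn z := by
  obtain ⟨p3, hp3, hp3v⟩ := K.I.mono (fun _ => 1) 1 (by decide) (by simp)
  have hwc : ∀ v, p3 v = wC v := fun v => by
    rw [hp3v, ← eq_monoC isAdd_wC (fun v => rfl) (d := fun _ => 1) (σ := 1) (fun i => ?_) v]
    rw [wC_unitC]; rfl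
  obtain ⟨h, hh⟩ := K.exists_act_range (K.I.hMH hp3)
  have hcomm : ∀ p ∈ syA2, K.act h * p * (K.act h)⁻¹ = p := fun p hp => by
    rw [mul_inv_eq_iff_eq_mul]
    refine Equiv.ext fun v => ?_
    simp only [Equiv.Perm.mul_apply, hh, hwc]
    rcases mem_syA2_cases hp with rfl | ⟨r, hr, rfl⟩
    · rfl
    · rw [wC_lin_aP hr]
  have hW : ∀ v ∈ syV, (K.act h)⁻¹ v ∈ syV := fun v hv => by
    have : (K.act h)⁻¹ v = wC (wC v) := by
      rw [Equiv.Perm.inv_eq_iff_eq, hh, hwc, wC_cube]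
    rw [this]; exact wC_syV (wC_syV hv)
  have hconj := K.aT_conj (fun p hp => (hcomm p hp).symm ▸ hp) hW ha
  have hsq : h * a * h⁻¹ * (h * a * h⁻¹) = a * a :=
    K.sq_eq_of_act_eq hconj ha (by rw [map_mul, map_mul, map_inv]; exact hcomm _ (mem_inf.1 ha).1)
  have hQ : a * a ∈ Q := (K.mem_Q_iff _).2 (by rw [map_mul]; exact syA2_sq (mem_inf.1 ha).1)
  have hco : K.act h (K.co ⟨_, hQ⟩) = K.co ⟨_, hQ⟩ :=
    K.act_fix ((by group : h * (a * a) * h⁻¹ = h * a * h⁻¹ * (h * a * h⁻¹)).trans hsq)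
  rw [hh, hwc] at hco
  rcases (K.co_eq_zero _).1 (wC_eq_self _ hco) with e | e
  · exact Or.inl (Subtype.ext e)
  · exact Or.inr (Subtype.ext e)

theorem aT_sq [Finite G] (hG : K.I.Good) (hcard : Nat.card ↥Q = 2 ^ 13) (hne : z ≠ 1) :
    ∀ a ∈ K.aT, a * a = 1 := by
  have hne' : zIn z ≠ 1 := fun e => hne (congrArg Subtype.val e)
  have hz2 : zIn z * zIn z = 1 := K.wT_sq ⟨K.zIn_mem hcard, by
    rw [show K.co ⟨zIn z, K.zIn_mem hcard⟩ = 0 from (K.co_eq_zero _).2 (Or.inr rfl)]; exact syV_zero⟩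
  have hlift : ∀ p ∈ syA2, ∃ a ∈ K.aT, K.act a = p := fun p hp => by
    rw [← (K.card_aT hG hcard hne).2] at hp
    exact mem_map.1 hp
  -- the square is constant on the fifteen classes
  have hconst : ∀ r < 15, ∀ a ∈ K.aT, K.act a = aP r →
      ∀ b ∈ K.aT, K.act b = aP 0 → a * a = b * b := by
    have step : ∀ (t : Fin 2) (r : ℕ), r < 15 → ∀ a ∈ K.aT, K.act a = aP r →
        ∀ a' ∈ K.aT, K.act a' = aP (syNext t r) → a' * a' = a * a := by
      intro t r hr a ha har a' ha' har'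
      obtain ⟨h, hh⟩ := K.exists_act_range (syU_mem hG t)
      have hA : ∀ p ∈ syA2, K.act h * p * (K.act h)⁻¹ ∈ syA2 := fun p hp => by
        rcases mem_syA2_cases hp with rfl | ⟨s, hs, rfl⟩
        · simp
        · rw [hh, (syU_conj t hs).2]; exact aP_mem (syU_conj t hs).1
      have hm := K.aT_conj hA (fun v hv => hh ▸ (syU_syV t hv).2) ha
      have e := K.sq_eq_of_act_eq hm ha' (by
        rw [map_mul, map_mul, map_inv, hh, har, har', (syU_conj t hr).2])
      rw [← e]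
      rcases K.sq_cases ha with s | s <;>
        · rw [show h * a * h⁻¹ * (h * a * h⁻¹) = h * (a * a) * h⁻¹ by group, s]
          first
            | rw [zIn_comm h, mul_inv_cancel_right]
            | group
    -- along the tree
    have hedge : ∀ e ∈ syO, e.1 < 2 ∧ e.2.1 < 15 ∧ (syP.getD e.1 []).getD e.2.1 0 = e.2.2 := fun e he => by
      have := List.all_eq_true.1 sy_orbit_ok.2 e he
      simp only [Bool.and_eq_true, decide_eq_true_eq, beq_iff_eq] at this
      exact ⟨this.1.1, this.1.2, this.2⟩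
    suffices H : ∀ l : List (ℕ × ℕ × ℕ), (∀ e ∈ l, e ∈ syO) → ∀ S : Finset ℕ,
        (∀ r ∈ S, r < 15 ∧ ∀ a ∈ K.aT, K.act a = aP r → ∀ b ∈ K.aT, K.act b = aP 0 → a * a = b * b) →
        ∀ r, r ∈ l.foldl (fun S e => if e.2.1 ∈ S then insert e.2.2 S else S) S →
          ∀ a ∈ K.aT, K.act a = aP r → ∀ b ∈ K.aT, K.act b = aP 0 → a * a = b * b by
      intro r hr
      have hfull : ∀ r : Fin 15, r.1 ∈ syO.foldl (fun S e => if e.2.1 ∈ S then insert e.2.2 S else S) ({0} : Finset ℕ) := by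
        decide +kernel
      refine H syO (fun e he => he) {0} (fun s hs => ?_) r (hfull ⟨r, hr⟩)
      rw [Finset.mem_singleton] at hs
      subst hs
      exact ⟨by norm_num, fun a ha har b hb hbr => K.sq_eq_of_act_eq ha hb (har.trans hbr.symm)⟩
    intro l
    induction l with
    | nil => intro _ S hS r hr; exact (hS r hr).2
    | cons e l ih =>
      intro hl S hS
      rw [List.foldl_cons]
      refine ih (fun x hx => hl x (List.mem_cons_of_mem _ hx)) _ fun r hr => ?_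
      split at hr
      · rename_i hin
        rcases Finset.mem_insert.1 hr with rfl | hr
        · obtain ⟨he1, he2, he3⟩ := hedge e (hl e (List.mem_cons_self ..))
          have he3' : syNext ⟨e.1, he1⟩ e.2.1 = e.2.2 := he3
          refine ⟨he3' ▸ (syU_conj ⟨e.1, he1⟩ he2).1, fun a ha har b hb hbr => ?_⟩
          obtain ⟨c, hc, hcr⟩ := hlift _ (aP_mem he2)
          rw [step ⟨e.1, he1⟩ _ he2 c hc hcr a ha (he3'.symm ▸ har)]
          exact (hS _ hin).2 c hc hcr b hb hbr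
        · exact hS r hr
      · exact hS r hr
  obtain ⟨b₀, hb₀, hb₀r⟩ := hlift _ (aP_mem (r := 0) (by norm_num))
  have hall : ∀ a ∈ K.aT, K.act a ≠ 1 → a * a = b₀ * b₀ := fun a ha h1 => by
    rcases mem_syA2_cases (mem_inf.1 ha).1 with h | ⟨r, hr, h⟩
    · exact absurd h h1
    · exact hconst r hr a ha h b₀ hb₀ hb₀r
  rcases K.sq_cases hb₀ with h1 | hz
  · intro a ha
    by_cases h : K.act a = 1
    · exact K.wT_sq (K.aT_inf_Q ▸ mem_inf.2 ⟨ha, (K.mem_Q_iff a).2 h⟩)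
    · rw [hall a ha h, h1]
  exfalso
  rw [hz] at hall
  have anti : ∀ x ∈ K.aT, ∀ y ∈ K.aT, K.act x ≠ 1 → K.act y ≠ 1 → K.act x ≠ K.act y →
      x * y = zIn z * (y * x) := by
    intro x hx y hy hx1 hy1 hxy
    have hxy1 : K.act (x * y) ≠ 1 := by
      rw [map_mul]
      intro e
      exact hxy ((mul_eq_one_iff_eq_inv.1 e).trans
        (inv_eq_of_mul_eq_one_right (syA2_sq (mem_inf.1 hy).1)))
    have ex := hall x hx hx1
    have ey := hall y hy hy1
    have exy := hall _ (K.aT.mul_mem hx hy) hxy1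
    have xi : x⁻¹ = x * zIn z := inv_eq_of_mul_eq_one_right (by rw [← mul_assoc, ex, hz2])
    have yi : y⁻¹ = y * zIn z := inv_eq_of_mul_eq_one_right (by rw [← mul_assoc, ey, hz2])
    calc x * y = zIn z * (y⁻¹ * x⁻¹) := by
          rw [← mul_inv_rev, ← exy, mul_inv_cancel_right]
      _ = zIn z * (y * x) := by
          rw [xi, yi, mul_assoc y, ← mul_assoc (zIn z) x, ← zIn_comm x, mul_assoc x, hz2, mul_one]
  have h0 : aP 0 ∈ syA2 := aP_mem (by norm_num)
  have h1 : aP 1 ∈ syA2 := aP_mem (by norm_num)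
  have hn0 : aP 0 ≠ 1 := aP_ne_one (by norm_num)
  have hn1 : aP 1 ≠ 1 := aP_ne_one (by norm_num)
  have hn01 : aP 0 ≠ aP 1 := fun e => absurd (aP_inj (by norm_num) (by norm_num) e) (by norm_num)
  obtain ⟨p, hp, hp1, hpb, hpc, hpbc⟩ : ∃ p ∈ syA2, p ≠ 1 ∧ p ≠ aP 0 ∧ p ≠ aP 1 ∧ p ≠ aP 0 * aP 1 := by
    classical
    by_contra hno
    push Not at hno
    have hsub : (syA2 : Set (Equiv.Perm Cd)) ⊆ ↑({1, aP 0, aP 1, aP 0 * aP 1} : Finset (Equiv.Perm Cd)) := by
      intro q hq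
      simp only [Finset.coe_insert, Finset.coe_singleton, Set.mem_insert_iff, Set.mem_singleton_iff]
      by_contra hc
      simp only [not_or] at hc
      exact hc.2.2.2 (hno q hq hc.1 hc.2.1 hc.2.2.1)
    have := Set.ncard_le_ncard hsub (Finset.finite_toSet _)
    rw [Set.ncard_coe_finset, ← Nat.card_coe_set_eq, SetLike.coe_sort_coe, card_syA2] at this
    exact absurd (this.trans Finset.card_le_four) (by norm_num)
  obtain ⟨a, ha, har⟩ := hlift p hp
  obtain ⟨c, hc, hcr⟩ := hlift _ h1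
  have hb1 : K.act b₀ ≠ 1 := hb₀r ▸ hn0
  have hc1 : K.act c ≠ 1 := hcr ▸ hn1
  have hbc1 : K.act (b₀ * c) ≠ 1 := by
    rw [map_mul, hb₀r, hcr]
    intro e
    exact hn01 ((mul_eq_one_iff_eq_inv.1 e).trans (inv_eq_of_mul_eq_one_right (syA2_sq h1)))
  have e1 := anti a ha (b₀ * c) (K.aT.mul_mem hb₀ hc) (har ▸ hp1) hbc1
    (by rw [map_mul, har, hb₀r, hcr]; exact hpbc)
  have e2 := anti a ha b₀ hb₀ (har ▸ hp1) hb1 (by rw [har, hb₀r]; exact hpb)
  have e3 := anti a ha c hc (har ▸ hp1) hc1 (by rw [har, hcr]; exact hpc)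
  have e4 : a * (b₀ * c) = b₀ * c * a := by
    calc a * (b₀ * c) = zIn z * b₀ * (a * c) := by rw [← mul_assoc, e2]; group
      _ = zIn z * b₀ * (zIn z * (c * a)) := by rw [e3]
      _ = b₀ * (zIn z * zIn z) * (c * a) := by rw [← zIn_comm b₀]; group
      _ = b₀ * c * a := by rw [hz2, mul_one, mul_assoc]
  rw [e4] at e1
  exact hne' (mul_eq_right.1 e1.symm)

theorem sylow_core [Finite G] (hG : K.I.Good) (hex : IsExtraspecial 2 ↥Q) (hcard : Nat.card ↥Q = 2 ^ 13)
    (hne : z ≠ 1) :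
    K.aT ≤ syS.comap K.act ∧ IsElementaryAbelian 2 K.aT ∧ Nat.card ↥K.aT = 2 ^ 11 ∧
      Nat.card ↥(K.aT ⊓ Q) = 2 ^ 7 ∧
      ∀ B : Subgroup ↥(Subgroup.centralizer ({z} : Set G)), B ≤ syS.comap K.act → IsElementaryAbelian 2 B → 2 ^ 11 ≤ Nat.card ↥B →
        B = K.aT := by
  have hA := K.card_aT hG hcard hne
  have hsq := K.aT_sq hG hcard hne
  refine ⟨inf_le_left.trans (comap_mono inf_le_left), ⟨⟨⟨fun a b => Subtype.ext ?_⟩⟩, fun a ha => ?_⟩, hA.1,
    by rw [K.aT_inf_Q, K.card_wT hcard hne]; norm_num, ?_⟩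
  · have i : ∀ x ∈ K.aT, x⁻¹ = x := fun x hx => inv_eq_of_mul_eq_one_right (hsq x hx)
    calc (a.1 * b.1 : ↥(Subgroup.centralizer ({z} : Set G))) = (a.1 * b.1)⁻¹ := (i _ (K.aT.mul_mem a.2 b.2)).symm
      _ = b.1 * a.1 := by rw [mul_inv_rev, i _ a.2, i _ b.2]
  · rw [pow_two]; exact hsq a ha
  intro B hB ⟨hBc, hB2⟩ hBcard
  have hcomm : ∀ a ∈ B, ∀ b ∈ B, a * b = b * a := fun a ha b hb =>
    congrArg Subtype.val (hBc.1.1 ⟨a, ha⟩ ⟨b, hb⟩)
  have hmul := card_map_mul_inf_ker K.act B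
  rw [K.act_ker] at hmul
  have hsqm : ∀ p ∈ B.map K.act, p * p = 1 := by
    rintro _ ⟨b, hb, rfl⟩
    rw [← map_mul, ← pow_two, hB2 b hb, map_one]
  have hfix : ∀ (a : ↥(Subgroup.centralizer ({z} : Set G))) (ha : a ∈ B ⊓ Q), K.co ⟨a, (mem_inf.1 ha).2⟩ ∈ fixSet (B.map K.act) := by
    intro a ha p hp
    obtain ⟨b, hb, rfl⟩ := hp
    exact K.act_fix (by show b * a * b⁻¹ = a; rw [hcomm b hb a (mem_inf.1 ha).1, mul_inv_cancel_right])
  have hQ128 : Nat.card ↥(B ⊓ Q) ≤ 128 := by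
    have : Fact (Nat.Prime 2) := ⟨Nat.prime_two⟩
    have h := PGroup.extraspecial_abelian_card_le hex (A := (B ⊓ Q).subgroupOf Q)
      ⟨⟨fun a b => Subtype.ext (Subtype.ext (hcomm _ (mem_inf.1 a.2).1 _ (mem_inf.1 b.2).1))⟩⟩
    rw [Nat.card_congr (subgroupOfEquivOfLe inf_le_right).toEquiv, hcard] at h
    nlinarith
  have h16 : 16 ≤ Nat.card ↥(B.map K.act) := by nlinarith
  have h2 := K.card_le_two_mul (B ⊓ Q) inf_le_right (fixSet (B.map K.act)) hfix
  rcases elementary_cases (map_le_iff_le_comap.2 hB) hsqm h16 with hP | ⟨hc, hf⟩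
  · have hle : B ⊓ Q ≤ K.wT := fun a ha => ⟨(mem_inf.1 ha).2, fixSet_syA2 ▸ hP ▸ hfix a ha⟩
    rw [hP, card_syA2] at hmul
    have heq : B ⊓ Q = K.wT := eq_of_le_of_card_ge hle (by rw [K.card_wT hcard hne]; omega)
    refine eq_of_le_of_card_ge (fun b hb => mem_inf.2 ⟨?_, mem_centralizer_iff.2 fun w hw => ?_⟩)
      (by rw [hA.1]; exact hBcard)
    · rw [pT, mem_comap, ← hP]; exact mem_map_of_mem _ hb
    · exact hcomm w (mem_inf.1 (heq.symm ▸ hw : w ∈ B ⊓ Q)).1 b hb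
  · exfalso
    have : Nat.card ↥(B.map K.act) * Nat.card ↥(B ⊓ Q) ≤ 32 * 32 := Nat.mul_le_mul hc (h2.trans (by omega))
    omega

end Coord

theorem card_img (I : Img) : Nat.card ↥I.H = 2 ^ 8 * 76545 := by
  have h := (I.M.subgroupOf I.H).card_mul_index
  rw [Nat.card_congr (subgroupOfEquivOfLe I.hMH).toEquiv, ← relIndex, I.index_two, I.card_M] at h
  omega

/-- A Sylow 2-subgroup of `C(z)` has exactly one largest elementary abelian subgroup. -/
theorem sylow_unique_max [Finite G] (K : GoodCoord z Q) (hne : z ≠ 1) (hex : IsExtraspecial 2 ↥Q)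
    (hcard : Nat.card ↥Q = 2 ^ 13) (T : Sylow 2 ↥(Subgroup.centralizer ({z} : Set G))) :
    ∃ A : Subgroup ↥(T : Subgroup ↥(Subgroup.centralizer ({z} : Set G))),
      maxElementaryAbelianSubgroups 2 ↥(T : Subgroup ↥(Subgroup.centralizer ({z} : Set G))) = {A} ∧ Nat.card A = 2 ^ 11 ∧
      Nat.card ↥(A.map (T : Subgroup ↥(Subgroup.centralizer ({z} : Set G))).subtype ⊓ Q) = 2 ^ 7 ∧
      Nat.card ↥((A.map (T : Subgroup ↥(Subgroup.centralizer ({z} : Set G))).subtype).map (QuotientGroup.mk' Q)) = 16 := by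
  obtain ⟨hle, hel, hA, hAQ, huniq⟩ := K.toCoord.sylow_core K.good hex hcard hne
  have : Fact (Nat.Prime 2) := ⟨Nat.prime_two⟩
  -- a Sylow subgroup
  have hT0 : Nat.card ↥(syS.comap K.act) = 2 ^ 21 := by
    have h := card_map_mul_inf_ker K.act (syS.comap K.act)
    rw [map_comap_eq_self (by rw [K.range_act]; exact syS_le K.good), card_syS,
      inf_eq_right.2 (fun a (ha : a ∈ K.act.ker) => by
        rw [mem_comap, MonoidHom.mem_ker.1 ha]; exact syS.one_mem), K.act_ker, hcard] at h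
    omega
  have hC : Nat.card ↥(Subgroup.centralizer ({z} : Set G)) = 2 ^ 21 * 76545 := by
    have h := K.act.ker.card_mul_index
    rw [Subgroup.index_ker, K.range_act, card_img, K.act_ker, hcard] at h
    omega
  let T0 : Sylow 2 ↥(Subgroup.centralizer ({z} : Set G)) := Sylow.ofCard (syS.comap K.act) (by
    rw [hT0, hC, Nat.factorization_mul (by norm_num) (by norm_num), Finsupp.add_apply,
      Nat.Prime.factorization_pow Nat.prime_two, Finsupp.single_eq_same,
      Nat.factorization_eq_zero_of_not_dvd (by norm_num), add_zero])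
  obtain ⟨c, hc⟩ := MulAction.exists_smul_eq ↥(Subgroup.centralizer ({z} : Set G)) T0 T
  let e : ↥(Subgroup.centralizer ({z} : Set G)) ≃* ↥(Subgroup.centralizer ({z} : Set G)) := MulAut.conj c
  have hTe : (T : Subgroup ↥(Subgroup.centralizer ({z} : Set G))) = (syS.comap K.act).map e.toMonoidHom := by
    rw [← hc, Sylow.coe_subgroup_smul]
    rfl
  have hQe : Q.map e.toMonoidHom = Q := by
    ext x
    rw [mem_map]
    constructor
    · rintro ⟨q, hq, rfl⟩
      exact (inferInstance : Q.Normal).conj_mem q hq c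
    · intro hx
      refine ⟨c⁻¹ * x * c⁻¹⁻¹, (inferInstance : Q.Normal).conj_mem x hx c⁻¹, ?_⟩
      show c * (c⁻¹ * x * c⁻¹⁻¹) * c⁻¹ = x
      group
  let A' : Subgroup ↥(Subgroup.centralizer ({z} : Set G)) := K.aT.map e.toMonoidHom
  have hA'le : A' ≤ (T : Subgroup ↥(Subgroup.centralizer ({z} : Set G))) := hTe ▸ map_mono hle
  have hA'card : Nat.card ↥A' = 2 ^ 11 := by rw [card_map_of_injective e.injective]; exact hA
  let A : Subgroup ↥(T : Subgroup ↥(Subgroup.centralizer ({z} : Set G))) := A'.subgroupOf T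
  have hAmap : A.map (T : Subgroup ↥(Subgroup.centralizer ({z} : Set G))).subtype = A' := by
    rw [subgroupOf_map_subtype, inf_eq_left.2 hA'le]
  have hAcard : Nat.card ↥A = 2 ^ 11 := by
    rw [Nat.card_congr (subgroupOfEquivOfLe hA'le).toEquiv, hA'card]
  have hQcard : Nat.card ↥(A' ⊓ Q) = 2 ^ 7 := by
    rw [← hQe, ← map_inf _ _ _ e.injective, card_map_of_injective e.injective]; exact hAQ
  have hAel : IsElementaryAbelian 2 A := by
    refine ⟨⟨⟨fun a b => ?_⟩⟩, fun a ha => ?_⟩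
    · obtain ⟨x, hx, hxa⟩ := mem_map.1 a.2
      obtain ⟨y, hy, hyb⟩ := mem_map.1 b.2
      refine Subtype.ext (Subtype.ext ?_)
      show (a.1.1 : ↥(Subgroup.centralizer ({z} : Set G))) * b.1.1 = b.1.1 * a.1.1
      rw [show (a.1.1 : ↥(Subgroup.centralizer ({z} : Set G))) = e x from hxa.symm, show (b.1.1 : ↥(Subgroup.centralizer ({z} : Set G))) = e y from hyb.symm, ← map_mul, ← map_mul]
      exact congrArg e (congrArg Subtype.val (hel.1.1.1 ⟨x, hx⟩ ⟨y, hy⟩))
    · obtain ⟨x, hx, hxa⟩ := mem_map.1 ha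
      refine Subtype.ext ?_
      rw [Subgroup.coe_pow, show (a.1 : ↥(Subgroup.centralizer ({z} : Set G))) = e x from hxa.symm, ← map_pow, hel.2 x hx, map_one]
      rfl
  have huniq' : ∀ B : Subgroup ↥(T : Subgroup ↥(Subgroup.centralizer ({z} : Set G))), IsElementaryAbelian 2 B → 2 ^ 11 ≤ Nat.card ↥B → B = A := by
    intro B hB hBc
    let B0 : Subgroup ↥(Subgroup.centralizer ({z} : Set G)) := (B.map (T : Subgroup ↥(Subgroup.centralizer ({z} : Set G))).subtype).map e.symm.toMonoidHom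
    have hB0 : B0 = K.aT := by
      refine huniq B0 ?_ ⟨⟨⟨?_⟩⟩, ?_⟩ ?_
      · rintro _ ⟨_, ⟨b, _, rfl⟩, rfl⟩
        obtain ⟨x, hx, hxb⟩ := mem_map.1 (hTe ▸ b.2 : (b : ↥(Subgroup.centralizer ({z} : Set G))) ∈ (syS.comap K.act).map e.toMonoidHom)
        rw [show (T : Subgroup ↥(Subgroup.centralizer ({z} : Set G))).subtype b = (b : ↥(Subgroup.centralizer ({z} : Set G))) from rfl, ← hxb]
        simpa using hx
      · rintro ⟨_, _, ⟨a, ha, rfl⟩, rfl⟩ ⟨_, _, ⟨b, hb, rfl⟩, rfl⟩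
        refine Subtype.ext ?_
        show e.symm (a : ↥(Subgroup.centralizer ({z} : Set G))) * e.symm (b : ↥(Subgroup.centralizer ({z} : Set G))) = e.symm (b : ↥(Subgroup.centralizer ({z} : Set G))) * e.symm (a : ↥(Subgroup.centralizer ({z} : Set G)))
        rw [← map_mul, ← map_mul]
        exact congrArg e.symm (congrArg (fun u : B => (u.1.1 : ↥(Subgroup.centralizer ({z} : Set G)))) (hB.1.1.1 ⟨a, ha⟩ ⟨b, hb⟩))
      · rintro _ ⟨_, ⟨a, ha, rfl⟩, rfl⟩
        rw [← map_pow, ← map_pow, hB.2 a ha, map_one, map_one]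
      · rw [card_map_of_injective e.symm.injective,
          card_map_of_injective (Subgroup.subtype_injective _)]
        exact hBc
    have hBA : B.map (T : Subgroup ↥(Subgroup.centralizer ({z} : Set G))).subtype = A' := by
      show _ = K.aT.map e.toMonoidHom
      rw [← hB0, map_map, show e.toMonoidHom.comp e.symm.toMonoidHom = MonoidHom.id ↥(Subgroup.centralizer ({z} : Set G)) from
        MonoidHom.ext fun x => e.apply_symm_apply x, map_id]
    exact map_injective (Subgroup.subtype_injective _) (hBA.trans hAmap.symm)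
  refine ⟨A, ?_, hAcard, by rw [hAmap]; exact hQcard, ?_⟩
  · ext B
    simp only [maxElementaryAbelianSubgroups, Set.mem_ofPred_eq, Set.mem_singleton_iff]
    constructor
    · rintro ⟨hB, hmax⟩
      exact huniq' B hB (hAcard ▸ hmax A hAel)
    · rintro rfl
      refine ⟨hAel, fun B hB => ?_⟩
      by_contra hlt
      rw [hAcard, not_le] at hlt
      rw [huniq' B hB hlt.le, hAcard] at hlt
      exact lt_irrefl _ hlt
  · rw [hAmap]
    have h := card_map_mul_inf_ker (QuotientGroup.mk' Q) A'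
    rw [QuotientGroup.ker_mk', hQcard, hA'card] at h
    omega

end Cfsg.Agent.LargeFischer
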