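import Cfsg.Agent.Lib.LargeFischer.SylowCheck

/-!
# A Sylow 2-subgroup of the image and its large elementary abelian subgroups
-/

set_option autoImplicit false
set_option maxRecDepth 100000

namespace Cfsg.Agent.LargeFischer

open Subgroup

/-- The four generators. -/
def syGen (k : Fin 4) : Equiv.Perm Cd := wordP (syG k)

/-- The subgroup of order 256. -/
def syS : Subgroup (Equiv.Perm Cd) := closure (Set.range syGen)

theorem wordP_inv : ∀ w : List (Fin 8), (wordP w)⁻¹ = wordP w.reverse := by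
  intro w
  induction w with
  | nil => simp [wordP]
  | cons k w ih =>
    have hk : (tP k)⁻¹ = tP k := inv_eq_of_mul_eq_one_right (Equiv.ext fun v => tI_invol k v)
    simp only [wordP, List.map_cons, List.prod_cons, mul_inv_rev, List.reverse_cons, List.map_append,
      List.map_nil, List.prod_append, List.prod_nil, mul_one]
    rw [hk]
    simp only [wordP] at ih
    rw [ih]

theorem tP_sq (k : Fin 8) : tP k * tP k = 1 := Equiv.ext fun v => tI_invol k v

theorem tP_pair_mem {I : Img} (hI : I.Good) (k : Fin 8) : tP 0 * tP k ∈ I.H := by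
  have h1 : tP 0 * tP 1 ∈ I.H := I.hMH (hI.gM_mem 0)
  have h7 : tP 0 * tP 7 ∈ I.H := by
    have e : tP 0 * tP 7 = tP 0 * tP 1 * (tP 7 * tP 1)⁻¹ := by
      rw [mul_inv_rev, inv_eq_of_mul_eq_one_right (tP_sq 1), inv_eq_of_mul_eq_one_right (tP_sq 7),
        mul_assoc, ← mul_assoc (tP 1), tP_sq, one_mul]
    exact e.symm ▸ I.H.mul_mem h1 (I.H.inv_mem hI.gS_mem)
  obtain ⟨j, hj⟩ := k
  rcases (by omega : j = 0 ∨ j = 7 ∨ (1 ≤ j ∧ j < 7)) with rfl | rfl | ⟨h, h'⟩
  · exact (tP_sq 0).symm ▸ I.H.one_mem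
  · exact h7
  · have := I.hMH (hI.gM_mem ⟨j - 1, by omega⟩)
    rw [gM] at this
    convert this using 3
    exact Fin.ext (by simp; omega)

/-- Even words lie in the image. -/
theorem wordP_mem {I : Img} (hI : I.Good) : ∀ w : List (Fin 8), Even w.length → wordP w ∈ I.H
  | [], _ => I.H.one_mem
  | [a], h => absurd h (by simp)
  | a :: b :: r, h => by
    have e : wordP (a :: b :: r) = (tP 0 * tP a)⁻¹ * (tP 0 * tP b) * wordP r := by
      simp only [wordP, List.map_cons, List.prod_cons, mul_inv_rev]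
      rw [inv_eq_of_mul_eq_one_right (tP_sq 0), inv_eq_of_mul_eq_one_right (tP_sq a),
        mul_assoc (tP a) (tP 0), ← mul_assoc (tP 0) (tP 0), tP_sq, one_mul, mul_assoc]
    rw [e]
    refine I.H.mul_mem (I.H.mul_mem (I.H.inv_mem (tP_pair_mem hI a)) (tP_pair_mem hI b)) (wordP_mem hI r ?_)
    rw [List.length_cons, List.length_cons] at h
    simpa [Nat.even_add_one] using h

theorem syG_even : ∀ k : Fin 4, (syG k).length % 2 = 0 := by decide +kernel

theorem syS_le {I : Img} (hI : I.Good) : syS ≤ I.H := by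
  rw [syS, closure_le]
  rintro _ ⟨k, rfl⟩
  exact wordP_mem hI _ (Nat.even_iff.2 (syG_even k))

theorem exists_syE (i : ℕ) (hi : i < 256) : ∃ p ∈ syS, PermOf (syE i) p := by
  induction i using Nat.strong_induction_on with
  | _ i ih =>
    have h := List.all_eq_true.1 sy_par i (List.mem_range.2 hi)
    rcases eq_or_ne i 0 with rfl | h0
    · exact ⟨1, syS.one_mem, sy_one ▸ permOf_one⟩
    simp only [beq_iff_eq, h0, Bool.or_eq_true, false_or, Bool.and_eq_true, decide_eq_true_eq] at h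
    obtain ⟨hlt, he⟩ := h
    obtain ⟨p, hp, hpe⟩ := ih _ hlt (hlt.trans hi)
    have hk : syPar.getD i 0 % 4 < 4 := Nat.mod_lt _ (by norm_num)
    have hc := List.all_eq_true.1 (sy_closed ⟨_, hk⟩) (syPar.getD i 0 / 4) (List.mem_range.2 (hlt.trans hi))
    simp only [Bool.and_eq_true, decide_eq_true_eq, beq_iff_eq] at hc
    refine ⟨syGen ⟨_, hk⟩ * p, syS.mul_mem (subset_closure ⟨_, rfl⟩) hp, ?_⟩
    have := (wordP_permOf (syG ⟨_, hk⟩)).mul hpe
    rw [hc.2] at this
    simp only [he] at this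
    exact this

theorem exists_index {p : Equiv.Perm Cd} (hp : p ∈ syS) : ∃ i < 256, PermOf (syE i) p := by
  rw [syS, ← mem_toSubmonoid, closure_toSubmonoid_of_finite] at hp
  induction hp using Submonoid.closure_induction_left with
  | one => exact ⟨0, by norm_num, sy_one ▸ permOf_one⟩
  | mul_left x hx y hy ih =>
    obtain ⟨k, rfl⟩ := hx
    obtain ⟨i, hi, hie⟩ := ih
    have hc := List.all_eq_true.1 (sy_closed k) i (List.mem_range.2 hi)
    simp only [Bool.and_eq_true, decide_eq_true_eq, beq_iff_eq] at hc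
    exact ⟨_, hc.1, hc.2 ▸ (wordP_permOf (syG k)).mul hie⟩

open Classical in
/-- The `i`-th element of `syS`. -/
noncomputable def eP (i : ℕ) : Equiv.Perm Cd :=
  if h : i < 256 then (exists_syE i h).choose else 1

theorem eP_spec {i : ℕ} (hi : i < 256) : eP i ∈ syS ∧ PermOf (syE i) (eP i) := by
  rw [eP, dif_pos hi]
  exact (exists_syE i hi).choose_spec

theorem mem_syS_iff {p : Equiv.Perm Cd} : p ∈ syS ↔ ∃ i < 256, p = eP i := by
  constructor
  · intro hp
    obtain ⟨i, hi, he⟩ := exists_index hp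
    exact ⟨i, hi, he.eq (eP_spec hi).2⟩
  · rintro ⟨i, hi, rfl⟩
    exact (eP_spec hi).1

theorem eP_inj {i j : ℕ} (hi : i < 256) (hj : j < 256) (h : eP i = eP j) : i = j := by
  by_contra hne
  wlog hlt : j < i generalizing i j
  · exact this hj hi h.symm (Ne.symm hne) (by omega)
  have := List.all_eq_true.1 (List.all_eq_true.1 sy_dist i (List.mem_range.2 hi)) j (List.mem_range.2 hlt)
  exact (eP_spec hi).2.ne (eP_spec hj).2 this h

theorem card_syS : Nat.card syS = 256 := by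
  rw [← Nat.card_fin 256]
  refine (Nat.card_congr (Equiv.ofBijective (fun i : Fin 256 => (⟨eP i, (eP_spec i.2).1⟩ : syS)) ⟨?_, ?_⟩)).symm
  · exact fun i j h => Fin.ext (eP_inj i.2 j.2 (congrArg Subtype.val h))
  · rintro ⟨p, hp⟩
    obtain ⟨i, hi, rfl⟩ := mem_syS_iff.1 hp
    exact ⟨⟨i, hi⟩, rfl⟩

theorem eP_zero : eP 0 = 1 := PermOf.eq ((eP_spec (by norm_num)).2) (sy_one ▸ permOf_one)

/-- The `a`-th involution. -/
noncomputable def eI (a : ℕ) : Equiv.Perm Cd := eP (syInv.getD a 0)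

theorem eI_spec {a : ℕ} (ha : a < 71) : eI a ∈ syS ∧ PermOf (syI a) (eI a) :=
  eP_spec (sy_len.2.2 ⟨a, ha⟩)

theorem eq_eI {p : Equiv.Perm Cd} (hp : p ∈ syS) (h2 : p * p = 1) (h1 : p ≠ 1) : ∃ a < 71, p = eI a := by
  obtain ⟨i, hi, rfl⟩ := mem_syS_iff.1 hp
  have h := List.all_eq_true.1 sy_inv i (List.mem_range.2 hi)
  have hd : difL (cmpL (syE i) (syE i)) idImg = false := by
    by_contra hh
    exact ((eP_spec hi).2.mul (eP_spec hi).2).ne permOf_one (by simpa using hh) h2
  have h0 : i ≠ 0 := fun e => h1 (e ▸ eP_zero)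
  simp only [hd, beq_iff_eq, h0, Bool.or_eq_true, false_or, Bool.false_eq_true, or_false] at h
  obtain ⟨a, ha, hae⟩ := List.getElem_of_mem (List.contains_iff_mem.1 h)
  refine ⟨a, sy_len.2.1 ▸ ha, ?_⟩
  rw [eI, List.getD_eq_getElem _ _ ha, hae]

theorem eI_comm_bit {a b : ℕ} (ha : a < 71) (hb : b < 71) (h : eI a * eI b = eI b * eI a) :
    (syN.getD a 0).testBit b = true := by
  have := List.all_eq_true.1 (List.all_eq_true.1 sy_comm a (List.mem_range.2 ha)) b (List.mem_range.2 hb)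
  rw [Bool.or_eq_true] at this
  refine this.resolve_right fun hd => ?_
  exact ((eI_spec ha).2.mul (eI_spec hb).2).ne ((eI_spec hb).2.mul (eI_spec ha).2) hd h

theorem syCover_spec : ∀ (f s : ℕ), syCover f s = true → ∀ K : Finset ℕ, (∀ i ∈ K, s.testBit i = true) →
    (∀ i ∈ K, ∀ j ∈ K, (syN.getD i 0).testBit j = true) → ∃ x ∈ syMx, ∀ i ∈ K, x.1.testBit i = true := by
  intro f
  induction f with
  | zero => intro s h; simp [syCover] at h
  | succ f ih =>
    intro s h K hK hN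
    rw [syCover, Bool.or_eq_true] at h
    rcases h with h | h
    · obtain ⟨x, hx, he⟩ := List.any_eq_true.1 h
      rw [beq_iff_eq] at he
      refine ⟨x, hx, fun i hi => ?_⟩
      have := hK i hi
      rw [← he, Nat.testBit_and, Bool.and_eq_true] at this
      exact this.2
    · split at h
      · rename_i v hv
        rw [Bool.and_eq_true] at h
        by_cases hvK : v ∈ K
        · exact ih _ h.2 K (fun i hi => by rw [Nat.testBit_and, hK i hi, hN v hvK i hi]; rfl) hN
        · refine ih _ h.1 K (fun i hi => ?_) hN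
          have hne : v ≠ i := fun e => hvK (e ▸ hi)
          rw [Nat.testBit_xor, hK i hi, Nat.testBit_two_pow]
          simp [hne]
      · simp at h

theorem syFix_bit {a : ℕ} (ha : a < 71) {v : Cd} (hv : eI a v = v) : (syFix a).testBit v.1 = true := by
  unfold syFix
  split
  · rename_i x hx
    have h1 := List.find?_some hx
    have h2 := List.all_eq_true.1 sy_fix_ok x (List.mem_of_find?_eq_some hx)
    simp only [beq_iff_eq] at h1 h2
    rw [← h2, h1]
    exact fixMask_bit v.2 (by rw [← (eI_spec ha).2 v, hv])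
  · rw [Nat.testBit_two_pow_sub_one, decide_eq_true_eq]
    exact v.2

theorem ncard_le_cntM {m : ℕ} {s : Set Cd} (h : ∀ v ∈ s, m.testBit v.1 = true) : s.ncard ≤ cntM 12 m := by
  classical
  rw [Set.ncard_eq_toFinset_card' s, ← Finset.card_image_of_injective s.toFinset Fin.val_injective]
  refine card_le_cntM 12 m _ fun v hv => ?_
  obtain ⟨w, hw, rfl⟩ := Finset.mem_image.1 hv
  exact ⟨w.2, h w (Set.mem_toFinset.1 hw)⟩

/-- The fixed space of the distinguished subgroup. -/
def syV : Set Cd := {v | syWm.testBit v.1 = true}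

theorem mem_syVl {v : Cd} (hv : v ∈ syV) : v.1 ∈ syWl := by
  rw [syWl, List.mem_filter, List.mem_range]
  exact ⟨v.2, hv⟩

theorem syV_xo {a b : Cd} (ha : a ∈ syV) (hb : b ∈ syV) : xo a b ∈ syV :=
  List.all_eq_true.1 (List.all_eq_true.1 sy_W_add _ (mem_syVl ha)) _ (mem_syVl hb)

theorem syV_zero : (0 : Cd) ∈ syV := sy_W_iso.2.1

theorem syV_q {a : Cd} (ha : a ∈ syV) : qN a.1 = 0 := by
  simpa using List.all_eq_true.1 sy_W_iso.1 _ (mem_syVl ha)

theorem syV_ncard : syV.ncard = 64 := by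
  classical
  have e : (fun v : Cd => v.1) '' syV = ↑syWl.toFinset := by
    ext n
    simp only [Set.mem_image, List.coe_toFinset, Set.mem_ofPred_eq]
    constructor
    · rintro ⟨v, hv, rfl⟩; exact mem_syVl hv
    · intro hn
      rw [syWl, List.mem_filter, List.mem_range] at hn
      exact ⟨⟨n, hn.1⟩, hn.2, rfl⟩
  rw [← Set.ncard_image_of_injective syV Fin.val_injective, e, Set.ncard_coe_finset,
    List.toFinset_card_of_nodup (show syWl.Nodup from List.Nodup.filter _ List.nodup_range), sy_W_iso.2.2.1]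

/-- The distinguished subgroup: the fixer of `syV` in `syS`. -/
def syA2 : Subgroup (Equiv.Perm Cd) := syS ⊓ ⨅ v ∈ syV, fixP v

theorem mem_syA2 {p : Equiv.Perm Cd} : p ∈ syA2 ↔ p ∈ syS ∧ ∀ v ∈ syV, p v = v := by
  simp [syA2, mem_iInf, mem_fixP]

/-- The `r`-th nontrivial element of `syA2`. -/
noncomputable def aP (r : ℕ) : Equiv.Perm Cd := eI (syA.getD r 0)

theorem syA_lt {r : ℕ} (hr : r < 15) : syA.getD r 0 < 71 ∧ syA.getD r 0 ∈ syA := by
  have hl : r < syA.length := sy_A_ok.2.2.1 ▸ hr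
  rw [List.getD_eq_getElem _ _ hl]
  exact ⟨of_decide_eq_true (List.all_eq_true.1 sy_A_ok.1 _ (List.getElem_mem hl)), List.getElem_mem hl⟩

theorem aP_mem {r : ℕ} (hr : r < 15) : aP r ∈ syA2 := by
  obtain ⟨h1, h2⟩ := syA_lt hr
  refine mem_syA2.2 ⟨(eI_spec h1).1, fun v hv => Fin.ext ?_⟩
  rw [aP, (eI_spec h1).2 v]
  exact beq_iff_eq.1 (List.all_eq_true.1 (List.all_eq_true.1 sy_A_fix _ h2) _ (mem_syVl hv))

theorem syB_lt : ∀ b ∈ syB, b < 4096 := by decide +kernel

theorem mem_syA2_cases {p : Equiv.Perm Cd} (hp : p ∈ syA2) : p = 1 ∨ ∃ r < 15, p = aP r := by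
  obtain ⟨hS, hfix⟩ := mem_syA2.1 hp
  obtain ⟨i, hi, rfl⟩ := mem_syS_iff.1 hS
  rcases eq_or_ne i 0 with rfl | h0
  · exact Or.inl eP_zero
  have h := List.all_eq_true.1 sy_fixer i (List.mem_range.2 hi)
  simp only [beq_iff_eq, h0, Bool.or_eq_true, false_or, List.any_eq_true, bne_iff_ne, ne_eq] at h
  rcases h with ⟨a, ha, hai⟩ | ⟨b, hb, hbne⟩
  · obtain ⟨r, hr, hra⟩ := List.getElem_of_mem ha
    refine Or.inr ⟨r, sy_A_ok.2.2.1 ▸ hr, ?_⟩
    rw [aP, List.getD_eq_getElem _ _ hr, hra, eI, hai]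
  · have := congrArg Fin.val (hfix ⟨b, syB_lt b hb⟩ (List.all_eq_true.1 sy_W_iso.2.2.2 b hb))
    rw [(eP_spec hi).2] at this
    exact absurd this hbne

theorem syA2_sq {p : Equiv.Perm Cd} (hp : p ∈ syA2) : p * p = 1 := by
  rcases mem_syA2_cases hp with rfl | ⟨r, hr, rfl⟩
  · exact mul_one 1
  obtain ⟨h1, h2⟩ := syA_lt hr
  have := List.all_eq_true.1 sy_A_sq _ h2
  rw [beq_iff_eq] at this
  exact ((eI_spec h1).2.mul (eI_spec h1).2).eq (this ▸ permOf_one)

theorem syA_idx : (syA.map fun a => syInv.getD a 0).Nodup ∧ 0 ∉ (syA.map fun a => syInv.getD a 0) := by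
  decide +kernel

theorem aP_ne_one {r : ℕ} (hr : r < 15) : aP r ≠ 1 := by
  intro h
  obtain ⟨h1, h2⟩ := syA_lt hr
  refine syA_idx.2 (List.mem_map.2 ⟨_, h2, ?_⟩)
  exact eP_inj (sy_len.2.2 ⟨_, h1⟩) (by norm_num) (h.trans eP_zero.symm)

theorem aP_inj {r r' : ℕ} (hr : r < 15) (hr' : r' < 15) (h : aP r = aP r') : r = r' := by
  have hl : r < syA.length := sy_A_ok.2.2.1 ▸ hr
  have hl' : r' < syA.length := sy_A_ok.2.2.1 ▸ hr'
  have e := eP_inj (sy_len.2.2 ⟨_, (syA_lt hr).1⟩) (sy_len.2.2 ⟨_, (syA_lt hr').1⟩) h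
  simp only [List.getD_eq_getElem _ _ hl, List.getD_eq_getElem _ _ hl'] at e
  refine (syA_idx.1.getElem_inj_iff (i := r) (j := r') (hi := by simpa using hl) (hj := by simpa using hl')).1 ?_
  simpa using e

theorem card_syA2 : Nat.card syA2 = 16 := by
  classical
  have e : (syA2 : Set (Equiv.Perm Cd)) = ↑(insert 1 ((Finset.range 15).image aP)) := by
    ext p
    simp only [Finset.coe_insert, Finset.coe_image, Finset.coe_range, Set.mem_insert_iff, Set.mem_image,
      Set.mem_Iio, SetLike.mem_coe]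
    constructor
    · intro hp
      rcases mem_syA2_cases hp with h | ⟨r, hr, rfl⟩
      exacts [Or.inl h, Or.inr ⟨r, hr, rfl⟩]
    · rintro (rfl | ⟨r, hr, rfl⟩)
      exacts [syA2.one_mem, aP_mem hr]
  rw [SetLike.coe_sort_coe syA2 |>.symm, Nat.card_coe_set_eq, e, Set.ncard_coe_finset, Finset.card_insert_of_notMem,
    Finset.card_image_of_injOn, Finset.card_range]
  · exact fun a ha b hb h => aP_inj (Finset.mem_range.1 ha) (Finset.mem_range.1 hb) h
  · rintro h
    obtain ⟨r, hr, he⟩ := Finset.mem_image.1 h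
    exact aP_ne_one (Finset.mem_range.1 hr) he

/-- The codes fixed by a subgroup. -/
def fixSet (P : Subgroup (Equiv.Perm Cd)) : Set Cd := {v | ∀ p ∈ P, p v = v}

theorem fixSet_syA2 : fixSet syA2 = syV := by
  refine Set.Subset.antisymm (fun v hv => ?_) (fun v hv p hp => (mem_syA2.1 hp).2 v hv)
  have h := forall_cd sy_A_joint v
  rw [Bool.or_eq_true] at h
  refine h.resolve_right fun h' => ?_
  obtain ⟨a, ha, hne⟩ := List.any_eq_true.1 h'
  obtain ⟨r, hr, hra⟩ := List.getElem_of_mem ha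
  have hr' : r < 15 := sy_A_ok.2.2.1 ▸ hr
  have hv' := congrArg Fin.val (hv _ (aP_mem hr'))
  rw [aP, (eI_spec (syA_lt hr').1).2, List.getD_eq_getElem _ _ hr, hra] at hv'
  exact bne_iff_ne.1 hne hv'

theorem sy_mx_lt : syMx.all (fun x => decide (x.1 < 2 ^ 71)) = true := by decide +kernel

theorem syAm_iff : (List.range 71).all (fun i => syAm.testBit i == syA.contains i) = true := by decide +kernel

/-- An elementary subgroup of order at least 16 is distinguished or fixes at most 16 codes. -/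
theorem elementary_cases {P : Subgroup (Equiv.Perm Cd)} (hP : P ≤ syS) (hsq : ∀ p ∈ P, p * p = 1)
    (hcard : 16 ≤ Nat.card P) : P = syA2 ∨ Nat.card P ≤ 32 ∧ (fixSet P).ncard ≤ 16 := by
  classical
  let K : Finset ℕ := (Finset.range 71).filter fun a => eI a ∈ P
  have hK : ∀ a ∈ K, a < 71 ∧ eI a ∈ P := fun a ha => by
    simpa [K, Finset.mem_filter] using ha
  have hcomm : ∀ p ∈ P, ∀ q ∈ P, p * q = q * p := fun p hp q hq => by
    have hpi : ∀ x ∈ P, x⁻¹ = x := fun x hx => inv_eq_of_mul_eq_one_right (hsq x hx)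
    calc p * q = (p * q)⁻¹ := (hpi _ (P.mul_mem hp hq)).symm
      _ = q * p := by rw [mul_inv_rev, hpi p hp, hpi q hq]
  obtain ⟨x, hx, hxK⟩ := syCover_spec 80 _ sy_cover_ok K
    (fun a ha => by rw [Nat.testBit_two_pow_sub_one]; exact decide_eq_true (hK a ha).1)
    (fun a ha b hb => eI_comm_bit (hK a ha).1 (hK b hb).1 (hcomm _ (hK a ha).2 _ (hK b hb).2))
  have hsub : (P : Set (Equiv.Perm Cd)) ⊆ ↑(insert 1 (K.image eI)) := fun p hp => by
    rcases eq_or_ne p 1 with rfl | h1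
    · simp
    obtain ⟨a, ha, rfl⟩ := eq_eI (hP hp) (hsq p hp) h1
    exact Finset.mem_coe.2 (Finset.mem_insert_of_mem (Finset.mem_image_of_mem _ (by simp [K, ha]; exact hp)))
  have hcle : Nat.card P ≤ K.card + 1 := by
    rw [← SetLike.coe_sort_coe P, Nat.card_coe_set_eq]
    refine (Set.ncard_le_ncard hsub (Finset.finite_toSet _)).trans ?_
    rw [Set.ncard_coe_finset]
    exact (Finset.card_insert_le _ _).trans (Nat.succ_le_succ Finset.card_image_le)
  have hx' := List.all_eq_true.1 sy_mx_ok x hx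
  simp only [Bool.and_eq_true, decide_eq_true_eq, List.all_eq_true, Bool.or_eq_true, beq_iff_eq] at hx'
  obtain ⟨⟨⟨h31, h15⟩, hpair⟩, hrest⟩ := hx'
  have hbit : ∀ i, x.1.testBit i = true → i < 71 := fun i hi => by
    by_contra hge
    have hlt : x.1 < 2 ^ i := lt_of_lt_of_le (of_decide_eq_true (List.all_eq_true.1 sy_mx_lt x hx))
      (Nat.pow_le_pow_right (by norm_num) (by omega))
    rw [Nat.testBit_lt_two_pow hlt] at hi
    simp at hi
  have hK31 : K.card ≤ 31 := (card_le_cntM 7 x.1 K fun a ha =>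
    ⟨lt_of_lt_of_le (hK a ha).1 (by norm_num), hxK a ha⟩).trans h31
  have hfin : (∃ m, cntM 12 m ≤ 16 ∧ ∀ v ∈ fixSet P, m.testBit v.1 = true) →
      Nat.card P ≤ 32 ∧ (fixSet P).ncard ≤ 16 := fun ⟨m, hm, hv⟩ =>
    ⟨by omega, (ncard_le_cntM hv).trans hm⟩
  by_cases hD : ∃ a ∈ K, x.2.1.testBit a = true
  · obtain ⟨a, ha, haD⟩ := hD
    obtain ⟨b, hb, hne⟩ := Finset.exists_mem_ne (show 1 < K.card by omega) a
    right
    have := hpair a (by simp [syMem, (hK a ha).1, haD]) b (by simp [syMem, (hK b hb).1, hxK b hb])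
    rcases this with h | h
    · exact absurd h.symm hne
    refine hfin ⟨_, h, fun v hv => ?_⟩
    rw [Nat.testBit_and, syFix_bit (hK a ha).1 (hv _ (hK a ha).2), syFix_bit (hK b hb).1 (hv _ (hK b hb).2)]
    rfl
  push Not at hD
  generalize hRdef : x.1 &&& (x.1 ^^^ x.2.1) = R at h15 hrest
  have hKR : ∀ a ∈ K, R.testBit a = true := fun a ha => by
    rw [← hRdef, Nat.testBit_and, Nat.testBit_xor, hxK a ha, Bool.eq_false_iff.2 (hD a ha)]
    rfl
  let RF : Finset ℕ := (Finset.range 71).filter fun i => R.testBit i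
  have hKRF : K = RF := by
    refine Finset.eq_of_subset_of_card_le (fun a ha => by simp [RF, (hK a ha).1, hKR a ha]) ?_
    have := card_le_cntM 7 R RF (fun a ha => by
      simp only [RF, Finset.mem_filter, Finset.mem_range] at ha
      exact ⟨lt_of_lt_of_le ha.1 (by norm_num), ha.2⟩)
    omega
  have hRP : ∀ i, R.testBit i = true → i < 71 ∧ eI i ∈ P := fun i hi => by
    have hi' : x.1.testBit i = true := by
      rw [← hRdef, Nat.testBit_and, Bool.and_eq_true] at hi
      exact hi.1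
    exact hK i (by rw [hKRF]; simp [RF, hbit i hi', hi])
  rcases hrest with hA | ⟨hc, hj⟩
  · left
    have hle : P ≤ syA2 := fun p hp => by
      rcases eq_or_ne p 1 with rfl | h1
      · exact one_mem _
      obtain ⟨a, ha, rfl⟩ := eq_eI (hP hp) (hsq p hp) h1
      have : syA.contains a = true := by
        rw [← beq_iff_eq.1 (List.all_eq_true.1 syAm_iff a (List.mem_range.2 ha)), ← hA]
        exact hKR a (by simp [K, ha]; exact hp)
      obtain ⟨r, hr, hra⟩ := List.getElem_of_mem (List.contains_iff_mem.1 this)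
      have := aP_mem (r := r) (sy_A_ok.2.2.1 ▸ hr)
      rwa [aP, List.getD_eq_getElem _ _ hr, hra] at this
    exact Subgroup.eq_of_le_of_card_ge hle (card_syA2.symm ▸ hcard)
  · right
    refine hfin ⟨_, hj, fun v hv => ?_⟩
    revert hc
    generalize x.2.2 = c
    intro hc
    induction c with
    | nil =>
      show (2 ^ 4096 - 1).testBit v.1 = true
      rw [Nat.testBit_two_pow_sub_one]; exact decide_eq_true v.2
    | cons i c ih =>
      show (syFix i &&& syJoint c).testBit v.1 = true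
      obtain ⟨h71, hiP⟩ := hRP i (hc i (List.mem_cons_self ..))
      rw [Nat.testBit_and, syFix_bit h71 (hv _ hiP), ih fun j hj => hc j (List.mem_cons_of_mem _ hj)]
      rfl

/-- The normalising elements. -/
def syU' (t : Fin 2) : Equiv.Perm Cd := wordP (syU.getD t.1 [])

theorem syU_even : ∀ t : Fin 2, (syU.getD t.1 []).length % 2 = 0 := by decide +kernel

theorem syU_mem {I : Img} (hI : I.Good) (t : Fin 2) : syU' t ∈ I.H :=
  wordP_mem hI _ (Nat.even_iff.2 (syU_even t))

/-- The next index. -/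
def syNext (t : Fin 2) (r : ℕ) : ℕ := (syP.getD t.1 []).getD r 0

theorem syU_conj (t : Fin 2) {r : ℕ} (hr : r < 15) :
    syNext t r < 15 ∧ syU' t * aP r * (syU' t)⁻¹ = aP (syNext t r) := by
  have h := List.all_eq_true.1 (sy_U_conj t) r (List.mem_range.2 hr)
  simp only [Bool.and_eq_true, decide_eq_true_eq, beq_iff_eq] at h
  refine ⟨h.1, ?_⟩
  rw [syU', wordP_inv, mul_assoc]
  exact PermOf.eq (h.2 ▸ (wordP_permOf _).mul (((eI_spec (syA_lt hr).1).2).mul (wordP_permOf _)))
    (eI_spec (syA_lt h.1).1).2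

theorem wC_lin_aP {r : ℕ} (hr : r < 15) (v : Cd) : aP r (wC v) = wC (aP r v) := by
  have h := List.all_eq_true.1 sy_A_lin _ (syA_lt hr).2
  rw [beq_iff_eq] at h
  refine Fin.ext ?_
  rw [aP, (eI_spec (syA_lt hr).1).2, wC_eq, wC_eq, (eI_spec (syA_lt hr).1).2, ← apL_cmpL, ← apL_cmpL, h]

theorem wC_syV {v : Cd} (hv : v ∈ syV) : wC v ∈ syV := by
  rw [← fixSet_syA2] at hv ⊢
  intro p hp
  rcases mem_syA2_cases hp with rfl | ⟨r, hr, rfl⟩
  · rfl
  · rw [wC_lin_aP hr, hv _ (aP_mem hr)]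

theorem wC_eq_self : ∀ v : Cd, wC v = v → v = 0 := fun v h => by
  have := forall_cd (f := fun v => decide (wN v = v → v = 0)) (by decide +kernel) v
  exact Fin.ext (of_decide_eq_true this (congrArg Fin.val h))

/-- A set of codes closed under addition that contains the basis contains the fixed space. -/
theorem syV_induction {T : Set Cd} (h0 : (0 : Cd) ∈ T) (hadd : ∀ a ∈ T, ∀ b ∈ T, xo a b ∈ T)
    (hB : ∀ (b : ℕ) (h : b < 4096), b ∈ syB → (⟨b, h⟩ : Cd) ∈ T) : syV ⊆ T := by
  intro v hv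
  have h := List.contains_iff_mem.1 (List.all_eq_true.1 sy_W_span _ (mem_syVl hv))
  suffices H : ∀ l : List ℕ, (∀ b ∈ l, b ∈ syB) →
      ∀ n ∈ l.foldr (fun b s => s ++ s.map (b ^^^ ·)) [0], ∃ hn : n < 4096, (⟨n, hn⟩ : Cd) ∈ T by
    obtain ⟨hn, hT⟩ := H syB (fun b hb => hb) v.1 h
    exact hT
  intro l
  induction l with
  | nil =>
    intro _ n hn
    rw [List.foldr_nil, List.mem_singleton] at hn
    subst hn
    exact ⟨by norm_num, h0⟩
  | cons b l ih =>
    intro hl n hn
    have hl' : ∀ c ∈ l, c ∈ syB := fun c hc => hl c (List.mem_cons_of_mem _ hc)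
    rw [List.foldr_cons, List.mem_append, List.mem_map] at hn
    rcases hn with hn | ⟨m, hm, rfl⟩
    · exact ih hl' n hn
    · obtain ⟨hm', hT⟩ := ih hl' m hm
      have hb := hl b (List.mem_cons_self ..)
      exact ⟨Nat.xor_lt_two_pow (n := 12) (syB_lt b hb) hm',
        hadd ⟨b, syB_lt b hb⟩ (hB b _ hb) _ hT⟩

theorem syV_perp {v : Cd} (h : ∀ b : Cd, b ∈ syV → qN (xo v b).1 = qN v.1) : v ∈ syV := by
  have hv := forall_cd sy_W_perp v
  rw [Bool.or_eq_true] at hv
  refine hv.resolve_right fun h' => ?_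
  obtain ⟨b, hb, hne⟩ := List.any_eq_true.1 h'
  exact bne_iff_ne.1 hne (h ⟨b, syB_lt b hb⟩ (List.all_eq_true.1 sy_W_iso.2.2.2 b hb))

theorem syU_syV (t : Fin 2) {v : Cd} (hv : v ∈ syV) : syU' t v ∈ syV ∧ (syU' t)⁻¹ v ∈ syV := by
  revert hv v
  suffices H : ∀ p : Equiv.Perm Cd, IsAdd p → (∀ (b : ℕ) (h : b < 4096), b ∈ syB → p ⟨b, h⟩ ∈ syV) →
      ∀ v ∈ syV, p v ∈ syV by
    intro v hv
    have hb := List.all_eq_true.1 (sy_U_W t)
    have hp := wordP_permOf (syU.getD t.1 [])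
    have hq : PermOf (wordL (syU.getD t.1 []).reverse) (syU' t)⁻¹ := by
      rw [syU', wordP_inv]; exact wordP_permOf _
    refine ⟨H _ (isAdd_apL hp) (fun b h hbB => ?_) v hv, H _ (isAdd_apL hq) (fun b h hbB => ?_) v hv⟩
    · show syWm.testBit (syU' t ⟨b, h⟩).1 = true
      rw [syU', hp]
      exact ((Bool.and_eq_true _ _).mp (hb b hbB)).1
    · show syWm.testBit ((syU' t)⁻¹ ⟨b, h⟩).1 = true
      rw [hq]
      exact ((Bool.and_eq_true _ _).mp (hb b hbB)).2
  intro p hadd hB v hv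
  exact syV_induction (T := {v | p v ∈ syV}) (by show p 0 ∈ syV; rw [hadd.zero]; exact syV_zero)
    (fun a ha b hb => by show p (xo a b) ∈ syV; rw [hadd]; exact syV_xo ha hb) hB hv

end Cfsg.Agent.LargeFischer
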