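import Cfsg.Agent.Lib.LargeFischer.TTransfer
import Cfsg.Agent.Lib.LargeFischer.TM22
import Cfsg.Agent.Lib.Transpos.QuasiFactor
import Cfsg.Agent.Lib.Components.Quasisimple

/-!
# The centraliser of a non-central involution in large Fischer type

`TPair.centralizer_t`: if `C(t) ∩ C(r)` is quasisimple with quotient `U₆(2)` by the four-group, then
`F*(C(t))` is quasisimple of index two, contains `t`, and `C(t)/<t>` is the automorphism group of `Fi22`.
-/

set_option autoImplicit false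
set_option linter.style.haveILetI false

namespace Cfsg.Agent.LargeFischer

open Subgroup Cfsg.Agent.LargeExtraspecial Loc

/-- A perfect group has trivial image in a commutative group. -/
theorem perfect_hom_eq_one {A B : Type*} [Group A] [CommGroup B] (h : Group.IsPerfect A) (f : A →* B) (a : A) :
    f a = 1 := by
  have h1 : a ∈ commutator A := ((Group.isPerfect_def).1 h).symm ▸ mem_top a
  exact MonoidHom.mem_ker.1 (Abelianization.commutator_subset_ker f h1)

/-- A perfect extension: a central element in the commutator subgroup with perfect quotient. -/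
theorem perfect_of_quotient {A B : Type*} [Group A] [Group B] (f : A →* B) (hf : Function.Surjective f)
    (hB : commutator B = ⊤) (hker : f.ker ≤ commutator A) : commutator A = ⊤ := by
  refine top_unique fun x _ => ?_
  have h : f x ∈ (commutator A).map f := by
    rw [_root_.commutator_def, Subgroup.map_commutator, map_top_of_surjective f hf, ← _root_.commutator_def, hB]
    exact mem_top _
  obtain ⟨y, hy, e⟩ := h
  have : y⁻¹ * x ∈ f.ker := by rw [MonoidHom.mem_ker, map_mul, map_inv, e, inv_mul_cancel]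
  simpa using mul_mem hy (hker this)

variable {G : Type*} [Group G] {z : G} {Q : Subgroup (Subgroup.centralizer ({z} : Set G))} [Q.Normal]
  [Finite G] {K : GoodCoord z Q} (F : LFacts K) (FQ : QFacts z Q) (P : TPair K)

namespace TPair

include F FQ

theorem centralizer_t
    (hE : Cfsg.IsQuasisimple ↥(Subgroup.centralizer ({P.t, P.r} : Set G)))
    (hU : ∃ (_ : ((Subgroup.closure ({P.t, P.r} : Set G)).subgroupOf
        (Subgroup.centralizer ({P.t, P.r} : Set G))).Normal) (Kf : Type) (_ : Field Kf) (_ : Fintype Kf),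
      Fintype.card Kf = 4 ∧ Nonempty (↥(Subgroup.centralizer ({P.t, P.r} : Set G)) ⧸
        (Subgroup.closure ({P.t, P.r} : Set G)).subgroupOf (Subgroup.centralizer ({P.t, P.r} : Set G)) ≃*
        Cfsg.PSU 6 Kf 2)) :
    ∃ N : Subgroup ↥(Subgroup.centralizer ({P.t} : Set G)),
      Cfsg.generalizedFittingSubgroup ↥(Subgroup.centralizer ({P.t} : Set G)) = N ∧
      Cfsg.IsQuasisimple ↥N ∧ N.index = 2 ∧
      (∃ htc : P.t ∈ Subgroup.centralizer ({P.t} : Set G), (⟨P.t, htc⟩ : ↥(Subgroup.centralizer ({P.t} : Set G))) ∈ N) ∧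
      (Subgroup.centralizer ({P.t, P.r} : Set G)).subgroupOf (Subgroup.centralizer ({P.t} : Set G)) ≤ N ∧
      ∀ [((Subgroup.zpowers P.t).subgroupOf (Subgroup.centralizer ({P.t} : Set G))).Normal],
        Nonempty (↥(Subgroup.centralizer ({P.t} : Set G)) ⧸
          (Subgroup.zpowers P.t).subgroupOf (Subgroup.centralizer ({P.t} : Set G)) ≃* MulAut Cfsg.Spor.Fi22) := by
  classical
  have hsign := P.exists_sign F FQ
  set C := Subgroup.centralizer ({P.t} : Set G) with hC
  set CE := Subgroup.centralizer ({P.t, P.r} : Set G) with hCEd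
  obtain ⟨hnE, Kf, iK, iKf, hK, ⟨eU⟩⟩ := hU
  obtain ⟨φ, σ, hσ, hσ2, hσz, hσr⟩ := hsign
  have memCE : ∀ {x : G}, x ∈ CE ↔ Commute x P.t ∧ Commute x P.r := by
    intro x
    rw [hCEd, mem_centralizer_iff]
    constructor
    · intro h
      exact ⟨(h _ (Or.inl rfl)).symm, (h _ (Or.inr rfl)).symm⟩
    · rintro ⟨h1, h2⟩ y (rfl | rfl)
      exacts [h1.eq.symm, h2.eq.symm]
  have memC : ∀ {x : G}, x ∈ C ↔ Commute x P.t := fun {x} => mem_centralizer_singleton_iff
  have hCEC : CE ≤ C := fun x hx => memC.2 (memCE.1 hx).1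
  have htr := P.comm F
  have hrr := P.rr
  have htt := P.tt
  have hrt : P.r * P.t * P.t = P.r := by rw [mul_assoc, htt, mul_one]
  -- the kernel of the sign
  set N := φ.ker with hN
  have hNi : N.index = 2 := by
    rw [hN, Subgroup.index_ker, show φ.range = ⊤ from top_unique fun y _ => ?_, Subgroup.card_top,
      Nat.card_eq_fintype_card, Fintype.card_units_int]
    rcases Int.units_eq_one_or y with rfl | rfl
    · exact one_mem _
    · exact ⟨σ, hσ⟩
  haveI : N.Normal := MonoidHom.normal_ker φ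
  let incl : ↥CE →* ↥C := Subgroup.inclusion hCEC
  have hinclN : ∀ x, incl x ∈ N := fun x => perfect_hom_eq_one hE.1 (φ.comp incl) x
  let iN : ↥CE →* ↥N := incl.codRestrict N hinclN
  have htE : P.t ∈ CE := memCE.2 ⟨Commute.refl _, htr⟩
  have hrE : P.r ∈ CE := memCE.2 ⟨htr.symm, Commute.refl _⟩
  let tN : ↥N := iN ⟨P.t, htE⟩
  let rN : ↥N := iN ⟨P.r, hrE⟩
  have vN : ∀ x : ↥CE, (((iN x : ↥N) : ↥C) : G) = (x : G) := fun _ => rfl
  have extN : ∀ {a b : ↥N}, ((a : ↥C) : G) = ((b : ↥C) : G) → a = b := fun h => Subtype.ext (Subtype.ext h)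
  have tcen : ∀ x : ↥N, x * tN = tN * x := fun x => extN (memC.1 (x : ↥C).2).eq
  let Z : Subgroup ↥N := Subgroup.zpowers tN
  haveI hZn : Z.Normal := ⟨fun a ha g => by
    obtain ⟨k, rfl⟩ := mem_zpowers_iff.1 ha
    rw [(Commute.zpow_right (tcen g) k).eq, mul_inv_cancel_right]
    exact ha⟩
  have memZ : ∀ {x : ↥N}, x ∈ Z ↔ ((x : ↥C) : G) = 1 ∨ ((x : ↥C) : G) = P.t := by
    intro x
    constructor
    · intro hx
      obtain ⟨k, rfl⟩ := mem_zpowers_iff.1 hx
      show P.t ^ k = 1 ∨ P.t ^ k = P.t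
      rcases Int.even_or_odd k with ⟨j, rfl⟩ | ⟨j, rfl⟩
      · left
        rw [← two_mul, zpow_mul, zpow_two, htt, one_zpow]
      · right
        rw [zpow_add, zpow_mul, zpow_two, htt, one_zpow, one_mul, zpow_one]
    · rintro (h | h)
      · rw [extN (a := x) (b := 1) h]; exact one_mem _
      · rw [extN (a := x) (b := tN) h]; exact mem_zpowers _
  let mk : ↥N →* ↥N ⧸ Z := QuotientGroup.mk' Z
  have mk_surj : Function.Surjective mk := QuotientGroup.mk'_surjective Z
  have mk_eq : ∀ {a b : ↥N}, mk a = mk b ↔ ((b : ↥C) : G) = ((a : ↥C) : G) ∨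
      ((b : ↥C) : G) = ((a : ↥C) : G) * P.t := by
    intro a b
    rw [show mk a = mk b ↔ a⁻¹ * b ∈ Z from QuotientGroup.eq, memZ]
    simp only [Subgroup.coe_mul, Subgroup.coe_inv, inv_mul_eq_iff_eq_mul, mul_one]
  set d : ↥N ⧸ Z := mk rN with hd
  have hrne : ∀ {e : G}, cq K e = 0 ∨ cq K e = tV → P.r ≠ e := by
    rintro e (h | h) rfl <;> rw [P.r_code] at h
    · exact tV_facts.2.2.2.2.2.2.2.2.1 h
    · exact tV_facts.2.2.2.2.2.2.2.2.2.1 h.symm
  have hd1 : d ≠ 1 := fun h => by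
    rw [hd, ← map_one mk, mk_eq] at h
    rcases h with h | h
    · exact hrne (Or.inl (cq_one K)) h.symm
    · have : P.r = P.t := by
        calc P.r = P.r * P.t * P.t := hrt.symm
          _ = 1 * P.t := by rw [show P.r * P.t = 1 from h.symm]
          _ = P.t := one_mul _
      exact hrne (Or.inr P.t_code) this
  have hd2 : orderOf d = 2 := by
    refine orderOf_eq_prime (hp := ⟨Nat.prime_two⟩) ?_ hd1
    rw [pow_two, hd, ← map_mul, show rN * rN = 1 from extN hrr, map_one]
  -- the centraliser of `d`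
  have hσC : Commute (σ : G) P.t := memC.1 σ.2
  have hcd : ∀ x : ↥N, Commute (mk x) d → ((x : ↥C) : G) ∈ CE := by
    intro x hx
    have hxt : Commute ((x : ↥C) : G) P.t := memC.1 (x : ↥C).2
    refine memCE.2 ⟨hxt, ?_⟩
    have e : mk (x * rN) = mk (rN * x) := by rw [map_mul, map_mul]; exact hx.eq
    rcases mk_eq.1 e with e | e
    · exact e.symm
    exfalso
    have e' : P.r * ((x : ↥C) : G) = ((x : ↥C) : G) * P.r * P.t := e
    have hxr : ((x : ↥C) : G) * P.r * ((x : ↥C) : G)⁻¹ = P.r * P.t := by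
      calc ((x : ↥C) : G) * P.r * ((x : ↥C) : G)⁻¹
          = ((x : ↥C) : G) * P.r * P.t * (((x : ↥C) : G) * P.t)⁻¹ := by group
        _ = P.r * ((x : ↥C) : G) * (((x : ↥C) : G) * P.t)⁻¹ := by rw [e']
        _ = P.r * ((x : ↥C) : G) * (P.t * ((x : ↥C) : G))⁻¹ := by rw [hxt.eq]
        _ = P.r * P.t⁻¹ := by group
        _ = _ := by rw [inv_eq_of_mul_eq_one_left htt]
    have hm : ((σ * x : ↥C) : G) ∈ CE := memCE.2 ⟨hσC.mul_left hxt, mul_inv_eq_iff_eq_mul.1 (by
      calc (σ : G) * ((x : ↥C) : G) * P.r * ((σ : G) * ((x : ↥C) : G))⁻¹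
          = (σ : G) * (((x : ↥C) : G) * P.r * ((x : ↥C) : G)⁻¹) * (σ : G)⁻¹ := by group
        _ = ((σ : G) * P.r * (σ : G)⁻¹) * ((σ : G) * P.t * (σ : G)⁻¹) := by rw [hxr]; group
        _ = P.r * P.t * P.t := by rw [hσr, hσC.eq, mul_inv_cancel_right]
        _ = P.r := hrt)⟩
    have h1 : φ (σ * x) = 1 := hinclN ⟨_, hm⟩
    rw [map_mul, hσ, show φ x = 1 from x.2, mul_one] at h1
    exact absurd h1 (by decide)
  set Cd := Subgroup.centralizer ({d} : Set (↥N ⧸ Z)) with hCd
  have hdc : ∀ x : ↥CE, mk (iN x) ∈ Cd := fun x => by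
    rw [hCd, mem_centralizer_singleton_iff, hd, ← map_mul, ← map_mul]
    exact congrArg mk (extN (memCE.1 x.2).2.eq)
  let π : ↥CE →* ↥Cd := (mk.comp iN).codRestrict Cd hdc
  have hπ : Function.Surjective π := fun y => by
    obtain ⟨x, hx⟩ := mk_surj (y : ↥N ⧸ Z)
    refine ⟨⟨_, hcd x ?_⟩, Subtype.ext ?_⟩
    · rw [hx]; exact mem_centralizer_singleton_iff.1 y.2
    · exact (congrArg mk (extN rfl)).trans hx
  haveI : Nontrivial ↥Cd := ⟨⟨⟨d, mem_centralizer_singleton_iff.2 rfl⟩, 1, fun h => hd1 (congrArg Subtype.val h)⟩⟩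
  have hqd : Cfsg.IsQuasisimple ↥Cd := Components.IsQuasisimple.of_surjective hE π hπ
  haveI hZd : ((Subgroup.zpowers d).subgroupOf Cd).Normal := ⟨fun a ha g => by
    have hc : Commute (g : ↥N ⧸ Z) d := mem_centralizer_singleton_iff.1 g.2
    obtain ⟨k, hk⟩ := mem_zpowers_iff.1 (mem_subgroupOf.1 ha)
    have e : g * a = a * g := Subtype.ext (by
      show (g : ↥N ⧸ Z) * a = a * g
      rw [← hk, (hc.zpow_right k).eq])
    rwa [e, mul_inv_cancel_right]⟩
  let Ψ : ↥CE →* ↥Cd ⧸ (Subgroup.zpowers d).subgroupOf Cd := (QuotientGroup.mk' _).comp π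
  have hΨs : Function.Surjective Ψ := (QuotientGroup.mk'_surjective _).comp hπ
  have hΨk : Ψ.ker = (Subgroup.closure ({P.t, P.r} : Set G)).subgroupOf CE := by
    ext x
    rw [MonoidHom.mem_ker, mem_subgroupOf]
    constructor
    · intro hx
      obtain ⟨k, hk⟩ := mem_zpowers_iff.1 (mem_subgroupOf.1 ((QuotientGroup.eq_one_iff _).1 hx))
      have hk' : mk (iN x) = mk (rN ^ k) := by rw [map_zpow]; exact hk.symm
      have hr : P.r ^ k ∈ Subgroup.closure ({P.t, P.r} : Set G) := Subgroup.zpow_mem _ (Subgroup.subset_closure (by simp)) k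
      have htc : P.t ∈ Subgroup.closure ({P.t, P.r} : Set G) := Subgroup.subset_closure (by simp)
      rcases mk_eq.1 hk' with h | h
      · rw [show (x : G) = P.r ^ k from h.symm]; exact hr
      · rw [show (x : G) = P.r ^ k * P.t from by
          rw [show P.r ^ k = (x : G) * P.t from h, mul_assoc, htt, mul_one]]
        exact mul_mem hr htc
    · intro hx
      have hle : Subgroup.closure ({P.t, P.r} : Set G) ≤ Ψ.ker.map CE.subtype := by
        refine (Subgroup.closure_le _).2 ?_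
        rintro y (rfl | rfl)
        · refine ⟨⟨_, htE⟩, (QuotientGroup.eq_one_iff _).2 (mem_subgroupOf.2 ?_), rfl⟩
          show mk tN ∈ Subgroup.zpowers d
          rw [show mk tN = 1 from (QuotientGroup.eq_one_iff _).2 (mem_zpowers _)]
          exact one_mem _
        · exact ⟨⟨_, hrE⟩, (QuotientGroup.eq_one_iff _).2 (mem_subgroupOf.2 (mem_zpowers _)), rfl⟩
      obtain ⟨y, hy, e⟩ := hle hx
      rwa [← Subtype.ext (p := (· ∈ CE)) (a1 := y) (a2 := x) e]
  let eU' := ((QuotientGroup.quotientKerEquivOfSurjective Ψ hΨs).symm.trans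
    (QuotientGroup.quotientMulEquivOfEq hΨk)).trans eU
  -- a second member commuting with `d`
  have hnwc : ∃ g : ↥N ⧸ Z, g * d * g⁻¹ ∈ Cd ∧ g * d * g⁻¹ ≠ d := by
    have hr1 : P.r ≠ 1 := hrne (Or.inl (cq_one K))
    have hrz : P.r ≠ z := hrne (Or.inl (cq_z K F))
    have hrzt : P.r ≠ z * P.t := hrne (Or.inr (by
      rw [cq_mul K (hub K F).mem P.t_mem, cq_z K F, P.t_code, xo_comm, xo_zero]))
    obtain ⟨q, hq, hqt, hqr⟩ := exists_commute_not (hub K F) P.t_mem P.r_mem htt hr1 hrz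
      (hrne (Or.inr P.t_code)) hrzt
    have zt : Commute z P.t := P.tz.symm
    obtain ⟨g, hg, hgr⟩ : ∃ g : ↥N, (g : ↥C) = g ∧
        (((g : ↥C) : G) * P.r * ((g : ↥C) : G)⁻¹ = P.r * z ∨
          ((g : ↥C) : G) * P.r * ((g : ↥C) : G)⁻¹ = P.r * z * P.t) := by
      rcases Int.units_eq_one_or (φ ⟨q, memC.2 hqt⟩) with h | h
      · exact ⟨⟨⟨q, memC.2 hqt⟩, h⟩, rfl, Or.inl hqr⟩
      · refine ⟨⟨σ * ⟨q, memC.2 hqt⟩, by rw [MonoidHom.mem_ker, map_mul, hσ, h]; rfl⟩, rfl, Or.inr ?_⟩
        show (σ : G) * q * P.r * ((σ : G) * q)⁻¹ = P.r * z * P.t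
        calc (σ : G) * q * P.r * ((σ : G) * q)⁻¹ = (σ : G) * (q * P.r * q⁻¹) * (σ : G)⁻¹ := by group
          _ = ((σ : G) * P.r * (σ : G)⁻¹) * ((σ : G) * z * (σ : G)⁻¹) := by rw [hqr]; group
          _ = P.r * P.t * z := by rw [hσr, hσz.eq, mul_inv_cancel_right]
          _ = _ := by rw [mul_assoc, zt.eq.symm, ← mul_assoc]
    refine ⟨mk g, ?_, ?_⟩
    · rw [hCd, mem_centralizer_singleton_iff, hd, ← map_inv, ← map_mul, ← map_mul, ← map_mul, ← map_mul]
      refine congrArg mk (extN ?_)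
      show ((g : ↥C) : G) * P.r * ((g : ↥C) : G)⁻¹ * P.r = P.r * (((g : ↥C) : G) * P.r * ((g : ↥C) : G)⁻¹)
      have hrz' : Commute P.r z := P.rz
      rcases hgr with e | e <;> rw [e]
      · exact (((Commute.refl P.r).mul_right hrz').eq).symm
      · exact ((((Commute.refl P.r).mul_right hrz').mul_right htr.symm).eq).symm
    · rw [hd, ← map_inv, ← map_mul, ← map_mul]
      intro h
      have h' := mk_eq.1 h.symm
      change ((g : ↥C) : G) * P.r * ((g : ↥C) : G)⁻¹ = P.r ∨
        ((g : ↥C) : G) * P.r * ((g : ↥C) : G)⁻¹ = P.r * P.t at h'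
      have hz1 := (hub K F).ne_one
      have hzt : z ≠ P.t := Ne.symm (P.t_ne_z F)
      rcases hgr with e | e <;> rw [e] at h' <;> rcases h' with h' | h'
      · exact hz1 (mul_eq_left.1 h')
      · exact hzt (mul_left_cancel h')
      · rw [mul_assoc] at h'
        exact hzt (by
          calc z = z * P.t * P.t := by rw [mul_assoc, htt, mul_one]
            _ = P.t := by rw [mul_eq_left.1 h', one_mul])
      · exact hz1 (mul_eq_left.1 (mul_right_cancel h'))
  obtain ⟨hsimp, hncomm, ⟨eF⟩, hfin, hcardA⟩ := facts_of_hyp d hd2 hqd Kf hK eU' hnwc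
  -- the centre of `N`
  haveI := hsimp
  have hcen : Subgroup.center ↥N = Z := by
    refine le_antisymm (fun x hx => ?_) (zpowers_le.2 (mem_center_iff.2 fun y => tcen y))
    have hc : mk x ∈ Subgroup.center (↥N ⧸ Z) := mem_center_iff.2 fun q => by
      obtain ⟨y, rfl⟩ := mk_surj q
      rw [← map_mul, ← map_mul, mem_center_iff.1 hx y]
    rcases (inferInstance : (Subgroup.center (↥N ⧸ Z)).Normal).eq_bot_or_eq_top with h | h
    · rw [h, mem_bot] at hc
      exact (QuotientGroup.eq_one_iff x).1 hc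
    · exact absurd ⟨⟨fun a b => (mem_center_iff.1 (h ▸ mem_top a : a ∈ Subgroup.center (↥N ⧸ Z)) b).symm⟩⟩
        hncomm
  have hperfX : commutator (↥N ⧸ Z) = ⊤ := by
    rcases (inferInstance : (commutator (↥N ⧸ Z)).Normal).eq_bot_or_eq_top with h | h
    · exfalso
      rw [commutator_eq_bot_iff_center_eq_top] at h
      exact hncomm ⟨⟨fun a b => (mem_center_iff.1 (h ▸ mem_top a : a ∈ Subgroup.center (↥N ⧸ Z)) b).symm⟩⟩
    · exact h
  have hperf : commutator ↥N = ⊤ := by
    refine perfect_of_quotient mk mk_surj hperfX ?_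
    rw [QuotientGroup.ker_mk']
    refine zpowers_le.2 ?_
    have h1 : (commutator ↥CE).map iN ≤ commutator ↥N := by
      rw [_root_.commutator_def, Subgroup.map_commutator, _root_.commutator_def]
      exact commutator_mono le_top le_top
    exact h1 ⟨⟨P.t, htE⟩, by rw [(Group.isPerfect_def).1 hE.1]; exact mem_top _, rfl⟩
  let isoN : ↥N ⧸ Subgroup.center ↥N ≃* Cfsg.Spor.Fi22 := (QuotientGroup.quotientMulEquivOfEq hcen).trans eF
  have hNq : Cfsg.IsQuasisimple ↥N := ⟨(Group.isPerfect_def).2 hperf,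
    MulEquiv.isSimpleGroup (QuotientGroup.quotientMulEquivOfEq hcen)⟩
  have htc : P.t ∈ C := memC.2 (Commute.refl _)
  have hCEN : CE.subgroupOf C ≤ N := fun x hx => hinclN ⟨x, hx⟩
  have hcent : ∀ g : ↥C, (∀ n ∈ N, Commute g n) → g ∈ N := fun g hg =>
    hCEN (mem_subgroupOf.2 (memCE.2 ⟨memC.1 g.2, congrArg Subtype.val (hg _ rN.2).eq⟩))
  refine ⟨N, Transpos.genFitting_eq_of_quasisimple hNq hcent, hNq, hNi, ⟨htc, tN.2⟩, hCEN, ?_⟩
  intro hn
  let ψ : ↥C →* MulAut Cfsg.Spor.Fi22 :=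
    (MulAut.congr isoN).toMonoidHom.comp (Transpos.quasiAct (N := N))
  have hψ : ψ.ker = (Subgroup.zpowers P.t).subgroupOf C := by
    ext g
    rw [MonoidHom.mem_ker, show ψ g = 1 ↔ Transpos.quasiAct (N := N) g = 1 from (MulAut.congr isoN).map_eq_one_iff,
      Transpos.quasiAct_eq_one_iff hNq hcent, hcen, mem_subgroupOf]
    rw [show Subgroup.map N.subtype Z = Subgroup.zpowers (tN : ↥C) from MonoidHom.map_zpowers _ _]
    constructor
    · intro h
      obtain ⟨k, rfl⟩ := mem_zpowers_iff.1 h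
      exact zpow_mem (mem_zpowers P.t) k
    · intro h
      obtain ⟨k, hk⟩ := mem_zpowers_iff.1 h
      exact mem_zpowers_iff.2 ⟨k, Subtype.ext hk⟩
  haveI := hfin
  haveI : Finite (MulAut Cfsg.Spor.Fi22) := Finite.of_equiv _ (MulAut.congr eF).toEquiv
  have hψs : Function.Surjective ψ := by
    refine MonoidHom.range_eq_top.1 (Subgroup.eq_top_of_le_card _ ?_)
    have h1 : Nat.card ↥C = 2 * Nat.card ↥N := by rw [← Subgroup.card_mul_index N, hNi, mul_comm]
    have h2 : Nat.card ↥N = 2 * Nat.card (↥N ⧸ Z) := by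
      rw [Subgroup.card_eq_card_quotient_mul_card_subgroup Z, show Nat.card ↥Z = 2 from ?_, mul_comm]
      rw [Nat.card_zpowers]
      refine orderOf_eq_prime (hp := ⟨Nat.prime_two⟩) (by rw [pow_two]; exact extN htt) fun h => ?_
      exact P.t_ne_one (congrArg (fun x : ↥N => ((x : ↥C) : G)) h)
    have h3 : Nat.card ψ.ker * Nat.card ψ.range = Nat.card ↥C := by
      rw [← Subgroup.index_ker]; exact Subgroup.card_mul_index _
    have h4 : Nat.card ψ.ker = 2 := by
      rw [hψ, Nat.card_congr (subgroupOfEquivOfLe (zpowers_le.2 htc)).toEquiv, Nat.card_zpowers]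
      exact orderOf_eq_prime (hp := ⟨Nat.prime_two⟩) (by rw [pow_two]; exact htt) P.t_ne_one
    rw [Nat.card_congr (MulAut.congr eF).toEquiv] at hcardA
    rw [h4] at h3
    omega
  exact ⟨(QuotientGroup.quotientMulEquivOfEq hψ.symm).trans
    (QuotientGroup.quotientKerEquivOfSurjective ψ hψs)⟩

end TPair

end Cfsg.Agent.LargeFischer
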