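import Cfsg.Agent.Lib.LargeFischer.TCentral
import Cfsg.Agent.Lib.LargeFischer.GoodExists
import Cfsg.Agent.Lib.LargeFischer.LocalFacts
import Cfsg.Agent.Lib.LargeFischer.CentRecog

/-!
# The centraliser of an involution of `Q` not conjugate to `z`

`centralizer_small`: the conclusion of the centraliser theorem, from the recognition of `U₆(2)`
(`CentE.U6Recognition`, the statement S3230).
-/

set_option autoImplicit false
set_option linter.style.haveILetI false

namespace Cfsg.Agent.LargeFischer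

open Subgroup Loc

universe u

variable {G : Type u} [Group G] [Finite G] {z : G} {Q : Subgroup (Subgroup.centralizer ({z} : Set G))}
  [Q.Normal]

/-- Coordinates moved by an element of the image. -/
noncomputable def GoodCoord.twisted (K : GoodCoord z Q) (p : Equiv.Perm Cd) (hp : p ∈ K.I.H) :
    GoodCoord z Q :=
  { toCoord := K.toCoord.twist p hp, good := K.good }

omit [Finite G] in
theorem GoodCoord.cq_twisted (K : GoodCoord z Q) (p : Equiv.Perm Cd) (hp : p ∈ K.I.H) {a : G}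
    (ha : a ∈ qG Q) : cq (K.twisted p hp) a = p (cq K a) := by
  obtain ⟨q, rfl⟩ := mem_qG ha
  rw [cq_coe, cq_coe]
  rfl

/-- `M` is transitive on the small codes. -/
theorem orbM_small (K : GoodCoord z Q) {v : Cd} (hv : inO 0 v.1 = true) : ∃ p ∈ K.I.M, p 5 = v :=
  orb_of_forest (fun k => K.good.gM_mem k) gM_val (r := 5) forO_ok hv

theorem centralizer_small (hrec : CentE.U6Recognition.{u}) (hF : Cfsg.IsOfLargeFischerTypeAt z Q) (t : G)
    (htQ : t ∈ qG Q) (ht2 : orderOf t = 2) (ht : ¬ IsConj z t) :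
    ∃ N : Subgroup ↥(Subgroup.centralizer ({t} : Set G)),
      Cfsg.generalizedFittingSubgroup ↥(Subgroup.centralizer ({t} : Set G)) = N ∧
      Cfsg.IsQuasisimple ↥N ∧ N.index = 2 ∧
      (∃ htc : t ∈ Subgroup.centralizer ({t} : Set G),
        (⟨t, htc⟩ : ↥(Subgroup.centralizer ({t} : Set G))) ∈ N) ∧
      ∀ [((Subgroup.zpowers t).subgroupOf (Subgroup.centralizer ({t} : Set G))).Normal],
        Nonempty (↥(Subgroup.centralizer ({t} : Set G)) ⧸
          (Subgroup.zpowers t).subgroupOf (Subgroup.centralizer ({t} : Set G)) ≃* MulAut Cfsg.Spor.Fi22) := by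
  obtain ⟨K0⟩ := exists_goodCoord hF
  have F0 := lfacts_of_type hF K0
  -- the code of `t` is small
  obtain ⟨a, rfl⟩ := mem_qG htQ
  have ha1 : ((a : Subgroup.centralizer ({z} : Set G)) : G) ≠ 1 := fun e => by
    rw [e, orderOf_one] at ht2; norm_num at ht2
  have hq : qN (K0.co a).1 = 0 := (K0.co_sq a).1 (by
    rw [← pow_two, ← ht2]; exact pow_orderOf_eq_one _)
  have h0 : K0.co a ≠ 0 := fun e => by
    rcases (K0.co_eq_zero a).1 e with e' | e'
    · exact ha1 e'
    · exact ht (by rw [e'])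
  have hO : inO 0 (cq K0 ((a : Subgroup.centralizer ({z} : Set G)) : G)).1 = true := by
    rw [cq_coe]
    by_contra h
    exact ht ((F0.conjQ a hq h0).2 (Bool.eq_false_iff.2 h))
  obtain ⟨p, hp, hp5⟩ := orbM_small K0 hO
  obtain ⟨q, hqM, hq5⟩ := orbM_small K0 (v := tV) tV_facts.2.2.2.2.2.1
  have hpq : q * p⁻¹ ∈ K0.I.H := K0.I.hMH (mul_mem hqM (inv_mem hp))
  set K := K0.twisted (q * p⁻¹) hpq with hK
  have F := lfacts_of_type hF K
  have et : cq K ((a : Subgroup.centralizer ({z} : Set G)) : G) = tV := by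
    rw [hK, GoodCoord.cq_twisted K0 _ hpq (coe_mem_qG a), Equiv.Perm.mul_apply, ← hp5,
      show p⁻¹ (p 5) = 5 from p.symm_apply_apply 5, hq5]
  obtain ⟨P, hPt⟩ := exists_tPair F (coe_mem_qG a) et
  -- `C(t) ∩ C(r)`, in coordinates with the codes `5`, `10`
  obtain ⟨s, hsM, hs5⟩ := orbM_small K (v := tV) tV_facts.2.2.2.2.2.1
  have hsi : s⁻¹ ∈ K.I.H := K.I.hMH (inv_mem hsM)
  have hsW : s⁻¹ tW = 10 := by
    rw [← tW_eq, (K.I.lin _ (inv_mem hsM) : IsLinC _) tV, ← hs5,
      show s⁻¹ (s 5) = 5 from s.symm_apply_apply 5]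
    exact Fin.ext (by decide +kernel)
  have hC : ∀ g, g ∈ Subgroup.centralizer ({P.t, P.r} : Set G) ↔ Commute g P.t ∧ Commute g P.r := by
    intro g
    rw [mem_centralizer_iff]
    simp only [Set.mem_insert_iff, Set.mem_singleton_iff, forall_eq_or_imp, forall_eq]
    exact ⟨fun h => ⟨h.1.symm, h.2.symm⟩, fun h => ⟨h.1.symm, h.2.symm⟩⟩
  have hPair : CentE.Pair (K.twisted s⁻¹ hsi) P.t P.r (Subgroup.centralizer ({P.t, P.r} : Set G)) := by
    refine ⟨P.t_mem, P.r_mem, ?_, ?_, hC⟩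
    · rw [GoodCoord.cq_twisted K _ hsi P.t_mem, P.t_code, ← hs5]
      exact s.symm_apply_apply 5
    · rw [GoodCoord.cq_twisted K _ hsi P.r_mem, P.r_code]
      exact hsW
  obtain ⟨hE, hn, hiso⟩ := CentE.centPair hrec hF hPair
  obtain ⟨N, h1, h2, h3, h4, -, h5⟩ := P.centralizer_t F (qFacts_of_type hF) hE
    ⟨hn, GaloisField 2 2, inferInstance, Fintype.ofFinite _,
      by rw [Fintype.card_eq_nat_card, CentE.card_gf_four], hiso⟩
  rw [← hPt]
  exact ⟨N, h1, h2, h3, h4, h5⟩

end Cfsg.Agent.LargeFischer
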