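import Cfsg.Agent.Lib.LargeFischer.TStab
import Cfsg.Agent.Lib.LargeFischer.LocalSetup
import Cfsg.Agent.Lib.LargeFischer.Conjugate

/-!
# Lifts of the involutions fixing a small vector; square roots of `t`

For `t, r` in `Q` with codes `tV, tW`:
* `exists_invol_lift`: the involutions of `tS` have involutions of `C(z)` as lifts.
* `tC r u = r⁻¹ u r u⁻¹`, a homomorphism on `C(z) ∩ C(t)` with values in `{1, z, t, tz}`.
* `root_cases`: a square root `u` of `t` over `tS` has `tC r u ∈ {t, z}`.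
* `exists_root`: there is a square root of `t` over `tS` with `tC r u = t`.
-/

set_option autoImplicit false

namespace Cfsg.Agent.LargeFischer

open Subgroup Cfsg.Agent.LargeExtraspecial

variable {G : Type*} [Group G] {z : G} {Q : Subgroup (Subgroup.centralizer ({z} : Set G))} [Q.Normal]
  [Finite G] (K : GoodCoord z Q)

open Loc

section

variable (F : LFacts K)
include F

/-- A conjugate of `z` with code 85. -/
theorem exists_conj85 : ∃ g : G, g * z * g⁻¹ ∈ qG Q ∧ g * z * g⁻¹ ≠ z ∧ cq K (g * z * g⁻¹) = 85 := by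
  obtain ⟨q, hq⟩ := K.co_surjective 85
  have h85 : qN (85 : Cd).1 = 0 ∧ (85 : Cd) ≠ 0 ∧ inO 0 (85 : Cd).1 = false := by decide +kernel
  obtain ⟨g, hg⟩ := isConj_iff.1 ((F.conjQ q (hq ▸ h85.1) (hq ▸ h85.2.1)).2 (hq ▸ h85.2.2))
  refine ⟨g, hg ▸ coe_mem_qG q, fun e => h85.2.1 ?_, by rw [hg, cq_coe, hq]⟩
  rw [← hq, ← cq_coe K q, ← hg, e, cq_z K F]

variable (FQ : QFacts z Q)
include FQ

/-- The image of `C(z) ∩ Q^g`, and the order of `Q ∩ Q^g`, when the conjugate has code 85. -/
theorem imgE_eq_E32 {g : G} (hs : g * z * g⁻¹ ∈ qG Q) (hne : g * z * g⁻¹ ≠ z)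
    (h85 : cq K (g * z * g⁻¹) = 85) :
    K.toCoord.imgE g = E32 ∧ 128 ≤ Nat.card ↥(interG Q g) := by
  obtain ⟨a, ha⟩ := mem_qG hs
  have hco : K.co a = 85 := by rw [← cq_coe K a, ha, h85]
  have hle : K.toCoord.imgE g ≤ E32 := by
    refine le_E32 K.good.inv_O K.good.gM_mem K.good.gS_mem _ ?_ (K.toCoord.imgE_two FQ) ?_
    · exact hco ▸ K.toCoord.imgE_le FQ ha
    · exact hco ▸ K.toCoord.imgE_normalized FQ ha hne
  have h := K.toCoord.card_mul_imgE FQ hs hne
  have h1 : Nat.card ↥(K.toCoord.imgE g) ≤ 32 := card_E32 ▸ Subgroup.card_le_of_le hle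
  have h2 := FQ.card_interG_le hne (g := g)
  exact ⟨eq_of_le_of_card_ge hle (card_E32 ▸ by nlinarith), by nlinarith⟩

/-- The elements of `imgE` have involutions as lifts. -/
theorem exists_invol_of_imgE {g : G} (hs : g * z * g⁻¹ ∈ qG Q) (hne : g * z * g⁻¹ ≠ z)
    (hI : 128 ≤ Nat.card ↥(interG Q g)) {p : Equiv.Perm Cd} (hp : p ∈ K.toCoord.imgE g) :
    ∃ c, Commute c z ∧ c * c = 1 ∧ av K c = p := by
  obtain ⟨h, hh, rfl⟩ := hp
  have hcz : Commute (h : G) z := mem_centralizer_singleton_iff.1 h.2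
  have hub := F.setting
  have hg := FQ.hub.conj g
  rcases hg.sq_cases (h : G) hh.1 with e | e
  · exact ⟨h, hcz, e, av_eq K hcz⟩
  -- some element of `Q ∩ Q^g` does not commute with it
  obtain ⟨i, hi, hni⟩ : ∃ i ∈ interG Q g, ¬ Commute (h : G) i := by
    by_contra hno
    push Not at hno
    let P := (qG Q).map (MulAut.conj g).toMonoidHom
    let A : Subgroup G := Subgroup.closure ((interG Q g : Set G) ∪ {(h : G)})
    have hAP : A ≤ P := (closure_le _).2 (Set.union_subset (fun x hx => hx.2)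
      (Set.singleton_subset_iff.2 hh.1))
    have hAc : IsMulCommutative A := by
      refine Subgroup.isMulCommutative_closure ?_
      intro x hx y hy
      rcases hx with hx | hx <;> rcases hy with hy | hy
      · exact congrArg Subtype.val ((FQ.interG_comm hne).is_comm.comm (⟨x, hx⟩ : interG Q g) ⟨y, hy⟩)
      · rw [Set.mem_singleton_iff.1 hy]; exact (hno x hx).eq.symm
      · rw [Set.mem_singleton_iff.1 hx]; exact (hno y hy).eq
      · rw [Set.mem_singleton_iff.1 hx, Set.mem_singleton_iff.1 hy]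
    have hle : interG Q g ≤ A := fun x hx => subset_closure (Or.inl hx)
    have hA : Nat.card ↥A ≤ 128 := by
      have : Fact (Nat.Prime 2) := ⟨Nat.prime_two⟩
      let e := (qG Q).equivMapOfInjective (MulAut.conj g).toMonoidHom (MulAut.conj g).injective
      have hexP : Cfsg.IsExtraspecial 2 ↥P := TI.isExtraspecial_congr e FQ.ex
      have hc : IsMulCommutative (A.subgroupOf P) := ⟨⟨fun a b => Subtype.ext (Subtype.ext
        (congrArg Subtype.val (hAc.is_comm.comm (⟨_, a.2⟩ : A) ⟨_, b.2⟩) :))⟩⟩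
      have h2 := PGroup.extraspecial_abelian_card_le hexP hc
      have e2 : Nat.card (A.subgroupOf P) = Nat.card A := Nat.card_congr (subgroupOfEquivOfLe hAP).toEquiv
      have e3 : Nat.card ↥P = 2 ^ 13 := by rw [card_map_of_injective (MulAut.conj g).injective, FQ.card]
      rw [e2, e3] at h2
      exact (Nat.pow_le_pow_iff_left (n := 2) (by norm_num)).1 (h2.trans (by norm_num))
    have hEq : interG Q g = A := eq_of_le_of_card_ge hle (by omega)
    have hmem : (h : G) ∈ interG Q g := hEq ▸ subset_closure (Or.inr rfl)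
    exact FQ.conj_ne_one (g := g) (e.symm.trans (FQ.interG_sq hne hmem))
  have hiz : Commute i z := FQ.hub.central i hi.1
  refine ⟨(h : G) * i, hcz.mul_left hiz, ?_, ?_⟩
  · have hc := (hg.comm (h : G) hh.1 i hi.2).resolve_left fun e' => hni (mul_inv_eq_iff_eq_mul.1 e')
    have hi2 := FQ.interG_sq hne hi
    have hsi : Commute i (g * z * g⁻¹) := hg.central i hi.2
    calc (h : G) * i * ((h : G) * i) = ((h : G) * i * (h : G)⁻¹) * ((h : G) * (h : G)) * i := by group
      _ = i * (g * z * g⁻¹) * (g * z * g⁻¹) * i := by rw [hc, e]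
      _ = i * i := by rw [mul_assoc i, FQ.conjSq, mul_one]
      _ = 1 := hi2
  · rw [av_mul K hcz hiz, (av_eq_one K hiz).2 hi.1, mul_one, av_eq K hcz]

/-- The involutions of `tS` have involutions as lifts. -/
theorem exists_invol_lift {p : Equiv.Perm Cd} (hp : p ∈ tS) (h2 : p * p = 1) :
    ∃ c, Commute c z ∧ c * c = 1 ∧ av K c = p := by
  obtain ⟨g, hs, hne, h85⟩ := exists_conj85 K F
  obtain ⟨hE, hI⟩ := imgE_eq_E32 K F FQ hs hne h85
  obtain ⟨q, hq, hqp⟩ := exists_conj_E32 K.good hp h2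
  obtain ⟨c, hc, hc2, hcp⟩ := exists_invol_of_imgE K F FQ hs hne hI (hE.symm ▸ hqp)
  obtain ⟨k, hk, rfl⟩ := exists_av K hq
  refine ⟨k⁻¹ * c * k, (hk.inv_left.mul_left hc).mul_left hk, ?_, ?_⟩
  · calc k⁻¹ * c * k * (k⁻¹ * c * k) = k⁻¹ * (c * c) * k := by group
      _ = 1 := by rw [hc2]; group
  · rw [av_mul K (hk.inv_left.mul_left hc) hk, av_mul K hk.inv_left hc, av_inv K hk, hcp]
    group

end

/-- A pair of involutions of `Q` with the codes `tV`, `tW`. -/
structure TPair where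
  t : G
  r : G
  t_mem : t ∈ qG Q
  r_mem : r ∈ qG Q
  t_code : cq K t = tV
  r_code : cq K r = tW

variable {K}
variable (F : LFacts K)

include F in
theorem exists_tPair {t : G} (ht : t ∈ qG Q) (et : cq K t = tV) : ∃ P : TPair K, P.t = t :=
  let ⟨r, hr, er⟩ := exists_code K tW
  ⟨⟨t, r, ht, hr, et, er⟩, rfl⟩

/-- `r⁻¹ u r u⁻¹`. -/
def tC (r u : G) : G := r⁻¹ * (u * r * u⁻¹)

variable (P : TPair K)

namespace TPair

omit [Finite G] in
theorem tt : P.t * P.t = 1 := (cq_sq K P.t_mem).2 (by rw [P.t_code]; exact tV_facts.1)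

omit [Finite G] in
theorem rr : P.r * P.r = 1 := (cq_sq K P.r_mem).2 (by rw [P.r_code]; exact tV_facts.2.1)

omit [Finite G] in
theorem r_inv : P.r⁻¹ = P.r := inv_eq_of_mul_eq_one_left P.rr

theorem tz : Commute P.t z := qG_commute P.t_mem

theorem rz : Commute P.r z := qG_commute P.r_mem

omit [Finite G] in
theorem t_ne_one : P.t ≠ 1 := fun e => tV_facts.2.2.2.2.2.2.2.1 (by rw [← P.t_code, e, cq_one K])

include F

theorem t_ne_z : P.t ≠ z := fun e => tV_facts.2.2.2.2.2.2.2.1 (by rw [← P.t_code, e, cq_z K F])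

theorem comm : Commute P.t P.r :=
  (commute_iff K F P.t_mem P.r_mem).2 (by rw [P.t_code, P.r_code]; exact tV_facts.2.2.2.1)

/-- An element of `Q` acting on an element of `Q`. -/
theorem q_conj {q x : G} (hq : q ∈ qG Q) (hx : x ∈ qG Q) :
    (bN (cq K q).1 (cq K x).1 = 0 ∧ q * x * q⁻¹ = x) ∨ (bN (cq K q).1 (cq K x).1 = 1 ∧ q * x * q⁻¹ = x * z) := by
  by_cases h : Commute q x
  · exact Or.inl ⟨(commute_iff K F hq hx).1 h, by rw [h.eq, mul_inv_cancel_right]⟩
  · refine Or.inr ⟨?_, ((hub K F).comm q hq x hx).resolve_left fun e => h (mul_inv_eq_iff_eq_mul.1 e)⟩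
    have := bN_lt (cq K q).1 (cq K x).1
    have : bN (cq K q).1 (cq K x).1 ≠ 0 := fun e => h ((commute_iff K F hq hx).2 e)
    omega

/-- Elements of `Q` with the code of `t`. -/
theorem code_tV {x : G} (hx : x ∈ qG Q) (e : cq K x = tV) : x = P.t ∨ x = P.t * z :=
  rel_of_cq K F hx P.t_mem (e.trans P.t_code.symm)

/-- The four possible images of `r`. -/
theorem r_image {u : G} (hz : Commute u z) (ht : Commute u P.t) :
    (av K u tW = tW ∧ (u * P.r * u⁻¹ = P.r ∨ u * P.r * u⁻¹ = P.r * z)) ∨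
    (av K u tW = xo tW tV ∧ (u * P.r * u⁻¹ = P.r * P.t ∨ u * P.r * u⁻¹ = P.r * P.t * z)) := by
  have hfix : av K u tV = tV := by
    rw [← P.t_code, ← cq_conj K hz P.t_mem, ht.eq, mul_inv_cancel_right]
  have hm := qG_normal hz P.r_mem (Q := Q)
  have e := cq_conj K hz P.r_mem
  rw [P.r_code] at e
  have hcases : av K u tW = tW ∨ av K u tW = xo tW tV := by
    rw [← tW_eq]
    rcases (av_sym K hz).semi with hl | ha
    · exact Or.inl (by rw [hl, hfix])
    · refine Or.inr (by
        rw [ha, hfix]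
        calc wC (wC tV) = xo (wC (wC tV)) (xo (xo (wC tV) tV) (xo (wC tV) tV)) := by rw [xo_self, xo_zero]
          _ = xo (xo (xo (wC (wC tV)) (wC tV)) tV) (xo (wC tV) tV) := by simp only [xo_assoc]
          _ = xo (wC tV) tV := by rw [wC_sum, xo_comm, xo_zero])
  rcases hcases with h | h
  · refine Or.inl ⟨h, rel_of_cq K F hm P.r_mem ?_⟩
    rw [e, h, P.r_code]
  · refine Or.inr ⟨h, rel_of_cq K F hm (mul_mem P.r_mem P.t_mem) ?_⟩
    rw [e, h, cq_mul K P.r_mem P.t_mem, P.r_code, P.t_code]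

/-- The values of `tC`. -/
theorem tC_cases {u : G} (hz : Commute u z) (ht : Commute u P.t) :
    tC P.r u = 1 ∨ tC P.r u = z ∨ tC P.r u = P.t ∨ tC P.r u = P.t * z := by
  rcases P.r_image F hz ht with ⟨-, e | e⟩ | ⟨-, e | e⟩ <;> unfold tC <;> rw [e]
  · exact Or.inl (by group)
  · exact Or.inr (Or.inl (by group))
  · exact Or.inr (Or.inr (Or.inl (by group)))
  · exact Or.inr (Or.inr (Or.inr (by group)))

theorem tC_mul {u v : G} (huz : Commute u z) (hut : Commute u P.t) (hvz : Commute v z) (hvt : Commute v P.t) :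
    tC P.r (u * v) = tC P.r u * tC P.r v := by
  have hc : u * tC P.r v * u⁻¹ = tC P.r v := by
    rcases P.tC_cases F hvz hvt with e | e | e | e <;> rw [e]
    · group
    · rw [huz.eq, mul_inv_cancel_right]
    · rw [hut.eq, mul_inv_cancel_right]
    · rw [(hut.mul_right huz).eq, mul_inv_cancel_right]
  conv_rhs => rw [← hc]
  unfold tC
  group

variable (FQ : QFacts z Q)
include FQ

/-- A square root of `t` over `tS` moves `r` to `r t` or `r z`. -/
theorem root_cases {u : G} (huz : Commute u z) (hu : av K u ∈ tS) (h2 : u * u = P.t) :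
    tC P.r u = P.t ∨ tC P.r u = z := by
  set p := av K u with hpd
  have hp2 : p * p = 1 := by
    rw [hpd, ← av_mul K huz huz, h2]
    exact (av_eq_one K P.tz).2 P.t_mem
  obtain ⟨c, hcz, hc2, hcp⟩ := exists_invol_lift K F FQ hu hp2
  have hci : c⁻¹ = c := inv_eq_of_mul_eq_one_left hc2
  set q := c⁻¹ * u with hqd
  have hu' : u = c * q := by rw [hqd]; group
  have hqz : Commute q z := hcz.inv_left.mul_left huz
  have hq : q ∈ qG Q := (av_eq_one K hqz).1 (by
    rw [hqd, av_mul K hcz.inv_left huz, av_inv K hcz, hcp, ← hpd, inv_mul_cancel])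
  set y := cq K q with hyd
  have hm := qG_normal hcz hq (Q := Q)
  have hy : xo (p y) y = tV := by
    have e : P.t = (c * q * c⁻¹) * q := by rw [hci, ← h2, hu']; group
    rw [← P.t_code, e, cq_mul K hm hq, cq_conj K hcz hq, hcp]
  have conj_u : ∀ a : G, u * a * u⁻¹ = c * (q * a * q⁻¹) * c⁻¹ := fun a => by rw [hu']; group
  -- an element inverted by `c`
  have inverted : ∀ a ∈ qG Q, c * (c * a * c⁻¹ * a⁻¹) * c⁻¹ = (c * a * c⁻¹ * a⁻¹)⁻¹ := fun a _ => by
    rw [hci]
    calc c * (c * a * c * a⁻¹) * c = (c * c) * (a * c * a⁻¹ * c) := by group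
      _ = a * c * a⁻¹ * c := by rw [hc2, one_mul]
      _ = _ := by rw [mul_inv_rev, mul_inv_rev, mul_inv_rev, hci, inv_inv]; group
  have code_comm : ∀ a ∈ qG Q, c * a * c⁻¹ * a⁻¹ ∈ qG Q ∧
      cq K (c * a * c⁻¹ * a⁻¹) = xo (p (cq K a)) (cq K a) := fun a ha => by
    have hma := qG_normal hcz ha (Q := Q)
    refine ⟨mul_mem hma (inv_mem ha), ?_⟩
    have e := cq_mul K (mul_mem hma (inv_mem ha)) ha
    rw [inv_mul_cancel_right, cq_conj K hcz ha, hcp] at e
    rw [e, xo_assoc, xo_self, xo_zero]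
  have zc : c * z * c⁻¹ = z := by rw [hcz.eq, mul_inv_cancel_right]
  rcases tS_step hu hp2 hy with ⟨-, h1, h1'⟩ | ⟨hpW, h1⟩
  · -- linear case
    refine Or.inr ?_
    obtain ⟨a, ha, hae⟩ := exists_code K (wC y)
    obtain ⟨hx, hxe⟩ := code_comm a ha
    set x := c * a * c⁻¹ * a⁻¹
    have hxi := inverted a ha
    rw [hae, h1] at hxe
    have hx2 : x * x = 1 := (cq_sq K hx).2 (by rw [hxe]; exact tV_facts.2.1)
    rw [inv_eq_of_mul_eq_one_left hx2] at hxi
    have hcr : c * P.r * c⁻¹ = P.r := by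
      rcases rel_of_cq K F P.r_mem hx (P.r_code.trans hxe.symm) with e | e <;> rw [e]
      · exact hxi
      · rw [show c * (x * z) * c⁻¹ = (c * x * c⁻¹) * (c * z * c⁻¹) by group, hxi, zc]
    have hqr : q * P.r * q⁻¹ = P.r * z := by
      rcases q_conj F hq P.r_mem with ⟨e, -⟩ | ⟨-, e⟩
      · rw [← hyd, P.r_code, h1'] at e; exact absurd e one_ne_zero
      · exact e
    unfold tC
    rw [conj_u, hqr, show c * (P.r * z) * c⁻¹ = (c * P.r * c⁻¹) * (c * z * c⁻¹) by group, hcr, zc]
    group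
  · -- semilinear case
    refine Or.inl ?_
    set d := xo y tW
    obtain ⟨a, ha, hae⟩ := exists_code K (wC d)
    obtain ⟨hx, hxe⟩ := code_comm a ha
    set x := c * a * c⁻¹ * a⁻¹
    have hxi := inverted a ha
    rw [hae, h1] at hxe
    have hrx := mul_mem P.r_mem hx
    have hq' : cq K q = cq K (P.r * x) := by
      rw [cq_mul K P.r_mem hx, P.r_code, hxe, ← hyd]
      show y = xo tW (xo y tW)
      rw [xo_comm y tW, ← xo_assoc, xo_self, xo_comm, xo_zero]
    have hzq : Commute z (P.r * x) := (qG_commute hrx).symm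
    have hsq : c * (P.r * x) * (c * (P.r * x)) = P.t := by
      rcases rel_of_cq K F hq hrx hq' with e | e
      · rw [← h2, hu', e]
      · rw [← h2, hu', e]
        calc c * (P.r * x) * (c * (P.r * x)) = c * (P.r * x) * (c * (P.r * x)) * (z * z) := by
              rw [(hub K F).sq, mul_one]
          _ = c * (P.r * x) * z * (c * (P.r * x) * z) := by
              rw [show c * (P.r * x) * z * (c * (P.r * x) * z) =
                c * (P.r * x) * (z * (c * (P.r * x))) * z by group, (hcz.symm.mul_right hzq).eq]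
              group
          _ = c * ((P.r * x) * z) * (c * ((P.r * x) * z)) := by group
    have hur : u * P.r * u⁻¹ = c * ((P.r * x) * P.r * (P.r * x)⁻¹) * c⁻¹ := by
      rw [conj_u]
      rcases rel_of_cq K F hq hrx hq' with e | e <;> rw [e]
      rw [show P.r * x * z * P.r * (P.r * x * z)⁻¹ = P.r * x * (z * P.r * z⁻¹) * (P.r * x)⁻¹ by group,
        P.rz.symm.eq, mul_inv_cancel_right]
    obtain ⟨w, hwz, hwc, hwe⟩ : ∃ w : G, w * w = 1 ∧ (∀ a : G, Commute a z → Commute a w) ∧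
        c * P.r * c⁻¹ = P.r * P.t * w := by
      have hm := qG_normal hcz P.r_mem (Q := Q)
      have e := cq_conj K hcz P.r_mem
      rw [P.r_code, hcp, hpW] at e
      rcases rel_of_cq K F hm (mul_mem P.r_mem P.t_mem) (e.trans (by
          rw [cq_mul K P.r_mem P.t_mem, P.r_code, P.t_code])) with e' | e'
      · exact ⟨1, one_mul _, fun a _ => Commute.one_right a, by rw [mul_one]; exact e'⟩
      · exact ⟨z, (hub K F).sq, fun a h => h, e'⟩
    obtain ⟨k, hkz, hkc, hke⟩ : ∃ k : G, k * k = 1 ∧ (∀ a : G, Commute a z → Commute a k) ∧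
        x⁻¹ * P.r * x = P.r * k := by
      rcases q_conj F (inv_mem hx) P.r_mem with ⟨-, e⟩ | ⟨-, e⟩ <;> rw [inv_inv] at e
      · exact ⟨1, one_mul _, fun a _ => Commute.one_right a, by rw [mul_one]; exact e⟩
      · exact ⟨z, (hub K F).sq, fun a h => h, e⟩
    have hki : k⁻¹ = k := inv_eq_of_mul_eq_one_left hkz
    -- `w = k`
    have hwk : w = k := by
      have e : c * (P.r * x) * (c * (P.r * x)) = (c * P.r * c⁻¹) * (c * x * c⁻¹) * (P.r * x) := by
        calc c * (P.r * x) * (c * (P.r * x)) = c * (P.r * x) * c * (P.r * x) := by group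
          _ = c * (P.r * x) * c⁻¹ * (P.r * x) := by rw [hci]
          _ = _ := by group
      rw [hsq, hwe, hxi, show P.r * P.t * w * x⁻¹ * (P.r * x) = P.r * P.t * w * (x⁻¹ * P.r * x) by group,
        hke] at e
      have e' : P.r * P.t * w * (P.r * k) = P.t * (w * k) := by
        calc P.r * P.t * w * (P.r * k) = P.r * P.t * (w * P.r) * k := by group
          _ = P.r * P.t * (P.r * w) * k := by rw [← (hwc P.r P.rz).eq]
          _ = P.r * (P.t * P.r) * w * k := by group
          _ = P.r * (P.r * P.t) * w * k := by rw [(P.comm F).eq]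
          _ = (P.r * P.r) * (P.t * (w * k)) := by group
          _ = _ := by rw [P.rr, one_mul]
      rw [e'] at e
      have e'' : w * k = 1 := mul_eq_left.1 e.symm
      rw [eq_inv_of_mul_eq_one_left e'', hki]
    have hxrx : x * P.r * x⁻¹ = P.r * k := by
      have h : x * (x⁻¹ * P.r * x) * x⁻¹ = x * (P.r * k) * x⁻¹ := by rw [hke]
      rw [show x * (x⁻¹ * P.r * x) * x⁻¹ = P.r by group,
        show x * (P.r * k) * x⁻¹ = x * P.r * (k * x⁻¹) by group,
        ← (hkc x⁻¹ (qG_commute hx).inv_left).eq] at h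
      calc x * P.r * x⁻¹ = x * P.r * x⁻¹ * (k * k) := by rw [hkz, mul_one]
        _ = x * P.r * (x⁻¹ * k) * k := by group
        _ = _ := by rw [← h]
    unfold tC
    rw [hur, show P.r * x * P.r * (P.r * x)⁻¹ = P.r * (x * P.r * x⁻¹) * P.r⁻¹ by group, hxrx,
      show P.r * (P.r * k) * P.r⁻¹ = (P.r * P.r) * (k * P.r⁻¹) by group, P.rr, one_mul,
      ← (hkc P.r⁻¹ P.rz.inv_left).eq, P.r_inv,
      show c * (P.r * k) * c⁻¹ = (c * P.r * c⁻¹) * (c * k * c⁻¹) by group, hwe, (hkc c hcz).eq,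
      mul_inv_cancel_right, hwk, mul_assoc _ k k, hkz, mul_one, ← mul_assoc, P.rr, one_mul]

/-- A square root of `t` over `tS` moving `r` to `r t`. -/
theorem exists_root : ∃ u, Commute u z ∧ av K u ∈ tS ∧ u * u = P.t ∧ tC P.r u = P.t := by
  obtain ⟨p, hp, hp2, hpW, d, hd, hbd⟩ := exists_tSigma
  obtain ⟨c, hcz, hc2, hcp⟩ := exists_invol_lift K F FQ hp hp2
  have hci : c⁻¹ = c := inv_eq_of_mul_eq_one_left hc2
  have hy : xo (p (xo tW d)) (xo tW d) = tV := by
    rw [(hcp ▸ (av_sym K hcz).add : IsAdd p), hpW, hd, xo_assoc, ← xo_assoc d tW d, xo_comm d tW, xo_assoc tW d d,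
      xo_self, xo_zero, xo_comm tW tV, xo_assoc, xo_self, xo_zero]
  have hWd : xo (xo tW d) tW = d := by rw [xo_comm tW d, xo_assoc, xo_self, xo_zero]
  obtain ⟨h1, -, -⟩ | ⟨-, h1⟩ := tS_step hp hp2 hy
  · rw [hpW] at h1
    have := congrArg (fun v => xo tW v) h1
    simp only [← xo_assoc, xo_self] at this
    rw [xo_comm 0, xo_zero] at this
    exact absurd this tV_facts.2.2.2.2.2.2.2.1
  rw [hWd] at h1
  -- an element with code `d` inverted by `c`
  obtain ⟨a, ha, hae⟩ := exists_code K (wC d)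
  set x := c * a * c⁻¹ * a⁻¹ with hxd
  have hma := qG_normal hcz ha (Q := Q)
  have hx : x ∈ qG Q := mul_mem hma (inv_mem ha)
  have hxe : cq K x = d := by
    have e := cq_mul K hx ha
    rw [hxd, inv_mul_cancel_right, cq_conj K hcz ha, hcp, ← hxd, hae] at e
    rw [← h1, e, xo_assoc, xo_self, xo_zero]
  have hxi : c * x * c⁻¹ = x⁻¹ := by
    rw [hxd, hci]
    calc c * (c * a * c * a⁻¹) * c = (c * c) * (a * c * a⁻¹ * c) := by group
      _ = a * c * a⁻¹ * c := by rw [hc2, one_mul]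
      _ = _ := by rw [mul_inv_rev, mul_inv_rev, mul_inv_rev, hci, inv_inv]; group
  have hxr : x⁻¹ * P.r * x = P.r * z := by
    rcases q_conj F (inv_mem hx) P.r_mem with ⟨e, -⟩ | ⟨-, e⟩
    · exfalso
      have hxinv : cq K x⁻¹ = d := by
        have h := cq_mul K (inv_mem hx) hx
        rw [inv_mul_cancel, cq_one K, hxe] at h
        have := congrArg (fun v => xo v d) h
        simp only [xo_assoc, xo_self, xo_zero] at this
        rw [← this, xo_comm, xo_zero]
      rw [hxinv, P.r_code, bN_comm, hbd] at e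
      exact one_ne_zero e
    · rwa [inv_inv] at e
  have hm := qG_normal hcz P.r_mem (Q := Q)
  have hcr := cq_conj K hcz P.r_mem
  rw [P.r_code, hcp, hpW] at hcr
  have hrc : c * P.r * c⁻¹ = P.r * P.t ∨ c * P.r * c⁻¹ = P.r * P.t * z :=
    rel_of_cq K F hm (mul_mem P.r_mem P.t_mem) (hcr.trans (by
      rw [cq_mul K P.r_mem P.t_mem, P.r_code, P.t_code]))
  have hrtr : P.r * P.t * P.r = P.t := by
    rw [mul_assoc, (P.comm F).eq, ← mul_assoc, P.rr, one_mul]
  have key : ∀ q ∈ qG Q, c * q * (c * q) = P.t → av K (c * q) tW = xo tW tV →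
      ∃ u, Commute u z ∧ av K u ∈ tS ∧ u * u = P.t ∧ tC P.r u = P.t := by
    intro q hq h2 hW
    have hqz := qG_commute hq
    have huz : Commute (c * q) z := hcz.mul_left hqz
    have hav : av K (c * q) = p := by rw [av_mul K hcz hqz, (av_eq_one K hqz).2 hq, mul_one, hcp]
    refine ⟨c * q, huz, hav ▸ hp, h2, ?_⟩
    refine (P.root_cases F FQ huz (hav ▸ hp) h2).resolve_right fun e => ?_
    have hr' : c * q * P.r * (c * q)⁻¹ = P.r * z := inv_mul_eq_iff_eq_mul.1 e
    have e' := cq_conj K huz P.r_mem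
    rw [hr', cq_mul_z K F P.r_mem, P.r_code, hW] at e'
    have := congrArg (fun v => xo tW v) e'
    simp only [← xo_assoc, xo_self] at this
    rw [xo_comm 0, xo_zero] at this
    exact tV_facts.2.2.2.2.2.2.2.1 this.symm
  have hWq : ∀ q ∈ qG Q, av K (c * q) tW = xo tW tV := fun q hq => by
    rw [av_mul K hcz (qG_commute hq), (av_eq_one K (qG_commute hq)).2 hq, mul_one, hcp, hpW]
  rcases hrc with e | e
  · refine key P.r P.r_mem ?_ (hWq _ P.r_mem)
    calc c * P.r * (c * P.r) = c * P.r * c * P.r := by group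
      _ = c * P.r * c⁻¹ * P.r := by rw [hci]
      _ = _ := by rw [e, hrtr]
  · refine key (P.r * x) (mul_mem P.r_mem hx) ?_ (hWq _ (mul_mem P.r_mem hx))
    have hzr : Commute z P.r := P.rz.symm
    calc c * (P.r * x) * (c * (P.r * x)) = c * (P.r * x) * c * (P.r * x) := by group
      _ = c * (P.r * x) * c⁻¹ * (P.r * x) := by rw [hci]
      _ = (c * P.r * c⁻¹) * (c * x * c⁻¹) * (P.r * x) := by group
      _ = P.r * P.t * z * (x⁻¹ * P.r * x) := by rw [e, hxi]; group
      _ = P.r * P.t * (z * P.r) * z := by rw [hxr]; group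
      _ = P.r * P.t * (P.r * z) * z := by rw [hzr.eq]
      _ = P.r * P.t * P.r * (z * z) := by group
      _ = P.t := by rw [(hub K F).sq, mul_one, hrtr]

end TPair

end Cfsg.Agent.LargeFischer
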