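import Cfsg.Agent.Lib.LargeFischer.Code

/-!
# Certificates for the stabiliser of the code 1280

`tCert`: for each involution of the Sylow subgroup fixing 1280 (by its number) a word conjugating it
into `E32` and the word of the image in the generators `wE`; `tPerp`: a basis of the orthogonal space.
-/

set_option autoImplicit false

namespace Cfsg.Agent.LargeFischer

/-- A basis of the orthogonal space of 1280. -/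
def tPerp : List ℕ :=
  [1, 2, 4, 8, 16, 32, 64, 128, 256, 1024, 2560]

/-- Conjugating words. -/
def tCert : List (ℕ × List (Fin 8) × List ℕ) := [
  (0, [6, 0, 2, 0, 3, 0, 6, 0, 2, 0], [1]),
  (1, [], [2, 1]),
  (2, [6, 0, 2, 0, 3, 0, 6, 0, 1, 0], [3, 1, 0]),
  (4, [6, 0, 1, 0, 0, 6], [2, 0]),
  (6, [6, 0, 2, 0, 0, 6, 1, 0], [3, 1, 0]),
  (8, [6, 0, 2, 0, 3, 0, 6, 0, 1, 7], [3, 1, 0]),
  (9, [6, 0, 1, 0, 2, 0, 3, 0, 6, 0, 2, 0, 0, 6], [1]),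
  (10, [], [3, 2, 0]),
  (12, [6, 0, 1, 0, 0, 6], [0]),
  (13, [6, 0, 2, 0, 1, 7, 0, 6, 1, 0], [3, 1, 0]),
  (15, [6, 0, 2, 0, 0, 6, 1, 0, 2, 0], [3, 1, 0]),
  (16, [], [1]),
  (17, [], [3, 1, 0]),
  (19, [6, 0, 1, 0, 0, 6, 2, 0, 1, 0, 3, 0, 2, 0], [2, 1]),
  (20, [6, 0, 2, 0, 3, 0, 1, 7, 2, 0, 6, 0, 1, 0, 2, 0], [2, 0]),
  (22, [], [3, 0]),
  (23, [6, 0, 2, 0, 1, 7, 0, 6], [3, 1, 0]),
  (24, [], [2]),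
  (25, [], [3, 2]),
  (26, [6, 0, 2, 0, 3, 0, 6, 0], [3, 1, 0]),
  (28, [6, 0, 2, 0, 0, 6], [3, 1, 0]),
  (29, [6, 0, 2, 0, 3, 0, 6, 0, 1, 0, 1, 7], [3, 1, 0]),
  (30, [6, 0, 1, 0, 2, 0, 3, 0, 6, 0, 2, 0, 1, 0, 0, 6], [1]),
  (32, [], [3, 2, 1, 0]),
  (33, [6, 0, 2, 0, 3, 0, 6, 0, 2, 0], [3, 0]),
  (34, [6, 0, 2, 0, 0, 6, 1, 0, 2, 0], [3, 0]),
  (35, [6, 0, 2, 0, 1, 7, 0, 6, 2, 0], [3, 1, 0]),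
  (37, [], [3, 1]),
  (40, [6, 0, 2, 0, 1, 0, 3, 0, 2, 0, 0, 6, 2, 0, 1, 7], [2, 0]),
  (43, [6, 0, 2, 0, 3, 0, 6, 0, 2, 0], [3, 1, 0]),
  (44, [], [3]),
  (46, [6, 0, 2, 0, 3, 0, 6, 0, 2, 0, 1, 7], [3, 1, 0]),
  (47, [6, 0, 2, 0, 1, 0, 3, 0, 2, 0, 0, 6, 2, 0], [2, 0]),
  (48, [6, 0, 2, 0, 1, 0, 3, 0, 2, 0, 0, 6, 2, 0], [3, 2, 0]),
  (52, [], [3, 2, 1]),
  (59, [], [2, 0]),
  (61, [6, 0, 1, 0, 0, 6], [1]),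
  (62, [6, 0, 1, 0, 0, 6, 2, 0, 1, 0, 3, 0, 2, 0], [0]),
  (63, [6, 0, 1, 0, 0, 6], [2, 1]),
  (64, [], [0]),
  (67, [], [1, 0]),
  (68, [6, 0, 1, 0, 0, 6, 2, 0, 1, 0, 3, 0, 2, 0], [2, 0]),
  (69, [], [2, 1, 0])]

end Cfsg.Agent.LargeFischer
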