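import Cfsg.Agent.Lib.LargeFischer.SylowPerm
import Cfsg.Agent.Lib.LargeFischer.StabU
import Cfsg.Agent.Lib.LargeFischer.Stab45
import Cfsg.Agent.Lib.LargeFischer.TStabData

/-!
# The stabiliser of the code 1280 (a small vector) and its involutions

`tS` is a Sylow 2-subgroup (order 128) of the stabiliser of `tV = 1280` in the image, whose order is 51840.
* `tS_perp`, `tV_rad`: faithfulness on the orthogonal space of `tV`, and its radical.
* `exists_conj_E32`: the involutions of `tS` are conjugate into `E32`.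
* `tS_step`: the solutions of `(1 + p) y = tV` for the involutions `p` of `tS`.
* `exists_tSigma`: an involution of `tS` moving `tW = 2560`.
-/

set_option autoImplicit false
set_option maxRecDepth 100000

namespace Cfsg.Agent.LargeFischer

open Subgroup

/-- The chosen vector of the small orbit. -/
def tV : Cd := 1280

/-- Its multiple by the cube root. -/
def tW : Cd := 2560

theorem tW_eq : wC tV = tW := Fin.ext (by decide +kernel)

theorem tV_facts : qN tV.1 = 0 ∧ qN tW.1 = 0 ∧ qN (xo tV tW).1 = 0 ∧ bN tV.1 tW.1 = 0 ∧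
    bN tW.1 tV.1 = 0 ∧ inO 0 tV.1 = true ∧ inO 0 tW.1 = true ∧ tV ≠ 0 ∧ tW ≠ 0 ∧ tV ≠ tW ∧
    inO 0 (xo tV tW).1 = true := by
  decide +kernel

/-- A word in the generators of `E32`, by the images of the bits. -/
def tE : List ℕ → List ℕ
  | [] => idI
  | k :: r => cmpI (evI sI' (wE.getD k [])) (tE r)

/-- The check for one involution and one code. -/
def tStepB (g : List ℕ) (y : ℕ) : Bool :=
  (apL g y ^^^ y != 1280) ||
    if apL g 2560 == 2560 then (apL g (wN y) ^^^ wN y == 2560) && (bN y 2560 == 1)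
    else (apL g 2560 == 2560 ^^^ 1280) && (apL g (wN (y ^^^ 2560)) ^^^ wN (y ^^^ 2560) == y ^^^ 2560)

theorem t_orbit_ok : (List.range 256).all (fun i => apL (syE i) 1280 == 1280 || apL (syE i) 1280 == 1365) = true ∧
    apL (syE 4) 1280 = 1365 := by decide +kernel

theorem t_perp_ok : (List.range 256).all (fun i => i == 0 || apL (syE i) 1280 != 1280 ||
    tPerp.any (fun b => apL (syE i) b != b)) = true ∧
    tPerp.all (fun b => decide (b < 4096) && (bN b 1280 == 0)) = true := by decide +kernel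

theorem t_rad_ok : allB (fun v => v == 0 || v == 1280 || tPerp.any (fun b => bN v b == 1)) 12 0 = true := by
  decide +kernel

theorem t_cert_ok : (List.range 71).all (fun a => apL (syI a) 1280 != 1280 ||
    tCert.any (fun c => c.1 == a && c.2.1.length % 2 == 0 && c.2.2.all (fun k => decide (k < wE.length)) &&
      (cmpL (wordL c.2.1) (cmpL (syI a) (wordL c.2.1.reverse)) == tE c.2.2))) = true := by
  decide +kernel

theorem t_step_ok : (List.range 71).all (fun a => apL (syI a) 1280 != 1280 ||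
    allB (tStepB (syI a)) 12 0) = true := by
  decide +kernel

theorem t_sigma_ok : apL (syI 1) 1280 = 1280 ∧ apL (syI 1) 2560 = 3840 ∧ apL (syI 1) 2816 = 2816 ∧
    bN 2560 2816 = 1 ∧ cmpL (syI 1) (syI 1) = idImg := by
  decide +kernel

/-- The Sylow 2-subgroup of the stabiliser. -/
def tS : Subgroup (Equiv.Perm Cd) := syS ⊓ fixP tV

theorem card_tS : Nat.card ↥tS = 128 := by
  have h := card_eq_orb_mul syS tV
  have ho : orb syS tV = ({tV, 1365} : Set Cd) := by
    ext w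
    simp only [Set.mem_insert_iff, Set.mem_singleton_iff]
    constructor
    · rintro ⟨p, hp, rfl⟩
      obtain ⟨i, hi, rfl⟩ := mem_syS_iff.1 hp
      have e := List.all_eq_true.1 t_orbit_ok.1 i (List.mem_range.2 hi)
      rw [Bool.or_eq_true, beq_iff_eq, beq_iff_eq] at e
      have e' : (eP i tV).1 = apL (syE i) 1280 := (eP_spec hi).2 tV
      exact e.imp (fun e => Fin.ext (e'.trans e)) (fun e => Fin.ext (e'.trans e))
    · rintro (rfl | rfl)
      · exact ⟨1, syS.one_mem, rfl⟩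
      · exact ⟨eP 4, (eP_spec (by norm_num)).1, Fin.ext (((eP_spec (by norm_num)).2 tV).trans t_orbit_ok.2)⟩
  rw [card_syS, ho, Nat.card_coe_set_eq, Set.ncard_pair (by decide)] at h
  show Nat.card ↥(syS ⊓ fixP tV) = 128
  omega

theorem tS_le {I : Img} (hI : I.Good) : tS ≤ I.H ⊓ fixP tV := inf_le_inf_right _ (syS_le hI)

theorem orb_tV {I : Img} (hI : I.Good) : orb I.H tV = {v | inO 0 v.1 = true} := by
  have h5 := orb_five hI
  ext v
  constructor
  · rintro ⟨p, hp, rfl⟩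
    show inO 0 _ = true
    rw [hI.inv_O p hp]
    exact tV_facts.2.2.2.2.2.1
  · intro hv
    obtain ⟨p, hp, hpv⟩ : v ∈ orb I.H 5 := h5.symm ▸ hv
    obtain ⟨q, hq, hqv⟩ : tV ∈ orb I.H 5 := h5.symm ▸ tV_facts.2.2.2.2.2.1
    refine ⟨p * q⁻¹, I.H.mul_mem hp (I.H.inv_mem hq), ?_⟩
    rw [Equiv.Perm.mul_apply, ← hqv, show q⁻¹ (q 5) = 5 from q.symm_apply_apply 5, hpv]

theorem card_stab_tV {I : Img} (hI : I.Good) : Nat.card ↥(I.H ⊓ fixP tV) = 51840 := by
  have h := card_eq_orb_mul I.H tV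
  rw [card_H, orb_tV hI, Set.coe_ofPred, card_small] at h
  omega

/-- A member of `tS` fixing the orthogonal space of `tV` is trivial. -/
theorem tS_perp {p : Equiv.Perm Cd} (hp : p ∈ tS) (h : ∀ v : Cd, bN v.1 tV.1 = 0 → p v = v) : p = 1 := by
  obtain ⟨hpS, hpv⟩ := hp
  obtain ⟨i, hi, rfl⟩ := mem_syS_iff.1 hpS
  rcases eq_or_ne i 0 with rfl | h0
  · exact eP_zero
  exfalso
  have e := List.all_eq_true.1 t_perp_ok.1 i (List.mem_range.2 hi)
  have e' : apL (syE i) 1280 = 1280 := ((eP_spec hi).2 tV).symm.trans (congrArg Fin.val hpv)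
  simp only [Bool.or_eq_true, beq_iff_eq, h0, bne_iff_ne, e', ne_eq, not_true_eq_false, false_or,
    List.any_eq_true] at e
  obtain ⟨b, hb, hne⟩ := e
  have hb' := List.all_eq_true.1 t_perp_ok.2 b hb
  simp only [Bool.and_eq_true, decide_eq_true_eq, beq_iff_eq] at hb'
  exact hne (((eP_spec hi).2 ⟨b, hb'.1⟩).symm.trans (congrArg Fin.val (h ⟨b, hb'.1⟩ hb'.2)))

/-- Only `0` and `tV` are orthogonal to the orthogonal space of `tV`. -/
theorem tV_rad {v : Cd} (h : ∀ b : Cd, bN b.1 tV.1 = 0 → bN v.1 b.1 = 0) : v = 0 ∨ v = tV := by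
  have e := forall_cd t_rad_ok v
  simp only [Bool.or_eq_true, beq_iff_eq, List.any_eq_true] at e
  rcases e with (e | e) | ⟨b, hb, e⟩
  · exact Or.inl (Fin.ext e)
  · exact Or.inr (Fin.ext e)
  · have hb' := List.all_eq_true.1 t_perp_ok.2 b hb
    simp only [Bool.and_eq_true, decide_eq_true_eq, beq_iff_eq] at hb'
    have := h ⟨b, hb'.1⟩ hb'.2
    rw [show bN v.1 b = 1 from e] at this
    exact absurd this (by norm_num)

theorem exists_tE : ∀ j : List ℕ, (∀ k ∈ j, k < wE.length) → ∃ q ∈ E32, Rep q (tE j) := by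
  intro j
  induction j with
  | nil => exact fun _ => ⟨1, one_mem _, rep_one⟩
  | cons k r ih =>
    intro h
    obtain ⟨q, hq, hqr⟩ := ih fun i hi => h i (List.mem_cons_of_mem _ hi)
    have hk := h k (List.mem_cons_self ..)
    have hw : wE.getD k [] ∈ wE := by rw [List.getD_eq_getElem _ _ hk]; exact List.getElem_mem hk
    exact ⟨evP gS (wE.getD k []) * q, mul_mem (subset_closure ⟨_, hw, rfl⟩) hq,
      (rep_evP rep_gS _).mul hqr⟩

theorem eq_eI_tS {p : Equiv.Perm Cd} (hp : p ∈ tS) (h2 : p * p = 1) (h1 : p ≠ 1) :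
    ∃ a < 71, p = eI a ∧ apL (syI a) 1280 = 1280 := by
  obtain ⟨hpS, hpv⟩ := hp
  obtain ⟨a, ha, rfl⟩ := eq_eI hpS h2 h1
  exact ⟨a, ha, rfl, ((eI_spec ha).2 tV).symm.trans (congrArg Fin.val hpv)⟩

/-- The involutions of `tS` are conjugate into `E32`. -/
theorem exists_conj_E32 {I : Img} (hI : I.Good) {p : Equiv.Perm Cd} (hp : p ∈ tS) (h2 : p * p = 1) :
    ∃ q ∈ I.H, q * p * q⁻¹ ∈ E32 := by
  rcases eq_or_ne p 1 with rfl | h1
  · exact ⟨1, I.H.one_mem, by simp⟩
  obtain ⟨a, ha, rfl, hfix⟩ := eq_eI_tS hp h2 h1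
  have e := List.all_eq_true.1 t_cert_ok a (List.mem_range.2 ha)
  simp only [Bool.or_eq_true, bne_iff_ne, ne_eq, hfix, not_true_eq_false, false_or, List.any_eq_true,
    Bool.and_eq_true, beq_iff_eq, List.all_eq_true, decide_eq_true_eq] at e
  obtain ⟨⟨c, w, j⟩, -, ⟨⟨-, hw⟩, hj⟩, he⟩ := e
  obtain ⟨q, hq, hqr⟩ := exists_tE j hj
  refine ⟨wordP w, wordP_mem hI w (Nat.even_iff.2 hw), ?_⟩
  have h3 : PermOf (tE j) (wordP w * (eI a * wordP w.reverse)) :=
    he ▸ (wordP_permOf w).mul ((eI_spec ha).2.mul (wordP_permOf w.reverse))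
  rw [wordP_inv, mul_assoc, PermOf.eq h3 (hqr : PermOf (tE j) q)]
  exact hq

/-- The solutions of `(1 + p) y = tV`. -/
theorem tS_step {p : Equiv.Perm Cd} (hp : p ∈ tS) (h2 : p * p = 1) {y : Cd} (hy : xo (p y) y = tV) :
    (p tW = tW ∧ xo (p (wC y)) (wC y) = tW ∧ bN y.1 tW.1 = 1) ∨
    (p tW = xo tW tV ∧ xo (p (wC (xo y tW))) (wC (xo y tW)) = xo y tW) := by
  rcases eq_or_ne p 1 with rfl | h1
  · exact absurd hy (by rw [Equiv.Perm.one_apply, xo_self]; exact tV_facts.2.2.2.2.2.2.2.1.symm)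
  obtain ⟨a, ha, rfl, hfix⟩ := eq_eI_tS hp h2 h1
  have hv := fun v : Cd => (eI_spec ha).2 v
  have e := List.all_eq_true.1 t_step_ok a (List.mem_range.2 ha)
  simp only [Bool.or_eq_true, bne_iff_ne, ne_eq, hfix, not_true_eq_false, false_or] at e
  have e' := forall_cd e y
  have hy' : apL (syI a) y.1 ^^^ y.1 = 1280 := by rw [← hv y]; exact congrArg Fin.val hy
  simp only [tStepB, Bool.or_eq_true, bne_iff_ne, ne_eq, hy', not_true_eq_false, false_or] at e'
  split_ifs at e' with hc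
  · simp only [Bool.and_eq_true, beq_iff_eq] at e' hc
    refine Or.inl ⟨Fin.ext ((hv tW).trans hc), Fin.ext ?_, e'.2⟩
    rw [xo_val, hv]
    exact e'.1
  · simp only [Bool.and_eq_true, beq_iff_eq] at e'
    refine Or.inr ⟨Fin.ext ((hv tW).trans (e'.1.trans rfl)), Fin.ext ?_⟩
    rw [xo_val, hv]
    exact e'.2

/-- An involution of `tS` moving `tW`, with a fixed code not orthogonal to `tW`. -/
theorem exists_tSigma : ∃ p ∈ tS, p * p = 1 ∧ p tW = xo tW tV ∧
    ∃ d : Cd, p d = d ∧ bN tW.1 d.1 = 1 := by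
  obtain ⟨h1, h2, h3, h4, h5⟩ := t_sigma_ok
  obtain ⟨hS, hP⟩ := eI_spec (a := 1) (by norm_num)
  exact ⟨eI 1, ⟨hS, Fin.ext ((hP tV).trans h1)⟩, PermOf.eq (h5 ▸ hP.mul hP) permOf_one,
    Fin.ext ((hP tW).trans h2), ⟨2816, Fin.ext ((hP _).trans h3), h4⟩⟩

end Cfsg.Agent.LargeFischer
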