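import Cfsg.Agent.Lib.LargeFischer.TSquare
import Mathlib.GroupTheory.Transfer
import Mathlib.GroupTheory.Sylow

/-!
# A Sylow 2-subgroup of `C(t)` and a sign on `C(t)`

`tT` (the elements of `C(z) ∩ C(t)` over `tS`) is a Sylow 2-subgroup of `C(t)`; it has the sign `tPsi`,
nontrivial on the square roots of `t`.  Its transfer gives `exists_sign`.
-/

set_option autoImplicit false

namespace Cfsg.Agent.LargeFischer

open Subgroup Cfsg.Agent.LargeExtraspecial Loc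

variable {G : Type*} [Group G] {z : G} {Q : Subgroup (Subgroup.centralizer ({z} : Set G))} [Q.Normal]
  [Finite G] {K : GoodCoord z Q} (F : LFacts K) (P : TPair K)

namespace TPair

/-- The elements of `C(z) ∩ C(t)` acting as members of `tS`. -/
def tT : Subgroup G :=
  (tS.comap K.act).map (Subgroup.centralizer ({z} : Set G)).subtype ⊓ Subgroup.centralizer ({P.t} : Set G)

omit [Finite G] in
theorem mem_tT {u : G} : u ∈ P.tT ↔ Commute u z ∧ Commute u P.t ∧ av K u ∈ tS := by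
  rw [tT, mem_inf, mem_centralizer_singleton_iff]
  constructor
  · rintro ⟨⟨c, hc, rfl⟩, ht⟩
    exact ⟨mem_centralizer_singleton_iff.1 c.2, ht, by
      rw [Subgroup.coe_subtype, av_eq K (mem_centralizer_singleton_iff.1 c.2)]; exact hc⟩
  · rintro ⟨hz, ht, hu⟩
    exact ⟨⟨⟨u, memC hz⟩, by rw [SetLike.mem_coe, mem_comap, ← av_eq K hz]; exact hu, rfl⟩, ht⟩

omit [Finite G] in
theorem tT_le : P.tT ≤ Subgroup.centralizer ({P.t} : Set G) := inf_le_right

omit [Finite G] in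
theorem Q_mem_tT {q : G} (hq : q ∈ qG Q) (h : Commute q P.t) : q ∈ P.tT :=
  P.mem_tT.2 ⟨qG_commute hq, h, by rw [(av_eq_one K (qG_commute hq)).2 hq]; exact tS.one_mem⟩

include F

/-- Lifts fixing `t`. -/
theorem exists_lift_fix {p : Equiv.Perm Cd} (hp : p ∈ K.I.H) (hv : p tV = tV) :
    ∃ c, Commute c z ∧ Commute c P.t ∧ av K c = p := by
  obtain ⟨c, hc, rfl⟩ := exists_av K hp
  have hm := qG_normal hc P.t_mem (Q := Q)
  have e : cq K (c * P.t * c⁻¹) = tV := by rw [cq_conj K hc P.t_mem, P.t_code, hv]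
  rcases P.code_tV F hm e with h | h
  · exact ⟨c, hc, mul_inv_eq_iff_eq_mul.1 h, rfl⟩
  · obtain ⟨q, hq, hqt⟩ := exists_flip (hub K F) P.t_mem P.t_ne_one (P.t_ne_z F)
    have hqz := qG_commute hq
    refine ⟨q * c, hqz.mul_left hc, mul_inv_eq_iff_eq_mul.1 ?_, ?_⟩
    · calc q * c * P.t * (q * c)⁻¹ = q * (c * P.t * c⁻¹) * q⁻¹ := by group
        _ = (q * P.t * q⁻¹) * (q * z * q⁻¹) := by rw [h]; group
        _ = P.t * z * z := by rw [hqt, hqz.eq, mul_inv_cancel_right]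
        _ = P.t := by rw [mul_assoc, (hub K F).sq, mul_one]
    · rw [av_mul K hqz hc, (av_eq_one K hqz).2 hq, one_mul]

theorem card_two_part : ∃ k : ℕ,
    Nat.card ↥(Subgroup.centralizer ({z} : Set G) ⊓ Subgroup.centralizer ({P.t} : Set G)) = k * 51840 ∧
    Nat.card ↥P.tT = k * 128 ∧ ∃ n, k = 2 ^ n := by
  set C2 := Subgroup.centralizer ({z} : Set G) ⊓ Subgroup.centralizer ({P.t} : Set G) with hC2
  have hCz : ∀ u ∈ C2, Commute u z := fun u hu => mem_centralizer_singleton_iff.1 hu.1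
  have hCt : ∀ u ∈ C2, Commute u P.t := fun u hu => mem_centralizer_singleton_iff.1 hu.2
  let f : ↥C2 →* Equiv.Perm Cd :=
    { toFun := fun u => av K (u : G)
      map_one' := av_one K
      map_mul' := fun a b => av_mul K (hCz _ a.2) (hCz _ b.2) }
  have hrange : f.range = K.I.H ⊓ fixP tV := by
    refine le_antisymm ?_ ?_
    · rintro _ ⟨u, rfl⟩
      refine ⟨av_mem K (hCz _ u.2), ?_⟩
      show av K (u : G) tV = tV
      rw [← P.t_code, ← cq_conj K (hCz _ u.2) P.t_mem, (hCt _ u.2).eq, mul_inv_cancel_right]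
    · rintro p ⟨hp, hv⟩
      obtain ⟨c, hc, hct, rfl⟩ := P.exists_lift_fix F hp hv
      exact ⟨⟨c, memC hc, mem_centralizer_singleton_iff.2 hct.eq⟩, rfl⟩
  have hTle : P.tT ≤ C2 := fun u hu =>
    ⟨memC (P.mem_tT.1 hu).1, mem_centralizer_singleton_iff.2 (P.mem_tT.1 hu).2.1.eq⟩
  let g : ↥P.tT →* Equiv.Perm Cd := f.comp (Subgroup.inclusion hTle)
  have hgr : g.range = tS := by
    refine le_antisymm ?_ ?_
    · rintro _ ⟨u, rfl⟩
      exact (P.mem_tT.1 u.2).2.2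
    · intro p hp
      obtain ⟨u, rfl⟩ : p ∈ f.range := hrange ▸ tS_le K.good hp
      exact ⟨⟨u, P.mem_tT.2 ⟨hCz _ u.2, hCt _ u.2, hp⟩⟩, rfl⟩
  have hker : Nat.card g.ker = Nat.card f.ker := by
    refine Nat.card_congr ⟨fun u => ⟨Subgroup.inclusion hTle u.1, u.2⟩,
      fun u => ⟨⟨((u : ↥C2) : G), P.mem_tT.2 ⟨hCz _ u.1.2, hCt _ u.1.2, ?_⟩⟩, u.2⟩,
      fun _ => rfl, fun _ => rfl⟩
    rw [show av K ((u : ↥C2) : G) = 1 from u.2]
    exact tS.one_mem
  refine ⟨Nat.card f.ker, ?_, ?_, ?_⟩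
  · rw [card_ker_mul_range f, hrange, card_stab_tV K.good]
  · rw [card_ker_mul_range g, hgr, card_tS, hker]
  · have h2 : IsPGroup 2 ↥(qG Q) := by
      refine IsPGroup.of_card (n := 13) ?_
      rw [qG, card_map_of_injective (subtype_injective _), F.setting.2.2.2.1]
    have : Fact (Nat.Prime 2) := ⟨Nat.prime_two⟩
    obtain ⟨n, hn⟩ := IsPGroup.iff_card.1 h2
    have hd : Nat.card f.ker ∣ 2 ^ n := hn ▸ by
      refine Subgroup.card_dvd_of_injective
        ({ toFun := fun u => ⟨((u : ↥C2) : G), (av_eq_one K (hCz _ u.1.2)).1 u.2⟩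
           map_one' := rfl
           map_mul' := fun _ _ => rfl } : ↥f.ker →* ↥(qG Q)) fun a b h => ?_
      exact Subtype.ext (Subtype.ext (congrArg (fun x : ↥(qG Q) => (x : G)) h :))
    obtain ⟨m, -, hm⟩ := (Nat.dvd_prime_pow Nat.prime_two).1 hd
    exact ⟨m, hm⟩

/-- An element of `C(t)` normalising `tT` centralises `z`. -/
theorem normalizer_fix {n : G} (hn : Commute n P.t) (hN : ∀ u ∈ P.tT, n⁻¹ * u * n ∈ P.tT)
    (hN' : ∀ u ∈ P.tT, n * u * n⁻¹ ∈ P.tT) : Commute n z := by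
  have hzT : z ∈ P.tT := P.Q_mem_tT (hub K F).mem P.tz.symm
  set x := n * z * n⁻¹ with hxd
  have hxT : x ∈ P.tT := hN' z hzT
  have hxc : ∀ u ∈ P.tT, Commute x u := fun u hu => by
    have h := (P.mem_tT.1 (hN u hu)).1
    show x * u = u * x
    calc x * u = n * (z * (n⁻¹ * u * n)) * n⁻¹ := by rw [hxd]; group
      _ = n * ((n⁻¹ * u * n) * z) * n⁻¹ := by rw [← h.eq]
      _ = u * x := by rw [hxd]; group
  obtain ⟨hxz, hxt, hxS⟩ := P.mem_tT.1 hxT
  have hperp : ∀ q ∈ qG Q, bN (cq K q).1 tV.1 = 0 → q ∈ P.tT := fun q hq h =>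
    P.Q_mem_tT hq ((commute_iff K F hq P.t_mem).2 (by rw [P.t_code]; exact h))
  have h1 : av K x = 1 := tS_perp hxS fun v hv => by
    obtain ⟨q, hq, rfl⟩ := exists_code K v
    rw [← cq_conj K hxz hq, (hxc q (hperp q hq hv)).eq, mul_inv_cancel_right]
  have hxQ : x ∈ qG Q := (av_eq_one K hxz).1 h1
  have hne : x ≠ 1 := fun e => (hub K F).ne_one (conj_eq_one_iff.1 e)
  rcases tV_rad (v := cq K x) fun b hb => by
    obtain ⟨q, hq, rfl⟩ := exists_code K b
    exact (commute_iff K F hxQ hq).1 (hxc q (hperp q hq hb)) with e | e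
  · rcases (cq_zero_iff K hxQ).1 e with h | h
    · exact absurd h hne
    · exact mul_inv_eq_iff_eq_mul.1 h
  · exfalso
    obtain ⟨a, ha⟩ := mem_qG hxQ
    have hac : K.co a = tV := by rw [← cq_coe K a, ha, e]
    have h' := (F.conjQ a (hac ▸ tV_facts.1) (hac ▸ tV_facts.2.2.2.2.2.2.2.1)).1
      (ha ▸ isConj_iff.2 ⟨n, rfl⟩)
    rw [hac, tV_facts.2.2.2.2.2.1] at h'
    exact absurd h' (by decide)

theorem exists_sylow : ∃ S : Sylow 2 ↥(Subgroup.centralizer ({P.t} : Set G)),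
    (S : Subgroup ↥(Subgroup.centralizer ({P.t} : Set G))) =
      P.tT.subgroupOf (Subgroup.centralizer ({P.t} : Set G)) := by
  have : Fact (Nat.Prime 2) := ⟨Nat.prime_two⟩
  set C := Subgroup.centralizer ({P.t} : Set G)
  obtain ⟨k, hC2, hT, n, hk⟩ := P.card_two_part F
  have hT2 : IsPGroup 2 ↥(P.tT.subgroupOf C) := by
    refine IsPGroup.of_card (n := n + 7) ?_
    rw [Nat.card_congr (subgroupOfEquivOfLe P.tT_le).toEquiv, hT, hk, pow_add]
    norm_num
  obtain ⟨S, hS⟩ := hT2.exists_le_sylow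
  refine ⟨S, ?_⟩
  by_contra hne
  have hlt : (P.tT.subgroupOf C).subgroupOf S < ⊤ := lt_top_iff_ne_top.2 fun e =>
    hne (le_antisymm (subgroupOf_eq_top.1 e) hS)
  have : Group.IsNilpotent ↥(S : Subgroup ↥C) := S.2.isNilpotent
  obtain ⟨m, hmN, hmT⟩ := SetLike.exists_of_lt
    (Group.normalizerCondition_of_isNilpotent (G := ↥(S : Subgroup ↥C)) _ hlt)
  have hmem : ∀ u ∈ P.tT, ∃ a : ↥(S : Subgroup ↥C), (((a : ↥C)) : G) = u := fun u hu =>
    ⟨⟨⟨u, P.tT_le hu⟩, hS (mem_subgroupOf.2 hu)⟩, rfl⟩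
  set g : G := ((m : ↥C) : G)
  have hconj : ∀ u ∈ P.tT, g * u * g⁻¹ ∈ P.tT ∧ g⁻¹ * u * g ∈ P.tT := by
    intro u hu
    obtain ⟨a, ha⟩ := hmem u hu
    have ha' : a ∈ (P.tT.subgroupOf C).subgroupOf S := mem_subgroupOf.2 (mem_subgroupOf.2 (ha.symm ▸ hu))
    have h1 := mem_subgroupOf.1 (mem_subgroupOf.1 ((mem_normalizer_iff.1 hmN a).1 ha'))
    have h2 := mem_subgroupOf.1 (mem_subgroupOf.1 ((mem_normalizer_iff.1 (inv_mem hmN) a).1 ha'))
    simp only [Subgroup.coe_mul, Subgroup.coe_inv, inv_inv, ha] at h1 h2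
    exact ⟨h1, h2⟩
  have hgt : Commute g P.t := mem_centralizer_singleton_iff.1 (m : ↥C).2
  have hgz := P.normalizer_fix F hgt (fun u hu => (hconj u hu).2) fun u hu => (hconj u hu).1
  -- the Sylow subgroup inside `C(z) ∩ C(t)`
  refine hmT (mem_subgroupOf.2 (mem_subgroupOf.2 ?_))
  set C2 := Subgroup.centralizer ({z} : Set G) ⊓ C
  let R : Subgroup G := (S : Subgroup ↥C).map C.subtype ⊓ C2
  have hle : P.tT ≤ R := fun u hu =>
    ⟨⟨⟨u, P.tT_le hu⟩, hS (mem_subgroupOf.2 hu), rfl⟩, memC (P.mem_tT.1 hu).1, P.tT_le hu⟩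
  have hR2 : IsPGroup 2 ↥R := (S.2.map C.subtype).to_le inf_le_left
  obtain ⟨j, hj⟩ := IsPGroup.iff_card.1 hR2
  have hd : 2 ^ j ∣ 2 ^ (n + 7) * 405 := by
    rw [← hj, show 2 ^ (n + 7) * 405 = k * 51840 by rw [hk, pow_add]; ring, ← hC2]
    exact card_dvd_of_le inf_le_right
  have hd' : 2 ^ j ∣ 2 ^ (n + 7) :=
    (Nat.Coprime.pow_left j (by norm_num : Nat.Coprime 2 405)).dvd_of_dvd_mul_right hd
  have hcard : Nat.card ↥R ≤ Nat.card ↥P.tT := by
    rw [hj, hT, hk, show 2 ^ n * 128 = 2 ^ (n + 7) by rw [pow_add]; norm_num]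
    exact Nat.le_of_dvd (by positivity) hd'
  rw [eq_of_le_of_card_ge hle hcard]
  exact ⟨⟨m, m.2, rfl⟩, memC hgz, (m : ↥C).2⟩

/-- The product rule on the four values. -/
theorem psi_rule {a b : G} (ha : a = 1 ∨ a = z ∨ a = P.t ∨ a = P.t * z)
    (hb : b = 1 ∨ b = z ∨ b = P.t ∨ b = P.t * z) :
    (a * b = 1 ∨ a * b = P.t * z) ↔ ((a = 1 ∨ a = P.t * z) ↔ (b = 1 ∨ b = P.t * z)) := by
  have hz1 := (hub K F).ne_one
  have hzz := (hub K F).sq
  have htt := P.tt
  have ht1 := P.t_ne_one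
  have htz := P.t_ne_z F
  have hc : z * P.t = P.t * z := P.tz.eq.symm
  have hzt : P.t * z ≠ 1 := fun e => htz (by
    rw [eq_inv_of_mul_eq_one_left e]; exact inv_eq_of_mul_eq_one_left hzz)
  have n1 : ¬ (z = 1 ∨ z = P.t * z) := by
    rintro (e | e)
    · exact hz1 e
    · exact ht1 (mul_eq_right.1 e.symm)
  have n2 : ¬ (P.t = 1 ∨ P.t = P.t * z) := by
    rintro (e | e)
    · exact ht1 e
    · exact hz1 (mul_eq_left.1 e.symm)
  have y1 : ((1 : G) = 1 ∨ (1 : G) = P.t * z) := Or.inl rfl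
  have y2 : (P.t * z = 1 ∨ P.t * z = P.t * z) := Or.inr rfl
  have a1 : z * (P.t * z) = P.t := by rw [← mul_assoc, hc, mul_assoc, hzz, mul_one]
  have a2 : P.t * (P.t * z) = z := by rw [← mul_assoc, htt, one_mul]
  have a3 : P.t * z * z = P.t := by rw [mul_assoc, hzz, mul_one]
  have a4 : P.t * z * P.t = z := by rw [mul_assoc, hc, ← mul_assoc, htt, one_mul]
  have a5 : P.t * z * (P.t * z) = 1 := by rw [← mul_assoc, a4, hzz]
  rcases ha with rfl | rfl | rfl | rfl <;> rcases hb with rfl | rfl | rfl | rfl <;>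
    simp only [one_mul, mul_one, hzz, htt, hc, a1, a2, a3, a4, a5, iff_def] <;> tauto

omit F in
open Classical in
/-- The sign on `C(z) ∩ C(t)`. -/
noncomputable def psiFun (u : G) : ℤˣ := if tC P.r u = 1 ∨ tC P.r u = P.t * z then 1 else -1

theorem psiFun_mul {u v : G} (huz : Commute u z) (hut : Commute u P.t) (hvz : Commute v z)
    (hvt : Commute v P.t) : P.psiFun (u * v) = P.psiFun u * P.psiFun v := by
  have h := P.psi_rule F (P.tC_cases F huz hut) (P.tC_cases F hvz hvt)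
  rw [← P.tC_mul F huz hut hvz hvt] at h
  unfold psiFun
  by_cases hB : tC P.r u = 1 ∨ tC P.r u = P.t * z <;>
    by_cases hD : tC P.r v = 1 ∨ tC P.r v = P.t * z
  · rw [if_pos hB, if_pos hD, if_pos (h.2 (iff_of_true hB hD)), one_mul]
  · rw [if_pos hB, if_neg hD, if_neg (fun e => hD ((h.1 e).1 hB)), one_mul]
  · rw [if_neg hB, if_pos hD, if_neg (fun e => hB ((h.1 e).2 hD)), mul_one]
  · rw [if_neg hB, if_neg hD, if_pos (h.2 (iff_of_false hB hD))]
    decide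

variable (FQ : QFacts z Q)
include FQ

/-- A sign on `C(t)`, nontrivial on a square root of `t` moving `r` to `r t`. -/
theorem exists_sign : ∃ (φ : ↥(Subgroup.centralizer ({P.t} : Set G)) →* ℤˣ)
    (σ : ↥(Subgroup.centralizer ({P.t} : Set G))), φ σ = -1 ∧ (σ : G) * σ = P.t ∧ Commute (σ : G) z ∧
      (σ : G) * P.r * (σ : G)⁻¹ = P.r * P.t := by
  classical
  have : Fact (Nat.Prime 2) := ⟨Nat.prime_two⟩
  set C := Subgroup.centralizer ({P.t} : Set G)
  obtain ⟨S, hS⟩ := P.exists_sylow F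
  obtain ⟨u, huz, hu, hu2, huC⟩ := P.exists_root F FQ
  have hut : Commute u P.t := by rw [← hu2]; exact (Commute.refl u).mul_right (Commute.refl u)
  let σ : ↥C := ⟨u, mem_centralizer_singleton_iff.2 hut.eq⟩
  have hHT : ∀ x : ↥(S : Subgroup ↥C), ((x : ↥C) : G) ∈ P.tT := fun x =>
    mem_subgroupOf.1 (hS ▸ x.2)
  let ψ : ↥(S : Subgroup ↥C) →* ℤˣ :=
    { toFun := fun x => P.psiFun ((x : ↥C) : G)
      map_one' := by
        simp [psiFun, tC, P.r_inv, P.rr]
      map_mul' := fun x y => P.psiFun_mul F (P.mem_tT.1 (hHT x)).1 (P.mem_tT.1 (hHT x)).2.1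
        (P.mem_tT.1 (hHT y)).1 (P.mem_tT.1 (hHT y)).2.1 }
  have hψroot : ∀ x : ↥(S : Subgroup ↥C), ((x : ↥C) : G) * ((x : ↥C) : G) = P.t → ψ x = -1 := by
    intro x hx
    obtain ⟨hz', -, hxS⟩ := P.mem_tT.1 (hHT x)
    show P.psiFun _ = -1
    unfold psiFun
    refine if_neg ?_
    have htz' := P.t_ne_z F
    rcases P.root_cases F FQ hz' hxS hx with e | e <;> rw [e] <;> rintro (h | h)
    · exact P.t_ne_one h
    · exact (hub K F).ne_one (mul_eq_left.1 h.symm)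
    · exact (hub K F).ne_one h
    · exact P.t_ne_one (mul_eq_right.1 h.symm)
  have htS : (⟨P.t, mem_centralizer_singleton_iff.2 rfl⟩ : ↥C) ∈ (S : Subgroup ↥C) := by
    rw [hS, mem_subgroupOf]
    exact P.Q_mem_tT P.t_mem (Commute.refl _)
  have hψt : ψ ⟨_, htS⟩ = 1 := by
    show P.psiFun P.t = 1
    unfold psiFun
    refine if_pos (Or.inl ?_)
    unfold tC
    rw [(P.comm F).eq, mul_inv_cancel_right, inv_mul_cancel]
  refine ⟨MonoidHom.transfer ψ, σ, ?_, hu2, huz, inv_mul_eq_iff_eq_mul.1 huC⟩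
  haveI : (S : Subgroup ↥C).FiniteIndex := inferInstance
  haveI : Fintype (↥C ⧸ (S : Subgroup ↥C)) := Fintype.ofFinite _
  haveI : Fintype (MulAction.orbitRel.Quotient (Subgroup.zpowers σ) (↥C ⧸ (S : Subgroup ↥C))) :=
    Fintype.ofFinite _
  rw [MonoidHom.transfer_eq_prod_quotient_orbitRel_zpowers_quot ψ σ]
  set per := fun ω : MulAction.orbitRel.Quotient (Subgroup.zpowers σ) (↥C ⧸ (S : Subgroup ↥C)) =>
    Function.minimalPeriod (σ • ·) ω.out with hper
  have hsq : σ * σ = ⟨P.t, mem_centralizer_singleton_iff.2 rfl⟩ := Subtype.ext hu2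
  have hcen : ∀ g : ↥C, g⁻¹ * (σ * σ) * g = σ * σ := fun g => by
    rw [hsq]
    refine Subtype.ext ?_
    show (g : G)⁻¹ * P.t * (g : G) = P.t
    rw [mul_assoc, ← (mem_centralizer_singleton_iff.1 g.2 : (g : G) * P.t = P.t * g), inv_mul_cancel_left]
  have hper2 : ∀ ω, per ω = 1 ∨ per ω = 2 := fun ω => by
    have h : Function.IsPeriodicPt (σ • · : ↥C ⧸ (S : Subgroup ↥C) → _) 2 ω.out := by
      show σ • σ • ω.out = ω.out
      rw [smul_smul]
      obtain ⟨g, hg⟩ := QuotientGroup.mk_surjective ω.out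
      rw [← hg, MulAction.Quotient.smul_mk, smul_eq_mul]
      refine QuotientGroup.eq.2 ?_
      rw [show (σ * σ * g)⁻¹ * g = (g⁻¹ * (σ * σ) * g)⁻¹ by group, hcen, hsq]
      exact inv_mem htS
    exact (Nat.dvd_prime Nat.prime_two).1 h.minimalPeriod_dvd
  have hval : ∀ ω, ψ ⟨ω.out.out⁻¹ * σ ^ Function.minimalPeriod (σ • ·) ω.out * ω.out.out,
      QuotientGroup.out_conj_pow_minimalPeriod_mem (S : Subgroup ↥C) σ ω.out⟩ = (-1) ^ per ω := by
    intro ω
    rcases hper2 ω with h | h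
    · rw [h, pow_one]
      refine hψroot _ ?_
      have e : (ω.out.out⁻¹ * σ ^ per ω * ω.out.out) * (ω.out.out⁻¹ * σ ^ per ω * ω.out.out) =
          ω.out.out⁻¹ * (σ * σ) * ω.out.out := by rw [h, pow_one]; group
      rw [hcen, hsq] at e
      exact congrArg (fun y : ↥C => (y : G)) e
    · rw [h, show ((-1 : ℤˣ) ^ 2) = 1 from by decide,
        show (⟨_, QuotientGroup.out_conj_pow_minimalPeriod_mem (S : Subgroup ↥C) σ ω.out⟩ :
          ↥(S : Subgroup ↥C)) = ⟨_, htS⟩ from Subtype.ext ?_]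
      · exact hψt
      show ω.out.out⁻¹ * σ ^ per ω * ω.out.out = _
      rw [h, pow_two, hcen, hsq]
  refine (Finset.prod_congr rfl fun ω _ => hval ω).trans ?_
  rw [Finset.prod_pow_eq_pow_sum]
  have hsum : ∑ ω, per ω = (S : Subgroup ↥C).index := by
    rw [Subgroup.index, Nat.card_congr (Subgroup.quotientEquivSigmaZMod (S : Subgroup ↥C) σ), Nat.card_sigma]
    exact Finset.sum_congr rfl fun ω _ => (Nat.card_zmod _).symm
  have hodd : Odd (S : Subgroup ↥C).index :=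
    Nat.not_even_iff_odd.1 fun h => S.not_dvd_index (even_iff_two_dvd.1 h)
  rw [hsum, hodd.neg_one_pow]

end TPair

end Cfsg.Agent.LargeFischer
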