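import Cfsg.Agent.Lib.LargeFischer.U43Data
import Cfsg.Agent.Lib.Leech.U43
import Cfsg.Agent.Lib.Transpos.SUThreeTwo
import Mathlib.FieldTheory.Finite.GaloisField

/-!
# An elementary abelian subgroup of order 81 of `PSU(4, 3)` with its normaliser

`Frame43 P`: `P` is simple of order 3265920, has an injective image `el` of `V4 = (ℤ/3)^4` and two
elements acting on it by the matrices `A i`; a group normalising the image has order at most 29160.
-/

set_option autoImplicit false
set_option maxRecDepth 100000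

namespace Cfsg.Agent.LFRep

open Cfsg MulAction

/-- `(ℤ/3)^4`. -/
abbrev V4 := Fin 4 → ZMod 3

/-- The vector with a code in base three. -/
def dec (n : ℕ) : V4 := fun i => ((n / 3 ^ (i : ℕ) : ℕ) : ZMod 3)

/-- The code of a vector. -/
def enc (v : V4) : ℕ := (v 0).val + 3 * (v 1).val + 9 * (v 2).val + 27 * (v 3).val

/-- Row `j` of matrix `i`. -/
def row (i : Fin 2) (j : Fin 4) : V4 := dec ((U43Data.rows.getD i []).getD j 0)

/-- The two matrices. -/
def A (i : Fin 2) (v : V4) : V4 := ∑ j, v j • row i j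

/-- The dot product. -/
def dot (f v : V4) : ZMod 3 := f 0 * v 0 + f 1 * v 1 + f 2 * v 2 + f 3 * v 3

/-- The two matrices acting on functionals. -/
def dual (i : Fin 2) (f : V4) : V4 := fun j => dot f (row i j)

theorem A_add (i : Fin 2) (u v : V4) : A i (u + v) = A i u + A i v := by
  simp only [A, Pi.add_apply, add_smul, Finset.sum_add_distrib]

theorem dot_A (i : Fin 2) (f v : V4) : dot f (A i v) = dot (dual i f) v := by
  simp only [dot, dual, A, Fin.sum_univ_four, Pi.add_apply, Pi.smul_apply, smul_eq_mul]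
  ring

theorem dec_enc : ∀ v : V4, dec (enc v) = v := by decide +kernel

theorem enc_lt : ∀ v : V4, enc v < 81 := by decide +kernel

theorem enc_dec : ∀ n < 81, enc (dec n) = n := by decide +kernel

theorem eq_sum (v : V4) : v = ∑ j, v j • (Pi.single j 1 : V4) := by
  ext i
  simp [Finset.sum_apply, Pi.single_apply]

theorem A_single (i : Fin 2) (j : Fin 4) : A i (Pi.single j 1) = row i j := by
  simp [A, Pi.single_apply]

/-- Column `j` of entry `k` of the closure table. -/
def imgRow (k : ℕ) (j : Fin 4) : V4 :=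
  dec ((U43Data.closureTab.getD k (0, 0, 0)).1 / 81 ^ (j : ℕ) % 81)

/-- The parent of entry `k`. -/
def par (k : ℕ) : ℕ := (U43Data.closureTab.getD k (0, 0, 0)).2.1

/-- The matrix used at entry `k`. -/
def parGen (k : ℕ) : Fin 2 := Fin.ofNat 2 (U43Data.closureTab.getD k (0, 0, 0)).2.2

theorem tab_root : ∀ j : Fin 4, imgRow 0 j = Pi.single j 1 := by decide +kernel

theorem tab_step : ∀ k < 360, k ≠ 0 →
    par k < k ∧ ∀ j : Fin 4, imgRow k j = A (parGen k) (imgRow (par k) j) := by decide +kernel

theorem tab_codes : (U43Data.closureTab.map Prod.fst).Nodup ∧ U43Data.closureTab.length = 360 ∧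
    ∀ k < 360, (U43Data.closureTab.getD k (0, 0, 0)).1 < 81 ^ 4 := by decide +kernel

theorem imgRow_inj {k k' : ℕ} (hk : k < 360) (hk' : k' < 360) (h : ∀ j, imgRow k j = imgRow k' j) :
    k = k' := by
  obtain ⟨hn, hl, hb⟩ := tab_codes
  have hd : ∀ j : Fin 4, (U43Data.closureTab.getD k (0, 0, 0)).1 / 81 ^ (j : ℕ) % 81 =
      (U43Data.closureTab.getD k' (0, 0, 0)).1 / 81 ^ (j : ℕ) % 81 := fun j => by
    rw [← enc_dec (_ % 81) (Nat.mod_lt _ (by norm_num))]
    conv_rhs => rw [← enc_dec (_ % 81) (Nat.mod_lt _ (by norm_num))]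
    exact congrArg enc (h j)
  have e : (U43Data.closureTab.getD k (0, 0, 0)).1 = (U43Data.closureTab.getD k' (0, 0, 0)).1 := by
    have h0 := hd 0
    have h1 := hd 1
    have h2 := hd 2
    have h3 := hd 3
    simp only [Fin.val_zero, Fin.val_one, Fin.val_two, Fin.isValue,
      show ((3 : Fin 4) : ℕ) = 3 from rfl] at h0 h1 h2 h3
    have b := hb k hk
    have b' := hb k' hk'
    omega
  rw [List.getD_eq_getElem _ _ (by omega), List.getD_eq_getElem _ _ (by omega)] at e
  exact (hn.getElem_inj_iff (i := k) (j := k') (hi := by simp; omega) (hj := by simp; omega)).1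
    (by simpa using e)

/-! ## Facts on the matrices -/

theorem dual_fixed : ∀ f : V4, (∀ i, dual i f = f) → f = 0 := by decide +kernel

/-- An alternating form from its six coefficients. -/
def alt (a b : V4) (u v : V4) : ZMod 3 :=
  a 0 * (u 0 * v 1 - u 1 * v 0) + a 1 * (u 0 * v 2 - u 2 * v 0) + a 2 * (u 0 * v 3 - u 3 * v 0)
    + b 0 * (u 1 * v 2 - u 2 * v 1) + b 1 * (u 1 * v 3 - u 3 * v 1) + b 2 * (u 2 * v 3 - u 3 * v 2)

theorem alt_invariant : ∀ a0 a1 a2 b0 b1 b2 : ZMod 3,
    (∀ i : Fin 2, ∀ j l : Fin 4, alt ![a0, a1, a2, 0] ![b0, b1, b2, 0] (row i j) (row i l) =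
      alt ![a0, a1, a2, 0] ![b0, b1, b2, 0] (Pi.single j 1) (Pi.single l 1)) →
      a0 = 0 ∧ a1 = 0 ∧ a2 = 0 ∧ b0 = 0 ∧ b1 = 0 ∧ b2 = 0 := by decide +kernel

/-- The class of a functional. -/
def dualClass (f : V4) : ℕ := U43Data.dualCls.getD (enc f) 0

/-- Tree number `c` of the classes of functionals. -/
def dualTreeAt (c : ℕ) : List (ℕ × ℕ × ℕ) := U43Data.dualTree.getD (c - 1) []

theorem dual_step : ∀ c : Fin 3, ∀ k : Fin (dualTreeAt (c + 1)).length, (k : ℕ) ≠ 0 →
    ((dualTreeAt (c + 1)).getD k (0, 0, 0)).2.1 < (k : ℕ) ∧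
    dec ((dualTreeAt (c + 1)).getD k (0, 0, 0)).1 =
      dual (Fin.ofNat 2 ((dualTreeAt (c + 1)).getD k (0, 0, 0)).2.2)
      (dec ((dualTreeAt (c + 1)).getD ((dualTreeAt (c + 1)).getD k (0, 0, 0)).2.1 (0, 0, 0)).1) := by
  decide +kernel

theorem dual_tree (c : ℕ) (h4 : c < 4) (h1 : 1 ≤ c) (k : ℕ) (hk : k < (dualTreeAt c).length) (h0 : k ≠ 0) :
    ((dualTreeAt c).getD k (0, 0, 0)).2.1 < k ∧
    dec ((dualTreeAt c).getD k (0, 0, 0)).1 = dual (Fin.ofNat 2 ((dualTreeAt c).getD k (0, 0, 0)).2.2)
      (dec ((dualTreeAt c).getD ((dualTreeAt c).getD k (0, 0, 0)).2.1 (0, 0, 0)).1) := by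
  obtain ⟨d, rfl⟩ : ∃ d, c = d + 1 := ⟨c - 1, by omega⟩
  exact dual_step ⟨d, by omega⟩ ⟨k, hk⟩ h0

theorem dual_tree_size : ∀ c < 4, 1 ≤ c → 20 ≤ (dualTreeAt c).length ∧
    ((dualTreeAt c).map Prod.fst).Nodup ∧ ∀ e ∈ dualTreeAt c, e.1 < 81 := by decide +kernel

theorem dual_class : ∀ f : V4, f ≠ 0 → 1 ≤ dualClass f ∧ dualClass f < 4 ∧
    enc f ∈ (dualTreeAt (dualClass f)).map Prod.fst := by decide +kernel

/-- A set of functionals invariant under both matrices and containing a nonzero one has at least 20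
elements. -/
theorem dual_orbit (S : Finset V4) (hS : ∀ i f, dual i f ∈ S ↔ f ∈ S) {f : V4} (hf : f ≠ 0)
    (hfS : f ∈ S) : 20 ≤ S.card := by
  obtain ⟨h1, h4, hmem⟩ := dual_class f hf
  set T := dualTreeAt (dualClass f) with hT
  obtain ⟨hlen, hnd, hlt⟩ := dual_tree_size _ h4 h1
  let pt : ℕ → V4 := fun k => dec (T.getD k (0, 0, 0)).1
  have hall : ∀ k, k < T.length → (pt k ∈ S ↔ pt 0 ∈ S) := by
    intro k
    induction k using Nat.strong_induction_on with
    | _ k ih =>
      intro hk
      rcases eq_or_ne k 0 with rfl | h0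
      · exact Iff.rfl
      obtain ⟨hp, he⟩ := dual_tree _ h4 h1 k hk h0
      rw [← hT] at hp he
      show dec (T.getD k (0, 0, 0)).1 ∈ S ↔ _
      rw [he, hS]
      exact ih _ hp (hp.trans hk)
  obtain ⟨e, he, hef⟩ := List.mem_map.1 hmem
  obtain ⟨k, hk, rfl⟩ := List.getElem_of_mem he
  have h0 : pt 0 ∈ S := by
    refine (hall k hk).1 ?_
    show dec (T.getD k (0, 0, 0)).1 ∈ S
    rw [List.getD_eq_getElem _ _ hk, hef, dec_enc]
    exact hfS
  have hinj : Set.InjOn (fun n => dec n) {n | n < 81} := fun a ha b hb h => by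
    rw [← enc_dec a ha, ← enc_dec b hb, show dec a = dec b from h]
  calc 20 ≤ T.length := hlen
    _ = ((T.map Prod.fst).toFinset.image dec).card := by
      rw [Finset.card_image_of_injOn, List.toFinset_card_of_nodup hnd, List.length_map]
      refine hinj.mono fun n hn => ?_
      obtain ⟨e, he, rfl⟩ := List.mem_map.1 (List.mem_toFinset.1 (Finset.mem_coe.1 hn))
      exact hlt e he
    _ ≤ S.card := by
      refine Finset.card_le_card fun x hx => ?_
      obtain ⟨n, hn, rfl⟩ := Finset.mem_image.1 hx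
      obtain ⟨e, he, rfl⟩ := List.mem_map.1 (List.mem_toFinset.1 hn)
      obtain ⟨l, hl, rfl⟩ := List.getElem_of_mem he
      have := (hall l hl).2 h0
      rwa [show pt l = dec T[l].1 by simp only [pt, List.getD_eq_getElem _ _ hl]] at this

/-! ## The frame -/

/-- The facts on `PSU(4, 3)` that are used. -/
structure Frame43 (P : Type*) [Group P] where
  el : V4 → P
  el_add : ∀ u v, el (u + v) = el u * el v
  el_inj : Function.Injective el
  n : Fin 2 → P
  conj : ∀ i v, n i * el v * (n i)⁻¹ = el (A i v)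
  norm_le : ∀ N : Subgroup P, (∀ g ∈ N, ∀ v, ∃ w, g * el v * g⁻¹ = el w) → Nat.card N ≤ 29160
  card : Nat.card P = 3265920
  simple : IsSimpleGroup P

namespace Frame43

variable {P P' : Type*} [Group P] [Group P'] (F : Frame43 P)

theorem el_zero : F.el 0 = 1 := by
  have h := F.el_add 0 0
  rwa [add_zero, left_eq_mul] at h

theorem el_comm (u v : V4) : F.el u * F.el v = F.el v * F.el u := by
  rw [← F.el_add, ← F.el_add, add_comm]

/-- Transport along an isomorphism. -/
def map (e : P ≃* P') : Frame43 P' where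
  el v := e (F.el v)
  el_add u v := by rw [F.el_add, map_mul]
  el_inj u v h := F.el_inj (e.injective h)
  n i := e (F.n i)
  conj i v := by rw [← map_inv, ← map_mul, ← map_mul, F.conj]
  norm_le N hN := by
    have h := F.norm_le (N.comap e.toMonoidHom) fun g hg v => by
      obtain ⟨w, hw⟩ := hN (e g) hg v
      refine ⟨w, e.injective ?_⟩
      rw [map_mul, map_mul, map_inv]
      exact hw
    refine le_trans (le_of_eq ?_) h
    exact Nat.card_congr
      { toFun := fun x => ⟨e.symm x, by
          show e (e.symm x.1) ∈ N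
          rw [e.apply_symm_apply]; exact x.2⟩
        invFun := fun y => ⟨e y, y.2⟩
        left_inv := fun x => Subtype.ext (e.apply_symm_apply _)
        right_inv := fun y => Subtype.ext (e.symm_apply_apply _) }
  card := by rw [← Nat.card_congr e.toEquiv, F.card]
  simple := by
    have := F.simple
    exact e.symm.isSimpleGroup

/-- 360 elements normalising the image with different actions on it. -/
theorem exists_norms : ∃ g : Fin 360 → P, (∀ k v, ∃ w, g k * F.el v * (g k)⁻¹ = F.el w) ∧
    ∀ k k', (∀ v, g k * F.el v * (g k)⁻¹ = g k' * F.el v * (g k')⁻¹) → k = k' := by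
  have key : ∀ k, k < 360 → ∃ g : P, ∀ v, g * F.el v * g⁻¹ = F.el (∑ j, v j • imgRow k j) := by
    intro k
    induction k using Nat.strong_induction_on with
    | _ k ih =>
      intro hk
      rcases eq_or_ne k 0 with rfl | h0
      · refine ⟨1, fun v => ?_⟩
        simp only [tab_root, one_mul, inv_one, mul_one, ← eq_sum]
      obtain ⟨hp, hi⟩ := tab_step k hk h0
      obtain ⟨g, hg⟩ := ih _ hp (hp.trans hk)
      refine ⟨F.n (parGen k) * g, fun v => ?_⟩
      rw [show F.n (parGen k) * g * F.el v * (F.n (parGen k) * g)⁻¹ =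
        F.n (parGen k) * (g * F.el v * g⁻¹) * (F.n (parGen k))⁻¹ by group, hg, F.conj]
      congr 1
      let L : V4 →+ V4 := AddMonoidHom.mk' (A (parGen k)) (A_add _)
      show L _ = _
      rw [map_sum]
      refine Finset.sum_congr rfl fun j _ => ?_
      rw [hi j]
      exact ZMod.map_smul L (v j) (imgRow (par k) j)
  choose g hg using fun k : Fin 360 => key k k.2
  refine ⟨g, fun k v => ⟨_, hg k v⟩, fun k k' h => Fin.ext (imgRow_inj k.2 k'.2 fun j => ?_)⟩
  have := h (Pi.single j 1)
  rw [hg, hg] at this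
  have := F.el_inj this
  simpa [Pi.single_apply] using this

end Frame43

/-! ## The permutation group -/

open Leech.U43 (gPerm P112 pwN ptN)

/-- The permutation of a word. -/
noncomputable def word (w : List ℕ) : Equiv.Perm (Fin 112) :=
  (w.map fun k => gPerm (Fin.ofNat 5 k)).prod

theorem word_mem_P112 (w : List ℕ) : word w ∈ P112 := by
  refine list_prod_mem fun x hx => ?_
  obtain ⟨k, -, rfl⟩ := List.mem_map.1 hx
  exact Subgroup.subset_closure ⟨_, rfl⟩

theorem word_append (a b : List ℕ) : word (a ++ b) = word a * word b := by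
  simp [word, List.prod_append]

theorem word_val : ∀ (w : List ℕ), (∀ k ∈ w, k < 5) → ∀ i, (word w i : ℕ) = pwN w i
  | [], _, _ => rfl
  | k :: w, h, i => by
    have e : word (k :: w) = gPerm (Fin.ofNat 5 k) * word w := by simp [word]
    rw [e, Equiv.Perm.mul_apply, Leech.U43.gPerm_val]
    show ptN ((Fin.ofNat 5 k : Fin 5) : ℕ) _ = ptN k (pwN w i)
    rw [word_val w (fun a ha => h a (List.mem_cons_of_mem _ ha)) i,
      show ((Fin.ofNat 5 k : Fin 5) : ℕ) = k from Nat.mod_eq_of_lt (h k List.mem_cons_self)]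

theorem word_eq {a b : List ℕ} (ha : a.all (· < 5) = true) (hb : b.all (· < 5) = true)
    (h : ∀ i : Fin 112, pwN a i = pwN b i) : word a = word b := by
  refine Equiv.ext fun i => Fin.ext ?_
  rw [word_val a (by simpa using ha), word_val b (by simpa using hb), h]

/-- The word of generator `j`. -/
def eWord (j : Fin 4) : List ℕ := U43Data.eW.getD j []

/-- The word of normalising element `i`. -/
def nWord (i : Fin 2) : List ℕ := U43Data.nW.getD i []

/-- The word of a vector. -/
def vWord (v : V4) : List ℕ :=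
  (List.replicate (v 0).val (eWord 0)).flatten ++ (List.replicate (v 1).val (eWord 1)).flatten ++
    (List.replicate (v 2).val (eWord 2)).flatten ++ (List.replicate (v 3).val (eWord 3)).flatten

theorem words_lt : (∀ j, (eWord j).all (· < 5) = true) ∧ (∀ i, (nWord i).all (· < 5) = true) ∧
    ∀ v, (vWord v).all (· < 5) = true := by decide +kernel

theorem e_cube : ∀ j : Fin 4, ∀ i : Fin 112, pwN (eWord j ++ (eWord j ++ eWord j)) i = pwN [] i := by
  decide +kernel

theorem e_comm : ∀ j l : Fin 4, ∀ i : Fin 112,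
    pwN (eWord j ++ eWord l) i = pwN (eWord l ++ eWord j) i := by decide +kernel

theorem v_moves : ∀ v : V4, v ≠ 0 → pwN (vWord v) 4 ≠ 4 := by decide +kernel

theorem e_fixed : ∀ i : Fin 112, (∀ j, pwN (eWord j) i = i) → i = 0 := by decide +kernel

theorem v_fix : ∀ v : V4, pwN (vWord v) 0 = 0 := by decide +kernel

theorem n_conj : ∀ a : Fin 2, ∀ j : Fin 4, ∀ i : Fin 112,
    pwN (nWord a ++ eWord j) i = pwN (vWord (row a j) ++ nWord a) i := by decide +kernel

/-- Generator `j` of the elementary abelian group. -/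
noncomputable def e (j : Fin 4) : Equiv.Perm (Fin 112) := word (eWord j)

/-- The element of a vector. -/
noncomputable def elP (v : V4) : Equiv.Perm (Fin 112) :=
  e 0 ^ (v 0).val * e 1 ^ (v 1).val * e 2 ^ (v 2).val * e 3 ^ (v 3).val

theorem word_replicate (w : List ℕ) : ∀ k, word (List.replicate k w).flatten = word w ^ k
  | 0 => rfl
  | k + 1 => by
    rw [List.replicate_succ, List.flatten_cons, word_append, word_replicate w k, ← pow_succ']

theorem elP_eq (v : V4) : elP v = word (vWord v) := by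
  simp only [elP, vWord, word_append, word_replicate, e]

theorem e_pow_three (j : Fin 4) : e j ^ 3 = 1 := by
  rw [pow_three, e, ← word_append, ← word_append]
  refine word_eq ?_ rfl (e_cube j)
  simp [List.all_append, words_lt.1 j]

theorem e_commute (j l : Fin 4) : Commute (e j) (e l) := by
  show word _ * word _ = word _ * word _
  rw [← word_append, ← word_append]
  refine word_eq ?_ ?_ (e_comm j l) <;> simp [List.all_append, words_lt.1]

theorem e_pow_add (j : Fin 4) (a b : ZMod 3) : e j ^ (a + b).val = e j ^ a.val * e j ^ b.val := by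
  rw [← pow_add, ZMod.val_add, ← pow_eq_pow_mod _ (e_pow_three j)]

theorem elP_add (u v : V4) : elP (u + v) = elP u * elP v := by
  have c : ∀ j l (a b : ℕ), Commute (e j ^ a) (e l ^ b) := fun j l a b =>
    (e_commute j l).pow_pow a b
  simp only [elP, Pi.add_apply, e_pow_add]
  rw [(((c 3 0 (u 3).val (v 0).val).mul_right (c 3 1 (u 3).val (v 1).val)).mul_right
      (c 3 2 (u 3).val (v 2).val)).mul_mul_mul_comm,
    ((c 2 0 (u 2).val (v 0).val).mul_right (c 2 1 (u 2).val (v 1).val)).mul_mul_mul_comm,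
    (c 1 0 (u 1).val (v 0).val).mul_mul_mul_comm]

theorem elP_inj : Function.Injective elP := fun u v h => by
  by_contra hne
  have h0 : elP (u - v) = 1 := by
    have := elP_add (u - v) v
    rw [sub_add_cancel, h] at this
    exact mul_eq_right.mp this.symm
  have h1 := congrArg (fun π : Equiv.Perm (Fin 112) => (π 4 : ℕ)) h0
  simp only [elP_eq, Equiv.Perm.one_apply] at h1
  rw [word_val _ (by simpa using words_lt.2.2 (u - v))] at h1
  exact v_moves _ (sub_ne_zero.2 hne) h1

/-- Normalising element `a`. -/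
noncomputable def nP (a : Fin 2) : Equiv.Perm (Fin 112) := word (nWord a)

theorem elP_single (j : Fin 4) : elP (Pi.single j 1) = e j := by
  fin_cases j <;> simp [elP, ZMod.val_one]

theorem nP_e (a : Fin 2) (j : Fin 4) : nP a * e j * (nP a)⁻¹ = elP (row a j) := by
  rw [mul_inv_eq_iff_eq_mul, elP_eq, nP, e, ← word_append, ← word_append]
  refine word_eq ?_ ?_ (n_conj a j) <;>
    simp [List.all_append, words_lt.1, words_lt.2.1, words_lt.2.2]

theorem elP_conj (a : Fin 2) (v : V4) : nP a * elP v * (nP a)⁻¹ = elP (A a v) := by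
  have hz : elP 0 = 1 := by simp [elP]
  have hpow : ∀ (x : V4) (k : ℕ), elP (k • x) = elP x ^ k := fun x k => by
    induction k with
    | zero => rw [zero_smul, hz, pow_zero]
    | succ k ih => rw [succ_nsmul, elP_add, ih, pow_succ]
  have hs : ∀ (j : Fin 4) (c : ZMod 3), elP (c • row a j) = elP (row a j) ^ c.val := fun j c => by
    rw [← hpow, ← Nat.cast_smul_eq_nsmul (ZMod 3), ZMod.natCast_zmod_val]
  show MulAut.conj (nP a) (elP v) = _
  have hc : ∀ j, MulAut.conj (nP a) (e j) = elP (row a j) := nP_e a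
  simp only [A, Fin.sum_univ_four, elP_add, hs, ← hc, ← map_pow, ← map_mul]
  rfl

theorem card_P112 : Nat.card P112 = 3265920 := by
  obtain ⟨φ⟩ := Leech.U43.exists_psu
  rw [Nat.card_congr φ.toEquiv, Leech.U43.card_PSU43]

/-- The permutation group has a frame. -/
theorem exists_frame_perm : Nonempty (Frame43 P112) := by
  refine ⟨⟨fun v => ⟨elP v, by rw [elP_eq]; exact word_mem_P112 _⟩,
    fun u v => Subtype.ext (elP_add u v), fun u v h => elP_inj (congrArg Subtype.val h),
    fun a => ⟨nP a, word_mem_P112 _⟩, fun a v => Subtype.ext (elP_conj a v), ?_, card_P112, ?_⟩⟩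
  · intro N hN
    set H1 : Subgroup (Equiv.Perm (Fin 112)) := P112 ⊓ stabilizer _ (0 : Fin 112)
    have hle : N.map P112.subtype ≤ H1 := by
      rintro _ ⟨g, hg, rfl⟩
      refine ⟨g.2, ?_⟩
      show (g : Equiv.Perm (Fin 112)) 0 = 0
      refine e_fixed _ fun j => ?_
      obtain ⟨w, hw⟩ := hN g⁻¹ (inv_mem hg) (Pi.single j 1)
      have hw' := congrArg Subtype.val hw
      simp only [Subgroup.coe_mul, Subgroup.coe_inv, inv_inv, elP_single] at hw'
      have hfix : elP w 0 = 0 := Fin.ext (by
        rw [elP_eq, word_val _ (by simpa using words_lt.2.2 w)]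
        exact v_fix w)
      have hg : ((g : Equiv.Perm (Fin 112))⁻¹ * e j * (g : Equiv.Perm (Fin 112))) 0 = 0 := by
        rw [hw', hfix]
      simp only [Equiv.Perm.mul_apply] at hg
      have := congrArg (g : Equiv.Perm (Fin 112)) hg
      rw [← Equiv.Perm.mul_apply, mul_inv_cancel, Equiv.Perm.one_apply] at this
      exact (word_val _ (by simpa using words_lt.1 j) _).symm.trans (congrArg Fin.val this)
    have h := Leech.U43.level_step P112 (root := (0 : Fin 112))
      ((Bool.and_eq_true _ _).mp ((Bool.and_eq_true _ _).mp ((Bool.and_eq_true _ _).mp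
        Leech.U43.chain_ok).1).1).1 fun π hπ _ => hπ
    rw [Leech.U43.chain_lengths.1, card_P112] at h
    calc Nat.card N = Nat.card (N.map P112.subtype) :=
          (Subgroup.card_map_of_injective P112.subtype_injective).symm
      _ ≤ Nat.card H1 := Subgroup.card_le_of_le hle
      _ ≤ 29160 := by
        have h' : 112 * Nat.card H1 ≤ 3265920 := h
        omega
  · obtain ⟨φ⟩ := Leech.U43.exists_psu
    have := ClassicalSimple.PSU_isSimpleGroup (F := Leech.U43.F9) (n := 4) (q := 3)
      Leech.U43.card_F9 (by norm_num) (by norm_num)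
    exact φ.isSimpleGroup

/-- `PSU(4, 3)` over any field with nine elements has a frame. -/
theorem exists_frame (K : Type*) [Field K] [Fintype K] (hK : Fintype.card K = 9) :
    Nonempty (Frame43 (Cfsg.PSU 4 K 3)) := by
  obtain ⟨F⟩ := exists_frame_perm
  obtain ⟨φ⟩ := Leech.U43.exists_psu
  obtain ⟨f⟩ : Nonempty (Leech.U43.F9 ≃+* K) :=
    ⟨FiniteField.ringEquivOfCardEq (K := Leech.U43.F9) (K' := K) (Leech.U43.card_F9.trans hK.symm)⟩
  let ψ := Transpos.SU32.suMap f 4 3
  have hmap : (Subgroup.center (SU 4 Leech.U43.F9 3)).map ψ.toMonoidHom =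
      Subgroup.center (SU 4 K 3) := by
    refine le_antisymm (Subgroup.map_le_iff_le_comap.2 fun z hz => Subgroup.mem_center_iff.2 fun w => ?_)
      fun z hz => ?_
    · obtain ⟨w, rfl⟩ := ψ.surjective w
      show ψ w * ψ z = ψ z * ψ w
      rw [← map_mul, ← map_mul, Subgroup.mem_center_iff.1 hz w]
    · refine ⟨ψ.symm z, Subgroup.mem_center_iff.2 fun w => ?_, ψ.apply_symm_apply z⟩
      apply ψ.injective
      rw [map_mul, map_mul, ψ.apply_symm_apply, Subgroup.mem_center_iff.1 hz]
  exact ⟨(F.map φ).map (QuotientGroup.congr _ _ ψ hmap)⟩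

end Cfsg.Agent.LFRep
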